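import Cfsg.Agent.H906.L3Def
import Cfsg.Agent.LieClassical.SLGen
import Cfsg.Agent.LieClassical.FieldTransfer

/-!
# `PSL₃` in defining characteristic: conclusion (helper906)
-/

set_option autoImplicit false
set_option linter.unusedSectionVars false

namespace Cfsg.Agent.H906

open Cfsg Cfsg.Geo SL3Par
open scoped MatrixGroups Matrix commutatorElement

section

variable {F : Type*} [Field F] {P : Subgroup (GL (Fin 3) F)}

/-- If all traces satisfy `x ^ p ^ a = x` and `P` is realisable over no proper subfield then all field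
elements satisfy it. -/
lemma pow_eq_of_no_subfield [Finite F] (hP : ActsAbsolutelyIrreducibly (matrixSet P))
    (hns : ∀ F₀ : Subfield F, F₀ ≠ ⊤ → ¬ RealisableOver F₀ (matrixSet P))
    (p : ℕ) [hp : Fact p.Prime] [CharP F p] (a : ℕ)
    (htr : ∀ g ∈ P, (g : Matrix (Fin 3) (Fin 3) F).trace ^ p ^ a = (g : Matrix (Fin 3) (Fin 3) F).trace)
    (x : F) : x ^ p ^ a = x := by
  have : ExpChar F p := ExpChar.prime hp.out
  set F₀ : Subfield F := RingHom.eqLocusField (iterateFrobenius F p a) (RingHom.id F) with hF₀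
  have hmem : ∀ x : F, x ∈ F₀ ↔ x ^ p ^ a = x := fun x => Iff.rfl
  have h1 : F₀ = ⊤ := by
    by_contra hne
    exact hns F₀ hne (realisable_of_trace hP F₀ (fun g hg => (hmem _).2 (htr g hg)))
  rw [← hmem, h1]
  trivial

lemma card_le_of_pow_eq [Finite F] {m : ℕ} (hm : 2 ≤ m) (h : ∀ x : F, x ^ m = x) :
    Nat.card F - 1 ∣ m - 1 := by
  classical
  obtain ⟨u, hu⟩ := IsCyclic.exists_ofOrder_eq_natCard (α := Fˣ)
  rw [← Nat.card_units, ← hu]
  apply orderOf_dvd_of_pow_eq_one
  apply Units.ext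
  rw [Units.val_pow_eq_pow_val, Units.val_one]
  have h1 := h u
  obtain ⟨m', rfl⟩ : ∃ m', m = m' + 1 := ⟨m - 1, by omega⟩
  rw [pow_succ] at h1
  rw [Nat.add_sub_cancel]
  exact mul_right_cancel₀ (Units.ne_zero u) (by rw [h1, one_mul])

lemma card_U (K : Type*) [Field K] : Nat.card (U K) = Nat.card K ^ 3 := by
  have e : K × K × K ≃ U K := Equiv.ofBijective
    (fun x => ⟨uni x.1 x.2.1 x.2.2, ⟨_, _, _, rfl⟩⟩) (by
      constructor
      · rintro ⟨a, b, c⟩ ⟨a', b', c'⟩ h
        have h1 := congrArg Subtype.val h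
        change uni a b c = uni a' b' c' at h1
        have h2 := fun i j => congrArg (fun z : X K => z.1 i j) h1
        have e1 := h2 0 1
        have e2 := h2 1 2
        have e3 := h2 0 2
        simp [uni] at e1 e2 e3
        rw [e1, e2, e3]
      · rintro ⟨_, a, b, c, rfl⟩
        exact ⟨(a, b, c), rfl⟩)
  rw [← Nat.card_congr e, Nat.card_prod, Nat.card_prod]
  ring

lemma uni_mem_center {K : Type*} [Field K] {a b c : K} (h : uni a b c ∈ Subgroup.center (X K)) :
    uni a b c = 1 := by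
  rw [Matrix.SpecialLinearGroup.mem_center_iff] at h
  obtain ⟨r, -, hr⟩ := h
  have f := fun i j => congrArg (fun z : Matrix (Fin 3) (Fin 3) K => z i j) hr
  have g1 := f 0 1
  have g2 := f 1 2
  have g3 := f 0 2
  have k1 : (0 : K) = a := by simpa [uni] using g1
  have k2 : (0 : K) = b := by simpa [uni] using g2
  have k3 : (0 : K) = c := by simpa [uni] using g3
  rw [← k1, ← k2, ← k3, uni_zero]

/-- `m ≤ q`. -/
lemma card_le_of_psl [Finite F] {K : Type*} [Field K] [Finite K] (p : ℕ) [hp : Fact p.Prime]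
    [CharP F p] [CharP K p]
    (Φ : (P ⧸ (scalars (Fin 3) F).subgroupOf P) ≃* Matrix.ProjectiveSpecialLinearGroup (Fin 3) K) :
    Nat.card K ≤ Nat.card F := by
  classical
  have := Fintype.ofFinite K
  have := Fintype.ofFinite F
  have hfinG : Finite (GL (Fin 3) F) := inferInstance
  let q : X K →* Matrix.ProjectiveSpecialLinearGroup (Fin 3) K := QuotientGroup.mk' _
  have hinj : Function.Injective (q.comp (U K).subtype) := by
    rw [injective_iff_map_eq_one]
    rintro ⟨_, a, b, c, rfl⟩ h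
    have h1 : uni a b c ∈ Subgroup.center (X K) := (QuotientGroup.eq_one_iff _).1 h
    exact Subtype.ext (uni_mem_center h1)
  have hU : Nat.card (U K) ∣ Nat.card (GL (Fin 3) F) := by
    have h1 := Subgroup.card_dvd_of_injective _ hinj
    rw [← Nat.card_congr Φ.toEquiv] at h1
    exact h1.trans ((Subgroup.card_quotient_dvd_card _).trans (Subgroup.card_subgroup_dvd_card P))
  obtain ⟨a, -, ha⟩ := FiniteField.card K p
  obtain ⟨b, -, hb⟩ := FiniteField.card F p
  have hK : Nat.card K = p ^ (a : ℕ) := by rw [Nat.card_eq_fintype_card, ha]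
  have hF : Nat.card F = p ^ (b : ℕ) := by rw [Nat.card_eq_fintype_card, hb]
  have hp1 : 1 < p := hp.out.one_lt
  rw [hK, hF]
  rw [card_U, hK, Matrix.card_GL_field, ← Nat.card_eq_fintype_card, hF, Fin.prod_univ_three] at hU
  set Q := p ^ (b : ℕ) with hQ
  have hQ1 : 1 < Q := Nat.one_lt_pow b.2.ne' hp1
  have e1 : Q ^ 3 - Q ^ ((0 : Fin 3) : ℕ) = Q ^ 3 - 1 := by simp
  have e2 : Q ^ 3 - Q ^ ((1 : Fin 3) : ℕ) = Q * (Q ^ 2 - 1) := by
    simp only [Fin.val_one, pow_one, Nat.mul_sub, mul_one]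
    ring_nf
  have e3 : Q ^ 3 - Q ^ ((2 : Fin 3) : ℕ) = Q ^ 2 * (Q - 1) := by
    simp only [Fin.val_two, Nat.mul_sub, mul_one]
    ring_nf
  rw [e1, e2, e3] at hU
  have hcop : ∀ n, 0 < n → (p ^ ((a : ℕ) * 3)).Coprime (Q ^ n - 1) := by
    intro n hn
    apply Nat.Coprime.pow_left
    rw [Nat.Prime.coprime_iff_not_dvd hp.out]
    intro hdvd
    have h1 : p ∣ Q ^ n := dvd_pow (dvd_pow_self p b.2.ne') hn.ne'
    have h2 : Q ^ n = Q ^ n - 1 + 1 := (Nat.sub_add_cancel (Nat.one_le_pow _ _ (by omega))).symm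
    rw [h2] at h1
    have h3 := (Nat.dvd_add_right hdvd).1 h1
    exact hp1.ne' (Nat.dvd_one.1 h3)
  have h1 : p ^ ((a : ℕ) * 3) ∣ Q ^ 3 := by
    have h2 : (p ^ (a : ℕ)) ^ 3 = p ^ ((a : ℕ) * 3) := (pow_mul _ _ _).symm
    rw [h2] at hU
    have h3 : (Q ^ 3 - 1) * (Q * (Q ^ 2 - 1)) * (Q ^ 2 * (Q - 1)) =
        (Q ^ 3 - 1) * ((Q ^ 2 - 1) * ((Q ^ 1 - 1) * Q ^ 3)) := by
      rw [pow_one]; ring
    rw [h3] at hU
    exact (hcop 1 one_pos).dvd_of_dvd_mul_left ((hcop 2 two_pos).dvd_of_dvd_mul_left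
      ((hcop 3 three_pos).dvd_of_dvd_mul_left hU))
  rw [hQ, ← pow_mul] at h1
  have h4 := (Nat.pow_dvd_pow_iff_le_right hp1).1 h1
  apply Nat.pow_le_pow_right hp.out.pos
  omega

/-- **`PSL₃` in defining characteristic**: `P = SL₃(F)`. -/
theorem L3_eq_specialLinear [Finite F] (hP : ActsAbsolutelyIrreducibly (matrixSet P))
    (hdet : P ≤ specialLinear (Fin 3) F) (hperf : ⁅P, P⁆ = P)
    (hns : ∀ F₀ : Subfield F, F₀ ≠ ⊤ → ¬ RealisableOver F₀ (matrixSet P))
    {K : Type*} [Field K] [Finite K] (p : ℕ) [hp : Fact p.Prime] [CharP F p] [CharP K p]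
    (Φ : (P ⧸ (scalars (Fin 3) F).subgroupOf P) ≃* Matrix.ProjectiveSpecialLinearGroup (Fin 3) K)
    (htr : ∀ g ∈ P, (g : Matrix (Fin 3) (Fin 3) F).trace ^ Nat.card K =
      (g : Matrix (Fin 3) (Fin 3) F).trace) :
    P = specialLinear (Fin 3) F := by
  classical
  have := Fintype.ofFinite K
  have := Fintype.ofFinite F
  have hfinG : Finite (GL (Fin 3) F) := inferInstance
  obtain ⟨a, -, ha⟩ := FiniteField.card K p
  have hK : Nat.card K = p ^ (a : ℕ) := by rw [Nat.card_eq_fintype_card, ha]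
  have h1 : ∀ x : F, x ^ Nat.card K = x := by
    rw [hK] at htr ⊢
    exact pow_eq_of_no_subfield hP hns p a htr
  have h2 : 1 < Nat.card K := Finite.one_lt_card
  have h3 := card_le_of_pow_eq h2 h1
  have h4 := card_le_of_psl p Φ
  have h5 : Nat.card K = Nat.card F := by
    have := Nat.le_of_dvd (by omega) h3
    omega
  -- isomorphic fields
  have e : K ≃+* F := FiniteField.ringEquivOfCardEq (by
    rw [← Nat.card_eq_fintype_card, ← Nat.card_eq_fintype_card, h5])
  let ι : P →* X F :=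
    { toFun := fun g => ⟨(g : GL (Fin 3) F).1, by
        have h6 := hdet g.2
        have h7 : Matrix.GeneralLinearGroup.det (g : GL (Fin 3) F) = 1 := h6
        exact congrArg Units.val h7⟩
      map_one' := rfl
      map_mul' := fun _ _ => rfl }
  let q : X F →* Matrix.ProjectiveSpecialLinearGroup (Fin 3) F := QuotientGroup.mk' _
  have hker : (q.comp ι).ker = (scalars (Fin 3) F).subgroupOf P := by
    ext g
    rw [MonoidHom.mem_ker, Subgroup.mem_subgroupOf, mem_scalars_iff]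
    have h6 : (q.comp ι) g = 1 ↔ ι g ∈ Subgroup.center (X F) := QuotientGroup.eq_one_iff _
    rw [h6, Matrix.SpecialLinearGroup.mem_center_iff]
    constructor
    · rintro ⟨r, hr, hr2⟩
      have hr0 : r ≠ 0 := by
        rintro rfl
        simp at hr
      refine ⟨Units.mk0 r hr0, ?_⟩
      rw [Units.val_mk0]
      have h7 : ((g : GL (Fin 3) F) : Matrix (Fin 3) (Fin 3) F) = Matrix.scalar (Fin 3) r := hr2.symm
      rw [h7]
      ext i j
      by_cases hij : i = j
      · subst hij; simp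
      · simp [hij]
    · rintro ⟨c, hc⟩
      refine ⟨c, ?_, ?_⟩
      · have h8 := (ι g).2
        change ((g : GL (Fin 3) F) : Matrix (Fin 3) (Fin 3) F).det = 1 at h8
        rw [hc, Matrix.det_smul, Matrix.det_one, mul_one] at h8
        exact h8
      · change Matrix.scalar (Fin 3) (c : F) = ((g : GL (Fin 3) F) : Matrix (Fin 3) (Fin 3) F)
        rw [hc]
        ext i j
        by_cases hij : i = j
        · subst hij; simp
        · simp [hij]
  -- the cardinality
  have hcard : Nat.card (P ⧸ (q.comp ι).ker) =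
      Nat.card (Matrix.ProjectiveSpecialLinearGroup (Fin 3) F) := by
    rw [hker, Nat.card_congr Φ.toEquiv]
    exact Nat.card_congr (Cfsg.Agent.LieClassical.FieldTransfer.pslCongr e).toEquiv
  have hsurj : Function.Surjective (q.comp ι) := by
    have hfinX : Finite (X F) := inferInstance
    have hfinQ : Finite (Matrix.ProjectiveSpecialLinearGroup (Fin 3) F) := inferInstance
    have h6 := QuotientGroup.kerLift_injective (q.comp ι)
    have h7 : Function.Bijective (QuotientGroup.kerLift (q.comp ι)) :=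
      (Nat.bijective_iff_injective_and_card _).2 ⟨h6, hcard⟩
    intro y
    obtain ⟨x, rfl⟩ := h7.2 y
    obtain ⟨g, rfl⟩ := QuotientGroup.mk_surjective x
    exact ⟨g, rfl⟩
  -- conclusion
  apply le_antisymm hdet
  have hcomm : ∀ x y : X F, ⁅x, y⁆ ∈ ι.range := by
    intro x y
    obtain ⟨a, ha⟩ := hsurj (q x)
    obtain ⟨b, hb⟩ := hsurj (q y)
    have ha' : (ι a)⁻¹ * x ∈ Subgroup.center (X F) := QuotientGroup.eq.1 ha
    have hb' : (ι b)⁻¹ * y ∈ Subgroup.center (X F) := QuotientGroup.eq.1 hb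
    refine ⟨⁅a, b⁆, ?_⟩
    rw [map_commutatorElement]
    obtain ⟨c, hc, hcx⟩ : ∃ c ∈ Subgroup.center (X F), x = ι a * c := ⟨_, ha', by group⟩
    obtain ⟨d, hd, hdy⟩ : ∃ d ∈ Subgroup.center (X F), y = ι b * d := ⟨_, hb', by group⟩
    rw [hcx, hdy]
    rw [Subgroup.mem_center_iff] at hc hd
    rw [commutatorElement_def, commutatorElement_def]
    have k1 : ι a * c * (ι b * d) * (ι a * c)⁻¹ * (ι b * d)⁻¹ =
        ι a * ι b * (c * c⁻¹) * (ι a)⁻¹ * (d * d⁻¹) * (ι b)⁻¹ := by
      have l1 : c * ι b = ι b * c := (hc _).symm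
      have l2 : ∀ z, z * d = d * z := hd
      have l3 : ∀ z, z * c = c * z := hc
      calc ι a * c * (ι b * d) * (ι a * c)⁻¹ * (ι b * d)⁻¹
          = ι a * (c * ι b) * (d * (c⁻¹ * (ι a)⁻¹)) * (d⁻¹ * (ι b)⁻¹) := by group
        _ = ι a * (ι b * c) * ((c⁻¹ * (ι a)⁻¹) * d) * (d⁻¹ * (ι b)⁻¹) := by
            rw [l1, ← l2 (c⁻¹ * (ι a)⁻¹)]
        _ = ι a * ι b * (c * c⁻¹) * (ι a)⁻¹ * (d * d⁻¹) * (ι b)⁻¹ := by group
    rw [k1, mul_inv_cancel, mul_inv_cancel, mul_one, mul_one]
  have htop : ι.range = ⊤ := by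
    rw [eq_top_iff, ← Cfsg.Agent.LieClassical.SLGen.commutator_eq_top (ι := Fin 3) (F := F) (by simp),
      commutator_def, Subgroup.commutator_le]
    intro x _ y _
    exact hcomm x y
  intro g hg
  have h8 : (g : Matrix (Fin 3) (Fin 3) F).det = 1 := by
    have : Matrix.GeneralLinearGroup.det g = 1 := hg
    exact congrArg Units.val this
  obtain ⟨y, hy⟩ : (⟨g.1, h8⟩ : X F) ∈ ι.range := by rw [htop]; trivial
  have h9 : ((y : GL (Fin 3) F) : Matrix (Fin 3) (Fin 3) F) = g := congrArg Subtype.val hy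
  have h10 : (y : GL (Fin 3) F) = g := Units.ext h9
  rw [← h10]
  exact y.2

end

end Cfsg.Agent.H906
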