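import Cfsg.Agent.H906.CoverOne
import Cfsg.Agent.H906.L3Fin
import Cfsg.Agent.UThreeGen.Recog

/-!
# `PSU₃` in defining characteristic (helper906)
-/

set_option autoImplicit false
set_option linter.unusedSectionVars false

namespace Cfsg.Agent.H906

open Cfsg Cfsg.Geo
open scoped MatrixGroups Matrix

section Model

open Cfsg.Agent.UThreeGen.MatGroup Cfsg.Agent.UThreeGen.Recog
open Cfsg.Agent.LieRecognition.PSUThreeSylow (conjT)

variable {K : Type*} [Field K] {σ : K →+* K} [hσ : Fact (∀ x, σ (σ x) = x)]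

/-- The surjection `SUG σ → PSU₃(m)`, in any characteristic. -/
theorem exists_psu_hom [Finite K] {m : ℕ} (hm : 1 < m) (hs : ∀ x, σ x = x ^ m)
    (hF : Nat.card K = m ^ 2) :
    ∃ q : SUG σ →* Cfsg.PSU 3 K m, Function.Surjective q ∧ q.ker = Subgroup.center (SUG σ) := by
  obtain ⟨T, T', hTT', hT⟩ : ∃ T T' : Matrix (Fin 3) (Fin 3) K, T * T' = 1 ∧ Tᵀ * T.map σ = -Gm K := by
    by_cases h2 : (2 : K) = 0
    · have : CharP K 2 := CharTwo.of_one_ne_zero_of_two_eq_zero one_ne_zero h2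
      obtain ⟨c, hc⟩ : ∃ c : K, σ c ≠ c := by
        by_contra hcon
        push Not at hcon
        have h3 := card_le_of_pow_eq (F := K) (m := m) hm (fun x => by rw [← hs]; exact hcon x)
        rw [hF] at h3
        have h4 := Nat.le_of_dvd (by omega) h3
        have h5 : m * 2 ≤ m ^ 2 := by rw [sq]; exact Nat.mul_le_mul_left m hm
        omega
      obtain ⟨T, T', h3, h4⟩ := Cfsg.Agent.LieRecognition.PSUThreeSylow.exists_T hc
      refine ⟨T, T', h3, ?_⟩
      rw [h4]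
      ext i j
      fin_cases i <;> fin_cases j <;> simp [Gm, Cfsg.Agent.LieRecognition.PSUThreeSylow.Jm, CharTwo.neg_eq]
    · obtain ⟨v, hv⟩ := exists_norm (σ := σ) hm hs hF (c := -1) (by rw [map_neg, map_one])
      exact exists_T (σ := σ) h2 hv
  let e : SUG σ ≃* Cfsg.SU 3 K m :=
    ((conjT hTT').subgroupMap (SUG σ)).trans (MulEquiv.subgroupCongr (SU_eq_map hs hTT' hT))
  let π : SUG σ →* Cfsg.PSU 3 K m :=
    (QuotientGroup.mk' (Subgroup.center (Cfsg.SU 3 K m))).comp e.toMonoidHom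
  have hπ : Function.Surjective π := (QuotientGroup.mk'_surjective _).comp e.surjective
  refine ⟨π, hπ, ?_⟩
  ext g
  have h1 : π g = 1 ↔ e g ∈ Subgroup.center (Cfsg.SU 3 K m) := by
    rw [← QuotientGroup.eq_one_iff]
    exact Iff.rfl
  rw [MonoidHom.mem_ker, h1, Subgroup.mem_center_iff, Subgroup.mem_center_iff]
  constructor
  · intro h k
    apply e.injective
    rw [map_mul, map_mul]
    exact h (e k)
  · intro h k
    obtain ⟨k, rfl⟩ := e.surjective k
    rw [← map_mul, ← map_mul, h k]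

/-- The torus element. -/
def tor (σ : K →+* K) [hσ : Fact (∀ x, σ (σ x) = x)] : Kˣ →* SUG σ where
  toFun a := ⟨⟨!![(a : K), 0, 0; 0, σ (a : K) * (a : K)⁻¹, 0; 0, 0, (σ (a : K))⁻¹], by
      have h1 : (a : K) ≠ 0 := a.ne_zero
      have h2 : σ (a : K) ≠ 0 := (map_ne_zero σ).2 h1
      simp [Matrix.det_fin_three]
      field_simp⟩, by
      have h1 : (a : K) ≠ 0 := a.ne_zero
      have h2 : σ (a : K) ≠ 0 := (map_ne_zero σ).2 h1
      change (!![(a : K), 0, 0; 0, σ (a : K) * (a : K)⁻¹, 0; 0, 0, (σ (a : K))⁻¹] :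
        Matrix (Fin 3) (Fin 3) K)ᵀ * Gm K * (!![(a : K), 0, 0; 0, σ (a : K) * (a : K)⁻¹, 0; 0, 0,
        (σ (a : K))⁻¹] : Matrix (Fin 3) (Fin 3) K).map σ = Gm K
      ext i j
      fin_cases i <;> fin_cases j <;>
        simp [Gm, Matrix.mul_apply, Fin.sum_univ_three, Cfsg.Agent.UThreeGen.MatGroup.sig, h1, h2]
      · field_simp⟩
  map_one' := by
    apply Subtype.ext
    apply Subtype.ext
    ext i j
    fin_cases i <;> fin_cases j <;> simp
  map_mul' a b := by
    have h1 : (a : K) ≠ 0 := a.ne_zero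
    have h2 : σ (a : K) ≠ 0 := (map_ne_zero σ).2 h1
    apply Subtype.ext
    apply Subtype.ext
    rw [coe_mul_SUG]
    ext i j
    fin_cases i <;> fin_cases j <;> simp [Matrix.mul_apply, Fin.sum_univ_three]
    · ring
    · ring

lemma tor_val (a : Kˣ) : (tor σ a).1.1 =
    !![(a : K), 0, 0; 0, σ (a : K) * (a : K)⁻¹, 0; 0, 0, (σ (a : K))⁻¹] := rfl

lemma tor_mem_borel (a : Kˣ) : tor σ a ∈ borel σ := by
  rw [mem_borel, tor_val]
  simp

/-- The antidiagonal element inverts and twists the torus. -/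
lemma wel_tor (a : Kˣ) : (wel σ)⁻¹ * tor σ a * wel σ = (tor σ (Units.map (σ : K →* K) a))⁻¹ := by
  have h1 : (a : K) ≠ 0 := a.ne_zero
  have h2 : σ (a : K) ≠ 0 := (map_ne_zero σ).2 h1
  rw [← map_inv, wel_inv]
  apply Subtype.ext
  apply Subtype.ext
  rw [coe_mul_SUG, coe_mul_SUG, wel_val, tor_val, tor_val]
  ext i j
  fin_cases i <;> fin_cases j <;>
    simp [Wm, Matrix.mul_apply, Fin.sum_univ_three, Cfsg.Agent.UThreeGen.MatGroup.sig]
  · ring

lemma borel_eq (b : SUG σ) (hb : b ∈ borel σ) : ∃ u ∈ (emb σ).range, ∃ a : Kˣ, b = u * tor σ a := by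
  have h00 : b.1.1 0 0 ≠ 0 := by
    intro h0
    have hdet : b.1.1.det = 1 := b.1.2
    rw [Matrix.det_fin_three, hb.1, hb.2, h0] at hdet
    simp at hdet
  refine ⟨b * (tor σ (Units.mk0 _ h00))⁻¹, ?_, Units.mk0 _ h00, by group⟩
  have hcol : ∀ i, (b * (tor σ (Units.mk0 _ h00))⁻¹).1.1 i 0 = b.1.1 i 0 * (b.1.1 0 0)⁻¹ := by
    intro i
    rw [← map_inv, coe_mul_SUG, tor_val, Matrix.mul_apply, Fin.sum_univ_three]
    simp
  apply mem_range_of_col
  · rw [hcol, mul_inv_cancel₀ h00]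
  · rw [hcol, hb.1, zero_mul]
  · rw [hcol, hb.2, zero_mul]

lemma emb_isPGroup (p : ℕ) [Fact p.Prime] [CharP K p] : IsPGroup p (emb σ).range := by
  rintro ⟨_, x, rfl⟩
  obtain ⟨n, hn⟩ := SL3Par.U_isPGroup (K := K) p ⟨(emb σ x).1, ⟨x.a, σ x.a, x.b, rfl⟩⟩
  have h : (emb σ x).1 ^ p ^ n = 1 := by
    have h1 := congrArg Subtype.val hn
    rw [Subgroup.coe_pow] at h1
    exact h1
  refine ⟨n, Subtype.ext (Subtype.ext ?_)⟩
  rw [Subgroup.coe_pow, Subgroup.coe_pow]
  exact h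

/-- A central cube root of unity. -/
lemma tor_mem_center {a : Kˣ} (h : σ (a : K) * (a : K) = 1) (h3 : (a : K) ^ 3 = 1) :
    tor σ a ∈ Subgroup.center (SUG σ) := by
  have h1 : (a : K) ≠ 0 := a.ne_zero
  have h2 : σ (a : K) = (a : K)⁻¹ := eq_inv_of_mul_eq_one_left h
  have h5 : (a : K)⁻¹ * (a : K)⁻¹ = a := by
    rw [← mul_inv]
    apply inv_eq_of_mul_eq_one_left
    linear_combination h3
  have h4 : (tor σ a).1.1 = Matrix.scalar (Fin 3) (a : K) := by
    rw [tor_val, h2, h5, inv_inv]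
    ext i j
    fin_cases i <;> fin_cases j <;> simp
  rw [Subgroup.mem_center_iff]
  intro k
  apply Subtype.ext
  apply Subtype.ext
  change k.1.1 * (tor σ a).1.1 = (tor σ a).1.1 * k.1.1
  rw [h4]
  exact (Matrix.scalar_commute (a : K) (Commute.all _) k.1.1).eq.symm

end Model

section Main

open Cfsg.Agent.UThreeGen.MatGroup

variable {F : Type*} [Field F] {P : Subgroup (GL (Fin 3) F)}

/-- **Traces of `PSU₃(m)` in defining characteristic.** -/
theorem U3_trace [Finite F] (hP : ActsAbsolutelyIrreducibly (matrixSet P)) (hperf : ⁅P, P⁆ = P)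
    (hsimp : IsSimpleGroup (P ⧸ (scalars (Fin 3) F).subgroupOf P)) {K : Type*} [Field K]
    [Finite K] (p : ℕ) [hp : Fact p.Prime] [CharP F p] [CharP K p] {m : ℕ} (hK : Nat.card K = m ^ 2)
    (Φ : (P ⧸ (scalars (Fin 3) F).subgroupOf P) ≃* Cfsg.PSU 3 K m)
    {d : ℕ} (hd : d = 1 ∨ (d = 3 ∧ 3 ∣ m + 1)) (hdP : ∀ g ∈ P, g ∈ scalars (Fin 3) F → g ^ d = 1)
    (hpd : p.Coprime d) (g : GL (Fin 3) F) (hg : g ∈ P) :
    (g : Matrix (Fin 3) (Fin 3) F).trace ^ m = ((g⁻¹ : GL (Fin 3) F) : Matrix (Fin 3) (Fin 3) F).trace := by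
  classical
  have := Fintype.ofFinite K
  obtain ⟨a, ha0, ha⟩ := FiniteField.card K p
  have hcardK : Nat.card K = p ^ (a : ℕ) := by rw [Nat.card_eq_fintype_card, ha]
  -- `m` is a power of `p`
  obtain ⟨b, hb⟩ : ∃ b, m = p ^ b := by
    have h1 : m ∣ p ^ (a : ℕ) := by rw [← hcardK, hK, sq]; exact Dvd.intro _ rfl
    obtain ⟨b, -, hb⟩ := (Nat.dvd_prime_pow hp.out).1 h1
    exact ⟨b, hb⟩
  have hm : 1 < m := by
    rcases Nat.lt_or_ge 1 m with h | h
    · exact h
    · exfalso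
      have h1 : 1 < Nat.card K := Finite.one_lt_card
      rw [hK] at h1
      have : m ^ 2 ≤ 1 ^ 2 := Nat.pow_le_pow_left h 2
      omega
  have hexpK : ExpChar K p := ExpChar.prime hp.out
  have hexpF : ExpChar F p := ExpChar.prime hp.out
  have : PerfectRing F p := PerfectRing.ofFiniteOfIsReduced p F
  set σ : K →+* K := iterateFrobenius K p b with hσdef
  have hs : ∀ x, σ x = x ^ m := fun x => by rw [hσdef, iterateFrobenius_def, hb]
  have hcardm : ∀ x : K, x ^ (m * m) = x := by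
    intro x
    have := FiniteField.pow_card x
    rwa [← Nat.card_eq_fintype_card, hK, sq] at this
  have hσ : Fact (∀ x, σ (σ x) = x) := ⟨fun x => by rw [hs, hs, ← pow_mul, hcardm]⟩
  obtain ⟨q, hqs, hqk⟩ := exists_psu_hom (σ := σ) hm hs hK
  have hcov := fibre_cover hP Φ q hqs hdP
  have hfinG : Finite (GL (Fin 3) F) := inferInstance
  have hfinX : Finite (SUG σ) := inferInstance
  have hfin : Finite (P × SUG σ) := inferInstance
  obtain ⟨u0, hu0⟩ := IsCyclic.exists_generator (α := Kˣ)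
  have hu0m : u0 ^ (m * m) = u0 := Units.ext (by rw [Units.val_pow_eq_pow_val]; exact hcardm _)
  have hmap : ∀ u : Kˣ, Units.map (σ : K →* K) u = u ^ m := fun u => Units.ext (by
    rw [Units.val_pow_eq_pow_val]; exact hs _)
  obtain ⟨y, hy⟩ := fibre_exists_left Φ hqs ⟨g, hg⟩
  obtain ⟨x₁, hx₁⟩ : ∃ x : HG σ, x ≠ 1 := by
    obtain ⟨x, hx⟩ := Cfsg.Agent.UThreeGen.Recog.exists_b (σ := σ) hm hs hK 1
    refine ⟨x, ?_⟩
    rintro rfl
    rw [one_b] at hx
    exact zero_ne_one hx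
  have key := hcov.rankOne p hpd (fun M hM h g => fibre_normal hperf Φ q hqs M h g)
    (B := borel σ) (U := (emb σ).range) (w := wel σ) (t := tor σ u0) wel_mul_wel
    (by
      intro g
      by_cases hgB : g ∈ borel σ
      · exact Or.inl hgB
      · right
        obtain ⟨s, hs, h⟩ := data_SUG.bruhat g hgB
        exact ⟨s, data_SUG.le hs, _, h, by group⟩)
    data_SUG.le
    (by
      intro b hb u hu
      have := data_SUG.norm b⁻¹ ((borel σ).inv_mem hb) u hu
      rwa [inv_inv] at this)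
    (emb_isPGroup p) (tor_mem_borel u0)
    (by
      intro b hb
      obtain ⟨u, hu, a, rfl⟩ := borel_eq b hb
      have h1 := hu0 a
      rw [← mem_powers_iff_mem_zpowers] at h1
      obtain ⟨k, rfl⟩ := h1
      exact ⟨u, hu, k, by rw [map_pow]⟩)
    ⟨emb σ x₁, ⟨x₁, rfl⟩, by
      rw [hqk]
      intro h
      exact hx₁ (eq_one_of_mem_center h)⟩
    m (by rw [wel_tor, hmap, map_pow])
    (by rw [← map_pow, hu0m])
    (by
      rcases hd with h | ⟨h, h3⟩
      · exact Or.inl h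
      · right
        refine ⟨h, h3, ?_⟩
        -- `m * m = 1 + 3 k`
        obtain ⟨l, hl⟩ := h3
        have hl0 : 1 ≤ l := by omega
        have hmm : m * m = 1 + 3 * (l * (m - 1)) := by
          obtain ⟨m', rfl⟩ : ∃ m', m = m' + 1 := ⟨m - 1, by omega⟩
          rw [Nat.add_sub_cancel]
          have : 3 * (l * m') = (3 * l) * m' := by ring
          rw [this, ← hl]
          ring
        refine ⟨l * (m - 1), hmm, ?_⟩
        rw [hqk, ← map_pow]
        have h4 : (u0 ^ (l * (m - 1))) ^ 3 = 1 := by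
          rw [← pow_mul, mul_comm _ 3]
          have h5 : u0 ^ (1 + 3 * (l * (m - 1))) = u0 := by rw [← hmm, hu0m]
          rw [pow_add, pow_one] at h5
          exact mul_eq_left.1 h5
        apply tor_mem_center
        · rw [hs, ← pow_succ, hl, pow_mul]
          have := congrArg Units.val h4
          rw [Units.val_pow_eq_pow_val, Units.val_one] at this
          rw [this, one_pow]
        · have := congrArg Units.val h4
          rwa [Units.val_pow_eq_pow_val, Units.val_one] at this)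
    (iterateFrobeniusEquiv F p b) (fun x => by rw [iterateFrobeniusEquiv_def, hb]) y
  rw [iterateFrobeniusEquiv_def, ← hb] at key
  have h3 : fibreRho Φ q y = (g : Matrix (Fin 3) (Fin 3) F) := by
    change (((y.1.1 : P) : GL (Fin 3) F) : Matrix (Fin 3) (Fin 3) F) = _
    rw [hy]
  have h4 : fibreRho Φ q y⁻¹ = ((g⁻¹ : GL (Fin 3) F) : Matrix (Fin 3) (Fin 3) F) := by
    change ((((y⁻¹ : fibre Φ q).1.1 : P) : GL (Fin 3) F) : Matrix (Fin 3) (Fin 3) F) = _
    have h5 : (y⁻¹ : fibre Φ q).1.1 = (y.1.1)⁻¹ := rfl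
    rw [h5, hy]
    rfl
  rwa [h3, h4] at key

end Main

end Cfsg.Agent.H906
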