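import Cfsg.Agent.H906.A7TwoD
import Cfsg.Agent.H637.A7Main

/-!
# `A₇` in degree twelve, trivial scalars, every characteristic
-/

set_option autoImplicit false
set_option linter.unusedSectionVars false

namespace Cfsg.Agent.H906.A7T

open Module Matrix Cfsg Cfsg.Geo Cfsg.Agent.H637.JW Cfsg.Agent.H915.LD Cfsg.Agent.H882.Sc

universe u v

variable {ι : Type} [Fintype ι] [DecidableEq ι] {F : Type u} [Field F] {P : Subgroup (GL ι F)} {T : Type v} [Group T]

/-- the matrix of an invariant form of a self-dual core -/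
theorem exists_matrix_sd (hC : Core P) (h : SD P) : ∃ M : Matrix ι ι F, M.det ≠ 0 ∧
    ∀ g ∈ P, (g : Matrix ι ι F)ᵀ * M * (g : Matrix ι ι F) = M := by
  have hne := hC.nonempty
  obtain ⟨f, hf, hnd, hfix, -⟩ := H906.exists_bilinear_of_trace hC.absIrred h
  have hfix' : ∀ g ∈ P, ∀ v w, f ((g : Matrix ι ι F) *ᵥ v) ((g : Matrix ι ι F) *ᵥ w) = f v w :=
    fun g hg => hfix _ ⟨g, hg, rfl⟩
  let B : (ι → F) →ₗ[F] (ι → F) →ₗ[F] F := LinearMap.mk₂ F f hf.add_left (fun c x y => hf.smul_left c x y)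
    (fun x y z => hf.add_right x y z) (fun c x y => hf.smul_right c x y)
  have hB : ∀ a b, B a b = f a b := fun a b => rfl
  set M : Matrix ι ι F := LinearMap.toMatrix₂' F B with hM
  have hf' : ∀ a b, f a b = a ⬝ᵥ M *ᵥ b := by
    intro a b
    rw [← Matrix.toLinearMap₂'_apply', hM, Matrix.toLinearMap₂'_toMatrix', hB]
  refine ⟨M, ?_, ?_⟩
  · intro h0
    obtain ⟨v, hv, hv0⟩ := Matrix.exists_mulVec_eq_zero_iff.2 h0
    obtain ⟨⟨x, hx⟩, -⟩ := hnd v hv
    apply hx
    rw [hf', hv0, dotProduct_zero]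
  · intro g hg
    have h1 : B.compl₁₂ (Matrix.toLin' (g : Matrix ι ι F)) (Matrix.toLin' (g : Matrix ι ι F)) = B := by
      apply LinearMap.ext₂
      intro a b
      rw [LinearMap.compl₁₂_apply, hB, hB, Matrix.toLin'_apply, Matrix.toLin'_apply]
      exact hfix' g hg a b
    have h2 := LinearMap.toMatrix₂'_compl₁₂ (R := F) B (Matrix.toLin' (g : Matrix ι ι F))
      (Matrix.toLin' (g : Matrix ι ι F))
    rw [h1, LinearMap.toMatrix'_toLin'] at h2
    exact h2.symm

/-- the form over the algebraic closure -/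
theorem form_of_sd (hC : Core P) (h : SD P) (e : P ≃* T) :
    ∃ B : (ι → AlgebraicClosure F) →ₗ[AlgebraicClosure F] (ι → AlgebraicClosure F) →ₗ[AlgebraicClosure F]
      AlgebraicClosure F, Form (H879.TL.repOf e) B := by
  obtain ⟨M, hM, hinv⟩ := exists_matrix_sd hC h
  set K := AlgebraicClosure F
  set N : Matrix ι ι K := M.map (algebraMap F K) with hN
  have hdet : N.det ≠ 0 := by
    rw [hN, ← RingHom.mapMatrix_apply, ← RingHom.map_det]
    exact fun h0 => hM ((algebraMap F K).injective (h0.trans (map_zero _).symm))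
  refine ⟨Matrix.toLinearMap₂' K N.transpose, ?_, ?_⟩
  · intro g v w
    obtain ⟨g, rfl⟩ := e.surjective g
    rw [H879.TL.repOf_apply, H879.TL.clo_apply, H879.TL.clo_apply, Matrix.toLinearMap₂'_apply',
      Matrix.toLinearMap₂'_apply']
    have h1 := congrArg (fun A : Matrix ι ι F => A.map (algebraMap F K)) (hinv g g.2)
    simp only [Matrix.map_mul, Matrix.transpose_map] at h1
    set A : Matrix ι ι K := ((g : GL ι F) : Matrix ι ι F).map (algebraMap F K) with hA
    have h3 : Aᵀ * Nᵀ * A = Nᵀ := by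
      have := congrArg Matrix.transpose h1
      rw [Matrix.transpose_mul, Matrix.transpose_mul, Matrix.transpose_transpose, ← Matrix.mul_assoc] at this
      exact this
    have h4 : v ⬝ᵥ ((Aᵀ * Nᵀ * A) *ᵥ w) = (A *ᵥ v) ⬝ᵥ (Nᵀ *ᵥ (A *ᵥ w)) := by
      rw [← Matrix.mulVec_mulVec, ← Matrix.mulVec_mulVec, Matrix.dotProduct_mulVec v Aᵀ, Matrix.vecMul_transpose]
    rw [← h4, h3]
  · intro v hv
    by_contra hv0
    have h1 : v ᵥ* Nᵀ = 0 := by
      funext j
      have := hv (Pi.single j 1)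
      rw [Matrix.toLinearMap₂'_apply', Matrix.dotProduct_mulVec] at this
      simpa using this
    rw [Matrix.vecMul_transpose] at h1
    exact hdet (Matrix.exists_mulVec_eq_zero_iff.1 ⟨v, hv0, h1⟩)

/-- **`A₇` in degree twelve.** Trivial scalars, self-dual, every characteristic. -/
theorem a7_sd_simple (hC : Core P) (hsd : SD P) (hn : Fintype.card ι = 12) (e : Soc P ≃* alternatingGroup (Fin 7))
    (hbot : (scalars ι F).subgroupOf P = ⊥) : False := by
  let e' := (H879.TL.socEquiv hbot).trans e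
  obtain ⟨B, hB⟩ := form_of_sd hC hsd e'
  have hI := irr_of_core hC e'
  have hV : finrank (AlgebraicClosure F) (ι → AlgebraicClosure F) = 12 := H879.TL.finrank_clo.trans hn
  by_cases h2 : (2 : AlgebraicClosure F) = 0
  · exact twelve_two h2 hI hB hV
  · exact twelve_odd h2 hI hB hV

/-- **`A₇` in degree twelve.** Trivial scalars, every characteristic. -/
theorem a7_simple [Finite F] (p : ℕ) [hp : Fact p.Prime] [CharP F p] (hC : Core P) (hn : Fintype.card ι = 12)
    (e : Soc P ≃* alternatingGroup (Fin 7)) (hbot : (scalars ι F).subgroupOf P = ⊥) : False := by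
  rcases H637.A7Main.le_two p hC e (fun g hg hs => by
    have h1 : (⟨g, hg⟩ : P) ∈ (scalars ι F).subgroupOf P := hs
    rw [hbot, Subgroup.mem_bot] at h1
    have h2 : g = 1 := congrArg Subtype.val h1
    rw [h2, one_mul]) with h | ⟨h | h, -⟩
  · exact a7_sd_simple hC h hn e hbot
  · omega
  · omega

end Cfsg.Agent.H906.A7T
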