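import Cfsg.Agent.H906.T12Core

/-!
# Cores with socle `PSL_3(4)` in degree twelve
-/

set_option autoImplicit false
set_option linter.unusedSectionVars false

namespace Cfsg.Agent.H906.T12

open Cfsg Cfsg.Geo SL3Par L34 H915.LD F4 T14
open scoped MatrixGroups commutatorElement Matrix

universe u v

variable {ι : Type} [Fintype ι] [DecidableEq ι] {F : Type u} [Field F] {P : Subgroup (GL ι F)}
  {K : Type v} [Field K] [Fintype K]

/-- traces in characteristic seven -/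
theorem fr_seven [Finite F] [hp : Fact (Nat.Prime 7)] [CharP F 7] (hC : Core P) (hK : Fintype.card K = 4)
    (hn : Fintype.card ι = 12) (e : Soc P ≃* Matrix.ProjectiveSpecialLinearGroup (Fin 3) K) : Fr P 49 := by
  have h49 : (49 : ℕ) = 7 ^ 2 := by norm_num
  rw [h49]
  apply Fr.of_reg 7
  intro g hg hord
  have hord' : ¬ 7 ∣ orderOf (⟨g, hg⟩ : P) := by rwa [← Subgroup.orderOf_coe]
  obtain ⟨l, hl⟩ : ∃ l : P, l = ⟨g, hg⟩ := ⟨_, rfl⟩
  have hlg : (l : GL ι F) = g := by rw [hl]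
  rw [← hl] at hord'
  rw [← tr_pow_char 7 g 2, ← hlg]
  change tr (((l ^ 7 ^ 2 : P) : GL ι F)) = tr (l : GL ι F)
  rw [← h49]
  have hz12 : ∀ z ∈ (ph e).ker, z ^ 12 = 1 := by
    intro z hz
    have := ph_pow e hC hz
    rwa [hn] at this
  have hcen : ∀ z ∈ (ph e).ker, ∀ x : P, z * x = x * z := fun z hz x =>
    ((Subgroup.mem_center_iff.1 (ph_cen e hz)) x).symm
  have hord2 : orderOf (ph e l) ∣ orderOf l := orderOf_map_dvd _ _
  -- real elements
  have real : ∀ s, s * ph e l * s⁻¹ = (ph e l)⁻¹ → ∃ k : P, ∃ ζ ∈ (ph e).ker, k * l * k⁻¹ = ζ * l⁻¹ := by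
    intro s hs
    obtain ⟨k, hk⟩ := ph_surj e s
    refine ⟨k, k * l * k⁻¹ * l, ?_, by group⟩
    rw [MonoidHom.mem_ker, map_mul, map_mul, map_mul, map_inv, hk, hs, inv_mul_cancel]
  have four : ph e l ^ 4 = 1 → l ^ 49 = l := by
    intro h4
    have h1 : l ^ 4 ∈ (ph e).ker := by rw [MonoidHom.mem_ker, map_pow, h4]
    have h2 := hz12 _ h1
    rw [← pow_mul] at h2
    rw [show 49 = 4 * 12 + 1 by norm_num, pow_succ, h2, one_mul]
  rcases pow_cases hK (ph e l) with h3 | h4 | h5 | h7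
  · obtain ⟨s, -, hs⟩ := inv_three hK h3
    obtain ⟨k, ζ, hζ, hk⟩ := real s hs
    have h1 : l ^ 3 ∈ (ph e).ker := by rw [MonoidHom.mem_ker, map_pow, h3]
    have hc : Commute ζ l⁻¹ := hcen ζ hζ _
    have h2 : l ^ 3 = ζ ^ 3 * (l ^ 3)⁻¹ := by
      have h6 : k * l ^ 3 * k⁻¹ = ζ ^ 3 * (l ^ 3)⁻¹ := by
        rw [← conj_pow, hk, hc.mul_pow, inv_pow]
      rw [← hcen _ h1 k, mul_assoc, mul_inv_cancel, mul_one] at h6
      exact h6
    have h6 : l ^ 6 = ζ ^ 3 := by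
      calc l ^ 6 = l ^ 3 * l ^ 3 := by rw [← pow_add]
        _ = ζ ^ 3 * (l ^ 3)⁻¹ * l ^ 3 := by rw [← h2]
        _ = ζ ^ 3 := by rw [inv_mul_cancel_right]
    have h8 : l ^ 49 = l := by
      calc l ^ 49 = (l ^ 6) ^ 8 * l := by rw [← pow_mul, ← pow_succ]
        _ = (ζ ^ 12) ^ 2 * l := by rw [h6, ← pow_mul, ← pow_mul]
        _ = l := by rw [hz12 ζ hζ, one_pow, one_mul]
    rw [h8]
  · rw [four h4]
  · obtain ⟨s, -, hs⟩ := inv_five hK h5
    obtain ⟨k, ζ, hζ, hk⟩ := real s hs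
    have h1 : l ^ 5 ∈ (ph e).ker := by rw [MonoidHom.mem_ker, map_pow, h5]
    have hc : Commute ζ l⁻¹ := hcen ζ hζ _
    have h2 : l ^ 5 = ζ ^ 5 * (l ^ 5)⁻¹ := by
      have h6 : k * l ^ 5 * k⁻¹ = ζ ^ 5 * (l ^ 5)⁻¹ := by
        rw [← conj_pow, hk, hc.mul_pow, inv_pow]
      rw [← hcen _ h1 k, mul_assoc, mul_inv_cancel, mul_one] at h6
      exact h6
    have h6 : l ^ 10 = ζ ^ 5 := by
      calc l ^ 10 = l ^ 5 * l ^ 5 := by rw [← pow_add]
        _ = ζ ^ 5 * (l ^ 5)⁻¹ * l ^ 5 := by rw [← h2]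
        _ = ζ ^ 5 := by rw [inv_mul_cancel_right]
    have h8 : l ^ 49 = k * l * k⁻¹ := by
      calc l ^ 49 = (l ^ 10) ^ 5 * l⁻¹ := by
            rw [eq_mul_inv_iff_mul_eq, ← pow_succ, ← pow_mul]
        _ = (ζ ^ 12) ^ 2 * ζ * l⁻¹ := by rw [h6, ← pow_mul, ← pow_mul, ← pow_succ]
        _ = ζ * l⁻¹ := by rw [hz12 ζ hζ, one_pow, one_mul]
        _ = k * l * k⁻¹ := hk.symm
    rw [h8]
    exact tr_conj (k : GL ι F) (l : GL ι F)
  · have h1 : ph e l = 1 := eq_one_of_pow h7 (by norm_num) hord2 hord'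
    rw [four (by rw [h1, one_pow])]

/-- **Cores with socle `PSL_3(4)` in degree twelve.** -/
theorem l34_twelve [Finite F] (p : ℕ) [hp : Fact p.Prime] [CharP F p] (hC : Core P) (hp2 : p ≠ 2)
    (hK : Fintype.card K = 4) (hn : Fintype.card ι = 12)
    (e : Soc P ≃* Matrix.ProjectiveSpecialLinearGroup (Fin 3) K) :
    p = 7 ∧ 3 ∣ Nat.card ((scalars ι F).subgroupOf P) ∧ Fr P 49 := by
  obtain ⟨k, hk⟩ := exists_k hK
  have h2Ω := two_ne (F := F) p hp2 (AlgebraicClosure F)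
  have hR := RP_pr e hC k hk
  obtain ⟨h7, r, t, y, z, Rr, Rt, Ry, ry, ty, -, z3, z1⟩ := hR.main h2Ω
    (by rw [Module.finrank_fintype_fun_eq_card, hn])
  have hp7 : p = 7 := by
    have h70 : ((7 : ℕ) : F) = 0 := by
      apply (algebraMap F (AlgebraicClosure F)).injective
      rw [map_zero, map_natCast]
      exact_mod_cast h7
    rw [CharP.cast_eq_zero_iff F p] at h70
    exact (Nat.prime_dvd_prime_iff_eq hp.out (by norm_num)).1 h70
  subst hp7
  refine ⟨rfl, ?_, fr_seven hC hK hn e⟩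
  obtain ⟨lr, -, -, cr, -, -, -, -, hcr, er⟩ := Rr
  obtain ⟨lt, -, -, ct, -, -, -, -, hct, et⟩ := Rt
  obtain ⟨ly, -, -, cy, -, -, -, -, hcy, ey⟩ := Ry
  have hne := hC.nonempty
  have hz0 : z ≠ 0 := by
    rintro rfl
    rw [zero_pow (by norm_num)] at z3
    exact zero_ne_one z3
  -- a scalar of order three
  have key : ∀ (l : P) (g : Module.End (AlgebraicClosure F) (ι → AlgebraicClosure F)) (c d : AlgebraicClosure F),
      c ≠ 0 → g = c • rep P l → (∀ v, g (y v) = d • y (y (g v))) → rep P (l * ly * (ly * ly * l)⁻¹) = (d * cy) • 1 := by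
    intro l g c d hc hg hgy
    have h1 : g * y = d • (y * y * g) := LinearMap.ext hgy
    rw [hg, ey, smul_mul_smul_comm, smul_mul_smul_comm, smul_mul_smul_comm, smul_smul, ← map_mul, ← map_mul,
      ← map_mul] at h1
    have h3 : rep P (l * ly) = (d * cy) • rep P (ly * ly * l) := by
      have h4 := congrArg (fun x => (c * cy)⁻¹ • x) h1
      simp only [smul_smul] at h4
      rw [inv_mul_cancel₀ (mul_ne_zero hc hcy), one_smul] at h4
      rw [h4]
      congr 1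
      field_simp
    rw [map_mul, h3, smul_mul_assoc, ← map_mul, mul_inv_cancel, map_one]
  have kr := key lr r cr 1 hcr er (fun v => by rw [one_smul]; exact ry v)
  have kt := key lt t ct z hct et ty
  rw [one_mul] at kr
  obtain ⟨ζ, hζ⟩ : ∃ ζ, ζ = lt * ly * (ly * ly * lt)⁻¹ * (lr * ly * (ly * ly * lr)⁻¹)⁻¹ := ⟨_, rfl⟩
  have hζr : rep P ζ = z • 1 := by
    have h1 : rep P ζ * rep P (lr * ly * (ly * ly * lr)⁻¹) = (z * cy) • 1 := by
      rw [hζ, ← map_mul, inv_mul_cancel_right, kt]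
    rw [kr, mul_smul_comm, mul_one] at h1
    have h3 := congrArg (fun x => cy⁻¹ • x) h1
    simp only [smul_smul] at h3
    rw [inv_mul_cancel₀ hcy, one_smul] at h3
    rw [h3]
    congr 1
    field_simp
  have hζk := rep_ker e hζr
  rw [ker_comp e] at hζk
  have hζ3 : ζ ^ 3 = 1 := by
    apply rep_injective
    rw [map_pow, hζr, smul_pow, one_pow, z3, one_smul, map_one]
  have hζ1 : ζ ≠ 1 := by
    intro h0
    rw [h0, map_one] at hζr
    apply z1
    obtain ⟨a⟩ := hne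
    have h3 := congrFun (LinearMap.congr_fun hζr (Pi.single a 1)) a
    rw [LinearMap.smul_apply, Pi.smul_apply, Module.End.one_apply, Pi.single_eq_same, smul_eq_mul, mul_one] at h3
    exact h3.symm
  have h3f : Fact (Nat.Prime 3) := ⟨Nat.prime_three⟩
  have hord : orderOf (⟨ζ, hζk⟩ : (scalars ι F).subgroupOf P) = 3 :=
    orderOf_eq_prime (Subtype.ext hζ3) (fun h0 => hζ1 (congrArg Subtype.val h0))
  rw [← hord]
  exact orderOf_dvd_natCard _

end Cfsg.Agent.H906.T12
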