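import Cfsg.Agent.H906.T14SixM

/-!
# Cores with socle `PSL_3(4)` in degree six
-/

set_option autoImplicit false
set_option linter.unusedSectionVars false

namespace Cfsg.Agent.H906.T14

open Cfsg Cfsg.Geo SL3Par L34 H915.LD Wt
open scoped MatrixGroups commutatorElement Matrix

universe u v

variable {ι : Type} [Fintype ι] [DecidableEq ι] {F : Type u} [Field F] {P : Subgroup (GL ι F)}
  {K : Type v} [Field K] [Fintype K]

/-- traces on a subgroup without elements of order seven -/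
theorem six_sub [Finite F] (p : ℕ) [hp : Fact p.Prime] [CharP F p] (hC : Core P) (hp2 : p ≠ 2)
    (hK : Fintype.card K = 4) (hn : Fintype.card ι = 6)
    (e : Soc P ≃* Matrix.ProjectiveSpecialLinearGroup (Fin 3) K) (Q : Subgroup P)
    (hQ : ∀ g ∈ Q, ph e g ^ 3 = 1 ∨ ph e g ^ 4 = 1 ∨ ph e g ^ 5 = 1) :
    (p % 3 = 1 → ∀ g ∈ Q, tr (g : GL ι F) ^ p = tr (g : GL ι F)) ∧
    (p % 3 = 2 → ∀ g ∈ Q, tr (g : GL ι F) ^ p = tr ((g : GL ι F)⁻¹)) ∧
    (p = 3 → ∀ g ∈ Q, tr (g : GL ι F) ^ p = tr (g : GL ι F) ∧ tr ((g : GL ι F)⁻¹) = tr (g : GL ι F)) := by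
  have hfin : Finite P := inferInstance
  have hne := hC.nonempty
  have h := two_of e hC (by rw [hn])
  have hcop := coprime_ker_five hK (ph_surj e) (ph_cen e) hC.commutator_top
  have h2Ω := two_ne (F := F) p hp2 (AlgebraicClosure F)
  have h5 : ∀ g : P, g ^ 5 = 1 → ph e g ≠ 1 → p ≠ 5 → tr (g : GL ι F) ^ p = tr (g : GL ι F) := by
    intro g hg5 hg1 _
    have h6 := five_trace_six h hK (rep P) rep_injective (fun z hz => rep_scalar e hz) h2Ω hcop
      (by rw [Module.finrank_fintype_fun_eq_card, hn]) hg5 hg1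
    rw [trace_rep, ← map_one (algebraMap F (AlgebraicClosure F))] at h6
    rw [(algebraMap F (AlgebraicClosure F)).injective h6, one_pow]
  have hcl := classify e p hC hp2 hK h (fun z hz h9 => by
    have h1 := ph_pow e hC hz
    rw [hn] at h1
    calc z ^ 3 = z ^ 9 * (z ^ 6)⁻¹ := by group
      _ = 1 := by rw [h9, h1]; group) h5
  have hodd : p % 2 = 1 := hp.out.eq_two_or_odd.resolve_left hp2
  -- scalars
  have sc : ∀ z ∈ (ph e).ker, ∀ c : F, ((z : GL ι F) : Matrix ι ι F) = c • 1 → c ^ 6 = 1 := by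
    intro z hz c hc
    have h1 := ph_pow e hC hz
    rw [hn] at h1
    have h3 : (((z ^ 6 : P) : GL ι F) : Matrix ι ι F) = (c ^ 6) • 1 := by
      rw [Subgroup.coe_pow, Units.val_pow_eq_pow_val, hc, smul_pow, one_pow]
    rw [h1] at h3
    apply smul_ext (ι := ι)
    rw [← h3, one_smul]
    rfl
  have key : ∀ g ∈ Q, ¬ p ∣ orderOf g → ∃ g' : P, ph e g = ph e g' ∧ tr (g' : GL ι F) ^ p = tr (g' : GL ι F) ∧
      tr ((g' : GL ι F)⁻¹) = tr (g' : GL ι F) := by
    intro g hg hord
    obtain ⟨g', h1, h2 | h2⟩ := hcl g hord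
    · exact ⟨g', h1, h2.2⟩
    · have h3 : ph e g = 1 := by
        have h7 : ph e g ^ 7 = 1 := by rw [h1, h2.2.1]
        have c7 : ∀ m : ℕ, ph e g ^ m = 1 → ¬ 7 ∣ m → ph e g = 1 := fun m hm hd =>
          eq_one_of_pow h7 (by norm_num) (orderOf_dvd_of_pow_eq_one hm) hd
        rcases hQ g hg with h8 | h8 | h8
        · exact c7 3 h8 (by norm_num)
        · exact c7 4 h8 (by norm_num)
        · exact c7 5 h8 (by norm_num)
      refine ⟨1, by rw [h3, map_one], ?_, ?_⟩
      · exact tr_real p (g := (1 : P)) (m := 2) (one_pow 2) (by rw [inv_one]) (Or.inl hodd) (by norm_num)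
      · exact tr_inv_real (g := (1 : P)) (by rw [inv_one])
  let Q' : Subgroup (GL ι F) := Q.map P.subtype
  have mem : ∀ g ∈ Q', ∃ k ∈ Q, (k : GL ι F) = g := fun g hg => hg
  refine ⟨?_, ?_, ?_⟩
  · intro h3
    have hfr : Fr Q' p := by
      apply Fr.of_reg' p
      intro g hg hord
      obtain ⟨k, hk, rfl⟩ := mem g hg
      obtain ⟨g', h1, h2, h4⟩ := key k hk (by rwa [← Subgroup.orderOf_coe])
      obtain ⟨z, hz, c, hc0, hc, t1, t2⟩ := tr_twist e h1
      have c6 := sc z hz c hc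
      have hcp : c ^ p = c := by
        have h6 : p = 6 * (p / 6) + 1 := by omega
        rw [h6, pow_succ, pow_mul, c6, one_pow, one_mul]
      rw [t1, mul_pow, hcp, h2]
    intro g hg
    exact hfr g ⟨g, hg, rfl⟩
  · intro h3
    have hfr : Cj Q' p := by
      apply Cj.of_reg' p
      intro g hg hord
      obtain ⟨k, hk, rfl⟩ := mem g hg
      obtain ⟨g', h1, h2, h4⟩ := key k hk (by rwa [← Subgroup.orderOf_coe])
      obtain ⟨z, hz, c, hc0, hc, t1, t2⟩ := tr_twist e h1
      have c6 := sc z hz c hc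
      have hcp : c ^ p = c⁻¹ := by
        have h6 : p = 6 * (p / 6) + 5 := by omega
        rw [h6, pow_add, pow_mul, c6, one_pow, one_mul]
        symm
        apply inv_eq_of_mul_eq_one_right
        rw [← pow_succ', c6]
      rw [t1, t2, mul_pow, hcp, h2, h4]
    intro g hg
    exact hfr g ⟨g, hg, rfl⟩
  · rintro rfl
    have c2 : ∀ z ∈ (ph e).ker, ∀ c : F, ((z : GL ι F) : Matrix ι ι F) = c • 1 → c ^ 2 = 1 := by
      intro z hz c hc
      have c6 := sc z hz c hc
      have h30 : (3 : F) = 0 := by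
        have := CharP.cast_eq_zero F 3
        exact_mod_cast this
      have h1 : (c ^ 2 - 1) ^ 3 = 0 := by
        linear_combination c6 - (c ^ 4 - c ^ 2) * h30
      exact sub_eq_zero.1 (pow_eq_zero_iff (by norm_num) |>.1 h1)
    have hfr : Fr Q' 3 := by
      apply Fr.of_reg' 3
      intro g hg hord
      obtain ⟨k, hk, rfl⟩ := mem g hg
      obtain ⟨g', h1, h2, h4⟩ := key k hk (by rwa [← Subgroup.orderOf_coe])
      obtain ⟨z, hz, c, hc0, hc, t1, t2⟩ := tr_twist e h1
      have c2' := c2 z hz c hc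
      have hcp : c ^ 3 = c := by rw [pow_succ, c2', one_mul]
      rw [t1, mul_pow, hcp, h2]
    have hsd : SD Q' := by
      apply SD.of_reg 3
      intro g hg hord
      obtain ⟨k, hk, rfl⟩ := mem g hg
      obtain ⟨g', h1, h2, h4⟩ := key k hk (by rwa [← Subgroup.orderOf_coe])
      obtain ⟨z, hz, c, hc0, hc, t1, t2⟩ := tr_twist e h1
      have c2' := c2 z hz c hc
      have hci : c⁻¹ = c := inv_eq_of_mul_eq_one_right (by rw [← pow_two, c2'])
      rw [t1, t2, hci, h4]
    intro g hg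
    exact ⟨hfr g ⟨g, hg, rfl⟩, hsd g ⟨g, hg, rfl⟩⟩

lemma range_image {Γ ι' : Type*} [Group Γ] [Fintype ι'] [DecidableEq ι'] {R : Type*} [Field R] (ρ : Γ →* Matrix ι' ι' R)
    (Q : Subgroup Γ) : Set.range (ρ.comp Q.subtype) = ρ '' Q := by
  ext M
  constructor
  · rintro ⟨q, rfl⟩
    exact ⟨q.1, q.2, rfl⟩
  · rintro ⟨q, hq, rfl⟩
    exact ⟨⟨q, hq⟩, rfl⟩

/-- **Cores with socle `PSL_3(4)` in degree six.** -/
theorem l34_six [Finite F] (p : ℕ) [hp : Fact p.Prime] [CharP F p] (hC : Core P) (hp2 : p ≠ 2)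
    (hK : Fintype.card K = 4) (hn : Fintype.card ι = 6)
    (e : Soc P ≃* Matrix.ProjectiveSpecialLinearGroup (Fin 3) K) :
    (p % 3 = 1 → Fr P p) ∧ (p % 3 = 2 → Cj P p) ∧ (p = 3 → SD P ∧ Fr P 3) := by
  have hfin : Finite P := inferInstance
  have hne := hC.nonempty
  have h := two_of e hC (by rw [hn])
  have h2Ω := two_ne (F := F) p hp2 (AlgebraicClosure F)
  have hcharΩ : CharP (AlgebraicClosure F) p := charP_of_injective_algebraMap (algebraMap F (AlgebraicClosure F)).injective p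
  have hspan := span_Bh e h hK h2Ω hn
  let Ω := AlgebraicClosure F
  let σ : Ω ≃+* Ω := frobeniusEquiv Ω p
  have hσ : ∀ x : Ω, σ x = x ^ p := fun x => rfl
  have sT : ∀ τ : Ω ≃+* Ω, Submodule.span Ω (twist τ (mrep P) '' (Bh e : Set P)) = ⊤ := by
    intro τ
    rw [← range_image] at hspan ⊢
    have h1 := span_twist τ hspan
    have h3 : twist τ ((mrep P).comp (Bh e).subtype) = (twist τ (mrep P)).comp (Bh e).subtype :=
      MonoidHom.ext fun _ => rfl
    rwa [h3] at h1
  have sC : Submodule.span Ω (contra (mrep P) '' (Bh e : Set P)) = ⊤ := by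
    rw [← range_image] at hspan ⊢
    have h1 := span_contra hspan
    have h3 : contra ((mrep P).comp (Bh e).subtype) = (contra (mrep P)).comp (Bh e).subtype :=
      MonoidHom.ext fun _ => rfl
    rwa [h3] at h1
  have tT : ∀ (τ : Ω ≃+* Ω) (g : P), (twist τ (mrep P) g).trace = τ (algebraMap F Ω (tr (g : GL ι F))) := by
    intro τ g
    rw [twist_apply, map_trace', trace_mrep]
  have tC : ∀ g : P, (contra (mrep P) g).trace = algebraMap F Ω (tr ((g : GL ι F)⁻¹)) := by
    intro g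
    rw [contra_apply, Matrix.trace_transpose, trace_mrep]
    rfl
  have inj := (algebraMap F Ω).injective
  have ha := six_sub p hC hp2 hK hn e (Ma e) (by
    rintro g ⟨x, hx, hxg⟩
    rw [← hxg]
    exact pow_cases_Pa hK hx)
  have hb := six_sub p hC hp2 hK hn e (Mb e) (by
    rintro g ⟨x, hx, hxg⟩
    rw [← hxg]
    exact pow_cases_Pb hK hx)
  refine ⟨?_, ?_, ?_⟩
  · intro h3 g hg
    have h4 := glue e hK (sT σ) hspan (fun g hg => by
      rw [tT, trace_mrep, hσ, ← map_pow, ha.1 h3 g hg]) (fun g hg => by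
      rw [tT, trace_mrep, hσ, ← map_pow, hb.1 h3 g hg]) ⟨g, hg⟩
    rw [tT, trace_mrep, hσ, ← map_pow] at h4
    exact inj h4
  · intro h3 g hg
    have h4 := glue e hK (sT σ) sC (fun g hg => by
      rw [tT, tC, hσ, ← map_pow, ha.2.1 h3 g hg]) (fun g hg => by
      rw [tT, tC, hσ, ← map_pow, hb.2.1 h3 g hg]) ⟨g, hg⟩
    rw [tT, tC, hσ, ← map_pow] at h4
    exact inj h4
  · rintro rfl
    constructor
    · intro g hg
      have h4 := glue e hK sC hspan (fun g hg => by
        rw [tC, trace_mrep, (ha.2.2 rfl g hg).2]) (fun g hg => by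
        rw [tC, trace_mrep, (hb.2.2 rfl g hg).2]) ⟨g, hg⟩
      rw [tC, trace_mrep] at h4
      exact inj h4
    · intro g hg
      have h4 := glue e hK (sT σ) hspan (fun g hg => by
        rw [tT, trace_mrep, hσ, ← map_pow, (ha.2.2 rfl g hg).1]) (fun g hg => by
        rw [tT, trace_mrep, hσ, ← map_pow, (hb.2.2 rfl g hg).1]) ⟨g, hg⟩
      rw [tT, trace_mrep, hσ, ← map_pow] at h4
      exact inj h4

end Cfsg.Agent.H906.T14
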