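import Cfsg.Agent.H906.T14SixF

/-!
# The centre of a core with socle `PSL_3(4)` in degree six
-/

set_option autoImplicit false
set_option linter.unusedSectionVars false

namespace Cfsg.Agent.H906.T14

open Cfsg Cfsg.Geo SL3Par L34 H915.LD Wt
open scoped MatrixGroups commutatorElement Matrix

universe u v

section lifted

variable {K : Type*} [Field K] [Fintype K] {L : Type*} [Group L] [Finite L]
  {φ : L →* Matrix.ProjectiveSpecialLinearGroup (Fin 3) K} (h : Two φ) (hK : Fintype.card K = 4)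
  {Ω V : Type*} [Field Ω] [IsAlgClosed Ω] [AddCommGroup V] [Module Ω V] [FiniteDimensional Ω V]
  (ρ : L →* Module.End Ω V)

include h hK in
/-- the kernel contains an involution -/
theorem six_invol (hρ : Function.Injective ρ) (hZ : ∀ z ∈ φ.ker, ∃ c : Ω, ρ z = c • 1) (h2 : (2 : Ω) ≠ 0)
    (hd : Module.finrank Ω V = 6) : ∃ z ∈ φ.ker, z ^ 2 = 1 ∧ z ≠ 1 := by
  by_contra hcon
  push Not at hcon
  obtain ⟨w, hw⟩ := exists_w hK
  obtain ⟨x, hxP, hx5, hx1, hx, -⟩ := exists_x5 hK hw
  obtain ⟨g, hg⟩ := h.surj (pj K x)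
  obtain ⟨χ₀, h1, h3, h4⟩ := six_fixed h hK ρ hρ hZ h2 hd hw hxP hx5 hx hg
  obtain ⟨y, hyP, hyP', hy3, hy⟩ := exists_y3 (K := K) hw
  obtain ⟨k, hk⟩ := h.surj (pj K y)
  obtain ⟨ψ₀, q1, q3, l, hl⟩ := three_fixed h hK ρ hZ h2 hw hyP hy3 hy hk
  have hle := six_le_one h hK ρ hρ hZ h2 hd
  have hψ0 : Module.finrank Ω (W (rs ρ (Ah h hK)) ψ₀) = 0 := by
    have h5 := hle ψ₀
    rw [hd] at hl
    omega
  -- the surjectivity of commutation with `g`
  have hs : ∀ a ∈ Ah h hK, ∃ z ∈ φ.ker, ∃ b ∈ Ah h hK, a = z * (g * b * g⁻¹ * b⁻¹) := by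
    apply comm_surj h hK hg
    intro b c
    have k2 := two_zero hK
    have hw0 : w ≠ 0 := by
      rintro rfl
      norm_num at hw
    obtain ⟨u, hu⟩ : ∃ u, w * u = b - (w + 1) * c := ⟨(b - (w + 1) * c) / w, by field_simp⟩
    refine ⟨u + c, u, ?_⟩
    rw [hx, uni_inv, uni_mul]
    congr 1
    · ring
    · linear_combination hu - c * k2
    · ring
  have hone : χ₀ = 1 := by
    have hfix := (sg_eq_self (nor_Ah h hK hxP hg)).1 h1
    ext a
    obtain ⟨z, hz, b, hb, hab⟩ := hs a.1 a.2
    have hzA : z ∈ Ah h hK := by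
      have : z = a.1 * (g * b * g⁻¹ * b⁻¹)⁻¹ := by rw [hab]; group
      rw [this]
      exact (Ah h hK).mul_mem a.2 ((Ah h hK).inv_mem ((Ah h hK).mul_mem ((nor_Ah h hK hxP hg b).1 hb) ((Ah h hK).inv_mem hb)))
    have hz1 : z = 1 := hcon z hz hzA.2
    rw [hz1, one_mul] at hab
    have e1 : a = ⟨g * b * g⁻¹, (nor_Ah h hK hxP hg b).1 hb⟩ * (⟨b, hb⟩ : Ah h hK)⁻¹ := Subtype.ext hab
    have e2 := hfix ⟨b, hb⟩
    rw [e1, map_mul, map_inv, e2, mul_inv_cancel]
    rfl
  have hne : χ₀ ≠ ψ₀ := by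
    intro h0
    rw [h0, hψ0] at h4
    exact zero_ne_one h4
  have h6 := q3 χ₀ (by
    rw [hone]
    ext a
    rw [sg_apply]
    simp) hne
  rw [h6, finrank_bot] at h4
  exact zero_ne_one h4

end lifted

variable {ι : Type} [Fintype ι] [DecidableEq ι] {F : Type u} [Field F] {P : Subgroup (GL ι F)}
  {K : Type v} [Field K] [Fintype K]

/-- the scalars of a core: the order divides the degree -/
theorem card_scalars_dvd_card [Finite F] (hC : Core P) :
    Nat.card ((scalars ι F).subgroupOf P) ∣ Fintype.card ι := by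
  have hne := hC.nonempty
  have key : ∀ z : (scalars ι F).subgroupOf P, ∃ c : Fˣ, ((z : GL ι F) : Matrix ι ι F) = (c : F) • 1 := by
    rintro ⟨z, hz⟩
    rw [Subgroup.mem_subgroupOf, mem_scalars_iff] at hz
    exact hz
  choose f hf using key
  let φ : (scalars ι F).subgroupOf P →* F :=
    { toFun := fun z => f z
      map_one' := by
        apply smul_ext (ι := ι)
        rw [← hf, one_smul]
        rfl
      map_mul' := fun a b => by
        apply smul_ext (ι := ι)
        rw [← hf]
        change (((a : P) : GL ι F) : Matrix ι ι F) * (((b : P) : GL ι F) : Matrix ι ι F) = _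
        rw [hf a, hf b, smul_mul_smul_comm, mul_one] }
  have hφ : Function.Injective φ := by
    intro a b hab
    apply Subtype.ext
    apply Subtype.ext
    apply Units.ext
    rw [hf a, hf b]
    change φ a • _ = φ b • _
    rw [hab]
  have hcyc : IsCyclic ((scalars ι F).subgroupOf P) := isCyclic_of_subgroup_isDomain φ hφ
  rw [← IsCyclic.exponent_eq_card]
  apply Monoid.exponent_dvd_of_forall_pow_eq_one
  rintro ⟨z, hz⟩
  apply Subtype.ext
  exact hC.pow_card hz

/-- the order of the centre in degree six -/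
theorem six_center [Finite F] (p : ℕ) [hp : Fact p.Prime] [CharP F p] (hC : Core P) (hp2 : p ≠ 2)
    (hK : Fintype.card K = 4) (hn : Fintype.card ι = 6)
    (e : Soc P ≃* Matrix.ProjectiveSpecialLinearGroup (Fin 3) K) :
    (p ≠ 3 → Nat.card ((scalars ι F).subgroupOf P) = 6) ∧ (p = 3 → Nat.card ((scalars ι F).subgroupOf P) = 2) := by
  have hfin : Finite P := inferInstance
  have hne := hC.nonempty
  have h := two_of e hC (by rw [hn])
  have h2Ω := two_ne (F := F) p hp2 (AlgebraicClosure F)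
  have hdvd := card_scalars_dvd_card hC
  rw [hn] at hdvd
  have h2 : 2 ∣ Nat.card ((scalars ι F).subgroupOf P) := by
    obtain ⟨z, hz, hz2, hz1⟩ := six_invol h hK (rep P) rep_injective (fun z hz => rep_scalar e hz) h2Ω
      (by rw [Module.finrank_fintype_fun_eq_card, hn])
    rw [ker_comp e] at hz
    have h3 : orderOf (⟨z, hz⟩ : (scalars ι F).subgroupOf P) = 2 :=
      orderOf_eq_prime (Subtype.ext hz2) (fun h0 => hz1 (congrArg Subtype.val h0))
    rw [← h3]
    exact orderOf_dvd_natCard _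
  constructor
  · intro hp3
    have h3F : (3 : F) ≠ 0 := by
      intro h0
      have h2 : ((3 : ℕ) : F) = 0 := by exact_mod_cast h0
      rw [CharP.cast_eq_zero_iff F p] at h2
      exact hp3 ((Nat.prime_dvd_prime_iff_eq hp.out Nat.prime_three).1 h2)
    have h3 : 3 ∣ Nat.card ((scalars ι F).subgroupOf P) := by
      by_contra hnd
      have h8 := eight_le_perfect hC.perfect h3F hK e ((Nat.Prime.coprime_iff_not_dvd Nat.prime_three).2 hnd).symm
      omega
    have h6 : 6 ∣ Nat.card ((scalars ι F).subgroupOf P) := by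
      have : (2 : ℕ).Coprime 3 := by norm_num
      exact this.mul_dvd_of_dvd_of_dvd h2 h3
    exact Nat.dvd_antisymm hdvd h6
  · rintro rfl
    have h3 : ¬ 3 ∣ Nat.card ((scalars ι F).subgroupOf P) := by
      intro h3
      obtain ⟨z, hz⟩ := exists_prime_orderOf_dvd_card' (G := (scalars ι F).subgroupOf P) 3 h3
      have hz' := z.2
      rw [Subgroup.mem_subgroupOf, mem_scalars_iff] at hz'
      obtain ⟨c, hc⟩ := hz'
      have hz3 : z ^ 3 = 1 := by rw [← hz, pow_orderOf_eq_one]
      have h4 : ((((z ^ 3 : (scalars ι F).subgroupOf P) : P) : GL ι F) : Matrix ι ι F) = ((c : F) ^ 3) • 1 := by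
        rw [Subgroup.coe_pow, Subgroup.coe_pow, Units.val_pow_eq_pow_val, hc, smul_pow, one_pow]
      rw [hz3] at h4
      have h5 : ((c : F) ^ 3) = 1 := by
        apply smul_ext (ι := ι)
        rw [← h4, one_smul]
        rfl
      have h30 : (3 : F) = 0 := by
        have := CharP.cast_eq_zero F 3
        exact_mod_cast this
      have h6 : ((c : F) - 1) ^ 3 = 0 := by linear_combination h5 + ((c : F) - (c : F) ^ 2) * h30
      have h7 : (c : F) = 1 := sub_eq_zero.1 (pow_eq_zero_iff (by norm_num) |>.1 h6)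
      have h8 : z = 1 := by
        apply Subtype.ext
        apply Subtype.ext
        apply Units.ext
        rw [hc, h7, one_smul]
        rfl
      rw [h8, orderOf_one] at hz
      norm_num at hz
    have h4 : Nat.card ((scalars ι F).subgroupOf P) ∈ Nat.divisors 6 := Nat.mem_divisors.2 ⟨hdvd, by norm_num⟩
    have h5 : Nat.divisors 6 = {1, 2, 3, 6} := by decide
    rw [h5] at h4
    simp only [Finset.mem_insert, Finset.mem_singleton] at h4
    rcases h4 with h4 | h4 | h4 | h4 <;> rw [h4] at h2 h3 ⊢ <;> omega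

end Cfsg.Agent.H906.T14
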