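import Cfsg.Agent.H906.Cover

/-!
# Central elements of prime order and transfer (helper906)
-/

set_option autoImplicit false
set_option linter.unusedSectionVars false

namespace Cfsg.Agent.H906

open Cfsg Cfsg.Geo
open scoped MatrixGroups Matrix commutatorElement

/-- If `G` is perfect and `G / Z` (`Z` central) has a cyclic subgroup of index prime to `ℓ` then `Z` has no
element of order `ℓ`. -/
theorem central_eq_one {G : Type*} [Group G] [Finite G] (hperf : commutator G = ⊤) (Z : Subgroup G)
    [Z.Normal] (hZ : Z ≤ Subgroup.center G) (C : Subgroup (G ⧸ Z)) (hC : IsCyclic C) (ℓ : ℕ)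
    (hℓ : ℓ.Prime) (hidx : ¬ ℓ ∣ C.index) (z : G) (hz : z ∈ Z) (hz1 : z ^ ℓ = 1) : z = 1 := by
  classical
  set A : Subgroup G := C.comap (QuotientGroup.mk' Z) with hA
  let f : A →* C := ((QuotientGroup.mk' Z).comp A.subtype).codRestrict C (fun x => x.2)
  have hcomm : ∀ a b : A, a * b = b * a := by
    apply commutative_of_cyclic_center_quotient f
    intro x hx
    have h1 : QuotientGroup.mk' Z (x : G) = 1 := congrArg Subtype.val (MonoidHom.mem_ker.1 hx)
    have h2 : (x : G) ∈ Z := (QuotientGroup.eq_one_iff _).1 h1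
    rw [Subgroup.mem_center_iff]
    intro y
    apply Subtype.ext
    exact (Subgroup.mem_center_iff.1 (hZ h2)) y
  letI : CommGroup A := { (inferInstance : Group A) with mul_comm := hcomm }
  have hidx' : A.index = C.index := by
    rw [hA, Subgroup.index_comap_of_surjective _ (QuotientGroup.mk'_surjective Z)]
  have hzc := Subgroup.mem_center_iff.1 (hZ hz)
  have key : ∀ (k : ℕ) (g₀ : G), g₀⁻¹ * z ^ k * g₀ ∈ A → g₀⁻¹ * z ^ k * g₀ = z ^ k := by
    intro k g₀ _
    have h1 : g₀ * z ^ k = z ^ k * g₀ := by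
      have : Commute g₀ z := hzc g₀
      exact this.pow_right k
    rw [mul_assoc, ← h1, inv_mul_cancel_left]
  have h1 := MonoidHom.transfer_eq_pow (MonoidHom.id A) z key
  have h2 : MonoidHom.transfer (MonoidHom.id A) z = 1 := by
    have h3 : commutator G ≤ (MonoidHom.transfer (MonoidHom.id A)).ker :=
      Abelianization.commutator_subset_ker _
    rw [hperf] at h3
    exact h3 trivial
  rw [h2] at h1
  have h3 : z ^ A.index = 1 := (congrArg Subtype.val h1).symm
  rw [hidx'] at h3
  have h4 := orderOf_dvd_of_pow_eq_one h3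
  have h5 := orderOf_dvd_of_pow_eq_one hz1
  rcases (Nat.dvd_prime hℓ).1 h5 with h6 | h6
  · exact orderOf_eq_one_iff.1 h6
  · rw [h6] at h4
    exact absurd h4 hidx

section

variable {F : Type*} [Field F] {P : Subgroup (GL (Fin 3) F)}

lemma commutator_eq_top_of_bracket {G : Type*} [Group G] {P : Subgroup G} (hperf : ⁅P, P⁆ = P) :
    commutator P = ⊤ := by
  apply Subgroup.map_injective P.subtype_injective
  rw [commutator_def, Subgroup.map_commutator, ← MonoidHom.range_eq_map, Subgroup.range_subtype,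
    hperf]

/-- A perfect subgroup has determinant one. -/
lemma le_specialLinear (hperf : ⁅P, P⁆ = P) : P ≤ specialLinear (Fin 3) F := by
  rw [← hperf, Subgroup.commutator_le]
  intro a _ b _
  change Matrix.GeneralLinearGroup.det ⁅a, b⁆ = 1
  rw [map_commutatorElement, commutatorElement_def, mul_comm (Matrix.GeneralLinearGroup.det a)]
  group

lemma scalar_pow_three (hdet : P ≤ specialLinear (Fin 3) F) {g : GL (Fin 3) F} (hg : g ∈ P)
    (hs : g ∈ scalars (Fin 3) F) : g ^ 3 = 1 := by
  obtain ⟨c, hc⟩ := (mem_scalars_iff _).1 hs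
  have h1 : Matrix.GeneralLinearGroup.det g = 1 := hdet hg
  have h2 : (g : Matrix (Fin 3) (Fin 3) F).det = 1 := congrArg Units.val h1
  rw [hc, Matrix.det_smul, Matrix.det_one, mul_one, Fintype.card_fin] at h2
  apply Units.ext
  rw [Units.val_pow_eq_pow_val, hc, smul_pow, one_pow, h2, one_smul]
  rfl

lemma scalars_le_center : (scalars (Fin 3) F).subgroupOf P ≤ Subgroup.center P := by
  intro z hz
  rw [Subgroup.mem_center_iff]
  intro g
  apply Subtype.ext
  apply Units.ext
  obtain ⟨c, hc⟩ := (mem_scalars_iff _).1 (Subgroup.mem_subgroupOf.1 hz)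
  change (g : GL (Fin 3) F).1 * (z : GL (Fin 3) F).1 = (z : GL (Fin 3) F).1 * (g : GL (Fin 3) F).1
  rw [hc, Matrix.mul_smul, Matrix.smul_mul, Matrix.mul_one, Matrix.one_mul]

/-- In characteristic three a perfect group contains no scalars. -/
lemma scalar_eq_one_of_char_three [CharP F 3] (hdet : P ≤ specialLinear (Fin 3) F)
    {g : GL (Fin 3) F} (hg : g ∈ P) (hs : g ∈ scalars (Fin 3) F) : g = 1 := by
  have h1 := scalar_pow_three hdet hg hs
  obtain ⟨c, hc⟩ := (mem_scalars_iff _).1 hs
  have h2 := congrArg (fun z : GL (Fin 3) F => (z : Matrix (Fin 3) (Fin 3) F) 0 0) h1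
  simp only [Units.val_pow_eq_pow_val, hc, smul_pow, one_pow, Units.val_one, Matrix.smul_apply,
    Matrix.one_apply_eq, smul_eq_mul, mul_one] at h2
  have h3 : ((c : F) - 1) ^ 3 = 0 := by
    have : Fact (Nat.Prime 3) := ⟨Nat.prime_three⟩
    rw [sub_pow_char, h2, one_pow, sub_self]
  have h4 : (c : F) = 1 := sub_eq_zero.1 (pow_eq_zero_iff three_ne_zero |>.1 h3)
  apply Units.ext
  rw [hc, h4, one_smul]
  rfl

/-- **No scalars** when the simple quotient has a cyclic subgroup of index prime to three. -/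
theorem scalar_eq_one_of_cyclic [Finite F] (hperf : ⁅P, P⁆ = P) {Γ : Type*} [Group Γ]
    (Φ : (P ⧸ (scalars (Fin 3) F).subgroupOf P) ≃* Γ) (C : Subgroup Γ) (hC : IsCyclic C)
    (hidx : ¬ 3 ∣ C.index) {g : GL (Fin 3) F} (hg : g ∈ P) (hs : g ∈ scalars (Fin 3) F) : g = 1 := by
  have hfinG : Finite (GL (Fin 3) F) := inferInstance
  have h1 := central_eq_one (commutator_eq_top_of_bracket hperf) _ scalars_le_center
    (C.comap Φ.toMonoidHom) (by
      have e : (C.comap Φ.toMonoidHom : Subgroup _) ≃* C :=
        { toFun := fun x => ⟨Φ x, x.2⟩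
          invFun := fun x => ⟨Φ.symm x, by
            change Φ (Φ.symm x) ∈ C
            rw [MulEquiv.apply_symm_apply]; exact x.2⟩
          left_inv := fun x => Subtype.ext (Φ.symm_apply_apply _)
          right_inv := fun x => Subtype.ext (Φ.apply_symm_apply _)
          map_mul' := fun x y => Subtype.ext (map_mul Φ _ _) }
      exact isCyclic_of_surjective e.symm e.symm.surjective) 3 Nat.prime_three (by
      rw [Subgroup.index_comap_of_surjective _ Φ.surjective]
      exact hidx) ⟨g, hg⟩ (Subgroup.mem_subgroupOf.2 hs)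
    (Subtype.ext (scalar_pow_three (le_specialLinear hperf) hg hs))
  exact congrArg Subtype.val h1

end

end Cfsg.Agent.H906
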