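import Cfsg.Agent.H906.WeightsF
import Cfsg.Agent.H906.ZLemma

/-!
# Projective tools: commutator scalars of lifts (helper906)
-/

set_option autoImplicit false
set_option linter.unusedSectionVars false

namespace Cfsg.Agent.H906

open Cfsg Cfsg.Geo
open scoped MatrixGroups Matrix

variable {F : Type*} [Field F] {P : Subgroup (GL (Fin 3) F)} {Γ : Type*} [Group Γ]

/-- The projection of `P` to `Γ ≃ P / scalars`. -/
def pr (Φ : (P ⧸ (scalars (Fin 3) F).subgroupOf P) ≃* Γ) : P →* Γ :=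
  Φ.toMonoidHom.comp (QuotientGroup.mk' _)

variable (Φ : (P ⧸ (scalars (Fin 3) F).subgroupOf P) ≃* Γ)

lemma pr_surjective : Function.Surjective (pr Φ) := Φ.surjective.comp (QuotientGroup.mk'_surjective _)

lemma pr_eq_one {x : P} : pr Φ x = 1 ↔ (x : GL (Fin 3) F) ∈ scalars (Fin 3) F := by
  have h1 : pr Φ x = 1 ↔ (QuotientGroup.mk x : P ⧸ (scalars (Fin 3) F).subgroupOf P) = 1 := by
    change Φ (QuotientGroup.mk x) = 1 ↔ _
    rw [map_eq_one_iff Φ Φ.injective]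
  rw [h1, QuotientGroup.eq_one_iff, Subgroup.mem_subgroupOf]

/-- The lifts of `e` and `f` satisfy `a b = c b a`. -/
def Br (e f : Γ) (c : Fˣ) : Prop := ∀ a b : P, pr Φ a = e → pr Φ b = f →
  (((a : GL (Fin 3) F) * b : GL (Fin 3) F) : Matrix (Fin 3) (Fin 3) F) =
    (c : F) • (((b : GL (Fin 3) F) * a : GL (Fin 3) F) : Matrix (Fin 3) (Fin 3) F)

variable {Φ}

lemma smul_GL_inj {c c' : Fˣ} {g : GL (Fin 3) F}
    (h : (c : F) • (g : Matrix (Fin 3) (Fin 3) F) = (c' : F) • (g : Matrix (Fin 3) (Fin 3) F)) : c = c' := by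
  have h1 := congrArg (fun M => M * ((g⁻¹ : GL (Fin 3) F) : Matrix (Fin 3) (Fin 3) F)) h
  simp only [Matrix.smul_mul] at h1
  rw [← Units.val_mul, mul_inv_cancel, Units.val_one] at h1
  have h2 := congrFun (congrFun h1 0) 0
  simp only [Matrix.smul_apply, Matrix.one_apply_eq, smul_eq_mul, mul_one] at h2
  exact Units.ext h2

lemma Br.unique {e f : Γ} {c c' : Fˣ} (h : Br Φ e f c) (h' : Br Φ e f c') : c = c' := by
  obtain ⟨a, ha⟩ := pr_surjective Φ e
  obtain ⟨b, hb⟩ := pr_surjective Φ f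
  have h1 := h a b ha hb
  have h2 := h' a b ha hb
  rw [h1] at h2
  exact smul_GL_inj h2

/-- The relation may be checked on one pair of lifts. -/
lemma Br.of_exists {e f : Γ} {c : Fˣ} (a b : P) (ha : pr Φ a = e) (hb : pr Φ b = f)
    (h : (((a : GL (Fin 3) F) * b : GL (Fin 3) F) : Matrix (Fin 3) (Fin 3) F) =
      (c : F) • (((b : GL (Fin 3) F) * a : GL (Fin 3) F) : Matrix (Fin 3) (Fin 3) F)) : Br Φ e f c := by
  intro a' b' ha' hb'
  have h1 : pr Φ (a⁻¹ * a') = 1 := by rw [map_mul, map_inv, ha, ha', inv_mul_cancel]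
  have h2 : pr Φ (b⁻¹ * b') = 1 := by rw [map_mul, map_inv, hb, hb', inv_mul_cancel]
  obtain ⟨s, hs⟩ := (mem_scalars_iff _).1 ((pr_eq_one Φ).1 h1)
  obtain ⟨t, ht⟩ := (mem_scalars_iff _).1 ((pr_eq_one Φ).1 h2)
  have h3 : ((a' : GL (Fin 3) F) : Matrix (Fin 3) (Fin 3) F) = (s : F) • ((a : GL (Fin 3) F) : Matrix (Fin 3) (Fin 3) F) := by
    have : a' = a * (a⁻¹ * a') := by group
    conv_lhs => rw [this]
    rw [Subgroup.coe_mul, Units.val_mul, hs, Matrix.mul_smul, Matrix.mul_one]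
  have h4 : ((b' : GL (Fin 3) F) : Matrix (Fin 3) (Fin 3) F) = (t : F) • ((b : GL (Fin 3) F) : Matrix (Fin 3) (Fin 3) F) := by
    have : b' = b * (b⁻¹ * b') := by group
    conv_lhs => rw [this]
    rw [Subgroup.coe_mul, Units.val_mul, ht, Matrix.mul_smul, Matrix.mul_one]
  rw [Units.val_mul, Units.val_mul] at h ⊢
  rw [h3, h4]
  simp only [Matrix.mul_smul, Matrix.smul_mul]
  rw [h]
  simp only [smul_smul]
  congr 1
  ring

lemma Br.exists_of_comm {e f : Γ} (h : e * f = f * e) : ∃ c : Fˣ, Br Φ e f c := by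
  obtain ⟨a, ha⟩ := pr_surjective Φ e
  obtain ⟨b, hb⟩ := pr_surjective Φ f
  have h1 : pr Φ (a * b * (b * a)⁻¹) = 1 := by
    rw [map_mul, map_inv, map_mul, map_mul, ha, hb, h, mul_inv_cancel]
  obtain ⟨s, hs⟩ := (mem_scalars_iff _).1 ((pr_eq_one Φ).1 h1)
  refine ⟨s, Br.of_exists a b ha hb ?_⟩
  have h2 : (a : GL (Fin 3) F) * b = (a * b * (b * a)⁻¹ : P) * ((b : GL (Fin 3) F) * a) := by
    push_cast
    group
  rw [h2, Units.val_mul, hs, Matrix.smul_mul, Matrix.one_mul]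

lemma Br.mul_left {e e' f : Γ} {c c' : Fˣ} (h : Br Φ e f c) (h' : Br Φ e' f c') :
    Br Φ (e * e') f (c * c') := by
  obtain ⟨a, ha⟩ := pr_surjective Φ e
  obtain ⟨a', ha'⟩ := pr_surjective Φ e'
  obtain ⟨b, hb⟩ := pr_surjective Φ f
  refine Br.of_exists (a * a') b (by rw [map_mul, ha, ha']) hb ?_
  have h1 := h a b ha hb
  have h2 := h' a' b ha' hb
  rw [Units.val_mul, Units.val_mul] at h1 h2
  rw [Subgroup.coe_mul, Units.val_mul, Units.val_mul, Units.val_mul, Units.val_mul, Units.val_mul,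
    Matrix.mul_assoc, h2, Matrix.mul_smul, ← Matrix.mul_assoc, h1, Matrix.smul_mul, smul_smul,
    Matrix.mul_assoc, mul_comm (c' : F)]

lemma Br.symm {e f : Γ} {c : Fˣ} (h : Br Φ e f c) : Br Φ f e c⁻¹ := by
  intro b a hb ha
  have h1 := h a b ha hb
  rw [h1, smul_smul, Units.inv_mul, one_smul]

lemma Br.one_left (f : Γ) : Br Φ 1 f 1 := by
  obtain ⟨b, hb⟩ := pr_surjective Φ f
  refine Br.of_exists 1 b (map_one _) hb ?_
  rw [Units.val_one, one_smul, Subgroup.coe_one, one_mul, mul_one]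

lemma Br.self (e : Γ) : Br Φ e e 1 := by
  obtain ⟨a, ha⟩ := pr_surjective Φ e
  refine Br.of_exists a a ha ha ?_
  rw [Units.val_one, one_smul]

lemma Br.inv_left {e f : Γ} {c : Fˣ} (h : Br Φ e f c) : Br Φ e⁻¹ f c⁻¹ := by
  have hcomm : e⁻¹ * f = f * e⁻¹ := by
    obtain ⟨a, ha⟩ := pr_surjective Φ e
    obtain ⟨b, hb⟩ := pr_surjective Φ f
    have h1 := h a b ha hb
    have h2 : pr Φ (a * b * (b * a)⁻¹) = 1 := by
      rw [pr_eq_one, mem_scalars_iff]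
      refine ⟨c, ?_⟩
      rw [Subgroup.coe_mul, Units.val_mul, Subgroup.coe_mul, h1, Matrix.smul_mul, ← Units.val_mul]
      congr 1
      rw [Subgroup.coe_inv, Subgroup.coe_mul, mul_inv_cancel, Units.val_one]
    have h3 : e * f = f * e := by
      rw [map_mul, map_inv, map_mul, map_mul, ha, hb] at h2
      exact mul_inv_eq_one.1 h2
    calc e⁻¹ * f = e⁻¹ * (f * e) * e⁻¹ := by group
      _ = e⁻¹ * (e * f) * e⁻¹ := by rw [h3]
      _ = f * e⁻¹ := by group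
  obtain ⟨c', hc'⟩ := Br.exists_of_comm (Φ := Φ) hcomm
  have h1 := h.mul_left hc'
  rw [mul_inv_cancel] at h1
  have h2 := h1.unique (Br.one_left f)
  have h3 : c' = c⁻¹ := eq_inv_of_mul_eq_one_right h2
  rwa [h3] at hc'

lemma Br.pow_left {e f : Γ} {c : Fˣ} (h : Br Φ e f c) (n : ℕ) : Br Φ (e ^ n) f (c ^ n) := by
  induction n with
  | zero => rw [pow_zero, pow_zero]; exact Br.one_left f
  | succ n ih => rw [pow_succ, pow_succ]; exact ih.mul_left h

lemma Br.mul_right {e f f' : Γ} {c c' : Fˣ} (h : Br Φ e f c) (h' : Br Φ e f' c') :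
    Br Φ e (f * f') (c * c') := by
  have h1 := (h.symm.mul_left h'.symm).symm
  rwa [mul_inv_rev, inv_inv, inv_inv, mul_comm] at h1

lemma Br.inv_right {e f : Γ} {c : Fˣ} (h : Br Φ e f c) : Br Φ e f⁻¹ c⁻¹ := by
  have h1 := h.symm.inv_left.symm
  rwa [inv_inv] at h1

lemma Br.pow_right {e f : Γ} {c : Fˣ} (h : Br Φ e f c) (n : ℕ) : Br Φ e (f ^ n) (c ^ n) := by
  have h1 := (h.symm.pow_left n).symm
  rwa [inv_pow, inv_inv] at h1

lemma Br.conj {e f : Γ} {c : Fˣ} (h : Br Φ e f c) (g : Γ) : Br Φ (g * e * g⁻¹) (g * f * g⁻¹) c := by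
  obtain ⟨a, ha⟩ := pr_surjective Φ e
  obtain ⟨b, hb⟩ := pr_surjective Φ f
  obtain ⟨s, hs⟩ := pr_surjective Φ g
  refine Br.of_exists (s * a * s⁻¹) (s * b * s⁻¹) (by rw [map_mul, map_mul, map_inv, hs, ha])
    (by rw [map_mul, map_mul, map_inv, hs, hb]) ?_
  have h1 := h a b ha hb
  have e1 : (((s * a * s⁻¹ : P) : GL (Fin 3) F) * (s * b * s⁻¹ : P)) =
      (s : GL (Fin 3) F) * ((a : GL (Fin 3) F) * b) * (s : GL (Fin 3) F)⁻¹ := by
    push_cast
    group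
  have e2 : (((s * b * s⁻¹ : P) : GL (Fin 3) F) * (s * a * s⁻¹ : P)) =
      (s : GL (Fin 3) F) * ((b : GL (Fin 3) F) * a) * (s : GL (Fin 3) F)⁻¹ := by
    push_cast
    group
  rw [e1, e2, Units.val_mul (s * (a * b) : GL (Fin 3) F), Units.val_mul (s : GL (Fin 3) F), h1, Matrix.mul_smul,
    Matrix.smul_mul, ← Units.val_mul, ← Units.val_mul]

/-- The commutator scalars are cube roots of one. -/
lemma Br.pow_three {e f : Γ} {c : Fˣ} (h : Br Φ e f c) : c ^ 3 = 1 := by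
  obtain ⟨a, ha⟩ := pr_surjective Φ e
  obtain ⟨b, hb⟩ := pr_surjective Φ f
  have h1 := congrArg Matrix.det (h a b ha hb)
  rw [Matrix.det_smul, Fintype.card_fin, Units.val_mul, Units.val_mul, Matrix.det_mul, Matrix.det_mul,
    mul_comm] at h1
  have h2 : ((b : GL (Fin 3) F) : Matrix (Fin 3) (Fin 3) F).det * ((a : GL (Fin 3) F) : Matrix (Fin 3) (Fin 3) F).det ≠ 0 := by
    rw [← Matrix.det_mul, ← Units.val_mul]
    exact ((Matrix.isUnit_iff_isUnit_det _).1 (Units.isUnit _)).ne_zero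
  apply Units.ext
  rw [Units.val_pow_eq_pow_val, Units.val_one]
  have h3 : ((c : F) ^ 3 - 1) * (((b : GL (Fin 3) F) : Matrix (Fin 3) (Fin 3) F).det *
      ((a : GL (Fin 3) F) : Matrix (Fin 3) (Fin 3) F).det) = 0 := by
    rw [sub_mul, one_mul, ← h1, sub_self]
  exact sub_eq_zero.1 ((mul_eq_zero.1 h3).resolve_right h2)

lemma Br.eq_one_of_pow {e f : Γ} {c : Fˣ} (h : Br Φ e f c) {n : ℕ} (hn : n.Coprime 3) (he : e ^ n = 1) :
    c = 1 := by
  have h1 := h.pow_left n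
  rw [he] at h1
  have h2 : c ^ n = 1 := h1.unique (Br.one_left f)
  have h3 := h.pow_three
  have h4 : orderOf c ∣ Nat.gcd n 3 := Nat.dvd_gcd (orderOf_dvd_of_pow_eq_one h2) (orderOf_dvd_of_pow_eq_one h3)
  rw [hn] at h4
  exact orderOf_eq_one_iff.1 (Nat.dvd_one.1 h4)

lemma Br.comm_of_one {e f : Γ} (h : Br Φ e f 1) {a b : P} (ha : pr Φ a = e) (hb : pr Φ b = f) :
    (a : GL (Fin 3) F) * b = b * a := by
  apply Units.ext
  have := h a b ha hb
  rwa [Units.val_one, one_smul] at this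

/-- `f ↦` the lifts of `e` and `f` commute: a subgroup. -/
def brSub (Φ : (P ⧸ (scalars (Fin 3) F).subgroupOf P) ≃* Γ) (e : Γ) : Subgroup Γ where
  carrier := {f | Br Φ e f 1}
  mul_mem' {a b} ha hb := by
    have := Br.mul_right (Φ := Φ) ha hb
    rwa [one_mul] at this
  one_mem' := by
    have := (Br.one_left (Φ := Φ) e).symm
    rwa [inv_one] at this
  inv_mem' {a} ha := by
    have := Br.inv_right (Φ := Φ) ha
    rwa [inv_one] at this

lemma mem_brSub {e f : Γ} : f ∈ brSub Φ e ↔ Br Φ e f 1 := Iff.rfl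

/-- Lifts of the elements of `closure S` commute if those of `S` do. -/
lemma br_closure {S : Set Γ} (h : ∀ s ∈ S, ∀ t ∈ S, Br Φ s t 1) :
    ∀ s ∈ Subgroup.closure S, ∀ t ∈ Subgroup.closure S, Br Φ s t 1 := by
  have h1 : ∀ s ∈ S, ∀ t ∈ Subgroup.closure S, Br Φ s t 1 := fun s hs t ht =>
    (Subgroup.closure_le (brSub Φ s)).2 (fun t ht => h s hs t ht) ht
  intro s hs t ht
  have h2 : s ∈ brSub Φ t := (Subgroup.closure_le (brSub Φ t)).2 (fun u hu => by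
    have := (h1 u hu t ht).symm
    rwa [inv_one] at this) hs
  have := (mem_brSub.1 h2).symm
  rwa [inv_one] at this

/-- The preimage in `GL₃` of a subgroup of `Γ`. -/
def pre (Φ : (P ⧸ (scalars (Fin 3) F).subgroupOf P) ≃* Γ) (E : Subgroup Γ) : Subgroup (GL (Fin 3) F) :=
  (E.comap (pr Φ)).map P.subtype

lemma mem_pre {E : Subgroup Γ} {g : GL (Fin 3) F} : g ∈ pre Φ E ↔ ∃ a : P, pr Φ a ∈ E ∧ (a : GL (Fin 3) F) = g :=
  Iff.rfl

lemma pre_comm {E : Subgroup Γ} (h : ∀ s ∈ E, ∀ t ∈ E, Br Φ s t 1) :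
    ∀ a ∈ pre Φ E, ∀ b ∈ pre Φ E, a * b = b * a := by
  rintro _ ⟨a, ha, rfl⟩ _ ⟨b, hb, rfl⟩
  exact (h _ ha _ hb).comm_of_one rfl rfl

/-- An exponent of the scalars of `P` which is invertible in `F`. -/
lemma exists_scalar_exp (hdet : P ≤ specialLinear (Fin 3) F) :
    ∃ d : ℕ, (d : F) ≠ 0 ∧ ∀ g ∈ P, g ∈ scalars (Fin 3) F → g ^ d = 1 := by
  by_cases h3 : (3 : F) = 0
  · have h3' : ((3 : ℕ) : F) = 0 := by exact_mod_cast h3
    have hchar : CharP F 3 := by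
      have h5 : ringChar F ∣ 3 := (ringChar.spec F 3).1 h3'
      rcases (Nat.dvd_prime Nat.prime_three).1 h5 with h | h
      · exfalso
        have h6 := ringChar.charP F
        rw [h] at h6
        exact CharP.ringChar_ne_one (R := F) h
      · rw [← h]; exact ringChar.charP F
    refine ⟨1, by simp, fun g hg hs => ?_⟩
    rw [pow_one]
    exact scalar_eq_one_of_char_three hdet hg hs
  · exact ⟨3, by exact_mod_cast h3, fun g hg hs => scalar_pow_three hdet hg hs⟩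

/-- Elements of `pre E` are semisimple if `E` has exponent invertible in `F`. -/
lemma pre_semisimple (hdet : P ≤ specialLinear (Fin 3) F) {E : Subgroup Γ} {n : ℕ} (hn : (n : F) ≠ 0)
    (hE : ∀ e ∈ E, e ^ n = 1) : ∀ a ∈ pre Φ E, ∃ n : ℕ, (n : F) ≠ 0 ∧ a ^ n = 1 := by
  obtain ⟨d, hd, hdP⟩ := exists_scalar_exp hdet
  rintro _ ⟨a, ha, rfl⟩
  refine ⟨n * d, by rw [Nat.cast_mul]; exact mul_ne_zero hn hd, ?_⟩
  have h1 : pr Φ (a ^ n) = 1 := by rw [map_pow]; exact hE _ ha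
  rw [pow_mul]
  exact hdP _ (P.pow_mem a.2 n) ((pr_eq_one Φ).1 h1)

/-- **An element of `Γ` normalising an abelian `p'`-subgroup with commuting lifts**: its square or its
cube centralises the subgroup. -/
theorem sq_or_cube_br (hdet : P ≤ specialLinear (Fin 3) F) {E : Subgroup Γ} (h : ∀ s ∈ E, ∀ t ∈ E, Br Φ s t 1)
    {n : ℕ} (hn : (n : F) ≠ 0) (hE : ∀ e ∈ E, e ^ n = 1) {g : Γ} (hg : ∀ e ∈ E, g * e * g⁻¹ ∈ E)
    (hg' : ∀ e ∈ E, g⁻¹ * e * g ∈ E) :
    (∀ e ∈ E, g ^ 2 * e = e * g ^ 2) ∨ (∀ e ∈ E, g ^ 3 * e = e * g ^ 3) := by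
  obtain ⟨s, hs⟩ := pr_surjective Φ g
  have h1 := sq_or_cube (pre_comm h) (pre_semisimple hdet hn hE) (g := (s : GL (Fin 3) F)) (by
    rintro _ ⟨a, ha, rfl⟩
    refine ⟨s * a * s⁻¹, ?_, rfl⟩
    change pr Φ (s * a * s⁻¹) ∈ E
    rw [map_mul, map_mul, map_inv, hs]
    exact hg _ ha) (by
    rintro _ ⟨a, ha, rfl⟩
    refine ⟨s⁻¹ * a * s, ?_, rfl⟩
    change pr Φ (s⁻¹ * a * s) ∈ E
    rw [map_mul, map_mul, map_inv, hs]
    exact hg' _ ha)
  have key : ∀ k : ℕ, (∀ a ∈ pre Φ E, (s : GL (Fin 3) F) ^ k * a = a * (s : GL (Fin 3) F) ^ k) →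
      ∀ e ∈ E, g ^ k * e = e * g ^ k := by
    intro k hk e he
    obtain ⟨a, rfl⟩ := pr_surjective Φ e
    have h2 := hk a ⟨a, he, rfl⟩
    have h3 : s ^ k * a = a * s ^ k := Subtype.ext h2
    have h4 := congrArg (pr Φ) h3
    rwa [map_mul, map_mul, map_pow, hs] at h4
  exact h1.imp (key 2) (key 3)

end Cfsg.Agent.H906
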