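import Cfsg.Agent.H906.CoreFinal
import Cfsg.Agent.H856.A7Tr

/-!
# The residual core in dimension three (helper906; A₇ by helper856)
-/

set_option autoImplicit false
set_option linter.unusedSectionVars false

namespace Cfsg.Agent.H906

open Cfsg Cfsg.Geo
open scoped MatrixGroups Matrix

universe u

variable {F : Type u} [Field F] {P : Subgroup (GL (Fin 3) F)}

/-- **The core list in dimension three.** -/
theorem core3 [Finite F] (hP : ActsAbsolutelyIrreducibly (matrixSet P)) (hperf : ⁅P, P⁆ = P)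
    (hsimp : IsSimpleGroup (P ⧸ (scalars (Fin 3) F).subgroupOf P))
    (hnab : ¬ IsMulCommutative (P ⧸ (scalars (Fin 3) F).subgroupOf P))
    (hns : ∀ F₀ : Subfield F, F₀ ≠ ⊤ → ¬ RealisableOver F₀ (matrixSet P)) (p : ℕ) [hp : Fact p.Prime] [CharP F p] :
    Concl P p := by
  refine core_of hP hperf hsimp hnab hns p fun hp5 hΦ => ?_
  obtain ⟨Φ⟩ := hΦ
  subst hp5
  rcases Cfsg.Agent.H856.A7Tr.A7_five hP hperf hns Φ with h | ⟨h1, h2⟩
  · exact Or.inr (Or.inl h)
  · exact Or.inr (Or.inr (Or.inr (Or.inr (Or.inr ⟨rfl, h1, h2, ⟨Φ⟩⟩))))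

end Cfsg.Agent.H906
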