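import Cfsg.Agent.H906.CoreFinal

/-!
# S5776 from the core list (helper906)
-/

set_option autoImplicit false

namespace Cfsg.Agent.H906

open Cfsg Cfsg.Geo
open scoped MatrixGroups Matrix

theorem linear_of_concl {F : Type*} [Field F] [Fintype F] (H : Subgroup (Matrix.GeneralLinearGroup (Fin 3) F))
    (hH : Cfsg.Geo.IsMaximalIn (Cfsg.Geo.specialLinear (Fin 3) F) H) (P : Subgroup (GL (Fin 3) F))
    (hcore : IsResidualCore H P)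
    (hQ : ¬ ∃ Q : (Fin 3 → F) → F, IsNondegenerateQuadraticForm Q ∧ FixesQuadForm (matrixSet P) Q)
    (hU : ¬ ∃ (σ : F ≃+* F) (f : (Fin 3 → F) → (Fin 3 → F) → F), IsUnitaryForm σ f ∧ FixesForm (matrixSet P) f)
    (p : ℕ) (hp : p.Prime) [CharP F p] (h : Concl P p) :
    ∃ (P : Subgroup (Matrix.GeneralLinearGroup (Fin 3) F)) (p : ℕ), Cfsg.Geo.IsResidualCore H P ∧ p.Prime ∧ CharP F p ∧
    ((Nonempty ((P ⧸ (Cfsg.Geo.scalars (Fin 3) F).subgroupOf P) ≃* Matrix.ProjectiveSpecialLinearGroup (Fin 3) (ZMod 2)) ∧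
        Fintype.card F = p ∧ p ≠ 2 ∧ (p % 7 = 1 ∨ p % 7 = 2 ∨ p % 7 = 4)) ∨
     (Nonempty ((P ⧸ (Cfsg.Geo.scalars (Fin 3) F).subgroupOf P) ≃* alternatingGroup (Fin 6)) ∧
        ((Fintype.card F = p ∧ (p % 15 = 1 ∨ p % 15 = 4)) ∨ (Fintype.card F = p ^ 2 ∧ p ≠ 3 ∧ (p % 5 = 2 ∨ p % 5 = 3))))) := by
  have hnoU : ∀ m, ¬ FixesUnitary P m := by
    rintro m ⟨σ, f, -, hf, hfix⟩
    exact hU ⟨σ, f, hf, hfix⟩
  refine ⟨P, p, hcore, hp, inferInstance, ?_⟩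
  rw [← Nat.card_eq_fintype_card]
  rcases h with h | h | ⟨K, _, _, m, -, -, -, h, -⟩ | ⟨hp2, -, hΦ, h | ⟨-, -, h⟩⟩ | ⟨hp3, hΦ, h | ⟨-, -, h⟩ | ⟨h1, h2, -⟩⟩ | ⟨-, -, h, -⟩
  · exfalso
    have h1 : specialLinear (Fin 3) F ≤ H := by rw [← h]; exact hcore.le
    exact (lt_irrefl _ (lt_of_lt_of_le hH.1 h1))
  · exact absurd h hQ
  · exact absurd h (hnoU m)
  · exact Or.inl ⟨hΦ, h.1, hp2, h.2⟩
  · exact absurd h (hnoU p)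
  · exact Or.inr ⟨hΦ, Or.inl h⟩
  · exact absurd h (hnoU p)
  · exact Or.inr ⟨hΦ, Or.inr ⟨h1, hp3, h2⟩⟩
  · exact absurd h (hnoU p)

end Cfsg.Agent.H906
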