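import Cfsg.Agent.H906.CoreThree
import Cfsg.Agent.H890.Y1Odd
import Cfsg.Agent.H907.SocleEven

/-!
# The residual core in dimension three: assembly (helper906)
-/

set_option autoImplicit false
set_option linter.unusedSectionVars false

namespace Cfsg.Agent.H906

open Cfsg Cfsg.Geo
open scoped MatrixGroups Matrix

universe u

variable {F : Type u} [Field F] {P : Subgroup (GL (Fin 3) F)}

/-- The core list, given the case of the alternating group of degree seven. -/
theorem core_of [Finite F] (hP : ActsAbsolutelyIrreducibly (matrixSet P)) (hperf : ⁅P, P⁆ = P)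
    (hsimp : IsSimpleGroup (P ⧸ (scalars (Fin 3) F).subgroupOf P))
    (hnab : ¬ IsMulCommutative (P ⧸ (scalars (Fin 3) F).subgroupOf P))
    (hns : ∀ F₀ : Subfield F, F₀ ≠ ⊤ → ¬ RealisableOver F₀ (matrixSet P)) (p : ℕ) [hp : Fact p.Prime] [CharP F p]
    (hA7 : p = 5 → Nonempty ((P ⧸ (scalars (Fin 3) F).subgroupOf P) ≃* alternatingGroup (Fin 7)) → Concl P p) :
    Concl P p := by
  by_cases h2 : (2 : F) = 0
  · have hp2 : p = 2 := by
      have h3 : p ∣ 2 := by
        rw [← CharP.cast_eq_zero_iff F p 2]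
        exact_mod_cast h2
      exact (Nat.prime_dvd_prime_iff_eq hp.out Nat.prime_two).1 h3
    have hchar : ∀ (K : Type) [Field K], ringChar K = 2 → CharP K p := by
      intro K _ h
      rw [hp2, ← h]
      exact ringChar.charP K
    rcases Cfsg.Agent.H907.Even.socle_even h2 hperf hsimp hnab with
      ⟨K, _, _, hK, ⟨Φ⟩⟩ | ⟨K, _, _, hK, ⟨Φ⟩⟩ | ⟨K, _, _, m, hK, ⟨Φ⟩⟩ | hΦ
    · have := hchar K hK
      exact Or.inr (Or.inl (L2_def hP hperf p Φ).2)
    · exact concl_L3 hP hperf hns p (Or.inl (hchar K hK)) Φ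
    · have hKm : Fintype.card K = (2 ^ m) ^ 2 := by
        rw [hK, ← pow_mul, mul_comm m 2, pow_mul]
        norm_num
      have hK2 : CharP K p := by
        obtain ⟨r, hr⟩ := CharP.exists K
        obtain ⟨n, hrp, hn⟩ := FiniteField.card K r
        have h1 : r ∣ 2 ^ (m * 2) := by
          rw [pow_mul, ← hKm, hn]
          exact dvd_pow_self r n.pos.ne'
        have h3 := (Nat.prime_dvd_prime_iff_eq hrp Nat.prime_two).1 (hrp.dvd_of_dvd_pow h1)
        rw [hp2, ← h3]
        exact hr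
      exact concl_U3 hP hperf hsimp hns p hKm (Or.inl hK2) Φ
    · obtain ⟨Φ⟩ := hΦ
      exact concl_A6 hP hperf hns p Φ
  · have hp2 : p ≠ 2 := by
      rintro rfl
      apply h2
      exact_mod_cast CharP.cast_eq_zero F 2
    rcases Cfsg.Agent.H890.Y1.socle_odd hperf hsimp hnab h2 with
      ⟨K, _, _, hK, hK5, ⟨Φ⟩⟩ | ⟨K, _, _, hK, ⟨Φ⟩⟩ | ⟨K, _, _, m, hKm, hK, ⟨Φ⟩⟩ | ⟨h5, hΦ⟩
    · exact concl_L2 hP hperf hns p hp2 hK hK5 Φ
    · exact concl_L3 hP hperf hns p (Or.inr hK) Φ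
    · exact concl_U3 hP hperf hsimp hns p hKm (Or.inr hK) Φ
    · refine hA7 ?_ hΦ
      have h3 : p ∣ 5 := by
        rw [← CharP.cast_eq_zero_iff F p 5]
        exact_mod_cast h5
      exact (Nat.prime_dvd_prime_iff_eq hp.out (by norm_num)).1 h3

end Cfsg.Agent.H906
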