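import Mathlib

/-!
# Parabolic subgroups of `SL₃` (helper906)
-/

set_option autoImplicit false
set_option linter.unusedSectionVars false

namespace Cfsg.Agent.H906.SL3Par

open Matrix

variable {K : Type*} [Field K]

abbrev X (K : Type*) [Field K] := SpecialLinearGroup (Fin 3) K

lemma coe_mul' (g h : X K) : (g * h).1 = g.1 * h.1 := rfl

lemma mul_entry (g h : X K) (i j : Fin 3) :
    (g * h).1 i j = g.1 i 0 * h.1 0 j + g.1 i 1 * h.1 1 j + g.1 i 2 * h.1 2 j := by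
  rw [coe_mul', Matrix.mul_apply, Fin.sum_univ_three]

lemma ext' {g h : X K} (h' : ∀ i j, g.1 i j = h.1 i j) : g = h := Subtype.ext (Matrix.ext h')

lemma inv_val (g : X K) : (g⁻¹).1 = Matrix.adjugate g.1 := rfl

lemma det_eq (g : X K) : g.1 0 0 * g.1 1 1 * g.1 2 2 - g.1 0 0 * g.1 1 2 * g.1 2 1
      - g.1 0 1 * g.1 1 0 * g.1 2 2 + g.1 0 1 * g.1 1 2 * g.1 2 0
      + g.1 0 2 * g.1 1 0 * g.1 2 1 - g.1 0 2 * g.1 1 1 * g.1 2 0 = 1 := by
  have := g.2
  rw [Matrix.det_fin_three] at this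
  exact this

/-- Stabiliser of the plane `⟨e₁, e₂⟩`. -/
def Pa (K : Type*) [Field K] : Subgroup (X K) where
  carrier := {g | g.1 2 0 = 0 ∧ g.1 2 1 = 0}
  mul_mem' := by
    rintro g h ⟨hg1, hg2⟩ ⟨hh1, hh2⟩
    have e0 := mul_entry g h 2 0
    have e1 := mul_entry g h 2 1
    refine ⟨e0.trans ?_, e1.trans ?_⟩
    · linear_combination (h.1 0 0) * hg1 + (h.1 1 0) * hg2 + (g.1 2 2) * hh1
    · linear_combination (h.1 0 1) * hg1 + (h.1 1 1) * hg2 + (g.1 2 2) * hh2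
  one_mem' := by constructor <;> simp
  inv_mem' := by
    rintro g ⟨hg1, hg2⟩
    constructor <;> (rw [inv_val, Matrix.adjugate_fin_three]; simp [hg1, hg2])

/-- Stabiliser of the line `⟨e₁⟩`. -/
def Pb (K : Type*) [Field K] : Subgroup (X K) where
  carrier := {g | g.1 1 0 = 0 ∧ g.1 2 0 = 0}
  mul_mem' := by
    rintro g h ⟨hg1, hg2⟩ ⟨hh1, hh2⟩
    have e0 := mul_entry g h 1 0
    have e1 := mul_entry g h 2 0
    refine ⟨e0.trans ?_, e1.trans ?_⟩
    · linear_combination (h.1 0 0) * hg1 + (g.1 1 1) * hh1 + (g.1 1 2) * hh2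
    · linear_combination (h.1 0 0) * hg2 + (g.1 2 1) * hh1 + (g.1 2 2) * hh2
  one_mem' := by constructor <;> simp
  inv_mem' := by
    rintro g ⟨hg1, hg2⟩
    constructor <;> (rw [inv_val, Matrix.adjugate_fin_three]; simp [hg1, hg2])

/-- Upper unitriangular matrices. -/
def uni (a b c : K) : X K := ⟨!![1, a, c; 0, 1, b; 0, 0, 1], by simp [Matrix.det_fin_three]⟩

lemma uni_mul (a b c a' b' c' : K) : uni a b c * uni a' b' c' = uni (a + a') (b + b') (c + c' + a * b') := by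
  apply ext'
  intro i j
  rw [mul_entry]
  fin_cases i <;> fin_cases j <;> simp [uni] <;> ring

lemma uni_zero : uni (0 : K) 0 0 = 1 := by
  apply ext'
  intro i j
  fin_cases i <;> fin_cases j <;> simp [uni]

lemma uni_inv (a b c : K) : (uni a b c)⁻¹ = uni (-a) (-b) (a * b - c) := by
  rw [inv_eq_iff_mul_eq_one, uni_mul]
  convert uni_zero using 2 <;> ring

/-- The group of upper unitriangular matrices. -/
def U (K : Type*) [Field K] : Subgroup (X K) where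
  carrier := {g | ∃ a b c, g = uni a b c}
  mul_mem' := by
    rintro _ _ ⟨a, b, c, rfl⟩ ⟨a', b', c', rfl⟩
    exact ⟨_, _, _, uni_mul _ _ _ _ _ _⟩
  one_mem' := ⟨0, 0, 0, uni_zero.symm⟩
  inv_mem' := by
    rintro _ ⟨a, b, c, rfl⟩
    exact ⟨_, _, _, uni_inv _ _ _⟩

/-- The unipotent radical of `Pa`. -/
def Qa (K : Type*) [Field K] : Subgroup (X K) where
  carrier := {g | ∃ b c, g = uni 0 b c}
  mul_mem' := by
    rintro _ _ ⟨b, c, rfl⟩ ⟨b', c', rfl⟩
    refine ⟨b + b', c + c', ?_⟩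
    rw [uni_mul]
    congr 1 <;> ring
  one_mem' := ⟨0, 0, uni_zero.symm⟩
  inv_mem' := by
    rintro _ ⟨b, c, rfl⟩
    refine ⟨-b, -c, ?_⟩
    rw [uni_inv]
    congr 1 <;> ring

/-- The unipotent radical of `Pb`. -/
def Qb (K : Type*) [Field K] : Subgroup (X K) where
  carrier := {g | ∃ a c, g = uni a 0 c}
  mul_mem' := by
    rintro _ _ ⟨b, c, rfl⟩ ⟨b', c', rfl⟩
    refine ⟨b + b', c + c', ?_⟩
    rw [uni_mul]
    congr 1 <;> ring
  one_mem' := ⟨0, 0, uni_zero.symm⟩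
  inv_mem' := by
    rintro _ ⟨b, c, rfl⟩
    refine ⟨-b, -c, ?_⟩
    rw [uni_inv]
    congr 1 <;> ring

lemma Qa_le : Qa K ≤ U K := by
  rintro _ ⟨b, c, rfl⟩
  exact ⟨0, b, c, rfl⟩

lemma Qb_le : Qb K ≤ U K := by
  rintro _ ⟨b, c, rfl⟩
  exact ⟨b, 0, c, rfl⟩

lemma Qa_normal : ∀ a ∈ Pa K, ∀ x ∈ Qa K, a⁻¹ * x * a ∈ Qa K := by
  rintro g ⟨hg1, hg2⟩ _ ⟨b, c, rfl⟩
  have hd := det_eq g
  rw [hg1, hg2] at hd
  have hd' : (g.1 0 0 * g.1 1 1 - g.1 0 1 * g.1 1 0) * g.1 2 2 = 1 := by linear_combination hd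
  -- the answer : `A⁻¹ (c, b)ᵀ g₂₂`
  refine ⟨(g.1 0 0 * b - g.1 1 0 * c) * g.1 2 2 * g.1 2 2, (g.1 1 1 * c - g.1 0 1 * b) * g.1 2 2 * g.1 2 2, ?_⟩
  rw [mul_assoc, inv_mul_eq_iff_eq_mul]
  apply ext'
  intro i j
  rw [mul_entry, mul_entry]
  fin_cases i <;> fin_cases j <;> simp [uni, hg1, hg2]
  · linear_combination (-c * g.1 2 2) * hd'
  · linear_combination (-b * g.1 2 2) * hd'

lemma Qb_normal : ∀ a ∈ Pb K, ∀ x ∈ Qb K, a⁻¹ * x * a ∈ Qb K := by
  rintro g ⟨hg1, hg2⟩ _ ⟨b, c, rfl⟩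
  have hd := det_eq g
  rw [hg1, hg2] at hd
  have hd' : g.1 0 0 * (g.1 1 1 * g.1 2 2 - g.1 1 2 * g.1 2 1) = 1 := by linear_combination hd
  refine ⟨(b * g.1 1 1 + c * g.1 2 1) * (g.1 1 1 * g.1 2 2 - g.1 1 2 * g.1 2 1),
    (b * g.1 1 2 + c * g.1 2 2) * (g.1 1 1 * g.1 2 2 - g.1 1 2 * g.1 2 1), ?_⟩
  rw [mul_assoc, inv_mul_eq_iff_eq_mul]
  apply ext'
  intro i j
  rw [mul_entry, mul_entry]
  fin_cases i <;> fin_cases j <;> simp [uni, hg1, hg2]
  · linear_combination (-(b * g.1 1 1 + c * g.1 2 1)) * hd'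
  · linear_combination (-(b * g.1 1 2 + c * g.1 2 2)) * hd'

/-- Weyl elements. -/
def n12 (K : Type*) [Field K] : X K := ⟨!![0, -1, 0; 1, 0, 0; 0, 0, 1], by simp [Matrix.det_fin_three]⟩
def n23 (K : Type*) [Field K] : X K := ⟨!![1, 0, 0; 0, 0, -1; 0, 1, 0], by simp [Matrix.det_fin_three]⟩

lemma n12_mem : n12 K ∈ Pa K := by constructor <;> simp [n12]
lemma n23_mem : n23 K ∈ Pb K := by constructor <;> simp [n23]

lemma n_mul : (n23 K * n12 K).1 = !![0, -1, 0; 0, 0, -1; 1, 0, 0] := by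
  ext i j
  rw [mul_entry]
  fin_cases i <;> fin_cases j <;> simp [n12, n23]

/-- An element is in `Pb` when its first column is a multiple of `e₁`. -/
lemma mem_Pb_of_col {a g : X K} {t : K} (h : ∀ i, a.1 i 0 = t * g.1 i 0) : g⁻¹ * a ∈ Pb K := by
  have hd : ∀ i, (g⁻¹ * g).1 i 0 = (1 : Matrix (Fin 3) (Fin 3) K) i 0 := by
    intro i; rw [inv_mul_cancel]; rfl
  constructor
  · rw [mul_entry, h, h, h]
    have h1 := hd 1
    rw [mul_entry] at h1
    simp at h1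
    linear_combination t * h1
  · rw [mul_entry, h, h, h]
    have h1 := hd 2
    rw [mul_entry] at h1
    simp at h1
    linear_combination t * h1

lemma double_coset (g : X K) : (∃ a ∈ Pa K, ∃ b ∈ Pb K, g = a * b) ∨
    (∃ a ∈ Pa K, ∃ b ∈ Pb K, g = a * (n23 K * n12 K) * b) := by
  by_cases h20 : g.1 2 0 = 0
  · left
    have hd := det_eq g
    by_cases h00 : g.1 0 0 = 0
    · have h10 : g.1 1 0 ≠ 0 := by
        intro h
        rw [h20, h00, h] at hd
        simp at hd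
      refine ⟨⟨!![0, -(g.1 1 0)⁻¹, 0; g.1 1 0, 0, 0; 0, 0, 1], by
        simp [Matrix.det_fin_three, h10]⟩, ⟨by simp, by simp⟩, _, ?_, (mul_inv_cancel_left _ _).symm⟩
      apply mem_Pb_of_col (t := 1)
      intro i
      fin_cases i <;> simp [h20, h00]
    · refine ⟨⟨!![g.1 0 0, 0, 0; g.1 1 0, (g.1 0 0)⁻¹, 0; 0, 0, 1], by
        simp [Matrix.det_fin_three, h00]⟩, ⟨by simp, by simp⟩, _, ?_, (mul_inv_cancel_left _ _).symm⟩
      apply mem_Pb_of_col (t := 1)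
      intro i
      fin_cases i <;> simp [h20]
  · right
    obtain ⟨a, ha⟩ : ∃ a : X K, a.1 = !![(g.1 2 0)⁻¹, 0, g.1 0 0; 0, 1, g.1 1 0; 0, 0, g.1 2 0] :=
      ⟨⟨!![(g.1 2 0)⁻¹, 0, g.1 0 0; 0, 1, g.1 1 0; 0, 0, g.1 2 0], by
        simp [Matrix.det_fin_three, h20]⟩, rfl⟩
    refine ⟨a, ⟨by rw [ha]; simp, by rw [ha]; simp⟩, _, ?_, (mul_inv_cancel_left _ _).symm⟩
    apply mem_Pb_of_col (t := 1)
    intro i
    have h1 : ∀ i j, (n23 K * n12 K).1 i j = (!![0, -1, 0; 0, 0, -1; 1, 0, 0] : Matrix (Fin 3) (Fin 3) K) i j := by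
      intro i j; rw [n_mul]
    have e := mul_entry a (n23 K * n12 K) i 0
    rw [h1, h1, h1, ha] at e
    rw [e]
    fin_cases i <;> simp

/-- `U` is a `p`-group. -/
lemma U_isPGroup (p : ℕ) [Fact p.Prime] [CharP K p] : IsPGroup p (U K) := by
  rintro ⟨_, a, b, c, rfl⟩
  have h1 : ∀ n : ℕ, ∃ c', (uni a b c) ^ n = uni (n * a) (n * b) c' := by
    intro n
    induction n with
    | zero => exact ⟨0, by rw [pow_zero, Nat.cast_zero, zero_mul, zero_mul, uni_zero]⟩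
    | succ n ih =>
      obtain ⟨c', hc'⟩ := ih
      refine ⟨c' + c + n * a * b, ?_⟩
      rw [pow_succ, hc', uni_mul]
      congr 1 <;> push_cast <;> ring
  have h2 : ∀ (c : K) (n : ℕ), (uni 0 0 c) ^ n = uni 0 0 (n * c) := by
    intro c n
    induction n with
    | zero => rw [pow_zero, Nat.cast_zero, zero_mul, uni_zero]
    | succ n ih =>
      rw [pow_succ, ih, uni_mul]
      congr 1 <;> push_cast <;> ring
  refine ⟨2, Subtype.ext ?_⟩
  change (uni a b c) ^ p ^ 2 = 1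
  obtain ⟨c', hc'⟩ := h1 p
  rw [pow_two, pow_mul, hc', CharP.cast_eq_zero, zero_mul, zero_mul, h2, CharP.cast_eq_zero,
    zero_mul, uni_zero]

/-! ### Characters of the parabolic subgroups -/

/-- Elementary matrices in the Levi factors. -/
def lo21 (c : K) : X K := ⟨!![1, 0, 0; c, 1, 0; 0, 0, 1], by simp [Matrix.det_fin_three]⟩
def lo32 (c : K) : X K := ⟨!![1, 0, 0; 0, 1, 0; 0, c, 1], by simp [Matrix.det_fin_three]⟩

lemma lo21_pow (c : K) (n : ℕ) : (lo21 c) ^ n = lo21 (n * c) := by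
  induction n with
  | zero =>
    rw [pow_zero, Nat.cast_zero, zero_mul]
    apply ext'
    intro i j
    fin_cases i <;> fin_cases j <;> simp [lo21]
  | succ n ih =>
    rw [pow_succ, ih]
    apply ext'
    intro i j
    rw [mul_entry]
    fin_cases i <;> fin_cases j <;> simp [lo21] <;> ring

lemma lo32_pow (c : K) (n : ℕ) : (lo32 c) ^ n = lo32 (n * c) := by
  induction n with
  | zero =>
    rw [pow_zero, Nat.cast_zero, zero_mul]
    apply ext'
    intro i j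
    fin_cases i <;> fin_cases j <;> simp [lo32]
  | succ n ih =>
    rw [pow_succ, ih]
    apply ext'
    intro i j
    rw [mul_entry]
    fin_cases i <;> fin_cases j <;> simp [lo32] <;> ring

lemma uni_pow_p (p : ℕ) [CharP K p] (a b c : K) (hab : a * b = 0) : (uni a b c) ^ p = 1 := by
  have h1 : ∀ n : ℕ, (uni a b c) ^ n = uni (n * a) (n * b) (n * c) := by
    intro n
    induction n with
    | zero => simp [uni_zero]
    | succ n ih =>
      rw [pow_succ, ih, uni_mul]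
      congr 1
      · push_cast; ring
      · push_cast; ring
      · push_cast
        linear_combination (n : K) * hab
  rw [h1, CharP.cast_eq_zero]
  simp [uni_zero]

lemma lo21_pow_p (p : ℕ) [CharP K p] (c : K) : (lo21 c) ^ p = 1 := by
  rw [lo21_pow, CharP.cast_eq_zero, zero_mul]
  apply ext'
  intro i j
  fin_cases i <;> fin_cases j <;> simp [lo21]

lemma lo32_pow_p (p : ℕ) [CharP K p] (c : K) : (lo32 c) ^ p = 1 := by
  rw [lo32_pow, CharP.cast_eq_zero, zero_mul]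
  apply ext'
  intro i j
  fin_cases i <;> fin_cases j <;> simp [lo32]

lemma uni_mem_Pa (a b c : K) : uni a b c ∈ Pa K := by constructor <;> simp [uni]
lemma uni_mem_Pb (a b c : K) : uni a b c ∈ Pb K := by constructor <;> simp [uni]
lemma lo21_mem (c : K) : lo21 c ∈ Pa K := by constructor <;> simp [lo21]
lemma lo32_mem (c : K) : lo32 c ∈ Pb K := by constructor <;> simp [lo32]

/-- A homomorphism on `Pa` killing the elements of order `p` kills the elements with last entry one. -/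
lemma Pa_char (p : ℕ) [CharP K p] {M : Type*} [Group M] (ψ : Pa K →* M)
    (hψ : ∀ x : Pa K, (x : X K) ^ p = 1 → ψ x = 1) (g : Pa K) (hg : g.1.1 2 2 = 1) : ψ g = 1 := by
  have hU : ∀ a b c : K, a * b = 0 → ψ ⟨uni a b c, uni_mem_Pa a b c⟩ = 1 :=
    fun a b c h => hψ _ (uni_pow_p p a b c h)
  have hL : ∀ c : K, ψ ⟨lo21 c, lo21_mem c⟩ = 1 := fun c => hψ _ (lo21_pow_p p c)
  have main : ∀ g : Pa K, g.1.1 2 2 = 1 → g.1.1 1 0 ≠ 0 → ψ g = 1 := by
    intro g hg hc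
    obtain ⟨h20, h21⟩ := g.2
    have hd := det_eq g.1
    rw [h20, h21, hg] at hd
    have e : g = (⟨uni 0 (g.1.1 1 2) (g.1.1 0 2), uni_mem_Pa _ _ _⟩ : Pa K) *
        (⟨uni ((g.1.1 0 0 - 1) / g.1.1 1 0) 0 0, uni_mem_Pa _ _ _⟩ *
        (⟨lo21 (g.1.1 1 0), lo21_mem _⟩ * ⟨uni ((g.1.1 1 1 - 1) / g.1.1 1 0) 0 0, uni_mem_Pa _ _ _⟩)) := by
      apply Subtype.ext
      change (g : X K) = uni 0 (g.1.1 1 2) (g.1.1 0 2) * (uni ((g.1.1 0 0 - 1) / g.1.1 1 0) 0 0 *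
        (lo21 (g.1.1 1 0) * uni ((g.1.1 1 1 - 1) / g.1.1 1 0) 0 0))
      apply ext'
      intro i j
      simp only [mul_entry]
      fin_cases i <;> fin_cases j <;> simp [uni, lo21, h20, h21, hg] <;> field_simp <;>
        first | ring1 | linear_combination -hd | linear_combination hd
    rw [e, map_mul, map_mul, map_mul, hU 0 _ _ (zero_mul _), hU _ 0 _ (mul_zero _), hU _ 0 _ (mul_zero _),
      hL, one_mul, one_mul, one_mul]
  by_cases hc : g.1.1 1 0 = 0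
  · have h0 : g.1.1 0 0 ≠ 0 := by
      intro h
      have hd := det_eq g.1
      rw [h, hc, g.2.1] at hd
      simp at hd
    have h1 := main (⟨lo21 1, lo21_mem 1⟩ * g) (by
      change (lo21 1 * (g : X K)).1 2 2 = 1
      rw [mul_entry]
      simp [lo21, hg]) (by
      change (lo21 1 * (g : X K)).1 1 0 ≠ 0
      rw [mul_entry]
      simp [lo21, hc, h0])
    rw [map_mul, hL, one_mul] at h1
    exact h1
  · exact main g hg hc

lemma Pb_char (p : ℕ) [CharP K p] {M : Type*} [Group M] (ψ : Pb K →* M)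
    (hψ : ∀ x : Pb K, (x : X K) ^ p = 1 → ψ x = 1) (g : Pb K) (hg : g.1.1 0 0 = 1) : ψ g = 1 := by
  have hU : ∀ a b c : K, a * b = 0 → ψ ⟨uni a b c, uni_mem_Pb a b c⟩ = 1 :=
    fun a b c h => hψ _ (uni_pow_p p a b c h)
  have hL : ∀ c : K, ψ ⟨lo32 c, lo32_mem c⟩ = 1 := fun c => hψ _ (lo32_pow_p p c)
  have main : ∀ g : Pb K, g.1.1 0 0 = 1 → g.1.1 2 1 ≠ 0 → ψ g = 1 := by
    intro g hg hc
    obtain ⟨h10, h20⟩ := g.2
    have hd := det_eq g.1
    rw [h10, h20, hg] at hd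
    have e : g =
        (⟨uni 0 ((g.1.1 1 1 - 1) / g.1.1 2 1) 0, uni_mem_Pb _ _ _⟩ : Pb K) *
        (⟨lo32 (g.1.1 2 1), lo32_mem _⟩ * (⟨uni 0 ((g.1.1 2 2 - 1) / g.1.1 2 1) 0, uni_mem_Pb _ _ _⟩ *
        ⟨uni (g.1.1 0 1) 0 (g.1.1 0 2), uni_mem_Pb _ _ _⟩)) := by
      apply Subtype.ext
      change (g : X K) = uni 0 ((g.1.1 1 1 - 1) / g.1.1 2 1) 0 * (lo32 (g.1.1 2 1) *
        (uni 0 ((g.1.1 2 2 - 1) / g.1.1 2 1) 0 * uni (g.1.1 0 1) 0 (g.1.1 0 2)))
      apply ext'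
      intro i j
      simp only [mul_entry]
      fin_cases i <;> fin_cases j <;> simp [uni, lo32, h20, h10, hg] <;> field_simp <;>
        first | ring1 | linear_combination -hd | linear_combination hd
    rw [e, map_mul, map_mul, map_mul, hU 0 _ _ (zero_mul _), hU _ 0 _ (mul_zero _), hU 0 _ _ (zero_mul _),
      hL, one_mul, one_mul, one_mul]
  by_cases hc : g.1.1 2 1 = 0
  · have h0 : g.1.1 1 1 ≠ 0 := by
      intro h
      have hd := det_eq g.1
      rw [h, hc, g.2.1, g.2.2] at hd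
      simp at hd
    have h1 := main (⟨lo32 1, lo32_mem 1⟩ * g) (by
      change (lo32 1 * (g : X K)).1 0 0 = 1
      rw [mul_entry]
      simp [lo32, hg]) (by
      change (lo32 1 * (g : X K)).1 2 1 ≠ 0
      rw [mul_entry]
      simp [lo32, hc, h0])
    rw [map_mul, hL, one_mul] at h1
    exact h1
  · exact main g hg hc

end Cfsg.Agent.H906.SL3Par
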