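import Cfsg.Agent.H906.L34Amal
import Cfsg.Agent.H906.SL3Par
import Cfsg.Agent.LieClassical.SLGen

/-!
# Traces of covers of `PSL_3(4)` in dimension four, characteristic three
-/

set_option autoImplicit false
set_option linter.unusedSectionVars false

namespace Cfsg.Agent.H906.L34

open Cfsg Cfsg.Geo Cfsg.Agent.H908 SL3Par
open scoped MatrixGroups commutatorElement Matrix

section Gen

variable {K : Type*} [Field K]

/-- elementary transvections -/
def tv {i j : Fin 3} (hij : i ≠ j) (c : K) : X K := Matrix.SpecialLinearGroup.transvection hij c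

lemma tv_val {i j : Fin 3} (hij : i ≠ j) (c : K) : (tv hij c).1 = 1 + Matrix.single i j c := rfl

/-- diagonal elements -/
def dg (t : Fin 3 → K) (ht : t 0 * t 1 * t 2 = 1) : X K :=
  ⟨Matrix.diagonal t, by rw [Matrix.det_diagonal, Fin.prod_univ_three, ht]⟩

lemma dg_conj (t : Fin 3 → K) (ht : t 0 * t 1 * t 2 = 1) {i j : Fin 3} (hij : i ≠ j) (r : K) (hr : r * t j = t i)
    (c : K) : dg t ht * tv hij c * (dg t ht)⁻¹ = tv hij (r * c) := by
  rw [mul_inv_eq_iff_eq_mul]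
  apply ext'
  intro k l
  rw [coe_mul', coe_mul', tv_val, tv_val]
  have hd : (dg t ht).1 = Matrix.diagonal t := rfl
  rw [hd, mul_add, add_mul, mul_one, one_mul, Matrix.add_apply, Matrix.add_apply]
  congr 1
  rw [Matrix.diagonal_mul, Matrix.mul_diagonal]
  by_cases hk : i = k
  · subst hk
    by_cases hl : j = l
    · subst hl
      rw [Matrix.single_apply_same, Matrix.single_apply_same, ← hr]
      ring
    · rw [Matrix.single_apply_of_col_ne _ _ hl, Matrix.single_apply_of_col_ne _ _ hl, mul_zero, zero_mul]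
  · rw [Matrix.single_apply_of_row_ne hk, Matrix.single_apply_of_row_ne hk, mul_zero, zero_mul]

lemma tv_inv {i j : Fin 3} (hij : i ≠ j) (c : K) : (tv hij c)⁻¹ = tv hij (-c) :=
  Matrix.SpecialLinearGroup.transvection_inv hij c

lemma tv_mul {i j : Fin 3} (hij : i ≠ j) (c d : K) : tv hij c * tv hij d = tv hij (c + d) := by
  apply Subtype.ext
  have h1 : Matrix.single i j c * Matrix.single i j d = 0 := Matrix.single_mul_single_of_ne _ _ _ _ hij.symm _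
  rw [coe_mul', tv_val, tv_val, tv_val, mul_add, mul_one, add_mul, one_mul, h1, Matrix.single_add, add_zero,
    add_assoc]

lemma tv_mem_commutator {N : Subgroup (X K)} (t : Fin 3 → K) (ht : t 0 * t 1 * t 2 = 1) (hd : dg t ht ∈ N)
    {i j : Fin 3} (hij : i ≠ j) (r : K) (hr : r * t j = t i) (hr1 : r ≠ 1) (hN : ∀ c, tv hij c ∈ N) (c : K) :
    tv hij c ∈ ⁅N, N⁆ := by
  have h1 := Subgroup.commutator_mem_commutator hd (hN (c / (r - 1)))
  have h2 : ⁅dg t ht, tv hij (c / (r - 1))⁆ = tv hij c := by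
    rw [commutatorElement_def, dg_conj t ht hij r hr, tv_inv, tv_mul]
    congr 1
    have : r - 1 ≠ 0 := sub_ne_zero.2 hr1
    field_simp
    ring
  rwa [h2] at h1

lemma dg_mem_Pa (t : Fin 3 → K) (ht : t 0 * t 1 * t 2 = 1) : dg t ht ∈ Pa K := by
  constructor <;> simp [dg]

lemma dg_mem_Pb (t : Fin 3 → K) (ht : t 0 * t 1 * t 2 = 1) : dg t ht ∈ Pb K := by
  constructor <;> simp [dg]

lemma h01 : (0 : Fin 3) ≠ 1 := by decide
lemma h10 : (1 : Fin 3) ≠ 0 := by decide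
lemma h12 : (1 : Fin 3) ≠ 2 := by decide
lemma h21 : (2 : Fin 3) ≠ 1 := by decide
lemma h02 : (0 : Fin 3) ≠ 2 := by decide
lemma h20 : (2 : Fin 3) ≠ 0 := by decide

lemma tv02 (c : K) : tv h02 c = uni 0 0 c := by
  apply ext'
  intro i j
  rw [tv_val]
  fin_cases i <;> fin_cases j <;> simp [uni]

lemma tv12 (c : K) : tv h12 c = uni 0 c 0 := by
  apply ext'
  intro i j
  rw [tv_val]
  fin_cases i <;> fin_cases j <;> simp [uni]

lemma tv01 (c : K) : tv h01 c = uni c 0 0 := by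
  apply ext'
  intro i j
  rw [tv_val]
  fin_cases i <;> fin_cases j <;> simp [uni]

/-- generation by the two parabolic subgroups -/
theorem gen_parabolics {a : K} (ha : a ≠ 0) (ha1 : a * a ≠ 1) :
    Qa K ≤ Qb K ⊔ ⁅Pb K, Pb K⁆ ∧ (Qa K ⊔ ⁅Pa K, Pa K⁆) ⊔ (Qb K ⊔ ⁅Pb K, Pb K⁆) = ⊤ := by
  have hai : a⁻¹ * a⁻¹ ≠ 1 := by
    intro h
    apply ha1
    have : (a⁻¹ * a⁻¹) * (a * a) = a * a := by rw [h, one_mul]
    rw [← this]
    field_simp
  let t : Fin 3 → K := ![a, a⁻¹, 1]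
  have ht : t 0 * t 1 * t 2 = 1 := by simp [t, ha]
  let s : Fin 3 → K := ![1, a, a⁻¹]
  have hs : s 0 * s 1 * s 2 = 1 := by simp [s, ha]
  have k01 : ∀ c : K, tv h01 c ∈ ⁅Pa K, Pa K⁆ := tv_mem_commutator t ht (dg_mem_Pa t ht) h01 (a * a)
    (by simp [t, ha]) ha1 (fun c => by rw [tv01]; constructor <;> simp [uni])
  have k10 : ∀ c : K, tv h10 c ∈ ⁅Pa K, Pa K⁆ := tv_mem_commutator t ht (dg_mem_Pa t ht) h10 (a⁻¹ * a⁻¹)
    (by simp [t, ha]) hai (fun c => by constructor <;> simp [tv_val])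
  have k12 : ∀ c : K, tv h12 c ∈ ⁅Pb K, Pb K⁆ := tv_mem_commutator s hs (dg_mem_Pb s hs) h12 (a * a)
    (by simp [s, ha]) ha1 (fun c => by rw [tv12]; constructor <;> simp [uni])
  have k21 : ∀ c : K, tv h21 c ∈ ⁅Pb K, Pb K⁆ := tv_mem_commutator s hs (dg_mem_Pb s hs) h21 (a⁻¹ * a⁻¹)
    (by simp [s, ha]) hai (fun c => by constructor <;> simp [tv_val])
  have k02 : ∀ c : K, tv h02 c ∈ Qb K := fun c => ⟨0, c, tv02 c⟩
  refine ⟨?_, ?_⟩
  · rintro _ ⟨b, c, rfl⟩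
    have h1 : uni 0 b c = tv h12 b * tv h02 c := by
      rw [tv12, tv02, uni_mul]
      congr 1 <;> ring
    rw [h1]
    exact Subgroup.mul_mem _ (le_sup_right (a := Qb K) (k12 b)) (le_sup_left (b := ⁅Pb K, Pb K⁆) (k02 c))
  · rw [eq_top_iff, ← Cfsg.Agent.LieClassical.SLGen.closure_transvections (ι := Fin 3) (F := K), Subgroup.closure_le]
    rintro _ ⟨i, j, hij, c, rfl⟩
    set S := (Qa K ⊔ ⁅Pa K, Pa K⁆) ⊔ (Qb K ⊔ ⁅Pb K, Pb K⁆) with hS
    have l1 : ⁅Pa K, Pa K⁆ ≤ S := le_trans le_sup_right le_sup_left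
    have l2 : ⁅Pb K, Pb K⁆ ≤ S := le_trans le_sup_right le_sup_right
    have l3 : Qb K ≤ S := le_trans le_sup_left le_sup_right
    change tv hij c ∈ S
    have k20 : tv h20 c ∈ S := by
      have h3 := Cfsg.Agent.LieClassical.SLGen.commutator_transvection (F := K) h20 h21 h10 c 1
      have h4 : ⁅tv h21 c, tv h10 1⁆ = tv h20 c := by
        rw [mul_one] at h3
        exact h3
      rw [← h4, commutatorElement_def]
      have m1 := l2 (k21 c)
      have m2 := l1 (k10 1)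
      exact S.mul_mem (S.mul_mem (S.mul_mem m1 m2) (S.inv_mem m1)) (S.inv_mem m2)
    fin_cases i <;> fin_cases j
    · exact absurd rfl hij
    · exact l1 (k01 c)
    · exact l3 (k02 c)
    · exact l1 (k10 c)
    · exact absurd rfl hij
    · exact l2 (k12 c)
    · exact k20
    · exact l2 (k21 c)
    · exact absurd rfl hij

lemma trans_a {b c : K} (h : uni 0 b c ≠ 1) : ∃ g ∈ Pa K, g * uni 0 0 1 * g⁻¹ = uni 0 b c := by
  by_cases hc : c = 0
  · have hb : b ≠ 0 := by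
      rintro rfl
      rw [hc] at h
      exact h uni_zero
    obtain ⟨g, hg⟩ : ∃ g : X K, g.1 = !![0, -b⁻¹, 0; b, 0, 0; 0, 0, 1] :=
      ⟨⟨!![0, -b⁻¹, 0; b, 0, 0; 0, 0, 1], by simp [Matrix.det_fin_three, hb]⟩, rfl⟩
    refine ⟨g, ⟨by rw [hg]; simp, by rw [hg]; simp⟩, ?_⟩
    rw [mul_inv_eq_iff_eq_mul]
    apply ext'
    intro i j
    rw [mul_entry, mul_entry, hg]
    fin_cases i <;> fin_cases j <;> simp [uni, hc]
  · obtain ⟨g, hg⟩ : ∃ g : X K, g.1 = !![c, 0, 0; b, c⁻¹, 0; 0, 0, 1] :=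
      ⟨⟨!![c, 0, 0; b, c⁻¹, 0; 0, 0, 1], by simp [Matrix.det_fin_three, hc]⟩, rfl⟩
    refine ⟨g, ⟨by rw [hg]; simp, by rw [hg]; simp⟩, ?_⟩
    rw [mul_inv_eq_iff_eq_mul]
    apply ext'
    intro i j
    rw [mul_entry, mul_entry, hg]
    fin_cases i <;> fin_cases j <;> simp [uni]

lemma trans_b {a c : K} (h : uni a 0 c ≠ 1) : ∃ g ∈ Pb K, g * uni 0 0 1 * g⁻¹ = uni a 0 c := by
  by_cases hc : c = 0
  · have ha : a ≠ 0 := by
      rintro rfl
      rw [hc] at h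
      exact h uni_zero
    obtain ⟨g, hg⟩ : ∃ g : X K, g.1 = !![1, 0, 0; 0, 0, a⁻¹; 0, -a, 0] :=
      ⟨⟨!![1, 0, 0; 0, 0, a⁻¹; 0, -a, 0], by simp [Matrix.det_fin_three, ha]⟩, rfl⟩
    refine ⟨g, ⟨by rw [hg]; simp, by rw [hg]; simp⟩, ?_⟩
    rw [mul_inv_eq_iff_eq_mul]
    apply ext'
    intro i j
    rw [mul_entry, mul_entry, hg]
    fin_cases i <;> fin_cases j <;> simp [uni, hc, ha]
  · obtain ⟨g, hg⟩ : ∃ g : X K, g.1 = !![1, 0, 0; 0, c, 0; 0, -a, c⁻¹] :=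
      ⟨⟨!![1, 0, 0; 0, c, 0; 0, -a, c⁻¹], by simp [Matrix.det_fin_three, hc]⟩, rfl⟩
    refine ⟨g, ⟨by rw [hg]; simp, by rw [hg]; simp⟩, ?_⟩
    rw [mul_inv_eq_iff_eq_mul]
    apply ext'
    intro i j
    rw [mul_entry, mul_entry, hg]
    fin_cases i <;> fin_cases j <;> simp [uni, hc]
    ring

lemma trans_of {T : Type*} [Group T] (U N : Subgroup T) (hN : ∀ t ∈ N, ∀ u ∈ U, t⁻¹ * u * t ∈ U) (e : T)
    (he : ∀ a ∈ U, a ≠ 1 → ∃ t ∈ N, t * e * t⁻¹ = a) :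
    ∀ a ∈ U, ∀ b ∈ U, a ≠ 1 → b ≠ 1 → ∃ t : T, (∀ c, c ∈ U ↔ t * c * t⁻¹ ∈ U) ∧ t * a * t⁻¹ = b := by
  intro a ha b hb ha1 hb1
  obtain ⟨s, hs, hsa⟩ := he a ha ha1
  obtain ⟨r, hr, hrb⟩ := he b hb hb1
  have ht : r * s⁻¹ ∈ N := N.mul_mem hr (N.inv_mem hs)
  refine ⟨r * s⁻¹, ?_, ?_⟩
  · intro c
    constructor
    · intro hc
      have := hN _ (N.inv_mem ht) c hc
      rwa [inv_inv] at this
    · intro hc
      have := hN _ ht _ hc
      have e1 : (r * s⁻¹)⁻¹ * (r * s⁻¹ * c * (r * s⁻¹)⁻¹) * (r * s⁻¹) = c := by group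
      rwa [e1] at this
  · rw [← hsa, ← hrb]
    group

/-- the projection -/
abbrev pj (K : Type*) [Field K] : X K →* Matrix.ProjectiveSpecialLinearGroup (Fin 3) K := QuotientGroup.mk' _

lemma pj_uni_inj {a b c a' b' c' : K} (h : pj K (uni a b c) = pj K (uni a' b' c')) : uni a b c = uni a' b' c' := by
  have h1 : (uni a b c)⁻¹ * uni a' b' c' ∈ Subgroup.center (X K) := QuotientGroup.eq.1 h
  rw [uni_inv, uni_mul] at h1
  obtain ⟨r, -, hr⟩ := Matrix.SpecialLinearGroup.mem_center_iff.1 h1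
  have e1 := congrFun (congrFun hr 0) 1
  have e2 := congrFun (congrFun hr 1) 2
  have e3 := congrFun (congrFun hr 0) 2
  simp [uni] at e1 e2 e3
  have f1 : a' = a := by linear_combination -e1
  have f2 : b' = b := by linear_combination -e2
  subst f1 f2
  have f3 : c' = c := by linear_combination -e3
  rw [f3]

end Gen

section Final

variable {F : Type*} [Field F]

/-- **Traces of covers of `PSL_3(4)` in dimension four, characteristic three.** -/
theorem l34_traces [Finite F] [CharP F 3] {P : Subgroup (GL (Fin 4) F)} {K : Type*} [Field K] [Fintype K]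
    (hK : Fintype.card K = 4) {φ : P →* Matrix.ProjectiveSpecialLinearGroup (Fin 3) K} (h : Cov P φ) (g : P) :
    tr g ^ 3 = tr g⁻¹ := by
  classical
  have h3 : (3 : F) = 0 := by
    have := CharP.cast_eq_zero F 3
    exact_mod_cast this
  have h2 : (2 : F) ≠ 0 := by
    intro h0
    have : (1 : F) = 0 := by linear_combination h3 - h0
    exact one_ne_zero this
  have k2 : (2 : K) = 0 := by
    have h4 : ((4 : ℕ) : K) = 0 := by rw [← hK]; exact Nat.cast_card_eq_zero K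
    have h5 : (2 : K) * 2 = 0 := by rw [← h4]; norm_num
    rcases mul_eq_zero.1 h5 with h6 | h6 <;> exact h6
  obtain ⟨a, ha0, ha1⟩ : ∃ a : K, a ≠ 0 ∧ a ≠ 1 := by
    by_contra hcon
    push Not at hcon
    have hsub : (Finset.univ : Finset K) ⊆ {0, 1} := by
      intro x _
      by_cases hx : x = 0
      · simp [hx]
      · simp [hcon x hx]
    have h6 := Finset.card_le_card hsub
    rw [Finset.card_univ, hK] at h6
    have h7 : ({0, 1} : Finset K).card ≤ 2 := Finset.card_le_two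
    omega
  have haa : a * a ≠ 1 := by
    intro h6
    have h7 : (a - 1) * (a - 1) = 0 := by linear_combination h6 + (1 - a) * k2
    rcases mul_eq_zero.1 h7 with h8 | h8 <;> exact ha1 (sub_eq_zero.1 h8)
  obtain ⟨g1, g2⟩ := gen_parabolics ha0 haa
  -- the two subgroups
  set π := pj K with hπ
  have hπs : Function.Surjective π := QuotientGroup.mk'_surjective _
  let U₁ := (Qa K).map π
  let U₂ := (Qb K).map π
  let N₁ := (Pa K).map π
  let N₂ := (Pb K).map π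
  have e1 : ∀ b c b' c' : K, uni 0 b c * uni 0 b' c' = uni 0 (b + b') (c + c') := by
    intro b c b' c'
    rw [uni_mul]
    congr 1 <;> ring
  have e2 : ∀ b c b' c' : K, uni b 0 c * uni b' 0 c' = uni (b + b') 0 (c + c') := by
    intro b c b' c'
    rw [uni_mul]
    congr 1 <;> ring
  have dbl : ∀ x : K, x + x = 0 := fun x => by linear_combination x * k2
  have sq₁ : ∀ u ∈ U₁, u * u = 1 := by
    rintro _ ⟨_, ⟨b, c, rfl⟩, rfl⟩
    rw [← map_mul, e1, dbl, dbl, uni_zero, map_one]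
  have sq₂ : ∀ u ∈ U₂, u * u = 1 := by
    rintro _ ⟨_, ⟨b, c, rfl⟩, rfl⟩
    rw [← map_mul, e2, dbl, dbl, uni_zero, map_one]
  have cm₁ : ∀ u ∈ U₁, ∀ v ∈ U₁, u * v = v * u := by
    rintro _ ⟨_, ⟨b, c, rfl⟩, rfl⟩ _ ⟨_, ⟨b', c', rfl⟩, rfl⟩
    rw [← map_mul, ← map_mul, e1, e1, add_comm b, add_comm c]
  have cm₂ : ∀ u ∈ U₂, ∀ v ∈ U₂, u * v = v * u := by
    rintro _ ⟨_, ⟨b, c, rfl⟩, rfl⟩ _ ⟨_, ⟨b', c', rfl⟩, rfl⟩
    rw [← map_mul, ← map_mul, e2, e2, add_comm b, add_comm c]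
  have cardK : Nat.card (K × K) = 16 := by
    rw [Nat.card_prod, Nat.card_eq_fintype_card, hK]
  have card₁ : Nat.card U₁ = 16 := by
    rw [← cardK]
    symm
    refine Nat.card_congr (Equiv.ofBijective (fun x : K × K => (⟨π (uni 0 x.1 x.2), ⟨_, ⟨_, _, rfl⟩, rfl⟩⟩ : U₁)) ⟨?_, ?_⟩)
    · rintro ⟨b, c⟩ ⟨b', c'⟩ hh
      have h6 := pj_uni_inj (congrArg Subtype.val hh)
      have h7 := congrFun (congrFun (congrArg Subtype.val h6) 1) 2
      have h8 := congrFun (congrFun (congrArg Subtype.val h6) 0) 2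
      simp [uni] at h7 h8
      rw [h7, h8]
    · rintro ⟨_, _, ⟨b, c, rfl⟩, rfl⟩
      exact ⟨(b, c), rfl⟩
  have card₂ : Nat.card U₂ = 16 := by
    rw [← cardK]
    symm
    refine Nat.card_congr (Equiv.ofBijective (fun x : K × K => (⟨π (uni x.1 0 x.2), ⟨_, ⟨_, _, rfl⟩, rfl⟩⟩ : U₂)) ⟨?_, ?_⟩)
    · rintro ⟨b, c⟩ ⟨b', c'⟩ hh
      have h6 := pj_uni_inj (congrArg Subtype.val hh)
      have h7 := congrFun (congrFun (congrArg Subtype.val h6) 0) 1
      have h8 := congrFun (congrFun (congrArg Subtype.val h6) 0) 2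
      simp [uni] at h7 h8
      rw [h7, h8]
    · rintro ⟨_, _, ⟨b, c, rfl⟩, rfl⟩
      exact ⟨(b, c), rfl⟩
  have hN₁ : ∀ t ∈ N₁, ∀ u ∈ U₁, t⁻¹ * u * t ∈ U₁ := by
    rintro _ ⟨s, hs, rfl⟩ _ ⟨u, hu, rfl⟩
    exact ⟨s⁻¹ * u * s, Qa_normal s hs u hu, by simp⟩
  have hN₂ : ∀ t ∈ N₂, ∀ u ∈ U₂, t⁻¹ * u * t ∈ U₂ := by
    rintro _ ⟨s, hs, rfl⟩ _ ⟨u, hu, rfl⟩
    exact ⟨s⁻¹ * u * s, Qb_normal s hs u hu, by simp⟩
  have fin₁ : Finite U₁ := Nat.finite_of_card_ne_zero (by rw [card₁]; norm_num)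
  have fin₂ : Finite U₂ := Nat.finite_of_card_ne_zero (by rw [card₂]; norm_num)
  have tr₁ := trans_of U₁ N₁ hN₁ (π (uni 0 0 1)) (by
    rintro _ ⟨_, ⟨b, c, rfl⟩, rfl⟩ hne
    obtain ⟨g, hg, hgg⟩ := trans_a (b := b) (c := c) (by rintro h0; rw [h0, map_one] at hne; exact hne rfl)
    exact ⟨π g, ⟨g, hg, rfl⟩, by rw [← hgg]; simp⟩)
  have tr₂ := trans_of U₂ N₂ hN₂ (π (uni 0 0 1)) (by
    rintro _ ⟨_, ⟨b, c, rfl⟩, rfl⟩ hne
    obtain ⟨g, hg, hgg⟩ := trans_b (a := b) (c := c) (by rintro h0; rw [h0, map_one] at hne; exact hne rfl)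
    exact ⟨π g, ⟨g, hg, rfl⟩, by rw [← hgg]; simp⟩)
  have z₁ : ∀ x : P, φ x ∈ U₁ → φ x ≠ 1 → tr x = 0 := fun x =>
    tr_eq_zero h h2 U₁ (by rw [card₁]; norm_num) sq₁ cm₁ tr₁
  have z₂ : ∀ x : P, φ x ∈ U₂ → φ x ≠ 1 → tr x = 0 := fun x =>
    tr_eq_zero h h2 U₂ (by rw [card₂]; norm_num) sq₂ cm₂ tr₂
  refine cov_amalgam h U₁ U₂ N₁ N₂ (span_eq_top h h2 U₁ card₁ z₁) (span_eq_top h h2 U₂ card₂ z₂) z₁ z₂ hN₁ hN₂
    ?_ ?_ g
  · have := Subgroup.map_mono (f := π) g1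
    rwa [Subgroup.map_sup, Subgroup.map_commutator] at this
  · have := congrArg (Subgroup.map π) g2
    rwa [Subgroup.map_sup, Subgroup.map_sup, Subgroup.map_sup, Subgroup.map_commutator, Subgroup.map_commutator,
      Subgroup.map_top_of_surjective π hπs] at this

end Final

end Cfsg.Agent.H906.L34
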