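import Cfsg.Agent.H906.U42Eig

/-!
# Four elements `w + (1 - w) E_i` satisfying the braid relations of type `A_4`
-/

set_option autoImplicit false

namespace Cfsg.Agent.H906.U42

open Matrix Module

variable {F : Type*} [Field F]

lemma vmv_mul (a f b g : Fin 4 → F) : vecMulVec a f * vecMulVec b g = (f ⬝ᵥ b) • vecMulVec a g := by
  rw [Matrix.vecMulVec_mul_vecMulVec]
  ext i j
  simp only [vecMulVec_apply, Matrix.smul_apply, Pi.smul_apply, smul_eq_mul]
  ring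

lemma ne_zero_left {a f : Fin 4 → F} (h : f ⬝ᵥ a = 1) : a ≠ 0 := by
  rintro rfl
  simp at h

lemma ne_zero_right {a f : Fin 4 → F} (h : f ⬝ᵥ a = 1) : f ≠ 0 := by
  rintro rfl
  simp at h

lemma pair_comm {a f b g : Fin 4 → F} (hfa : f ⬝ᵥ a = 1) (hgb : g ⬝ᵥ b = 1)
    (hne : vecMulVec a f ≠ vecMulVec b g)
    (hab : vecMulVec a f * vecMulVec b g = vecMulVec b g * vecMulVec a f) : f ⬝ᵥ b = 0 ∧ g ⬝ᵥ a = 0 := by
  rw [vmv_mul, vmv_mul] at hab
  set s := f ⬝ᵥ b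
  set t := g ⬝ᵥ a
  have h1 : (s * t) • vecMulVec a f = t • vecMulVec b f := by
    have h2 : (s • vecMulVec a g) * vecMulVec a f = (t • vecMulVec b f) * vecMulVec a f := by rw [hab]
    rw [smul_mul_assoc, smul_mul_assoc, vmv_mul, vmv_mul, hfa, one_smul, smul_smul] at h2
    exact h2
  have h3 : s • vecMulVec a g = (s * t) • vecMulVec b g := by
    have h2 : (s • vecMulVec a g) * vecMulVec b g = (t • vecMulVec b f) * vecMulVec b g := by rw [hab]
    rw [smul_mul_assoc, smul_mul_assoc, vmv_mul, vmv_mul, hgb, one_smul, smul_smul, mul_comm t] at h2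
    exact h2
  have h4 : (s * t) • (vecMulVec a f - vecMulVec b g) = 0 := by
    rw [smul_sub, h1, ← h3, hab, sub_self]
  have h5 : s * t = 0 := (smul_eq_zero.1 h4).resolve_right (sub_ne_zero.2 hne)
  rw [h5, zero_smul] at h1 h3
  refine ⟨?_, ?_⟩
  · exact (smul_eq_zero.1 h3).resolve_right (vecMulVec_ne_zero (ne_zero_left hfa) (ne_zero_right hgb))
  · exact (smul_eq_zero.1 h1.symm).resolve_right (vecMulVec_ne_zero (ne_zero_left hgb) (ne_zero_right hfa))

/-- the element -/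
def el (w : F) (a f : Fin 4 → F) : Matrix (Fin 4) (Fin 4) F := w • 1 + (1 - w) • vecMulVec a f

lemma pair_comm' {w : F} (hw1 : 1 - w ≠ 0) {a f b g : Fin 4 → F} (hfa : f ⬝ᵥ a = 1) (hgb : g ⬝ᵥ b = 1)
    (hne : el w a f ≠ el w b g)
    (hab : el w a f * el w b g = el w b g * el w a f) : f ⬝ᵥ b = 0 ∧ g ⬝ᵥ a = 0 := by
  apply pair_comm hfa hgb
  · intro h
    exact hne (by rw [el, el, h])
  · unfold el at hab
    have h1 : ((1 - w) * (1 - w)) • (vecMulVec a f * vecMulVec b g - vecMulVec b g * vecMulVec a f) = 0 := by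
      have h0 := sub_eq_zero.2 hab
      rw [← h0]
      simp only [add_mul, mul_add, smul_mul_assoc, mul_smul_comm, one_mul, mul_one]
      module
    exact sub_eq_zero.1 ((smul_eq_zero.1 h1).resolve_left (mul_ne_zero hw1 hw1))

lemma pair_braid {w : F} (hw : w ^ 2 + w + 1 = 0) (hw1 : 1 - w ≠ 0) {a f b g : Fin 4 → F}
    (hfa : f ⬝ᵥ a = 1) (hgb : g ⬝ᵥ b = 1) (hne : el w a f ≠ el w b g)
    (hab : el w a f * el w b g * el w a f = el w b g * el w a f * el w b g) :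
    3 * ((f ⬝ᵥ b) * (g ⬝ᵥ a)) = 1 := by
  have hne' : vecMulVec a f ≠ vecMulVec b g := fun h => hne (by rw [el, el, h])
  have hw0 : w ≠ 0 := by rintro rfl; simp at hw
  unfold el at hab
  have e1 : vecMulVec a f * vecMulVec a f = vecMulVec a f := by rw [vmv_mul, hfa, one_smul]
  have e2 : vecMulVec b g * vecMulVec b g = vecMulVec b g := by rw [vmv_mul, hgb, one_smul]
  have e3 : vecMulVec a f * vecMulVec b g * vecMulVec a f = ((f ⬝ᵥ b) * (g ⬝ᵥ a)) • vecMulVec a f := by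
    rw [vmv_mul, smul_mul_assoc, vmv_mul, smul_smul]
  have e4 : vecMulVec b g * vecMulVec a f * vecMulVec b g = ((f ⬝ᵥ b) * (g ⬝ᵥ a)) • vecMulVec b g := by
    rw [vmv_mul, smul_mul_assoc, vmv_mul, smul_smul, mul_comm]
  set c := (f ⬝ᵥ b) * (g ⬝ᵥ a)
  set E := vecMulVec a f
  set E' := vecMulVec b g
  have h1 : ((1 - w) * w * (1 - 3 * c)) • (E - E') = 0 := by
    have h2 : ((1 - w) * w * (1 - 3 * c)) = (1 - w) * (w ^ 2 + w * (1 - w) + (1 - w) ^ 2 * c) := by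
      linear_combination (-(c * (1 - w))) * hw
    have h0 := sub_eq_zero.2 hab
    simp only [add_mul, mul_add, smul_mul_assoc, mul_smul_comm, one_mul, mul_one, e1, e2, e3, e4] at h0
    rw [h2, ← h0]
    module
  have h3 := (smul_eq_zero.1 h1).resolve_right (sub_ne_zero.2 hne')
  have h4 := (mul_eq_zero.1 h3).resolve_left (mul_ne_zero hw1 hw0)
  linear_combination -h4

/-- rescaling -/
lemma rescale {a f g : Fin 4 → F} (hga : g ⬝ᵥ a ≠ 0) (w : F) (hfa : f ⬝ᵥ a = 1) :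
    ∃ a' f' : Fin 4 → F, f' ⬝ᵥ a' = 1 ∧ el w a' f' = el w a f ∧ g ⬝ᵥ a' = 1 := by
  refine ⟨(g ⬝ᵥ a)⁻¹ • a, (g ⬝ᵥ a) • f, ?_, ?_, ?_⟩
  · rw [dotProduct_smul, smul_dotProduct, smul_smul, inv_mul_cancel₀ hga, one_smul, hfa]
  · unfold el
    congr 2
    rw [smul_vecMulVec, vecMulVec_smul, smul_smul, inv_mul_cancel₀ hga, one_smul]
  · rw [dotProduct_smul, smul_eq_mul, inv_mul_cancel₀ hga]

/-- the Gram matrix -/
def Gm (t : F) : Matrix (Fin 4) (Fin 4) F := !![1, 1, 0, 0; t, 1, 1, 0; 0, t, 1, 1; 0, 0, t, 1]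

/-- the form -/
def Hm (F : Type*) [Field F] : Matrix (Fin 4) (Fin 4) F := !![1, 1, 0, 0; 1, 3, 3, 0; 0, 3, 9, 9; 0, 0, 9, 27]

lemma det_Gm {t : F} (ht : 3 * t = 1) : 9 * (Gm t).det = 1 := by
  rw [Gm, Matrix.det_succ_row_zero]
  simp [Fin.sum_univ_succ, Matrix.det_fin_three, Fin.succAbove]
  linear_combination (-9 + 3 * t + 1) * ht

lemma det_Hm : (Hm F).det = 81 := by
  rw [Hm, Matrix.det_succ_row_zero]
  simp [Fin.sum_univ_succ, Matrix.det_fin_three, Fin.succAbove]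
  norm_num

lemma Hm_symm : (Hm F)ᵀ = Hm F := by
  ext i j
  fin_cases i <;> fin_cases j <;> simp [Hm]

/-- scaling factors -/
def lam (F : Type*) [Field F] : Fin 4 → F := ![1, 3, 9, 27]

lemma Hm_row {t : F} (ht : 3 * t = 1) (i : Fin 4) : Hm F i = lam F i • Gm t i := by
  funext j
  fin_cases i <;> fin_cases j <;> simp [Hm, Gm, lam]
  · linear_combination -ht
  · linear_combination -3 * ht
  · linear_combination -9 * ht

/-- the matrices in the good basis -/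
def Nm (t : F) (i : Fin 4) : Matrix (Fin 4) (Fin 4) F := vecMulVec (Pi.single i 1) (Gm t i)

lemma Nm_sq (t : F) (i : Fin 4) : Nm t i * Nm t i = Nm t i := by
  rw [Nm, vmv_mul]
  have : Gm t i ⬝ᵥ Pi.single i 1 = 1 := by
    rw [dotProduct_single_one]
    fin_cases i <;> simp [Gm]
  rw [this, one_smul]

lemma Hm_mul_Nm {t : F} (ht : 3 * t = 1) (i : Fin 4) : Hm F * Nm t i = (Nm t i)ᵀ * Hm F := by
  rw [Nm, Matrix.mul_vecMulVec, Matrix.transpose_vecMulVec, Matrix.vecMulVec_mul]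
  have h1 : Hm F *ᵥ Pi.single i 1 = Hm F i := by
    rw [Matrix.mulVec_single_one]
    funext j
    change (Hm F)ᵀ i j = _
    rw [Hm_symm]
  have h2 : Pi.single i 1 ᵥ* Hm F = Hm F i := by
    rw [Matrix.single_one_vecMul]
    rfl
  rw [h1, h2, Hm_row ht, smul_vecMulVec, vecMulVec_smul]

lemma map_Nm (σ : F →+* F) {t : F} (ht : 3 * t = 1) (i : Fin 4) : (Nm t i).map σ = Nm t i := by
  have h3 : (3 : F) ≠ 0 := left_ne_zero_of_mul_eq_one ht
  have hσ : σ t = t := by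
    have h1 := congrArg σ ht
    rw [map_mul, map_one, map_ofNat] at h1
    have h2 : 3 * (σ t - t) = 0 := by linear_combination h1 - ht
    exact sub_eq_zero.1 ((mul_eq_zero.1 h2).resolve_left h3)
  ext j k
  rw [Matrix.map_apply, Nm, vecMulVec_apply, map_mul]
  congr 1
  · by_cases h : j = i
    · subst h; simp
    · simp [Pi.single_eq_of_ne h]
  · fin_cases i <;> fin_cases k <;> simp [Gm, hσ]

lemma map_el (σ : F →+* F) {t : F} (ht : 3 * t = 1) (w : F) (i : Fin 4) :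
    (w • (1 : Matrix (Fin 4) (Fin 4) F) + (1 - w) • Nm t i).map σ = σ w • 1 + (1 - σ w) • Nm t i := by
  rw [Matrix.map_add σ (map_add σ), Matrix.map_smul' σ w _ (map_mul σ), Matrix.map_smul' σ (1 - w) _ (map_mul σ),
    map_Nm σ ht, Matrix.map_one σ (map_zero σ) (map_one σ), map_sub, map_one]

lemma el_mul {t : F} {w : F} (hw : w ^ 2 + w + 1 = 0) (i : Fin 4) :
    (w • (1 : Matrix (Fin 4) (Fin 4) F) + (1 - w) • Nm t i) * (w ^ 2 • 1 + (1 - w ^ 2) • Nm t i) = 1 := by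
  have h1 := Nm_sq t i
  have h3 : w ^ 3 = 1 := by linear_combination (w - 1) * hw
  have : (w • (1 : Matrix (Fin 4) (Fin 4) F) + (1 - w) • Nm t i) * (w ^ 2 • 1 + (1 - w ^ 2) • Nm t i) =
      w ^ 3 • 1 + (1 - w ^ 3) • Nm t i := by
    simp only [add_mul, mul_add, smul_mul_assoc, mul_smul_comm, one_mul, mul_one, h1]
    module
  rw [this, h3]
  simp

/-- the basis -/
lemma exists_basis {w : F} (hw : w ^ 2 + w + 1 = 0) (hw1 : 1 - w ≠ 0) (X : Fin 4 → Matrix (Fin 4) (Fin 4) F)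
    (hsh : ∀ i, Sh w (X i)) (hinj : Function.Injective X)
    (h01 : X 0 * X 1 * X 0 = X 1 * X 0 * X 1) (h12 : X 1 * X 2 * X 1 = X 2 * X 1 * X 2)
    (h23 : X 2 * X 3 * X 2 = X 3 * X 2 * X 3)
    (h02 : X 0 * X 2 = X 2 * X 0) (h03 : X 0 * X 3 = X 3 * X 0) (h13 : X 1 * X 3 = X 3 * X 1) :
    ∃ (t : F) (G : Matrix (Fin 4) (Fin 4) F), 3 * t = 1 ∧ IsUnit G.det ∧
      ∀ i, X i * G = G * (w • 1 + (1 - w) • Nm t i) := by
  obtain ⟨a0, f0, hf0, hX0⟩ := hsh 0
  obtain ⟨b1, g1, hg1, hX1⟩ := hsh 1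
  obtain ⟨b2, g2, hg2, hX2⟩ := hsh 2
  obtain ⟨b3, g3, hg3, hX3⟩ := hsh 3
  change X 0 = el w a0 f0 at hX0
  change X 1 = el w b1 g1 at hX1
  change X 2 = el w b2 g2 at hX2
  change X 3 = el w b3 g3 at hX3
  have n01 : X 0 ≠ X 1 := fun h => absurd (hinj h) (by decide)
  have n02 : X 0 ≠ X 2 := fun h => absurd (hinj h) (by decide)
  have n03 : X 0 ≠ X 3 := fun h => absurd (hinj h) (by decide)
  have n12 : X 1 ≠ X 2 := fun h => absurd (hinj h) (by decide)
  have n13 : X 1 ≠ X 3 := fun h => absurd (hinj h) (by decide)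
  have n23 : X 2 ≠ X 3 := fun h => absurd (hinj h) (by decide)
  -- rescale
  have ne_of : ∀ {s r : F}, 3 * (s * r) = 1 → s ≠ 0 := by
    rintro s r h rfl
    simp at h
  have k1 := pair_braid hw hw1 hf0 hg1 (by rw [← hX0, ← hX1]; exact n01) (by rw [← hX0, ← hX1]; exact h01)
  obtain ⟨a1, f1, hf1, he1, hp1⟩ := rescale (ne_of k1) w hg1
  rw [← he1] at hX1
  have k2 := pair_braid hw hw1 hf1 hg2 (by rw [← hX1, ← hX2]; exact n12) (by rw [← hX1, ← hX2]; exact h12)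
  obtain ⟨a2, f2, hf2, he2, hp2⟩ := rescale (ne_of k2) w hg2
  rw [← he2] at hX2
  have k3 := pair_braid hw hw1 hf2 hg3 (by rw [← hX2, ← hX3]; exact n23) (by rw [← hX2, ← hX3]; exact h23)
  obtain ⟨a3, f3, hf3, he3, hp3⟩ := rescale (ne_of k3) w hg3
  rw [← he3] at hX3
  have q1 := pair_braid hw hw1 hf0 hf1 (by rw [← hX0, ← hX1]; exact n01) (by rw [← hX0, ← hX1]; exact h01)
  have q2 := pair_braid hw hw1 hf1 hf2 (by rw [← hX1, ← hX2]; exact n12) (by rw [← hX1, ← hX2]; exact h12)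
  have q3 := pair_braid hw hw1 hf2 hf3 (by rw [← hX2, ← hX3]; exact n23) (by rw [← hX2, ← hX3]; exact h23)
  have z02 := pair_comm' hw1 hf0 hf2 (by rw [← hX0, ← hX2]; exact n02) (by rw [← hX0, ← hX2]; exact h02)
  have z03 := pair_comm' hw1 hf0 hf3 (by rw [← hX0, ← hX3]; exact n03) (by rw [← hX0, ← hX3]; exact h03)
  have z13 := pair_comm' hw1 hf1 hf3 (by rw [← hX1, ← hX3]; exact n13) (by rw [← hX1, ← hX3]; exact h13)
  rw [hp1, one_mul] at q1
  rw [hp2, one_mul] at q2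
  rw [hp3, one_mul] at q3
  have h3 : (3 : F) ≠ 0 := left_ne_zero_of_mul_eq_one q1
  set t := f1 ⬝ᵥ a0 with ht
  have t2 : f2 ⬝ᵥ a1 = t := mul_left_cancel₀ h3 (by rw [q1, q2])
  have t3 : f3 ⬝ᵥ a2 = t := mul_left_cancel₀ h3 (by rw [q1, q3])
  let a : Fin 4 → Fin 4 → F := ![a0, a1, a2, a3]
  let f : Fin 4 → Fin 4 → F := ![f0, f1, f2, f3]
  let G : Matrix (Fin 4) (Fin 4) F := (Matrix.of a)ᵀ
  let R : Matrix (Fin 4) (Fin 4) F := Matrix.of f
  have hfa : ∀ i j, f i ⬝ᵥ a j = Gm t i j := by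
    intro i j
    fin_cases i <;> fin_cases j
    · exact hf0
    · exact hp1
    · exact z02.1
    · exact z03.1
    · exact ht.symm
    · exact hf1
    · exact hp2
    · exact z13.1
    · exact z02.2
    · exact t2
    · exact hf2
    · exact hp3
    · exact z03.2
    · exact z13.2
    · exact t3
    · exact hf3
  have hRG : R * G = Gm t := by
    ext i j
    rw [Matrix.mul_apply]
    exact hfa i j
  refine ⟨t, G, q1, ?_, ?_⟩
  · rw [isUnit_iff_ne_zero]
    intro h0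
    have h4 := congrArg Matrix.det hRG
    rw [Matrix.det_mul, h0, mul_zero] at h4
    have h5 := det_Gm q1
    rw [← h4, mul_zero] at h5
    exact zero_ne_one h5
  · have hX : ∀ i, X i = el w (a i) (f i) := by
      intro i
      fin_cases i
      · exact hX0
      · exact hX1
      · exact hX2
      · exact hX3
    intro i
    rw [hX i, el, add_mul, mul_add, smul_mul_assoc, one_mul, mul_smul_comm, mul_one, smul_mul_assoc, mul_smul_comm]
    congr 2
    rw [Nm, Matrix.mul_vecMulVec, Matrix.vecMulVec_mul]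
    have e1 : f i ᵥ* G = Gm t i := by
      funext j
      exact hfa i j
    have e2 : G *ᵥ Pi.single i 1 = a i := by
      rw [Matrix.mulVec_single_one]
      rfl
    rw [e1, e2]

/-- conjugation of a representation -/
noncomputable def cj {Γ : Type*} [Group Γ] (ρ : Γ →* Matrix (Fin 4) (Fin 4) F) (G : Matrix (Fin 4) (Fin 4) F) (hG : IsUnit G.det) :
    Γ →* Matrix (Fin 4) (Fin 4) F where
  toFun g := G⁻¹ * ρ g * G
  map_one' := by rw [map_one, mul_one, Matrix.nonsing_inv_mul _ hG]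
  map_mul' x y := by
    rw [map_mul]
    calc G⁻¹ * (ρ x * ρ y) * G = G⁻¹ * ρ x * 1 * ρ y * G := by simp only [mul_assoc, one_mul]
      _ = G⁻¹ * ρ x * G * (G⁻¹ * ρ y * G) := by
        rw [← Matrix.mul_nonsing_inv _ hG]; simp only [mul_assoc]

lemma trace_cj {Γ : Type*} [Group Γ] (ρ : Γ →* Matrix (Fin 4) (Fin 4) F) (G : Matrix (Fin 4) (Fin 4) F)
    (hG : IsUnit G.det) (g : Γ) : (cj ρ G hG g).trace = (ρ g).trace := by
  change (G⁻¹ * ρ g * G).trace = _
  rw [Matrix.trace_mul_comm, ← mul_assoc, Matrix.mul_nonsing_inv _ hG, one_mul]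

/-- The traces. -/
theorem traces_of_gens (p : ℕ) [Fact p.Prime] [CharP F p] (hp3 : p ≠ 3) {Γ : Type*} [Group Γ]
    (ρ : Γ →* Matrix (Fin 4) (Fin 4) F) (x : Fin 4 → Γ) (hgen : Subgroup.closure (Set.range x) = ⊤)
    {w : F} (hw : w ^ 2 + w + 1 = 0) (hsh : ∀ i, Sh w (ρ (x i))) (hinj : Function.Injective fun i => ρ (x i))
    (h01 : x 0 * x 1 * x 0 = x 1 * x 0 * x 1) (h12 : x 1 * x 2 * x 1 = x 2 * x 1 * x 2)
    (h23 : x 2 * x 3 * x 2 = x 3 * x 2 * x 3)
    (h02 : x 0 * x 2 = x 2 * x 0) (h03 : x 0 * x 3 = x 3 * x 0) (h13 : x 1 * x 3 = x 3 * x 1) :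
    (p % 3 = 1 → ∀ g, (ρ g).trace ^ p = (ρ g).trace) ∧ (p % 3 = 2 → ∀ g, (ρ g).trace ^ p = (ρ g⁻¹).trace) := by
  have h3 : (3 : F) ≠ 0 := by
    have : ((3 : ℕ) : F) ≠ 0 := by
      rw [Ne, CharP.cast_eq_zero_iff F p]
      intro h
      exact hp3 ((Nat.prime_dvd_prime_iff_eq (Fact.out) Nat.prime_three).1 h)
    exact_mod_cast this
  have hw1 : 1 - w ≠ 0 := by
    intro h
    have : w = 1 := (sub_eq_zero.1 h).symm
    rw [this] at hw
    apply h3
    linear_combination hw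
  have hw3 : w ^ 3 = 1 := by linear_combination (w - 1) * hw
  obtain ⟨t, G, ht, hG, hXG⟩ := exists_basis hw hw1 (fun i => ρ (x i)) hsh hinj
    (by simp only [← map_mul, h01]) (by simp only [← map_mul, h12]) (by simp only [← map_mul, h23])
    (by simp only [← map_mul, h02]) (by simp only [← map_mul, h03]) (by simp only [← map_mul, h13])
  set ρ' := cj ρ G hG with hρ'
  have hx : ∀ i, ρ' (x i) = w • 1 + (1 - w) • Nm t i := by
    intro i
    change G⁻¹ * ρ (x i) * G = _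
    rw [mul_assoc, hXG i, ← mul_assoc, Matrix.nonsing_inv_mul _ hG, one_mul]
  have hxi : ∀ i, ρ' (x i)⁻¹ = w ^ 2 • 1 + (1 - w ^ 2) • Nm t i := by
    intro i
    have h1 : ρ' (x i)⁻¹ * ρ' (x i) = 1 := by rw [← map_mul, inv_mul_cancel, map_one]
    rw [hx i] at h1
    calc ρ' (x i)⁻¹ = ρ' (x i)⁻¹ * ((w • (1 : Matrix (Fin 4) (Fin 4) F) + (1 - w) • Nm t i) *
          (w ^ 2 • 1 + (1 - w ^ 2) • Nm t i)) := by rw [el_mul hw, mul_one]
      _ = _ := by rw [← mul_assoc, h1, one_mul]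
  let σ : F →+* F := frobenius F p
  have hσ : ∀ c : F, σ c = c ^ p := fun c => frobenius_def p c
  let ρ₁ : Γ →* Matrix (Fin 4) (Fin 4) F := (σ.mapMatrix.toMonoidHom).comp ρ'
  have hρ₁ : ∀ g, ρ₁ g = (ρ' g).map σ := fun g => rfl
  have htr₁ : ∀ g, (ρ₁ g).trace = (ρ g).trace ^ p := by
    intro g
    rw [hρ₁, ← trace_cj ρ G hG g, ← hσ]
    exact (AddMonoidHom.map_trace σ.toAddMonoidHom _).symm
  constructor
  · intro hp g
    have hwp : w ^ p = w := by
      rw [← Nat.div_add_mod p 3, hp, pow_add, pow_mul, hw3, one_pow, one_mul, pow_one]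
    have key : ρ₁ = ρ' := by
      apply MonoidHom.eq_of_eqOn_top
      rw [← hgen]
      apply MonoidHom.eqOn_closure
      rintro _ ⟨i, rfl⟩
      rw [hρ₁, hx, map_el σ ht, hσ, hwp]
    rw [← htr₁, key, trace_cj]
  · intro hp g
    have hwp : w ^ p = w ^ 2 := by
      rw [← Nat.div_add_mod p 3, hp, pow_add, pow_mul, hw3, one_pow, one_mul]
    have hH : IsUnit (Hm F).det := by
      rw [det_Hm, isUnit_iff_ne_zero, show (81 : F) = 3 ^ 4 by norm_num]
      exact pow_ne_zero _ h3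
    let ρ₃ : Γ →* Matrix (Fin 4) (Fin 4) F :=
      { toFun := fun g => (ρ' g⁻¹)ᵀ
        map_one' := by rw [inv_one, map_one, Matrix.transpose_one]
        map_mul' := fun a b => by rw [_root_.mul_inv_rev, map_mul, Matrix.transpose_mul] }
    have key : ρ₁ = cj ρ₃ (Hm F) hH := by
      apply MonoidHom.eq_of_eqOn_top
      rw [← hgen]
      apply MonoidHom.eqOn_closure
      rintro _ ⟨i, rfl⟩
      change ρ₁ (x i) = (Hm F)⁻¹ * (ρ' (x i)⁻¹)ᵀ * Hm F
      rw [hρ₁, hx, hxi, map_el σ ht, hσ, hwp, Matrix.transpose_add, Matrix.transpose_smul, Matrix.transpose_smul,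
        Matrix.transpose_one, mul_assoc, add_mul, smul_mul_assoc, smul_mul_assoc, one_mul, ← Hm_mul_Nm ht]
      rw [show w ^ 2 • Hm F + (1 - w ^ 2) • (Hm F * Nm t i) = Hm F * (w ^ 2 • 1 + (1 - w ^ 2) • Nm t i) by
        rw [mul_add, mul_smul_comm, mul_smul_comm, mul_one]]
      rw [← mul_assoc, Matrix.nonsing_inv_mul _ hH, one_mul]
    rw [← htr₁, key, trace_cj]
    change ((ρ' g⁻¹)ᵀ).trace = _
    rw [Matrix.trace_transpose, trace_cj]

end Cfsg.Agent.H906.U42
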