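import Cfsg.Agent.H906.U42Gen
import Cfsg.Agent.H906.U42Rep
import Cfsg.Agent.H908.CovFour

/-!
# Traces of covers of `PSU_4(2)` in dimension four, characteristic at least five
-/

set_option autoImplicit false

namespace Cfsg.Agent.H906.U42

open Matrix Cfsg Cfsg.Geo
open Cfsg.Agent.S0822 (gen Sp)
open Cfsg.Agent.Lib.FieldThree (F3)
open scoped MatrixGroups commutatorElement

variable {F : Type*} [Field F] {P : Subgroup (GL (Fin 4) F)}

/-- a perfect group is generated by lifts of generators of a central quotient -/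
lemma closure_eq_top {T : Type*} [Group T] {ψ : P →* T} (h : H908.Cov P ψ) {N : Subgroup P} (hN : N.map ψ = ⊤) :
    N = ⊤ := by
  have key : ∀ g : P, ∃ n ∈ N, ∃ z : P, ψ z = 1 ∧ g = n * z := by
    intro g
    have h1 : ψ g ∈ N.map ψ := by rw [hN]; trivial
    obtain ⟨n, hn, hng⟩ := h1
    exact ⟨n, hn, n⁻¹ * g, by rw [map_mul, map_inv, hng, inv_mul_cancel], by group⟩
  have h2 : commutator P ≤ N := by
    rw [commutator_def, Subgroup.commutator_le]
    rintro a - b -
    obtain ⟨n, hn, z, hz, rfl⟩ := key a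
    obtain ⟨m, hm, y, hy, rfl⟩ := key b
    have hz' := h.central hz
    have hy' := h.central hy
    have hzi : ψ z⁻¹ = 1 := by rw [map_inv, hz, inv_one]
    have : ⁅n * z, m * y⁆ = ⁅n, m⁆ := by
      rw [commutatorElement_def, commutatorElement_def, _root_.mul_inv_rev, _root_.mul_inv_rev]
      calc n * z * (m * y) * (z⁻¹ * n⁻¹) * (y⁻¹ * m⁻¹)
          = n * (z * (m * y)) * z⁻¹ * n⁻¹ * (y⁻¹ * m⁻¹) := by group
        _ = n * ((m * y) * z) * z⁻¹ * n⁻¹ * (y⁻¹ * m⁻¹) := by rw [hz' (m * y)]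
        _ = n * m * (y * n⁻¹) * y⁻¹ * m⁻¹ := by group
        _ = n * m * (n⁻¹ * y) * y⁻¹ * m⁻¹ := by rw [hy' n⁻¹]
        _ = n * m * n⁻¹ * m⁻¹ := by group
    rw [this, commutatorElement_def]
    exact N.mul_mem (N.mul_mem (N.mul_mem hn hm) (N.inv_mem hn)) (N.inv_mem hm)
  rw [h.perf] at h2
  exact top_le_iff.1 h2

lemma odd_of_cube {G : Type*} [Group G] {g : G} (h : g * g * g = 1) : Odd (orderOf g) := by
  have h1 : orderOf g ∣ 3 := orderOf_dvd_of_pow_eq_one (by rw [pow_succ, pow_two, h])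
  exact Odd.of_dvd_nat (by decide) h1

theorem main [Finite F] (p : ℕ) [Fact p.Prime] [CharP F p] (hp : 5 ≤ p)
    {ψ : P →* Cfsg.PSp 2 F3} (h : H908.Cov P ψ) :
    (p % 3 = 1 → ∀ g : P, H908.tr g ^ p = H908.tr g) ∧ (p % 3 = 2 → ∀ g : P, H908.tr g ^ p = H908.tr g⁻¹) := by
  let π : Sp →* Cfsg.PSp 2 F3 := QuotientGroup.mk' _
  have hπ : Function.Surjective π := QuotientGroup.mk'_surjective _
  have hker : ∀ s : Sp, π s = 1 ↔ s ∈ Subgroup.center Sp := fun s => QuotientGroup.eq_one_iff s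
  have cube : ∀ s : Sp, s * s * s = 1 → ∃ g : P, ψ g = π s ∧ g * g * g = 1 := by
    intro s hs
    have hs' : π s * π s * π s = 1 := by rw [← map_mul, ← map_mul, hs, map_one]
    obtain ⟨g, hg1, hg2⟩ := h.exists_lift (π s) (odd_of_cube hs')
    refine ⟨g, hg1, ?_⟩
    have h1 : orderOf (π s) ∣ 3 := orderOf_dvd_of_pow_eq_one (by rw [pow_succ, pow_two, hs'])
    rw [← hg2] at h1
    have := orderOf_dvd_iff_pow_eq_one.1 h1
    rwa [pow_succ, pow_two] at this
  have hx : ∀ i, ∃ g : P, ψ g = π (gen i) ∧ g * g * g = 1 := fun i => cube _ (gen3 i)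
  choose x hxψ hx3 using hx
  have hodd : ∀ i, Odd (orderOf (x i)) := fun i => odd_of_cube (hx3 i)
  -- braid
  have braid : ∀ i j, gen i * gen j * gen i = gen j * gen i * gen j →
      (x i * x j) * x i * (x i * x j)⁻¹ = x j := by
    intro i j hij
    apply h.conj_lift _ (hodd i) (hodd j)
    rw [map_mul, map_inv, map_mul, map_mul, hxψ, hxψ, ← map_mul, ← map_mul, ← map_inv, ← map_mul, hij]
    congr 1
    group
  have braid' : ∀ i j, gen i * gen j * gen i = gen j * gen i * gen j → x i * x j * x i = x j * x i * x j := by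
    intro i j hij
    have h1 := braid i j hij
    rw [mul_inv_eq_iff_eq_mul] at h1
    rw [h1, mul_assoc]
  have comm : ∀ i j, gen i * gen j = gen j * gen i → x i * x j = x j * x i := by
    intro i j hij
    apply h.commute_lift _ (hodd j)
    rw [hxψ, hxψ, ← map_mul, ← map_mul, hij]
  -- shape
  obtain ⟨A, hA, hA3⟩ := cube ea ea3
  obtain ⟨B, hB, hB3⟩ := cube eb eb3
  have c1 : A * x 0 = x 0 * A := h.commute_lift (by rw [hA, hxψ, ← map_mul, ← map_mul, gena]) (hodd 0)
  have c2 : B * x 0 = x 0 * B := h.commute_lift (by rw [hB, hxψ, ← map_mul, ← map_mul, genb]) (hodd 0)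
  have c3 : B * A = x 0 * (A * B) := by
    have h1 : B * A * B⁻¹ = x 0 * A := by
      apply h.conj_lift _ (odd_of_cube hA3)
      · apply odd_of_cube
        have : x 0 * A * (x 0 * A) * (x 0 * A) = (x 0 * x 0 * x 0) * (A * A * A) := by
          calc x 0 * A * (x 0 * A) * (x 0 * A) = x 0 * (A * x 0) * (A * x 0) * A := by group
            _ = x 0 * (x 0 * A) * (x 0 * A) * A := by rw [c1]
            _ = x 0 * x 0 * (A * x 0) * A * A := by group
            _ = x 0 * x 0 * (x 0 * A) * A * A := by rw [c1]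
            _ = _ := by group
        rw [this, hx3, hA3, one_mul]
      · rw [map_mul, map_mul, map_mul, map_inv, hA, hB, hxψ, ← map_mul, genab, map_mul, map_mul]
        group
    calc B * A = (B * A * B⁻¹) * B := by group
      _ = x 0 * (A * B) := by rw [h1]; group
  have hdet : ∀ g : P, (H908.mt P g).det ≠ 0 := fun g => by rw [h.det g]; exact one_ne_zero
  obtain ⟨w, hw, hs0⟩ := exists_shape p hp (H908.mt P (x 0)) (H908.mt P B) (H908.mt P A)
    (by rw [pow_succ, pow_two, ← map_mul, ← map_mul, hx3, map_one])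
    (by
      intro h0
      have : x 0 = 1 := H908.mt_injective (by rw [h0, map_one])
      have h1 := hxψ 0
      rw [this, map_one] at h1
      exact gen_zero_not_center ((hker _).1 h1.symm))
    (hdet B) (hdet A) (by rw [← map_mul, ← map_mul, c2]) (by rw [← map_mul, ← map_mul, c1])
    (by rw [← map_mul, ← map_mul, ← map_mul, c3])
  have hconj : ∀ i j, gen i * gen j * gen i = gen j * gen i * gen j → Sh w (H908.mt P (x i)) →
      Sh w (H908.mt P (x j)) := by
    intro i j hij hi
    rw [← braid i j hij, map_mul, map_mul]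
    apply hi.conj
    rw [← map_mul, mul_inv_cancel, map_one]
  have hs1 := hconj 0 1 g01 hs0
  have hs2 := hconj 1 2 g12 hs1
  have hs3 := hconj 2 3 g23 hs2
  refine traces_of_gens p (by omega) (H908.mt P) x ?_ hw ?_ ?_ (braid' 0 1 g01) (braid' 1 2 g12) (braid' 2 3 g23)
    (comm 0 2 g02) (comm 0 3 g03) (comm 1 3 g13)
  · apply closure_eq_top h
    rw [MonoidHom.map_closure]
    have h1 : ψ '' Set.range x = π '' Set.range gen := by
      ext t
      constructor
      · rintro ⟨_, ⟨i, rfl⟩, rfl⟩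
        exact ⟨gen i, ⟨i, rfl⟩, (hxψ i).symm⟩
      · rintro ⟨_, ⟨i, rfl⟩, rfl⟩
        exact ⟨x i, ⟨i, rfl⟩, hxψ i⟩
    rw [h1, ← MonoidHom.map_closure]
    have h2 : Subgroup.closure (Set.range gen) = ⊤ :=
      eq_top_of_gen fun k => Subgroup.subset_closure ⟨k, rfl⟩
    rw [h2]
    exact Subgroup.map_top_of_surjective π hπ
  · intro i
    fin_cases i
    · exact hs0
    · exact hs1
    · exact hs2
    · exact hs3
  · intro i j hij
    by_contra hne
    have h1 : x i = x j := H908.mt_injective hij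
    have h2 : π (gen i) = π (gen j) := by rw [← hxψ, ← hxψ, h1]
    apply gen_ne_mod hne
    rw [← hker, map_mul, map_inv, h2, inv_mul_cancel]

/-- **Traces of covers of `PSU_4(2)` in dimension four.** -/
theorem u42_traces {F : Type*} [Field F] [Finite F] (p : ℕ) [Fact p.Prime] [CharP F p] (hp : 5 ≤ p)
    {P : Subgroup (GL (Fin 4) F)} {K : Type*} [Field K] [Fintype K]
    (hK : Fintype.card K = 4) {φ : P →* Cfsg.PSU 4 K 2} (h : H908.Cov P φ) :
    (p % 3 = 1 → ∀ g : P, H908.tr g ^ p = H908.tr g) ∧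
      (p % 3 = 2 → ∀ g : P, H908.tr g ^ p = H908.tr g⁻¹) := by
  obtain ⟨e⟩ := Cfsg.Agent.S0822.result (F := K) (K := F3) hK rfl
  refine main p hp (ψ := e.toMonoidHom.comp φ) ⟨?_, ?_, h.perf⟩
  · exact e.surjective.comp h.surj
  · intro y
    rw [← h.ker y]
    change e (φ y) = 1 ↔ _
    rw [map_eq_one_iff e e.injective]

end Cfsg.Agent.H906.U42
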