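import Cfsg.Agent.H906.T14Core

/-!
# Cores with socle `PSL_3(4)` in degree ten
-/

set_option autoImplicit false
set_option linter.unusedSectionVars false

namespace Cfsg.Agent.H906.T14

open Cfsg Cfsg.Geo SL3Par L34 H915.LD
open scoped MatrixGroups commutatorElement Matrix

universe u v

variable {ι : Type} [Fintype ι] [DecidableEq ι] {F : Type u} [Field F] {P : Subgroup (GL ι F)}
  {K : Type v} [Field K] [Fintype K] (e : Soc P ≃* Matrix.ProjectiveSpecialLinearGroup (Fin 3) K)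

lemma eq_one_of_pow {T : Type*} [Group T] {t : T} {r s : ℕ} (hr : t ^ r = 1) (hp : r.Prime) (hs : orderOf t ∣ s)
    (hrs : ¬ r ∣ s) : t = 1 := by
  have h1 : orderOf t ∣ r := orderOf_dvd_of_pow_eq_one hr
  rcases (Nat.dvd_prime hp).1 h1 with h2 | h2
  · exact orderOf_eq_one_iff.1 h2
  · rw [h2] at hs
    exact absurd hs hrs

/-- the shape of the elements of order prime to `p` -/
theorem classify [Finite F] (p : ℕ) [hp : Fact p.Prime] [CharP F p] (hC : Core P) (hp2 : p ≠ 2)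
    (hK : Fintype.card K = 4) (h : Two (ph e)) (hnine : ∀ z ∈ (ph e).ker, z ^ 9 = 1 → z ^ 3 = 1)
    (h5 : ∀ g : P, g ^ 5 = 1 → ph e g ≠ 1 → p ≠ 5 → tr (g : GL ι F) ^ p = tr (g : GL ι F))
    (g : P) (hg : ¬ p ∣ orderOf g) :
    ∃ g' : P, ph e g = ph e g' ∧
      (((ph e g' ^ 3 = 1 ∨ ph e g' ^ 4 = 1 ∨ ph e g' ^ 5 = 1) ∧ tr (g' : GL ι F) ^ p = tr (g' : GL ι F) ∧
        tr ((g' : GL ι F)⁻¹) = tr (g' : GL ι F)) ∨
      (p ≠ 7 ∧ ph e g' ^ 7 = 1 ∧ g' ^ 7 = 1 ∧ IsConj g' (g' ^ 2))) := by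
  have hfin : Finite P := inferInstance
  have hord : orderOf (ph e g) ∣ orderOf g := orderOf_map_dvd _ _
  have four : ∀ t, ph e g = t → t ^ 4 = 1 → ∃ g' : P, ph e g = ph e g' ∧
      (((ph e g' ^ 3 = 1 ∨ ph e g' ^ 4 = 1 ∨ ph e g' ^ 5 = 1) ∧ tr (g' : GL ι F) ^ p = tr (g' : GL ι F) ∧
        tr ((g' : GL ι F)⁻¹) = tr (g' : GL ι F)) ∨
      (p ≠ 7 ∧ ph e g' ^ 7 = 1 ∧ g' ^ 7 = 1 ∧ IsConj g' (g' ^ 2))) := by
    rintro t ht ht4
    obtain ⟨g', h1, h2, h3⟩ := h.two_part hK t ht4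
    refine ⟨g', by rw [ht, h1], Or.inl ⟨Or.inr (Or.inl (by rw [h1, ht4])), tr_real p h2 h3 ?_ (by norm_num), tr_inv_real h3⟩⟩
    have hodd := hp.out.eq_two_or_odd.resolve_left hp2
    omega
  rcases pow_cases hK (ph e g) with ht | ht | ht | ht
  · by_cases hp3 : p = 3
    · have h1 := eq_one_of_pow ht Nat.prime_three hord (by rw [← hp3]; exact hg)
      exact four _ rfl (by rw [h1, one_pow])
    · obtain ⟨g', h1, h2, h3⟩ := three_part (ph_surj e) (ph_cen e) hnine hK _ ht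
      refine ⟨g', by rw [h1], Or.inl ⟨Or.inl (by rw [h1, ht]), tr_real p h2 h3 ?_ (by norm_num), tr_inv_real h3⟩⟩
      have h4 : p % 3 ≠ 0 := fun h0 => hp3 ((Nat.prime_dvd_prime_iff_eq Nat.prime_three hp.out).1 (Nat.dvd_of_mod_eq_zero h0)).symm
      omega
  · exact four _ rfl ht
  · by_cases h1 : ph e g = 1
    · exact four _ rfl (by rw [h1, one_pow])
    · have hp5 : p ≠ 5 := by
        intro hp5
        exact h1 (eq_one_of_pow ht Nat.prime_five hord (by rw [← hp5]; exact hg))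
      obtain ⟨g', h2, h3, h4⟩ := five_part (ph_surj e) (ph_cen e)
        (coprime_ker_five hK (ph_surj e) (ph_cen e) hC.commutator_top) hK _ ht
      exact ⟨g', by rw [h2], Or.inl ⟨Or.inr (Or.inr (by rw [h2, ht])), h5 g' h3 (by rw [h2]; exact h1) hp5, tr_inv_real h4⟩⟩
  · by_cases h1 : ph e g = 1
    · exact four _ rfl (by rw [h1, one_pow])
    · have hp7 : p ≠ 7 := by
        intro hp7
        exact h1 (eq_one_of_pow ht (by norm_num) hord (by rw [← hp7]; exact hg))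
      obtain ⟨g', h2, h3, h4⟩ := seven_part (ph_surj e) (ph_cen e)
        (coprime_ker_seven hK (ph_surj e) (ph_cen e) hC.commutator_top) hK _ ht
      exact ⟨g', by rw [h2], Or.inr ⟨hp7, by rw [h2, ht], h3, h4⟩⟩

/-- traces of elements of order seven -/
lemma tr_seven [Finite F] (p : ℕ) [hp : Fact p.Prime] [CharP F p] {g : P} (h7 : g ^ 7 = 1) (hc : IsConj g (g ^ 2)) :
    ((p % 7 = 1 ∨ p % 7 = 2 ∨ p % 7 = 4) → tr (g : GL ι F) ^ p = tr (g : GL ι F)) ∧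
    ((p % 7 = 3 ∨ p % 7 = 5 ∨ p % 7 = 6) → tr (g : GL ι F) ^ p = tr ((g : GL ι F)⁻¹)) := by
  have h1 := tr_pow_char p (g : GL ι F) 1
  rw [pow_one] at h1
  have h2 : g ^ p = g ^ (p % 7) := by
    conv_lhs => rw [← Nat.div_add_mod p 7, pow_add, pow_mul, h7, one_pow, one_mul]
  have h3 : ((g : GL ι F)) ^ p = ((g ^ p : P) : GL ι F) := rfl
  rw [h3, h2] at h1
  obtain ⟨s, hs⟩ := isConj_iff.1 hc
  have cc : ∀ k : ℕ, IsConj (g ^ k) (g ^ (2 * k)) := fun k =>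
    isConj_iff.2 ⟨s, by rw [← conj_pow, hs, ← pow_mul]⟩
  have m7 : ∀ k : ℕ, g ^ (k % 7) = g ^ k := by
    intro k
    conv_rhs => rw [← Nat.div_add_mod k 7, pow_add, pow_mul, h7, one_pow, one_mul]
  have t2 : tr ((g ^ 2 : P) : GL ι F) = tr (g : GL ι F) := (tr_of_isConj hc).symm
  have t4 : tr ((g ^ 4 : P) : GL ι F) = tr (g : GL ι F) := by
    rw [← t2]
    exact (tr_of_isConj (cc 2)).symm
  have t63 : tr ((g ^ 3 : P) : GL ι F) = tr ((g ^ 6 : P) : GL ι F) := tr_of_isConj (cc 3)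
  have t53 : tr ((g ^ 5 : P) : GL ι F) = tr ((g ^ 3 : P) : GL ι F) := by
    have := tr_of_isConj (cc 5)
    rw [← m7 (2 * 5)] at this
    exact this
  have hinv : ((g : GL ι F)⁻¹) = ((g ^ 6 : P) : GL ι F) := by
    have : g⁻¹ = g ^ 6 := by rw [inv_eq_iff_mul_eq_one, ← pow_succ', h7]
    rw [← this]; rfl
  constructor
  · rintro (h | h | h) <;> rw [h] at h1
    · rw [← h1, pow_one]
    · rw [← h1, t2]
    · rw [← h1, t4]
  · rintro (h | h | h) <;> rw [h] at h1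
    · rw [← h1, hinv, t63]
    · rw [← h1, hinv, t53, t63]
    · rw [← h1, hinv]

/-- **Cores with socle `PSL_3(4)` in degree ten.** -/
theorem l34_ten [Finite F] (p : ℕ) [hp : Fact p.Prime] [CharP F p] (hC : Core P) (hp2 : p ≠ 2)
    (hK : Fintype.card K = 4) (hn : Fintype.card ι = 10)
    (e : Soc P ≃* Matrix.ProjectiveSpecialLinearGroup (Fin 3) K) :
    ((p % 7 = 1 ∨ p % 7 = 2 ∨ p % 7 = 4) → Fr P p) ∧ ((p % 7 = 3 ∨ p % 7 = 5 ∨ p % 7 = 6) → Cj P p) ∧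
      (p = 7 → SD P ∧ Fr P 7) := by
  have hfin : Finite P := inferInstance
  have hne := hC.nonempty
  have h := two_of e hC (by rw [hn])
  have hcop := coprime_ker_five hK (ph_surj e) (ph_cen e) hC.commutator_top
  have hz2 : ∀ z ∈ (ph e).ker, z ^ 2 = 1 := by
    intro z hz
    have h1 := ph_pow e hC hz
    rw [hn] at h1
    have h2 : orderOf z ∣ Nat.card (ph e).ker := by
      have h3 : orderOf (⟨z, hz⟩ : (ph e).ker) ∣ Nat.card (ph e).ker := orderOf_dvd_natCard _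
      rwa [← Subgroup.orderOf_coe] at h3
    have h3 : orderOf z ∣ 10 := orderOf_dvd_of_pow_eq_one h1
    have h4 : (orderOf z).Coprime 5 := Nat.Coprime.coprime_dvd_left h2 hcop
    rw [← orderOf_dvd_iff_pow_eq_one]
    have h5 : orderOf z ∣ 5 * 2 := by norm_num; exact h3
    exact h4.dvd_of_dvd_mul_left h5
  have h2Ω := two_ne (F := F) p hp2 (AlgebraicClosure F)
  have h5 : ∀ g : P, g ^ 5 = 1 → ph e g ≠ 1 → p ≠ 5 → tr (g : GL ι F) ^ p = tr (g : GL ι F) := by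
    intro g hg5 hg1 _
    have h6 := five_trace_ten h hK (rep P) rep_injective (fun z hz => rep_scalar e hz) h2Ω hcop
      (by rw [Module.finrank_fintype_fun_eq_card, hn]) hg5 hg1
    rw [trace_rep, map_eq_zero] at h6
    rw [h6, zero_pow hp.out.ne_zero]
  have hcl := classify e p hC hp2 hK h (fun z hz h9 => by
    have h1 : z ^ 9 = z := by
      calc z ^ 9 = (z ^ 2) ^ 4 * z := by rw [← pow_mul, ← pow_succ]
        _ = z := by rw [hz2 z hz, one_pow, one_mul]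
    rw [h1] at h9
    rw [h9, one_pow]) h5
  have hodd : p % 2 = 1 := hp.out.eq_two_or_odd.resolve_left hp2
  -- signs
  have sgn : ∀ z ∈ (ph e).ker, ∀ c : F, ((z : GL ι F) : Matrix ι ι F) = c • 1 → c ^ p = c ∧ c⁻¹ = c := by
    intro z hz c hc
    have h1 := hz2 z hz
    have h3 : (((z ^ 2 : P) : GL ι F) : Matrix ι ι F) = (c ^ 2) • 1 := by
      rw [Subgroup.coe_pow, Units.val_pow_eq_pow_val, hc, smul_pow, one_pow]
    rw [h1] at h3
    have h4 : (c ^ 2 : F) = 1 := by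
      apply smul_ext (ι := ι)
      rw [← h3, one_smul]
      rfl
    constructor
    · have h5 : p = 2 * (p / 2) + 1 := by omega
      rw [h5, pow_succ, pow_mul, h4, one_pow, one_mul]
    · exact inv_eq_of_mul_eq_one_right (by rw [← pow_two, h4])
  -- real elements
  have real : ∀ g : P, ¬ p ∣ orderOf g → (p % 7 = 0 ∨ ∃ g', ph e g = ph e g' ∧ tr (g' : GL ι F) ^ p = tr (g' : GL ι F) ∧
        tr ((g' : GL ι F)⁻¹) = tr (g' : GL ι F)) → tr (g : GL ι F) ^ p = tr (g : GL ι F) ∧ tr ((g : GL ι F)⁻¹) = tr (g : GL ι F) := by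
    intro g hg hor
    have hex : ∃ g', ph e g = ph e g' ∧ tr (g' : GL ι F) ^ p = tr (g' : GL ι F) ∧
        tr ((g' : GL ι F)⁻¹) = tr (g' : GL ι F) := by
      rcases hor with h0 | h0
      · obtain ⟨g', h1, h2 | h2⟩ := hcl g hg
        · exact ⟨g', h1, h2.2⟩
        · exfalso
          apply h2.1
          exact ((Nat.prime_dvd_prime_iff_eq (by norm_num) hp.out).1 (Nat.dvd_of_mod_eq_zero h0)).symm
      · exact h0
    obtain ⟨g', h1, h2, h3⟩ := hex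
    obtain ⟨z, hz, c, hc0, hc, t1, t2⟩ := tr_twist e h1
    obtain ⟨s1, s2⟩ := sgn z hz c hc
    rw [t1, t2, s2, h3, mul_pow, s1, h2]
    exact ⟨rfl, rfl⟩
  refine ⟨?_, ?_, ?_⟩
  · intro h7
    apply Fr.of_reg' p
    intro g hg hord
    have hord' : ¬ p ∣ orderOf (⟨g, hg⟩ : P) := by rwa [← Subgroup.orderOf_coe]
    obtain ⟨g', h1, h2 | h2⟩ := hcl ⟨g, hg⟩ hord'
    · exact (real ⟨g, hg⟩ hord' (Or.inr ⟨g', h1, h2.2⟩)).1
    · obtain ⟨z, hz, c, hc0, hc, t1, t2⟩ := tr_twist e h1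
      obtain ⟨s1, s2⟩ := sgn z hz c hc
      change tr ((⟨g, hg⟩ : P) : GL ι F) ^ p = tr ((⟨g, hg⟩ : P) : GL ι F)
      rw [t1, mul_pow, s1, (tr_seven p h2.2.2.1 h2.2.2.2).1 h7]
  · intro h7
    apply Cj.of_reg' p
    intro g hg hord
    have hord' : ¬ p ∣ orderOf (⟨g, hg⟩ : P) := by rwa [← Subgroup.orderOf_coe]
    obtain ⟨g', h1, h2 | h2⟩ := hcl ⟨g, hg⟩ hord'
    · have h3 := real ⟨g, hg⟩ hord' (Or.inr ⟨g', h1, h2.2⟩)
      change tr ((⟨g, hg⟩ : P) : GL ι F) ^ p = tr ((⟨g, hg⟩ : P) : GL ι F)⁻¹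
      rw [h3.1, h3.2]
    · obtain ⟨z, hz, c, hc0, hc, t1, t2⟩ := tr_twist e h1
      obtain ⟨s1, s2⟩ := sgn z hz c hc
      change tr ((⟨g, hg⟩ : P) : GL ι F) ^ p = tr ((⟨g, hg⟩ : P) : GL ι F)⁻¹
      rw [t1, t2, mul_pow, s1, s2, (tr_seven p h2.2.2.1 h2.2.2.2).2 h7]
  · rintro rfl
    constructor
    · apply SD.of_reg 7
      intro g hg hord
      have hord' : ¬ 7 ∣ orderOf (⟨g, hg⟩ : P) := by rwa [← Subgroup.orderOf_coe]
      exact (real ⟨g, hg⟩ hord' (Or.inl rfl)).2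
    · apply Fr.of_reg' 7
      intro g hg hord
      have hord' : ¬ 7 ∣ orderOf (⟨g, hg⟩ : P) := by rwa [← Subgroup.orderOf_coe]
      exact (real ⟨g, hg⟩ hord' (Or.inl rfl)).1

end Cfsg.Agent.H906.T14
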