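import Cfsg.Agent.H906.E9T
import Cfsg.Agent.H915.LD

/-!
# Covers of `PSL_3(4)` with centre of order prime to three have degree at least eight
-/

set_option autoImplicit false
set_option linter.unusedSectionVars false

namespace Cfsg.Agent.H906.T14

open Cfsg Cfsg.Geo SL3Par L34 H915.LD
open scoped MatrixGroups commutatorElement Matrix

universe u v

lemma coprime_orderOf {L : Type*} [Group L] {k n : ℕ} (hk : k.Coprime n) {g : L} (hg : g ^ n = 1) :
    k.Coprime (orderOf g) :=
  Nat.Coprime.coprime_dvd_right (orderOf_dvd_of_pow_eq_one hg) hk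

theorem eight_le_card {K : Type*} [Field K] [Fintype K] (hK : Fintype.card K = 4) {F : Type u} [Field F]
    (h3 : (3 : F) ≠ 0) {ι : Type v} [Fintype ι] [DecidableEq ι] {L : Type*} [Group L] [Finite L]
    (π : L →* Matrix.ProjectiveSpecialLinearGroup (Fin 3) K) (hs : Function.Surjective π)
    (hc : π.ker ≤ Subgroup.center L) (hcop : (Nat.card π.ker).Coprime 3) (ρ : L →* GL ι F)
    (hρ : Function.Injective ρ) : 8 ≤ Fintype.card ι := by
  obtain ⟨D, C, i, j, hD, hC, hD1, hDC, r1, r2, r3, r4⟩ := exists_E9 hK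
  obtain ⟨D', hD', oD⟩ := H908.exists_lift hs D (coprime_orderOf hcop hD)
  obtain ⟨C', hC', oC⟩ := H908.exists_lift hs C (coprime_orderOf hcop hC)
  obtain ⟨i', rfl⟩ := hs i
  obtain ⟨j', rfl⟩ := hs j
  have hD3 : D' ^ 3 = 1 := by
    rw [← orderOf_dvd_iff_pow_eq_one, oD, orderOf_dvd_iff_pow_eq_one, hD]
  have hC3 : C' ^ 3 = 1 := by
    rw [← orderOf_dvd_iff_pow_eq_one, oC, orderOf_dvd_iff_pow_eq_one, hC]
  have hcD : (Nat.card π.ker).Coprime (orderOf D') := coprime_orderOf hcop hD3
  have hcC : (Nat.card π.ker).Coprime (orderOf C') := coprime_orderOf hcop hC3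
  have hDC' : D' * C' = C' * D' := H908.commute_lift hc (by rw [hD', hC', hDC]) hcC
  have hne : D' ≠ 1 := by
    rintro rfl
    exact hD1 (by rw [← hD', map_one])
  have q1 : i' * D' * i'⁻¹ = C' ^ 2 := by
    apply H908.conj_lift hc _ hcD
    · exact coprime_orderOf hcop (by rw [← pow_mul, mul_comm, pow_mul, hC3, one_pow])
    · rw [map_mul, map_mul, map_inv, map_pow, hD', hC', r1]
  have q2 : i' * C' * i'⁻¹ = D' := by
    apply H908.conj_lift hc _ hcC hcD
    rw [map_mul, map_mul, map_inv, hD', hC', r2]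
  have hcomm : Commute D' C' := hDC'
  have q3 : j' * D' * j'⁻¹ = D' ^ 2 * C' ^ 2 := by
    apply H908.conj_lift hc _ hcD
    · apply coprime_orderOf hcop
      rw [(hcomm.pow_pow 2 2).mul_pow, ← pow_mul, ← pow_mul, mul_comm 2 3, pow_mul, pow_mul, hC3, hD3, one_pow,
        mul_one]
    · rw [map_mul, map_mul, map_inv, map_mul, map_pow, map_pow, hD', hC', r3]
  have q4 : j' * C' * j'⁻¹ = D' ^ 2 * C' := by
    apply H908.conj_lift hc _ hcC
    · apply coprime_orderOf hcop
      rw [(hcomm.pow_left 2).mul_pow, ← pow_mul, mul_comm 2 3, pow_mul, hC3, hD3, one_pow, mul_one]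
    · rw [map_mul, map_mul, map_inv, map_mul, map_pow, hD', hC', r4]
  -- the representation over the algebraic closure
  let Fb := AlgebraicClosure F
  let R : L →* Module.End Fb (ι → Fb) :=
    ((Matrix.toLinAlgEquiv' (R := Fb) (n := ι)).toAlgHom : Matrix ι ι Fb →* Module.End Fb (ι → Fb)).comp
      ((Units.coeHom _).comp ((Matrix.GeneralLinearGroup.map (algebraMap F Fb)).comp ρ))
  have hR : Function.Injective R := by
    intro a b hab
    apply hρ
    apply Units.ext
    have h1 := (Matrix.toLinAlgEquiv' (R := Fb) (n := ι)).injective hab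
    ext k l
    have h2 := congrFun (congrFun h1 k) l
    exact (algebraMap F Fb).injective h2
  have h3' : (3 : Fb) ≠ 0 := by
    intro h0
    apply h3
    apply (algebraMap F Fb).injective
    rw [map_zero, map_ofNat, h0]
  obtain ⟨w, hw⟩ : ∃ w : Fb, w ^ 2 + w + 1 = 0 := by
    have h4 : (Polynomial.X ^ 2 + Polynomial.X + 1 : Polynomial Fb).natDegree = 2 := by compute_degree!
    obtain ⟨w, hw⟩ := IsAlgClosed.exists_root (Polynomial.X ^ 2 + Polynomial.X + 1 : Polynomial Fb) (by
      intro h0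
      rw [Polynomial.degree_eq_natDegree (by intro h1; rw [h1] at h4; simp at h4), h4] at h0
      norm_num at h0)
    refine ⟨w, ?_⟩
    simpa [Polynomial.IsRoot] using hw
  have hinj : ∀ g : L, Function.Injective (R g) := by
    intro g x y hxy
    have h5 : ∀ v, R g⁻¹ (R g v) = v := by
      intro v
      change (R g⁻¹ * R g) v = v
      rw [← map_mul, inv_mul_cancel, map_one]; rfl
    rw [← h5 x, hxy, h5]
  have hmul : ∀ {y g h : L}, y * g * y⁻¹ = h → y * g = h * y := fun h => by rw [← h]; group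
  have key := E9.eight_le h3' hw (R D') (R C') (R i') (R j') (by rw [← map_pow, hD3, map_one])
    (by rw [← map_pow, hC3, map_one]) (by rw [← map_mul, ← map_mul, hDC'])
    (fun h => hne (hR (by rw [h, map_one]))) (hinj _) (hinj _)
    (by rw [← map_mul, ← map_pow, ← map_mul, hmul q1]) (by rw [← map_mul, ← map_mul, hmul q2])
    (by rw [← map_mul, ← map_pow, ← map_pow, ← map_mul, ← map_mul, hmul q3])
    (by rw [← map_mul, ← map_pow, ← map_mul, ← map_mul, hmul q4])
  rwa [Module.finrank_fintype_fun_eq_card] at key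

variable {ι : Type} [Fintype ι] [DecidableEq ι] {F : Type u} [Field F] {P : Subgroup (GL ι F)}

/-- a perfect subgroup of `GL_n (F)` with quotient `PSL_3(4)` modulo scalars, `3 ∤ n`, `3 ≠ 0`: `8 ≤ n` -/
theorem eight_le_perfect [Finite P] (hperf : ⁅P, P⁆ = P) (h3 : (3 : F) ≠ 0) {K : Type v} [Field K] [Fintype K]
    (hK : Fintype.card K = 4) (e : (P ⧸ (scalars ι F).subgroupOf P) ≃* Matrix.ProjectiveSpecialLinearGroup (Fin 3) K)
    (hn : (Nat.card ((scalars ι F).subgroupOf P)).Coprime 3) : 8 ≤ Fintype.card ι := by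
  have hk := ker_comp e
  exact eight_le_card hK h3 (e.toMonoidHom.comp (toSoc P)) (e.surjective.comp (toSoc_surjective P))
    (by rw [hk]; exact H915.LD.scalars_le_center (P := P)) (by rw [hk]; exact hn) P.subtype Subtype.val_injective

/-- the determinant is one on a perfect group -/
theorem scalar_pow' (hperf : ⁅P, P⁆ = P) {z : P} (hz : z ∈ (scalars ι F).subgroupOf P) : z ^ Fintype.card ι = 1 := by
  have h0 : commutator P = ⊤ := H911.Five.commutator_top hperf
  have hdet : ∀ g : P, Matrix.GeneralLinearGroup.det (g : GL ι F) = 1 := by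
    intro g
    have h2 : (Matrix.GeneralLinearGroup.det.comp P.subtype).ker = ⊤ := by
      rw [eq_top_iff, ← h0]
      exact Abelianization.commutator_subset_ker _
    have h3 : g ∈ (Matrix.GeneralLinearGroup.det.comp P.subtype).ker := by rw [h2]; trivial
    exact h3
  rw [Subgroup.mem_subgroupOf, mem_scalars_iff] at hz
  obtain ⟨c, hc⟩ := hz
  have h1 : (c : F) ^ Fintype.card ι = 1 := by
    have h2 : (((z : GL ι F)) : Matrix ι ι F).det = 1 := by
      rw [← Matrix.GeneralLinearGroup.val_det_apply, hdet, Units.val_one]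
    rw [hc, Matrix.det_smul, Matrix.det_one, mul_one] at h2
    exact h2
  apply Subtype.ext
  apply Units.ext
  rw [Subgroup.coe_pow, Units.val_pow_eq_pow_val, hc, smul_pow, h1, one_pow, one_smul]
  rfl

theorem coprime_card_scalars [Finite P] (hperf : ⁅P, P⁆ = P) {q : ℕ} (hq : q.Prime) (hn : ¬ q ∣ Fintype.card ι) :
    (Nat.card ((scalars ι F).subgroupOf P)).Coprime q := by
  rw [Nat.coprime_comm, Nat.Prime.coprime_iff_not_dvd hq]
  intro h
  have : Fact q.Prime := ⟨hq⟩
  obtain ⟨z, hz⟩ := exists_prime_orderOf_dvd_card' (G := (scalars ι F).subgroupOf P) q h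
  apply hn
  rw [← hz, orderOf_dvd_iff_pow_eq_one]
  apply Subtype.ext
  rw [Subgroup.coe_pow]
  exact scalar_pow' (P := P) hperf z.2

/-- no perfect cover of `PSL_3(4)` in dimension prime to three and less than eight, `p ≠ 3` -/
theorem not_lt_eight [Finite F] (h3 : (3 : F) ≠ 0) (h8 : Fintype.card ι < 8) (hn : ¬ 3 ∣ Fintype.card ι)
    (hperf : ⁅P, P⁆ = P) {K : Type v} [Field K] [Fintype K] (hK : Fintype.card K = 4)
    (e : (P ⧸ (scalars ι F).subgroupOf P) ≃* Matrix.ProjectiveSpecialLinearGroup (Fin 3) K) : False := by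
  have := eight_le_perfect hperf h3 hK e (coprime_card_scalars hperf Nat.prime_three hn)
  omega

/-- no cover of `PSL_3(4)` in dimension four, `p ≠ 2, 3` -/
theorem not_four_L34 [Finite F] (h3 : (3 : F) ≠ 0) {P : Subgroup (GL (Fin 4) F)}
    (hperf : ⁅P, P⁆ = P) {K : Type v} [Field K] [Fintype K] (hK : Fintype.card K = 4)
    (e : (P ⧸ (scalars (Fin 4) F).subgroupOf P) ≃* Matrix.ProjectiveSpecialLinearGroup (Fin 3) K) : False :=
  not_lt_eight h3 (by simp) (by simp) hperf hK e

end Cfsg.Agent.H906.T14
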