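import Cfsg.Agent.H906.TrL2

/-!
# Three by three matrices: Cayley–Hamilton and unitary traces (helper906)
-/

set_option autoImplicit false
set_option linter.unusedSectionVars false

namespace Cfsg.Agent.H906

open Cfsg Cfsg.Geo
open scoped MatrixGroups Matrix

variable {F : Type*} [Field F]

lemma cayley_three (M : Matrix (Fin 3) (Fin 3) F) :
    M ^ 3 = M.trace • M ^ 2 - M.adjugate.trace • M + M.det • (1 : Matrix (Fin 3) (Fin 3) F) := by
  rw [pow_succ, sq, Matrix.adjugate_fin_three, Matrix.det_fin_three, Matrix.trace_fin_three, Matrix.trace_fin_three]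
  ext i j
  fin_cases i <;> fin_cases j <;> simp [Matrix.mul_apply, Fin.sum_univ_three] <;> ring

lemma trace_sq_three (M : Matrix (Fin 3) (Fin 3) F) : (M ^ 2).trace = M.trace ^ 2 - 2 * M.adjugate.trace := by
  rw [sq, Matrix.adjugate_fin_three, Matrix.trace_fin_three, Matrix.trace_fin_three, Matrix.trace_fin_three]
  simp [Matrix.mul_apply, Fin.sum_univ_three]
  ring

lemma adjugate_eq_inv {g : GL (Fin 3) F} (hg : g ∈ specialLinear (Fin 3) F) :
    (g : Matrix (Fin 3) (Fin 3) F).adjugate = ((g⁻¹ : GL (Fin 3) F) : Matrix (Fin 3) (Fin 3) F) := by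
  have hdet : (g : Matrix (Fin 3) (Fin 3) F).det = 1 := by
    have h7 : Matrix.GeneralLinearGroup.det g = 1 := hg
    exact congrArg Units.val h7
  have h1 : (g : Matrix (Fin 3) (Fin 3) F) * (g : Matrix (Fin 3) (Fin 3) F).adjugate = 1 := by
    rw [Matrix.mul_adjugate, hdet, one_smul]
  have h2 : ((g⁻¹ : GL (Fin 3) F) : Matrix (Fin 3) (Fin 3) F) * (g : Matrix (Fin 3) (Fin 3) F) = 1 := by
    rw [← Units.val_mul, inv_mul_cancel, Units.val_one]
  calc (g : Matrix (Fin 3) (Fin 3) F).adjugate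
      = (((g⁻¹ : GL (Fin 3) F) : Matrix (Fin 3) (Fin 3) F) * (g : Matrix (Fin 3) (Fin 3) F)) *
        (g : Matrix (Fin 3) (Fin 3) F).adjugate := by rw [h2, one_mul]
    _ = _ := by rw [mul_assoc, h1, mul_one]

/-- A real element of order five and determinant one in characteristic `p ≠ 5` has
`tr(g²) ≠ tr(g)`. -/
lemma trace_sq_ne (p : ℕ) [hp : Fact p.Prime] [CharP F p] (hp5 : p ≠ 5) {g : GL (Fin 3) F}
    (hg : g ∈ specialLinear (Fin 3) F) (h5 : g ^ 5 = 1) (hg1 : g ≠ 1)
    (hr : ((g⁻¹ : GL (Fin 3) F) : Matrix (Fin 3) (Fin 3) F).trace = (g : Matrix (Fin 3) (Fin 3) F).trace) :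
    ((g ^ 2 : GL (Fin 3) F) : Matrix (Fin 3) (Fin 3) F).trace ≠ (g : Matrix (Fin 3) (Fin 3) F).trace := by
  intro h
  have hdet : (g : Matrix (Fin 3) (Fin 3) F).det = 1 := by
    have h7 : Matrix.GeneralLinearGroup.det g = 1 := hg
    exact congrArg Units.val h7
  have hadj := adjugate_eq_inv hg
  set τ := (g : Matrix (Fin 3) (Fin 3) F).trace with hτ
  have h1 := trace_sq_three (g : Matrix (Fin 3) (Fin 3) F)
  rw [hadj, hr, ← Units.val_pow_eq_pow_val, h, ← hτ] at h1
  have hch := cayley_three (g : Matrix (Fin 3) (Fin 3) F)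
  rw [hadj, hr, hdet, ← hτ] at hch
  have hprod : τ * (τ - 3) = 0 := by linear_combination -h1
  rcases mul_eq_zero.1 hprod with h0 | h0
  · rw [h0, zero_smul, zero_smul, sub_zero, zero_add, one_smul] at hch
    have h3 : g ^ 3 = 1 := Units.ext (by rw [Units.val_pow_eq_pow_val, hch, Units.val_one])
    apply hg1
    calc g = g ^ 3 * g ^ 3 * (g ^ 5)⁻¹ := by group
      _ = 1 := by rw [h3, h5]; simp
  · have h3 : τ = 3 := sub_eq_zero.1 h0
    have hnil : ((g : Matrix (Fin 3) (Fin 3) F) - 1) ^ 3 = 0 := by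
      have e1 : ((g : Matrix (Fin 3) (Fin 3) F) - 1) ^ 3 = (g : Matrix (Fin 3) (Fin 3) F) ^ 3 -
          (3 : F) • (g : Matrix (Fin 3) (Fin 3) F) ^ 2 + (3 : F) • (g : Matrix (Fin 3) (Fin 3) F) - 1 := by
        simp only [pow_succ, pow_zero, one_mul, sub_mul, mul_sub, mul_one]
        module
      rw [e1, hch, h3, one_smul]
      abel
    have hpp : 3 ≤ p ^ 2 := by have := hp.out.two_le; nlinarith
    have hu : g ^ p ^ 2 = 1 := by
      apply Units.ext
      have e2 : ((g : Matrix (Fin 3) (Fin 3) F) - 1) ^ p ^ 2 = (g : Matrix (Fin 3) (Fin 3) F) ^ p ^ 2 - 1 := by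
        rw [sub_pow_char_pow_of_commute, one_pow]
        exact Commute.one_right _
      have e3 : ((g : Matrix (Fin 3) (Fin 3) F) - 1) ^ p ^ 2 = 0 := by
        obtain ⟨k, hk⟩ := Nat.exists_eq_add_of_le hpp
        rw [hk, pow_add, hnil, zero_mul]
      rw [e3] at e2
      rw [Units.val_pow_eq_pow_val, Units.val_one]
      exact (sub_eq_zero.1 e2.symm)
    apply hg1
    have h6 : orderOf g ∣ Nat.gcd (p ^ 2) 5 := Nat.dvd_gcd (orderOf_dvd_of_pow_eq_one hu) (orderOf_dvd_of_pow_eq_one h5)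
    have h7 : Nat.gcd (p ^ 2) 5 = 1 := (Nat.Coprime.pow_left 2 ((Nat.coprime_primes hp.out (by norm_num)).2 hp5))
    rw [h7] at h6
    exact orderOf_eq_one_iff.1 (Nat.dvd_one.1 h6)

/-- Traces and unitary forms. -/
theorem trace_of_unitary {σ : F ≃+* F} {f : (Fin 3 → F) → (Fin 3 → F) → F} (hf : IsUnitaryForm σ f)
    {g : GL (Fin 3) F} (hg : ∀ u v, f ((g : Matrix (Fin 3) (Fin 3) F) *ᵥ u) ((g : Matrix (Fin 3) (Fin 3) F) *ᵥ v) = f u v) :
    σ (g : Matrix (Fin 3) (Fin 3) F).trace = ((g⁻¹ : GL (Fin 3) F) : Matrix (Fin 3) (Fin 3) F).trace := by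
  -- semilinearity in the second argument
  have hadd : ∀ u v w, f u (v + w) = f u v + f u w := by
    intro u v w
    rw [hf.herm, hf.add_left, map_add, ← hf.herm, ← hf.herm]
  have hsmul : ∀ u (c : F) v, f u (c • v) = σ c * f u v := by
    intro u c v
    rw [hf.herm, hf.smul_left, map_mul, ← hf.herm]
  have hzl : ∀ v, f 0 v = 0 := by
    intro v
    have := hf.smul_left 0 0 v
    rwa [zero_smul, zero_mul] at this
  have hzr : ∀ v, f v 0 = 0 := by
    intro v
    rw [hf.herm, hzl, map_zero]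
  have hsuml : ∀ (s : Finset (Fin 3)) (u : Fin 3 → (Fin 3 → F)) (v), f (∑ i ∈ s, u i) v = ∑ i ∈ s, f (u i) v := by
    intro s u v
    induction s using Finset.induction_on with
    | empty => simp [hzl]
    | insert a s ha ih => rw [Finset.sum_insert ha, Finset.sum_insert ha, hf.add_left, ih]
  have hsumr : ∀ (s : Finset (Fin 3)) (u : Fin 3 → (Fin 3 → F)) (v), f v (∑ i ∈ s, u i) = ∑ i ∈ s, f v (u i) := by
    intro s u v
    induction s using Finset.induction_on with
    | empty => simp [hzr]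
    | insert a s ha ih => rw [Finset.sum_insert ha, Finset.sum_insert ha, hadd, ih]
  let e : Fin 3 → (Fin 3 → F) := fun i => Pi.single i 1
  let M : Matrix (Fin 3) (Fin 3) F := Matrix.of fun i j => f (e i) (e j)
  have hu : ∀ u : Fin 3 → F, u = ∑ i, u i • e i := by
    intro u
    ext j
    simp [e, Finset.sum_apply, Pi.single_apply]
  have hform : ∀ u v, f u v = u ⬝ᵥ (M *ᵥ (σ ∘ v)) := by
    intro u v
    conv_lhs => rw [hu u, hu v]
    rw [hsuml]
    simp only [hf.smul_left, hsumr, hsmul]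
    simp only [dotProduct, Matrix.mulVec, M, Matrix.of_apply, Function.comp_apply]
    refine Finset.sum_congr rfl fun i _ => ?_
    congr 1
    refine Finset.sum_congr rfl fun j _ => ?_
    rw [mul_comm]
  set G := (g : Matrix (Fin 3) (Fin 3) F) with hG
  have hcol : ∀ A : Matrix (Fin 3) (Fin 3) F, ∀ j, A *ᵥ e j = fun i => A i j := by
    intro A j
    ext i
    simp [e]
  have hkey : Gᵀ * M * G.map σ = M := by
    ext i j
    have h1 := hg (e i) (e j)
    rw [hform, hcol, hcol] at h1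
    have h2 : M i j = f (e i) (e j) := rfl
    rw [h2, ← h1, mul_assoc, Matrix.mul_apply]
    simp only [dotProduct, Matrix.mulVec, Matrix.mul_apply, Matrix.transpose_apply, Matrix.map_apply,
      Function.comp_apply]
  have hMu : IsUnit M := by
    rw [Matrix.isUnit_iff_isUnit_det, isUnit_iff_ne_zero]
    intro hdet
    obtain ⟨w, hw, hMw⟩ := Matrix.exists_vecMul_eq_zero_iff.2 hdet
    have h3 : ∀ v, f w v = 0 := by
      intro v
      rw [hform, Matrix.dotProduct_mulVec, hMw, zero_dotProduct]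
    obtain ⟨-, x, hx⟩ := hf.nondegenerate w hw
    exact hx (h3 x)
  obtain ⟨U, hU⟩ := hMu
  have hgi : (((g⁻¹ : GL (Fin 3) F) : Matrix (Fin 3) (Fin 3) F))ᵀ * Gᵀ = 1 := by
    rw [← Matrix.transpose_mul, hG, ← Units.val_mul, mul_inv_cancel, Units.val_one, Matrix.transpose_one]
  have h4 : M * G.map σ = (((g⁻¹ : GL (Fin 3) F) : Matrix (Fin 3) (Fin 3) F))ᵀ * M := by
    conv_rhs => rw [← hkey]
    rw [← mul_assoc, ← mul_assoc, hgi, one_mul]
  have h5 : G.map σ = (U⁻¹).1 * ((((g⁻¹ : GL (Fin 3) F) : Matrix (Fin 3) (Fin 3) F))ᵀ * U.1) := by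
    rw [hU, ← h4, ← hU, ← mul_assoc, Units.inv_mul, one_mul]
  have h6 : σ G.trace = (G.map σ).trace := by
    rw [Matrix.trace_fin_three, Matrix.trace_fin_three, map_add, map_add]
    rfl
  rw [h6, h5, Matrix.trace_mul_comm, mul_assoc, Units.mul_inv, mul_one, Matrix.trace_transpose]

end Cfsg.Agent.H906
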