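import Mathlib

/-!
# `3²:Q₈` has at least eight weights
-/

set_option autoImplicit false
set_option linter.unusedSectionVars false

namespace Cfsg.Agent.H906.E9

open Module Module.End

lemma closed_card : ∀ S : Finset (ZMod 3 × ZMod 3), (∀ x ∈ S, (x.2, -x.1) ∈ S) → (∀ x ∈ S, (x.1 + x.2, x.1 - x.2) ∈ S) →
    (∃ x ∈ S, x ≠ 0) → 8 ≤ S.card := by
  decide +kernel

variable {K V : Type*} [Field K] [AddCommGroup V] [Module K V]

/-- powers of a cube root of unity -/
def e (w : K) (a : ZMod 3) : K := w ^ a.val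

lemma e_add {w : K} (hw : w ^ 3 = 1) (a b : ZMod 3) : e w (a + b) = e w a * e w b := by
  unfold e
  rw [← pow_add, ZMod.val_add]
  conv_rhs => rw [← Nat.mod_add_div (a.val + b.val) 3, pow_add, pow_mul, hw, one_pow, mul_one]

lemma e_zero (w : K) : e w 0 = 1 := by simp [e]

lemma e_inj {w : K} (hw : w ^ 2 + w + 1 = 0) (h3 : (3 : K) ≠ 0) : Function.Injective (e w) := by
  have hw3 : w ^ 3 = 1 := by linear_combination (w - 1) * hw
  have hw1 : w ≠ 1 := by
    rintro rfl
    apply h3
    linear_combination hw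
  have hz : ∀ a : ZMod 3, e w a = 1 → a = 0 := by
    intro a ha
    have h0 : ∀ a : ZMod 3, a = 0 ∨ a = 1 ∨ a = 2 := by decide
    rcases h0 a with rfl | rfl | rfl
    · rfl
    · exfalso
      apply hw1
      have : e w 1 = w := by
        unfold e
        rw [show (1 : ZMod 3).val = 1 from rfl, pow_one]
      rw [← this, ha]
    · exfalso
      have h2 : w ^ 2 = 1 := ha
      apply hw1
      calc w = w ^ 2 * w := by rw [h2, one_mul]
        _ = 1 := by rw [← pow_succ, hw3]
  intro a b hab
  have h1 : e w (a - b) = 1 := by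
    have h2 : e w (a - b) * e w b = e w b := by rw [← e_add hw3, sub_add_cancel, hab]
    have hb : e w b ≠ 0 := by
      unfold e
      exact pow_ne_zero _ (by rintro rfl; norm_num at hw3)
    exact mul_right_cancel₀ hb (by rw [h2, one_mul])
  exact sub_eq_zero.1 (hz _ h1)

lemma exists_eig {w : K} (hw : w ^ 2 + w + 1 = 0) (h3 : (3 : K) ≠ 0) {X : Module.End K V} (hX : X ^ 3 = 1) (v : V) :
    ∃ u : ZMod 3 → V, v = u 0 + u 1 + u 2 ∧ (∀ k, X (u k) = e w k • u k) ∧
      (∀ (Y : Module.End K V) (c : K), Y * X = X * Y → Y v = c • v → ∀ k, Y (u k) = c • u k) := by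
  have hw3 : w ^ 3 = 1 := by linear_combination (w - 1) * hw
  have hX3 : ∀ v, X (X (X v)) = v := by
    intro v
    have := congrArg (fun f : Module.End K V => f v) hX
    rw [pow_succ, pow_two] at this
    exact this
  refine ⟨fun k => (3 : K)⁻¹ • (v + e w (-k) • X v + e w (-k) ^ 2 • X (X v)), ?_, ?_, ?_⟩
  · have e0 : e w (-0) = 1 := by simp [e]
    have e1 : e w (-1) = w ^ 2 := rfl
    have e2 : e w (-2) = w := by
      unfold e
      rw [show (-2 : ZMod 3).val = 1 from rfl, pow_one]
    change v = (3 : K)⁻¹ • (v + e w (-0) • X v + e w (-0) ^ 2 • X (X v)) +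
      (3 : K)⁻¹ • (v + e w (-1) • X v + e w (-1) ^ 2 • X (X v)) +
      (3 : K)⁻¹ • (v + e w (-2) • X v + e w (-2) ^ 2 • X (X v))
    rw [e0, e1, e2, ← smul_add, ← smul_add]
    have h4 : v + (1 : K) • X v + (1 : K) ^ 2 • X (X v) + (v + w ^ 2 • X v + (w ^ 2) ^ 2 • X (X v)) +
        (v + w • X v + w ^ 2 • X (X v)) = (3 : K) • v + (w ^ 2 + w + 1) • X v + ((w ^ 2) ^ 2 + w ^ 2 + 1) • X (X v) := by
      module
    have h5 : (w ^ 2) ^ 2 + w ^ 2 + 1 = 0 := by linear_combination (w ^ 2 - w + 1) * hw
    rw [h4, hw, h5, zero_smul, zero_smul, add_zero, add_zero, smul_smul, inv_mul_cancel₀ h3, one_smul]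
  · intro k
    have hk : e w k * e w (-k) = 1 := by rw [← e_add hw3, add_neg_cancel, e_zero]
    have hk3 : e w (-k) ^ 3 = 1 := by unfold e; rw [← pow_mul, mul_comm, pow_mul, hw3, one_pow]
    have hk2 : e w (-k) ^ 2 = e w k := by
      calc e w (-k) ^ 2 = (e w k * e w (-k)) * e w (-k) ^ 2 := by rw [hk, one_mul]
        _ = e w k * e w (-k) ^ 3 := by ring
        _ = e w k := by rw [hk3, mul_one]
    rw [map_smul, map_add, map_add, map_smul, map_smul, hX3, smul_comm]
    congr 1
    rw [smul_add, smul_add, smul_smul, smul_smul, hk, one_smul, hk2]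
    have h6 : e w k * e w k = e w (-k) := by
      calc e w k * e w k = e w (-k) ^ 2 * e w (-k) ^ 2 := by rw [hk2]
        _ = e w (-k) ^ 3 * e w (-k) := by ring
        _ = e w (-k) := by rw [hk3, one_mul]
    rw [h6]
    abel
  · intro Y c hY hv k
    have hYX : ∀ v, Y (X v) = X (Y v) := fun v => by
      have := congrArg (fun f : Module.End K V => f v) hY
      exact this
    rw [map_smul, map_add, map_add, map_smul, map_smul, hYX, hYX, hYX, hv, map_smul, map_smul]
    module

/-- joint eigenspaces -/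
def J (D C : Module.End K V) (w : K) (x : ZMod 3 × ZMod 3) : Submodule K V :=
  eigenspace D (e w x.1) ⊓ eigenspace C (e w x.2)

lemma mem_J {D C : Module.End K V} {w : K} {x : ZMod 3 × ZMod 3} {v : V} :
    v ∈ J D C w x ↔ D v = e w x.1 • v ∧ C v = e w x.2 • v := by
  unfold J
  rw [Submodule.mem_inf, mem_eigenspace_iff, mem_eigenspace_iff]

lemma indep_J {D C : Module.End K V} (hDC : D * C = C * D) {w : K} (hw : w ^ 2 + w + 1 = 0) (h3 : (3 : K) ≠ 0) :
    iSupIndep (J D C w) := by
  let T : Bool → Module.End K V := fun b => if b then C else D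
  have h1 : iSupIndep (fun f : Bool → K => ⨅ b, (T b).maxGenEigenspace (f b)) := by
    apply independent_iInf_maxGenEigenspace_of_forall_mapsTo
    intro a b φ
    apply mapsTo_maxGenEigenspace_of_comm
    cases a <;> cases b <;> simp [T, Commute, SemiconjBy, hDC]
  have h2 : Function.Injective (fun (x : ZMod 3 × ZMod 3) (b : Bool) => if b then e w x.2 else e w x.1) := by
    intro x y hxy
    have e1 := congrFun hxy false
    have e2 := congrFun hxy true
    simp only [if_true, Bool.false_eq_true, if_false] at e1 e2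
    exact Prod.ext (e_inj hw h3 e1) (e_inj hw h3 e2)
  refine (h1.comp h2).mono ?_
  intro x v hv
  rw [mem_J] at hv
  change v ∈ ⨅ b, (T b).maxGenEigenspace (if b then e w x.2 else e w x.1)
  rw [Submodule.mem_iInf]
  intro b
  apply eigenspace_le_maxGenEigenspace
  rw [mem_eigenspace_iff]
  cases b
  · exact hv.1
  · exact hv.2

theorem eight_le [FiniteDimensional K V] (h3 : (3 : K) ≠ 0) {w : K} (hw : w ^ 2 + w + 1 = 0)
    (D C i j : Module.End K V) (hD : D ^ 3 = 1) (hC : C ^ 3 = 1)
    (hDC : D * C = C * D) (hne : D ≠ 1) (hi : Function.Injective i) (hj : Function.Injective j)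
    (h1 : i * D = C ^ 2 * i) (h2 : i * C = D * i) (h4 : j * D = D ^ 2 * C ^ 2 * j) (h5 : j * C = D ^ 2 * C * j) :
    8 ≤ finrank K V := by
  classical
  have hw3 : w ^ 3 = 1 := by linear_combination (w - 1) * hw
  have ind := indep_J hDC hw h3
  let Λ := {x : ZMod 3 × ZMod 3 // J D C w x ≠ ⊥}
  have hfin : Finite Λ := (WellFoundedGT.finite_ne_bot_of_iSupIndep ind).to_subtype
  have : Fintype Λ := Fintype.ofFinite Λ
  have hcard : Fintype.card Λ ≤ finrank K V := ind.subtype_ne_bot_le_finrank
  refine le_trans ?_ hcard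
  have hS : Fintype.card Λ = (Finset.univ.filter (fun x : ZMod 3 × ZMod 3 => J D C w x ≠ ⊥)).card :=
    Fintype.card_subtype _
  rw [hS]
  have hC3 : ∀ v, C (C (C v)) = v := by
    intro v
    have := congrArg (fun f : Module.End K V => f v) hC
    rw [pow_succ, pow_two] at this
    exact this
  have hD3 : ∀ v, D (D (D v)) = v := by
    intro v
    have := congrArg (fun f : Module.End K V => f v) hD
    rw [pow_succ, pow_two] at this
    exact this
  have e2 : ∀ a : ZMod 3, e w (-a) = e w a * e w a := by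
    intro a
    rw [← e_add hw3]
    congr 1
    revert a; decide
  apply closed_card
  · intro x hx
    rw [Finset.mem_filter] at hx ⊢
    refine ⟨Finset.mem_univ _, ?_⟩
    obtain ⟨v, hv, hv0⟩ := (Submodule.ne_bot_iff _).1 hx.2
    rw [mem_J] at hv
    rw [Submodule.ne_bot_iff]
    refine ⟨i v, ?_, fun h0 => hv0 (hi (by rw [h0, map_zero]))⟩
    rw [mem_J]
    have k1 : C (C (i v)) = i (D v) := by
      have := congrArg (fun f : Module.End K V => f v) h1
      rw [pow_two] at this
      exact this.symm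
    have k2 : D (i v) = i (C v) := by
      have := congrArg (fun f : Module.End K V => f v) h2
      exact this.symm
    rw [hv.1, map_smul] at k1
    rw [hv.2, map_smul] at k2
    refine ⟨k2, ?_⟩
    change C (i v) = e w (-x.1) • i v
    have k3 : C (C (C (C (i v)))) = (e w x.1 * e w x.1) • i v := by
      rw [k1, map_smul, map_smul, k1, smul_smul]
    rw [hC3] at k3
    rw [k3, e2]
  · intro x hx
    rw [Finset.mem_filter] at hx ⊢
    refine ⟨Finset.mem_univ _, ?_⟩
    obtain ⟨v, hv, hv0⟩ := (Submodule.ne_bot_iff _).1 hx.2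
    rw [mem_J] at hv
    rw [Submodule.ne_bot_iff]
    refine ⟨j v, ?_, fun h0 => hv0 (hj (by rw [h0, map_zero]))⟩
    rw [mem_J]
    have hcomm : ∀ v, D (C v) = C (D v) := fun v => by
      have := congrArg (fun f : Module.End K V => f v) hDC
      exact this
    have k1 : D (D (C (C (j v)))) = e w x.1 • j v := by
      have := congrArg (fun f : Module.End K V => f v) h4
      rw [pow_two, pow_two] at this
      have h6 : j (D v) = D (D (C (C (j v)))) := this
      rw [hv.1, map_smul] at h6
      exact h6.symm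
    have k2 : D (D (C (j v))) = e w x.2 • j v := by
      have := congrArg (fun f : Module.End K V => f v) h5
      rw [pow_two] at this
      have h6 : j (C v) = D (D (C (j v))) := this
      rw [hv.2, map_smul] at h6
      exact h6.symm
    have k3 : e w x.2 • C (j v) = e w x.1 • j v := by
      rw [← map_smul, ← k2, ← k1, hcomm (C (j v)), hcomm (D (C (j v)))]
    have hx2 : e w (-x.2) * e w x.2 = 1 := by rw [← e_add hw3, neg_add_cancel, e_zero]
    have k4 : C (j v) = e w (x.1 - x.2) • j v := by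
      calc C (j v) = (e w (-x.2) * e w x.2) • C (j v) := by rw [hx2, one_smul]
        _ = e w (-x.2) • (e w x.1 • j v) := by rw [mul_smul, k3]
        _ = e w (x.1 - x.2) • j v := by rw [smul_smul, ← e_add hw3, sub_eq_neg_add]
    have hx3 : e w (-(x.1 - x.2)) * e w (x.1 - x.2) = 1 := by rw [← e_add hw3, neg_add_cancel, e_zero]
    have k5 : D (D (j v)) = e w (-(x.1 - x.2) + x.2) • j v := by
      have h6 : e w (x.1 - x.2) • D (D (j v)) = e w x.2 • j v := by
        rw [← k2, k4, map_smul, map_smul]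
      calc D (D (j v)) = (e w (-(x.1 - x.2)) * e w (x.1 - x.2)) • D (D (j v)) := by rw [hx3, one_smul]
        _ = e w (-(x.1 - x.2)) • (e w x.2 • j v) := by rw [mul_smul, h6]
        _ = _ := by rw [smul_smul, ← e_add hw3]
    refine ⟨?_, k4⟩
    have k6 : D (D (D (D (j v)))) = (e w (-(x.1 - x.2) + x.2) * e w (-(x.1 - x.2) + x.2)) • j v := by
      rw [k5, map_smul, map_smul, k5, smul_smul]
    rw [hD3] at k6
    rw [k6, ← e2]
    congr 2
    change -(-(x.1 - x.2) + x.2) = x.1 + x.2
    have h7 : ∀ a b : ZMod 3, -(-(a - b) + b) = a + b := by decide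
    exact h7 _ _
  · obtain ⟨v, hv⟩ : ∃ v, D v ≠ v := by
      by_contra hcon
      push Not at hcon
      exact hne (LinearMap.ext hcon)
    obtain ⟨u, hu, hu1, -⟩ := exists_eig hw h3 hD v
    obtain ⟨k, hk, huk⟩ : ∃ k, k ≠ 0 ∧ u k ≠ 0 := by
      by_contra hcon
      push Not at hcon
      apply hv
      rw [hcon 1 (by decide), hcon 2 (by decide), add_zero, add_zero] at hu
      rw [hu, hu1, e_zero, one_smul]
    obtain ⟨t, ht, ht1, ht2⟩ := exists_eig hw h3 hC (u k)
    obtain ⟨l, hl⟩ : ∃ l, t l ≠ 0 := by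
      by_contra hcon
      push Not at hcon
      apply huk
      rw [ht, hcon, hcon, hcon]; simp
    refine ⟨(k, l), ?_, ?_⟩
    · rw [Finset.mem_filter]
      refine ⟨Finset.mem_univ _, ?_⟩
      rw [Submodule.ne_bot_iff]
      exact ⟨t l, mem_J.2 ⟨ht2 D _ hDC (hu1 k) l, ht1 l⟩, hl⟩
    · intro h0
      exact hk (congrArg Prod.fst h0)

end Cfsg.Agent.H906.E9
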