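import Mathlib

/-!
# Real elements of `PSL₂` over a finite field (helper906)
-/

set_option autoImplicit false
set_option linter.unusedSectionVars false

namespace Cfsg.Agent.H906

open Matrix Polynomial

variable {K : Type*} [Field K]

/-- A binary quadratic form in odd characteristic represents everything. -/
lemma exists_sq_sub [Finite K] (h2 : (2 : K) ≠ 0) (D e : K) (hD : D ≠ 0) :
    ∃ X z : K, X ^ 2 - D * z ^ 2 = e := by
  classical
  have := Fintype.ofFinite K
  have hodd : Fintype.card K % 2 = 1 := by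
    have h3 : ringChar K ≠ 2 := by
      intro h
      apply h2
      have := ringChar.spec K 2
      rw [h] at this
      exact_mod_cast this.2 dvd_rfl
    exact FiniteField.odd_card_of_char_ne_two h3
  obtain ⟨a, b, hab⟩ := FiniteField.exists_root_sum_quadratic (R := K)
    (f := X ^ 2 - C e) (g := C (-D) * X ^ 2) (by
      rw [degree_X_pow_sub_C (by norm_num)]; rfl) (by
      rw [degree_C_mul_X_pow 2 (neg_ne_zero.2 hD)]; rfl) hodd
  refine ⟨a, b, ?_⟩
  simp at hab
  linear_combination hab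

/-- Elements of `SL₂(K)` with trace different from `±2` are conjugate to their inverses. -/
theorem SL2_conj_inv [Finite K] (g : SpecialLinearGroup (Fin 2) K)
    (ht : (g.1 0 0 + g.1 1 1) ^ 2 - 4 ≠ 0) : ∃ h : SpecialLinearGroup (Fin 2) K, h * g * h⁻¹ = g⁻¹ := by
  set a := g.1 0 0 with ha
  set b := g.1 0 1 with hb
  set c := g.1 1 0 with hc
  set d := g.1 1 1 with hd
  have hdet : a * d - b * c = 1 := by
    have := g.2
    rwa [Matrix.det_fin_two] at this
  obtain ⟨x, y, z, h1, h2⟩ : ∃ x y z : K, x ^ 2 + y * z = -1 ∧ (a - d) * x + c * y + b * z = 0 := by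
    by_cases hc0 : c = 0
    · by_cases hb0 : b = 0
      · exact ⟨0, 1, -1, by ring, by rw [hc0, hb0]; ring⟩
      · have had : a - d ≠ 0 := by
          intro h
          apply ht
          rw [hc0] at hdet
          linear_combination (a - d) * h + 4 * hdet
        refine ⟨1, 2 * b / (a - d), -(a - d) / b, ?_, ?_⟩
        · field_simp; ring
        · rw [hc0]; field_simp; ring
    · by_cases h2 : (2 : K) = 0
      · refine ⟨1, -(a - d) / c, 0, ?_, ?_⟩
        · linear_combination h2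
        · field_simp; ring
      · obtain ⟨X, z, hXz⟩ := exists_sq_sub h2 ((a + d) ^ 2 - 4) (-4 * c ^ 2) ht
        refine ⟨(X + (a - d) * z) / (2 * c), -((a - d) * ((X + (a - d) * z) / (2 * c)) + b * z) / c, z,
          ?_, ?_⟩
        · field_simp
          linear_combination hXz + 4 * z ^ 2 * hdet
        · field_simp
          ring
  obtain ⟨h, hh⟩ : ∃ h : SpecialLinearGroup (Fin 2) K, h.1 = !![x, y; z, -x] :=
    ⟨⟨!![x, y; z, -x], by rw [Matrix.det_fin_two]; simp; linear_combination -h1⟩, rfl⟩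
  refine ⟨h, ?_⟩
  rw [mul_inv_eq_iff_eq_mul]
  apply Subtype.ext
  change h.1 * g.1 = (adjugate g.1) * h.1
  rw [Matrix.adjugate_fin_two, hh]
  ext i j
  rw [Matrix.mul_apply, Matrix.mul_apply, Fin.sum_univ_two, Fin.sum_univ_two]
  fin_cases i <;> fin_cases j <;> simp [← ha, ← hb, ← hc, ← hd]
  · linear_combination h2
  · ring
  · ring
  · linear_combination h2

/-- Elements of `SL₂(K)` with trace `±2`: the `r`-th power is scalar. -/
theorem SL2_pow_char (r : ℕ) [Fact r.Prime] [CharP K r] (g : SpecialLinearGroup (Fin 2) K)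
    (ht : (g.1 0 0 + g.1 1 1) ^ 2 - 4 = 0) :
    ∃ ε : K, ε ^ 2 = 1 ∧ (g.1 - ε • 1) ^ 2 = 0 ∧ g.1 ^ r = (ε ^ r) • (1 : Matrix (Fin 2) (Fin 2) K) := by
  have hdet : g.1 0 0 * g.1 1 1 - g.1 0 1 * g.1 1 0 = 1 := by
    have := g.2
    rwa [Matrix.det_fin_two] at this
  obtain ⟨ε, hε, hεt⟩ : ∃ ε : K, ε ^ 2 = 1 ∧ 2 * ε = g.1 0 0 + g.1 1 1 := by
    by_cases h2 : (2 : K) = 0
    · refine ⟨1, one_pow 2, ?_⟩
      have h4 : (4 : K) = 0 := by
        have : (4 : K) = 2 * 2 := by norm_num
        rw [this, h2, zero_mul]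
      rw [h4, sub_zero] at ht
      rw [h2, zero_mul]
      exact (pow_eq_zero_iff two_ne_zero |>.1 ht).symm
    · refine ⟨(g.1 0 0 + g.1 1 1) / 2, ?_, by field_simp⟩
      field_simp
      linear_combination ht
  have hsq : (g.1 - ε • (1 : Matrix (Fin 2) (Fin 2) K)) ^ 2 = 0 := by
    rw [sq]
    ext i j
    rw [Matrix.mul_apply, Fin.sum_univ_two]
    fin_cases i <;> fin_cases j <;> simp
    · linear_combination (-g.1 0 0) * hεt + hε - hdet
    · linear_combination (-g.1 0 1) * hεt
    · linear_combination (-g.1 1 0) * hεt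
    · linear_combination (-g.1 1 1) * hεt + hε - hdet
  refine ⟨ε, hε, hsq, ?_⟩
  have hcomm : Commute (g.1 - ε • (1 : Matrix (Fin 2) (Fin 2) K)) (ε • (1 : Matrix (Fin 2) (Fin 2) K)) := by
    apply Commute.smul_right
    exact Commute.one_right _
  have h1 : g.1 = (g.1 - ε • (1 : Matrix (Fin 2) (Fin 2) K)) + ε • (1 : Matrix (Fin 2) (Fin 2) K) := by
    rw [sub_add_cancel]
  have hr2 : 2 ≤ r := (Fact.out : r.Prime).two_le
  rw [h1, add_pow_char_of_commute _ hcomm, _root_.smul_pow, one_pow]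
  obtain ⟨k, rfl⟩ : ∃ k, r = 2 + k := ⟨r - 2, by omega⟩
  rw [pow_add, hsq, zero_mul, zero_add]

/-- In `PSL₂(K)` every element is real or has order dividing the characteristic. -/
theorem PSL2_real_or_unip [Finite K] (r : ℕ) [Fact r.Prime] [CharP K r]
    (x : ProjectiveSpecialLinearGroup (Fin 2) K) :
    (∃ y, y * x * y⁻¹ = x⁻¹) ∨ x ^ r = 1 := by
  obtain ⟨g, rfl⟩ := QuotientGroup.mk_surjective x
  by_cases ht : (g.1 0 0 + g.1 1 1) ^ 2 - 4 = 0
  · right
    obtain ⟨ε, hε, -, h⟩ := SL2_pow_char r g ht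
    rw [← QuotientGroup.mk_pow, QuotientGroup.eq_one_iff, Matrix.SpecialLinearGroup.mem_center_iff]
    refine ⟨ε ^ r, ?_, ?_⟩
    · rw [Fintype.card_fin, ← pow_mul, mul_comm, pow_mul, hε, one_pow]
    · rw [Matrix.SpecialLinearGroup.coe_pow]
      change _ = g.1 ^ r
      rw [h]
      ext i j
      fin_cases i <;> fin_cases j <;> simp
  · left
    obtain ⟨h, hh⟩ := SL2_conj_inv g ht
    refine ⟨QuotientGroup.mk h, ?_⟩
    rw [← QuotientGroup.mk_inv, ← QuotientGroup.mk_mul, ← QuotientGroup.mk_mul, hh, QuotientGroup.mk_inv]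

end Cfsg.Agent.H906
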