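import Cfsg.Agent.H906.CrossL2
import Cfsg.Agent.H906.SL2Real

/-!
# Unipotent elements of `PSL₂(K)` (helper906)
-/

set_option autoImplicit false
set_option linter.unusedSectionVars false

namespace Cfsg.Agent.H906

open scoped MatrixGroups Matrix

variable {K : Type*} [Field K]

lemma exists_first_col (v : Fin 2 → K) (hv : v ≠ 0) : ∃ h : SL(2, K), h.1 0 0 = v 0 ∧ h.1 1 0 = v 1 := by
  by_cases h0 : v 0 = 0
  · have h1 : v 1 ≠ 0 := by
      intro h1
      apply hv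
      ext i
      fin_cases i
      · exact h0
      · exact h1
    refine ⟨⟨!![0, -(v 1)⁻¹; v 1, 0], ?_⟩, ?_, ?_⟩
    · rw [Matrix.det_fin_two]; simp [h1]
    · simp [h0]
    · simp
  · refine ⟨⟨!![v 0, 0; v 1, (v 0)⁻¹], ?_⟩, ?_, ?_⟩
    · rw [Matrix.det_fin_two]; simp [h0]
    · simp
    · simp

/-- Elements of trace `± 2` are conjugate to `± un b`. -/
theorem mk_conj_un (g : SL(2, K)) (ht : (g.1 0 0 + g.1 1 1) ^ 2 - 4 = 0) (r : ℕ) [Fact r.Prime] [CharP K r] :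
    ∃ y : Matrix.ProjectiveSpecialLinearGroup (Fin 2) K, ∃ b : K,
      y * (QuotientGroup.mk g) * y⁻¹ = unP K (Multiplicative.ofAdd b) := by
  obtain ⟨ε, hε, hN, -⟩ := SL2_pow_char r g ht
  have hdet : (g.1 - ε • (1 : Matrix (Fin 2) (Fin 2) K)).det = 0 := by
    have h1 := congrArg Matrix.det hN
    rw [Matrix.det_pow, Matrix.det_zero] at h1
    exact (pow_eq_zero_iff two_ne_zero).1 h1
  obtain ⟨v, hv, hgv⟩ := Matrix.exists_mulVec_eq_zero_iff.2 hdet
  obtain ⟨h, h0, h1⟩ := exists_first_col v hv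
  have e0 := congrFun hgv 0
  have e1 := congrFun hgv 1
  simp [Matrix.mulVec, dotProduct, Fin.sum_univ_two] at e0 e1
  obtain ⟨k, hk⟩ : ∃ k : SL(2, K), k = h⁻¹ * g * h := ⟨_, rfl⟩
  have hdeth := h.2
  rw [Matrix.det_fin_two] at hdeth
  have hkm : ∀ i j, k.1 i j = ∑ l, (∑ n, (Matrix.adjugate h.1) i n * g.1 n l) * h.1 l j := by
    intro i j
    rw [hk]
    rfl
  have k00 : k.1 0 0 = ε := by
    rw [hkm, Matrix.adjugate_fin_two]
    simp only [Fin.sum_univ_two]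
    simp [h0, h1]
    rw [h0, h1] at hdeth
    linear_combination ε * hdeth + h.1 1 1 * e0 - h.1 0 1 * e1
  have k10 : k.1 1 0 = 0 := by
    rw [hkm, Matrix.adjugate_fin_two]
    simp only [Fin.sum_univ_two]
    simp [h0, h1]
    linear_combination v 0 * e1 - v 1 * e0
  have k11 : k.1 1 1 = ε := by
    have h2 := k.2
    rw [Matrix.det_fin_two, k00, k10, mul_zero, sub_zero] at h2
    have hε0 : ε ≠ 0 := by rintro rfl; simp at hε
    apply mul_left_cancel₀ hε0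
    rw [h2, ← sq, hε]
  obtain ⟨s, hs⟩ : ∃ s : SL(2, K), s.1 = !![ε, 0; 0, ε] :=
    ⟨⟨!![ε, 0; 0, ε], by rw [Matrix.det_fin_two]; simp; rw [← sq, hε]⟩, rfl⟩
  have hsc : s ∈ Subgroup.center SL(2, K) := by
    rw [Matrix.SpecialLinearGroup.mem_center_iff]
    refine ⟨ε, by rw [Fintype.card_fin, hε], ?_⟩
    rw [hs]
    ext i j
    fin_cases i <;> fin_cases j <;> simp
  have hkun : k = un (ε * k.1 0 1) * s := by
    apply Subtype.ext
    rw [Matrix.SpecialLinearGroup.coe_mul, hs, un_val]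
    ext i j
    fin_cases i <;> fin_cases j <;> simp [Matrix.mul_apply, Fin.sum_univ_two]
    · exact k00
    · linear_combination -(k.1 0 1) * hε
    · exact k10
    · exact k11
  refine ⟨QuotientGroup.mk h⁻¹, ε * k.1 0 1, ?_⟩
  have h3 : (QuotientGroup.mk (h⁻¹ * g * h) : Matrix.ProjectiveSpecialLinearGroup (Fin 2) K) =
      QuotientGroup.mk (un (ε * k.1 0 1)) := by
    rw [← hk]
    conv_lhs => rw [hkun]
    rw [QuotientGroup.mk_mul, (QuotientGroup.eq_one_iff s).2 hsc, mul_one]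
  rw [← QuotientGroup.mk_inv, ← QuotientGroup.mk_mul, ← QuotientGroup.mk_mul, inv_inv, h3]
  rfl

/-- Conjugation of unipotent elements by the torus. -/
lemma unP_conj (t : Kˣ) (b : K) : (QuotientGroup.mk (dg t) : Matrix.ProjectiveSpecialLinearGroup (Fin 2) K) *
    unP K (Multiplicative.ofAdd b) * (QuotientGroup.mk (dg t))⁻¹ = unP K (Multiplicative.ofAdd ((t : K) ^ 2 * b)) := by
  have h := dg_mul_un t b
  exact congrArg (QuotientGroup.mk : SL(2, K) → Matrix.ProjectiveSpecialLinearGroup (Fin 2) K) h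

lemma unP_pow (b : K) (n : ℕ) : unP K (Multiplicative.ofAdd b) ^ n = unP K (Multiplicative.ofAdd ((n : K) * b)) := by
  rw [← map_pow, ← ofAdd_nsmul, nsmul_eq_mul]

/-- If `x` is conjugate to a unipotent and `t ^ 2 = n` in `K` then `x ^ n` is conjugate to `x`. -/
lemma unip_pow_conj {x : Matrix.ProjectiveSpecialLinearGroup (Fin 2) K}
    (hx : ∃ y, ∃ b : K, y * x * y⁻¹ = unP K (Multiplicative.ofAdd b)) {n : ℕ} {t : Kˣ} (ht : (t : K) ^ 2 = n) :
    ∃ z, z * x * z⁻¹ = x ^ n := by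
  obtain ⟨y, b, h⟩ := hx
  have h1 : x = y⁻¹ * unP K (Multiplicative.ofAdd b) * y := by rw [← h]; group
  refine ⟨y⁻¹ * QuotientGroup.mk (dg t) * y, ?_⟩
  have h2 : x ^ n = y⁻¹ * unP K (Multiplicative.ofAdd b) ^ n * y := by
    rw [h1]
    have := conj_pow (i := n) (a := y⁻¹) (b := unP K (Multiplicative.ofAdd b))
    rwa [inv_inv] at this
  rw [h2, unP_pow, ← ht, ← unP_conj, h1]
  group

lemma unip_inv_conj {x : Matrix.ProjectiveSpecialLinearGroup (Fin 2) K}
    (hx : ∃ y, ∃ b : K, y * x * y⁻¹ = unP K (Multiplicative.ofAdd b)) {n : ℕ} {t : Kˣ} (ht : (t : K) ^ 2 = -n) :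
    ∃ z, z * x * z⁻¹ = (x ^ n)⁻¹ := by
  obtain ⟨y, b, h⟩ := hx
  have h1 : x = y⁻¹ * unP K (Multiplicative.ofAdd b) * y := by rw [← h]; group
  refine ⟨y⁻¹ * QuotientGroup.mk (dg t) * y, ?_⟩
  have h2 : (x ^ n)⁻¹ = y⁻¹ * (unP K (Multiplicative.ofAdd b) ^ n)⁻¹ * y := by
    rw [h1]
    have := conj_pow (i := n) (a := y⁻¹) (b := unP K (Multiplicative.ofAdd b))
    rw [inv_inv] at this
    rw [this]
    group
  have h3 : (unP K (Multiplicative.ofAdd b) ^ n)⁻¹ = unP K (Multiplicative.ofAdd (-(n : K) * b)) := by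
    rw [unP_pow, ← map_inv]
    congr 1
    rw [neg_mul]
    rfl
  rw [h2, h3, ← ht, ← unP_conj, h1]
  group

end Cfsg.Agent.H906
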