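import Cfsg.Agent.H906.ZLemma
import Cfsg.Agent.H906.U3Def
import Cfsg.Agent.S0262
import Cfsg.Agent.S0242
import Cfsg.Agent.S0280

/-!
# Cyclic subgroups of index prime to three in `PSL₂`, `PSL₃`, `PSU₃` (helper906)
-/

set_option autoImplicit false
set_option linter.unusedSectionVars false

namespace Cfsg.Agent.H906

open Cfsg Cfsg.Geo
open scoped MatrixGroups Matrix

lemma cyclic_map {X Γ : Type*} [Group X] [Group Γ] {q : X →* Γ} (hq : Function.Surjective q)
    {C : Subgroup X} (hC : IsCyclic C) {ℓ : ℕ} (hidx : ¬ ℓ ∣ C.index) :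
    ∃ D : Subgroup Γ, IsCyclic D ∧ ¬ ℓ ∣ D.index := by
  refine ⟨C.map q, ?_, fun h => hidx (h.trans (Subgroup.index_map_dvd C hq))⟩
  let f : C →* C.map q := (q.comp C.subtype).codRestrict _ (fun x => ⟨x, x.2, rfl⟩)
  apply isCyclic_of_surjective f
  rintro ⟨_, x, hx, rfl⟩
  exact ⟨⟨x, hx⟩, rfl⟩

lemma three_not_dvd_iff (K : Type*) [Field K] [Finite K] : (¬ 3 ∣ Nat.card K) ↔ (3 : K) ≠ 0 := by
  classical
  have := Fintype.ofFinite K
  obtain ⟨p, hp⟩ := CharP.exists K
  have hpp : p.Prime := CharP.char_is_prime K p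
  have : Fact p.Prime := ⟨hpp⟩
  obtain ⟨a, ha0, ha⟩ := FiniteField.card K p
  rw [Nat.card_eq_fintype_card, ha]
  constructor
  · intro h h3
    apply h
    have h4 : p ∣ 3 := by
      rw [← CharP.cast_eq_zero_iff K p 3]
      exact_mod_cast h3
    have h5 : p = 3 := (Nat.prime_dvd_prime_iff_eq hpp Nat.prime_three).1 h4
    rw [h5]
    exact dvd_pow_self 3 a.2.ne'
  · intro h3 h
    apply h3
    have h4 : 3 ∣ p := Nat.prime_three.dvd_of_dvd_pow h
    have h5 : 3 = p := (Nat.prime_dvd_prime_iff_eq Nat.prime_three hpp).1 h4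
    have h6 : ((p : ℕ) : K) = 0 := CharP.cast_eq_zero K p
    rw [← h5] at h6
    exact_mod_cast h6

/-- Sylow `3`-subgroups of `SL₂(K)` are cyclic. -/
lemma SL2_sylow_cyclic {K : Type*} [Field K] [Finite K] (h3 : (3 : K) ≠ 0)
    (R : Subgroup (Matrix.SpecialLinearGroup (Fin 2) K)) (hR : IsPGroup 3 R) : IsCyclic R := by
  obtain ⟨p, hp⟩ := CharP.exists K
  have hpp : p.Prime := CharP.char_is_prime K p
  have : Fact p.Prime := ⟨hpp⟩
  have : Fact (Nat.Prime 3) := ⟨Nat.prime_three⟩
  exact Cfsg.Agent.S0262.isCyclic_of_isPGroup p 3 (by norm_num) (by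
    rintro rfl
    apply h3
    have := CharP.cast_eq_zero K 3
    exact_mod_cast this) R hR

theorem L2_cyclic {K : Type*} [Field K] [Finite K] (h3 : (3 : K) ≠ 0) :
    ∃ C : Subgroup (Matrix.ProjectiveSpecialLinearGroup (Fin 2) K), IsCyclic C ∧ ¬ 3 ∣ C.index := by
  have : Fact (Nat.Prime 3) := ⟨Nat.prime_three⟩
  let R : Sylow 3 (Matrix.SpecialLinearGroup (Fin 2) K) := default
  exact cyclic_map (q := QuotientGroup.mk' _) (QuotientGroup.mk'_surjective _)
    (SL2_sylow_cyclic h3 R R.isPGroup') (R.not_dvd_index)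

/-- The block embedding `SL₂ → SL₃`. -/
def blockEmb (K : Type*) [Field K] :
    Matrix.SpecialLinearGroup (Fin 2) K →* Matrix.SpecialLinearGroup (Fin 3) K where
  toFun A := ⟨!![A.1 0 0, A.1 0 1, 0; A.1 1 0, A.1 1 1, 0; 0, 0, 1], by
    have h := A.2
    rw [Matrix.det_fin_two] at h
    simp only [Matrix.det_fin_three]
    simp
    linear_combination h⟩
  map_one' := by
    apply Subtype.ext
    ext i j
    fin_cases i <;> fin_cases j <;> simp
  map_mul' A B := by
    apply Subtype.ext
    change _ = (_ : Matrix (Fin 3) (Fin 3) K) * _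
    have h : ∀ i j, (A * B).1 i j = A.1 i 0 * B.1 0 j + A.1 i 1 * B.1 1 j := by
      intro i j
      change (A.1 * B.1) i j = _
      rw [Matrix.mul_apply, Fin.sum_univ_two]
    ext i j
    rw [Matrix.mul_apply, Fin.sum_univ_three]
    fin_cases i <;> fin_cases j <;> simp [h]

lemma blockEmb_injective (K : Type*) [Field K] : Function.Injective (blockEmb K) := by
  intro A B h
  have h1 := congrArg Subtype.val h
  have h2 := fun i j => congrFun (congrFun h1 i) j
  apply Subtype.ext
  ext i j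
  have a0 := h2 0 0
  have a1 := h2 0 1
  have a2 := h2 1 0
  have a3 := h2 1 1
  simp [blockEmb] at a0 a1 a2 a3
  fin_cases i <;> fin_cases j <;> assumption

lemma arith_index {m r j idx s2 s3 : ℕ} (hm : 1 < m) (c2 : (m - 1) * s2 = (m ^ 2 - 1) * (m ^ 2 - m))
    (c3 : (m - 1) * s3 = (m ^ 3 - 1) * (m ^ 3 - m) * (m ^ 3 - m ^ 2)) (e2 : r * idx = s3)
    (e3 : r * j = s2) (hr : 0 < r) : idx = j * (m ^ 2 * (m ^ 3 - 1)) := by
  have e5 : s3 = s2 * (m ^ 2 * (m ^ 3 - 1)) := by
    have hpos : 0 < m - 1 := by omega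
    apply Nat.eq_of_mul_eq_mul_left hpos
    rw [c3, ← mul_assoc, c2]
    have f1 : m ^ 3 - m = m * (m ^ 2 - 1) := by
      rw [Nat.mul_sub, mul_one]; ring_nf
    have f2 : m ^ 3 - m ^ 2 = m ^ 2 * (m - 1) := by
      rw [Nat.mul_sub, mul_one]; ring_nf
    have f3 : m ^ 2 - m = m * (m - 1) := by
      rw [Nat.mul_sub, mul_one]; ring_nf
    rw [f1, f2, f3]
    ring
  rw [← e2, ← e3, mul_assoc] at e5
  exact Nat.eq_of_mul_eq_mul_left hr e5

lemma card_map_inj {X Y : Type*} [Group X] [Group Y] {f : X →* Y} (hf : Function.Injective f)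
    (R : Subgroup X) : Nat.card (R.map f) = Nat.card R :=
  (Nat.card_congr (R.equivMapOfInjective f hf).toEquiv).symm

lemma isCyclic_map_inj {X Y : Type*} [Group X] [Group Y] {f : X →* Y} (hf : Function.Injective f)
    {R : Subgroup X} (hR : IsCyclic R) : IsCyclic (R.map f) :=
  isCyclic_of_surjective (R.equivMapOfInjective f hf).toMonoidHom
    (R.equivMapOfInjective f hf).surjective

theorem L3_cyclic {K : Type*} [Field K] [Finite K] (h3 : (3 : K) ≠ 0) (h31 : ¬ 3 ∣ Nat.card K - 1) :
    ∃ C : Subgroup (Matrix.ProjectiveSpecialLinearGroup (Fin 3) K), IsCyclic C ∧ ¬ 3 ∣ C.index := by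
  classical
  have := Fintype.ofFinite K
  have : Fact (Nat.Prime 3) := ⟨Nat.prime_three⟩
  have h3' := (three_not_dvd_iff K).2 h3
  set m := Nat.card K with hm
  have hm1 : 1 < m := Finite.one_lt_card
  have hfc : Fintype.card K = m := by rw [hm, Nat.card_eq_fintype_card]
  have c2 := Cfsg.Agent.S0242.result hfc 2 (by norm_num)
  have c3 := Cfsg.Agent.S0242.result hfc 3 (by norm_num)
  rw [Fin.prod_univ_two] at c2
  rw [Fin.prod_univ_three] at c3
  simp only [Fin.val_zero, pow_zero, Fin.val_one, pow_one, Fin.val_two] at c2 c3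
  let R : Sylow 3 (Matrix.SpecialLinearGroup (Fin 2) K) := default
  set C : Subgroup (Matrix.SpecialLinearGroup (Fin 3) K) := (R : Subgroup _).map (blockEmb K) with hC
  have hCc : IsCyclic C := isCyclic_map_inj (blockEmb_injective K) (SL2_sylow_cyclic h3 R R.isPGroup')
  have hidx : ¬ 3 ∣ C.index := by
    intro hdvd
    have e1 : Nat.card C = Nat.card (R : Subgroup (Matrix.SpecialLinearGroup (Fin 2) K)) :=
      card_map_inj (blockEmb_injective K) _
    have e2 := C.card_mul_index
    have e3 := (R : Subgroup (Matrix.SpecialLinearGroup (Fin 2) K)).card_mul_index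
    have e4 := R.not_dvd_index
    rw [e1] at e2
    have hr0 : 0 < Nat.card (R : Subgroup (Matrix.SpecialLinearGroup (Fin 2) K)) := Nat.card_pos
    rw [arith_index hm1 c2 c3 e2 e3 hr0] at hdvd
    rcases (Nat.Prime.dvd_mul Nat.prime_three).1 hdvd with h | h
    · exact e4 h
    · rcases (Nat.Prime.dvd_mul Nat.prime_three).1 h with h | h
      · exact h3' (Nat.prime_three.dvd_of_dvd_pow h)
      · -- `m ≡ 2 mod 3`
        have hmod : m % 3 = 2 := by omega
        have h8 : m ^ 3 % 3 = 2 := by rw [Nat.pow_mod, hmod]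
        have h9 : 1 ≤ m ^ 3 := Nat.one_le_pow _ _ (by omega)
        omega
  exact cyclic_map (q := QuotientGroup.mk' _) (QuotientGroup.mk'_surjective _) hCc hidx

open Cfsg.Agent.UThreeGen.MatGroup in
theorem U3_cyclic {K : Type*} [Field K] [Finite K] {m : ℕ} (hK : Nat.card K = m ^ 2)
    (h3 : ¬ 3 ∣ m) (h31 : ¬ 3 ∣ m + 1) :
    ∃ C : Subgroup (Cfsg.PSU 3 K m), IsCyclic C ∧ ¬ 3 ∣ C.index := by
  classical
  have := Fintype.ofFinite K
  obtain ⟨p, hpc⟩ := CharP.exists K
  have hpp : p.Prime := CharP.char_is_prime K p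
  have hp : Fact p.Prime := ⟨hpp⟩
  obtain ⟨a, ha0, ha⟩ := FiniteField.card K p
  have hcardK : Nat.card K = p ^ (a : ℕ) := by rw [Nat.card_eq_fintype_card, ha]
  obtain ⟨b, hb⟩ : ∃ b, m = p ^ b := by
    have h1 : m ∣ p ^ (a : ℕ) := by rw [← hcardK, hK, sq]; exact Dvd.intro _ rfl
    obtain ⟨b, -, hb⟩ := (Nat.dvd_prime_pow hp.out).1 h1
    exact ⟨b, hb⟩
  have hm : 1 < m := by
    rcases Nat.lt_or_ge 1 m with h | h
    · exact h
    · exfalso
      have h1 : 1 < Nat.card K := Finite.one_lt_card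
      rw [hK] at h1
      have : m ^ 2 ≤ 1 ^ 2 := Nat.pow_le_pow_left h 2
      omega
  have hexpK : ExpChar K p := ExpChar.prime hp.out
  set σ : K →+* K := iterateFrobenius K p b with hσdef
  have hs : ∀ x, σ x = x ^ m := fun x => by rw [hσdef, iterateFrobenius_def, hb]
  have hcardm : ∀ x : K, x ^ (m * m) = x := by
    intro x
    have := FiniteField.pow_card x
    rwa [← Nat.card_eq_fintype_card, hK, sq] at this
  have hσ : Fact (∀ x, σ (σ x) = x) := ⟨fun x => by rw [hs, hs, ← pow_mul, hcardm]⟩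
  obtain ⟨q, hqs, hqk⟩ := exists_psu_hom (σ := σ) hm hs hK
  have hfinX : Finite (SUG σ) := inferInstance
  set C : Subgroup (SUG σ) := (tor σ).range with hC
  have hCc : IsCyclic C := isCyclic_of_surjective (tor σ).rangeRestrict (tor σ).rangeRestrict_surjective
  -- the torus meets the centre trivially
  have hinj : Function.Injective (q.comp (tor σ)) := by
    rw [injective_iff_map_eq_one]
    intro a ha
    have h1 : tor σ a ∈ Subgroup.center (SUG σ) := by rw [← hqk]; exact ha
    rw [Subgroup.mem_center_iff] at h1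
    have htinj : ∀ a b : Kˣ, tor σ a = tor σ b → a = b := by
      intro a b h
      have h2 := congrArg (fun z : SUG σ => z.1.1 0 0) h
      simp only [tor_val] at h2
      exact Units.ext (by simpa using h2)
    have h2 : (wel σ)⁻¹ * tor σ a * wel σ = tor σ a := by
      rw [mul_assoc, ← h1 (wel σ), inv_mul_cancel_left]
    rw [wel_tor, ← map_inv] at h2
    have h3'' := congrArg Units.val (htinj _ _ h2)
    have ha0 : (a : K) ≠ 0 := a.ne_zero
    have hsa0 : σ (a : K) ≠ 0 := (map_ne_zero σ).2 ha0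
    have h4 : (σ (a : K))⁻¹ = a := by
      rw [Units.val_inv_eq_inv_val] at h3''
      exact h3''
    -- commuting with a unipotent element
    obtain ⟨c, hc⟩ : ∃ c : K, c + σ c ≠ 0 := by
      by_contra hcon
      push Not at hcon
      have k1 : ∀ c : K, σ c = -c := fun c => by linear_combination hcon c
      have k2 : (1 : K) = -1 := by rw [← k1, map_one]
      have k3 : ∀ c : K, c ^ m = c := by
        intro c
        rw [← hs, k1]
        linear_combination (-c) * k2
      have k4 := card_le_of_pow_eq (F := K) (m := m) hm k3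
      rw [hK] at k4
      have k5 := Nat.le_of_dvd (by omega) k4
      have k6 : m * 2 ≤ m ^ 2 := by rw [sq]; exact Nat.mul_le_mul_left m hm
      omega
    obtain ⟨x, hx⟩ := Cfsg.Agent.UThreeGen.Recog.exists_b (σ := σ) hm hs hK c
    have hxa : x.a ≠ 0 := by
      intro h0
      apply hc
      rw [← hx, x.h, h0, zero_mul]
    have h5 := congrArg (fun z : SUG σ => z.1.1 0 1) (h1 (emb σ x))
    simp only [coe_mul_SUG, emb_val, tor_val] at h5
    simp [umat, Matrix.mul_apply, Fin.sum_univ_three] at h5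
    have h6 : σ (a : K) * (a : K)⁻¹ = a := by
      have : x.a * (σ (a : K) * (a : K)⁻¹ - a) = 0 := by linear_combination h5
      exact sub_eq_zero.1 ((mul_eq_zero.1 this).resolve_left hxa)
    have h7 : σ (a : K) = (a : K) ^ 2 := by
      field_simp at h6
      linear_combination h6
    have h8 : (a : K) ^ 3 = 1 := by
      rw [h7] at h4
      field_simp at h4
      linear_combination -h4
    obtain ⟨l, hl⟩ : ∃ l, m = 1 + 3 * l := ⟨m / 3, by omega⟩
    have h9 : σ (a : K) = a := by
      rw [hs, hl, pow_add, pow_one, pow_mul, h8, one_pow, mul_one]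
    rw [h9] at h7
    have h10 : (a : K) = 1 := by
      have : (a : K) * ((a : K) - 1) = 0 := by linear_combination -h7
      exact sub_eq_zero.1 ((mul_eq_zero.1 this).resolve_left ha0)
    exact Units.ext h10
  refine ⟨(q.comp (tor σ)).range, isCyclic_of_surjective (q.comp (tor σ)).rangeRestrict
    (q.comp (tor σ)).rangeRestrict_surjective, ?_⟩
  intro hdvd
  have hfc : Fintype.card K = m ^ 2 := by rw [← Nat.card_eq_fintype_card, hK]
  have hcardC : Nat.card (q.comp (tor σ)).range = m ^ 2 - 1 := by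
    rw [Nat.card_congr (MonoidHom.ofInjective hinj).toEquiv.symm, Nat.card_units, hK]
  have hmul := (q.comp (tor σ)).range.card_mul_index
  have hord := Cfsg.Agent.S0280.result hfc 3 (by norm_num)
  have hgcd : Nat.gcd 3 (m + 1) = 1 := (Nat.Prime.coprime_iff_not_dvd Nat.prime_three).2 h31
  rw [hgcd, one_mul, ← hmul, hcardC] at hord
  have hidx : (q.comp (tor σ)).range.index = m ^ 3 * (m ^ 3 + 1) := by
    have hprod : ∏ i ∈ Finset.range 3, (if Even i then m ^ (i + 1) + 1 else m ^ (i + 1) - 1) =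
        (m + 1) * (m ^ 2 - 1) * (m ^ 3 + 1) := by
      rw [Finset.prod_range_succ, Finset.prod_range_succ, Finset.prod_range_succ,
        Finset.prod_range_zero]
      simp
    rw [hprod] at hord
    have hpos : 0 < (m + 1) * (m ^ 2 - 1) := by
      have : 1 < m ^ 2 := Nat.one_lt_pow two_ne_zero hm
      exact Nat.mul_pos (by omega) (by omega)
    apply Nat.eq_of_mul_eq_mul_left hpos
    calc (m + 1) * (m ^ 2 - 1) * (q.comp (tor σ)).range.index
        = (m + 1) * ((m ^ 2 - 1) * (q.comp (tor σ)).range.index) := by ring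
      _ = m ^ (3 * (3 - 1) / 2) * ((m + 1) * (m ^ 2 - 1) * (m ^ 3 + 1)) := hord
      _ = _ := by norm_num; ring
  rw [hidx] at hdvd
  rcases (Nat.Prime.dvd_mul Nat.prime_three).1 hdvd with h | h
  · exact h3 (Nat.prime_three.dvd_of_dvd_pow h)
  · have hmod : m % 3 = 1 := by omega
    have h8 : m ^ 3 % 3 = 1 := by rw [Nat.pow_mod, hmod]
    omega

end Cfsg.Agent.H906
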