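import Cfsg.Agent.H906.Heis
import Cfsg.Agent.H906.SL3Par
import Cfsg.Agent.H906.L3Fin

/-!
# `PSL₃(K)`, `K` odd, has no three-dimensional representation in cross characteristic (helper906)
-/

set_option autoImplicit false
set_option linter.unusedSectionVars false

namespace Cfsg.Agent.H906

open Cfsg Cfsg.Geo SL3Par
open scoped MatrixGroups Matrix

variable {K : Type*} [Field K]

/-- The image of `uni 0 b c`. -/
def w3 (b c : K) : Matrix.ProjectiveSpecialLinearGroup (Fin 3) K := QuotientGroup.mk (uni 0 b c)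

lemma w3_mul (b c b' c' : K) : w3 b c * w3 b' c' = w3 (b + b') (c + c') := by
  have h := uni_mul (0 : K) b c 0 b' c'
  rw [zero_mul, add_zero, add_zero] at h
  change (QuotientGroup.mk (uni 0 b c * uni 0 b' c') : Matrix.ProjectiveSpecialLinearGroup (Fin 3) K) = _
  rw [h]
  rfl

lemma w3_comm (b c b' c' : K) : w3 b c * w3 b' c' = w3 b' c' * w3 b c := by
  rw [w3_mul, w3_mul, add_comm b, add_comm c]

lemma w3_zero : w3 (0 : K) 0 = 1 := by
  change (QuotientGroup.mk (uni 0 0 0) : Matrix.ProjectiveSpecialLinearGroup (Fin 3) K) = _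
  rw [uni_zero]
  rfl

lemma w3_inv (b c : K) : (w3 b c)⁻¹ = w3 (-b) (-c) := by
  rw [inv_eq_iff_mul_eq_one, w3_mul, add_neg_cancel, add_neg_cancel, w3_zero]

lemma w3_eq_one {b c : K} (h : w3 b c = 1) : b = 0 ∧ c = 0 := by
  have h1 : uni 0 b c ∈ Subgroup.center (X K) := (QuotientGroup.eq_one_iff _).1 h
  have h2 := uni_mem_center h1
  have h3 := congrArg (fun g : X K => g.1 1 2) h2
  have h4 := congrArg (fun g : X K => g.1 0 2) h2
  simp [uni] at h3 h4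
  exact ⟨h3, h4⟩

/-- The elementary abelian group of the `w3 b c`. -/
def E3 (K : Type*) [Field K] : Subgroup (Matrix.ProjectiveSpecialLinearGroup (Fin 3) K) where
  carrier := {e | ∃ b c, e = w3 b c}
  mul_mem' := by
    rintro _ _ ⟨b, c, rfl⟩ ⟨b', c', rfl⟩
    exact ⟨_, _, w3_mul _ _ _ _⟩
  one_mem' := ⟨0, 0, w3_zero.symm⟩
  inv_mem' := by
    rintro _ ⟨b, c, rfl⟩
    exact ⟨_, _, w3_inv _ _⟩

lemma w3_pow (n : ℕ) (b c : K) : w3 b c ^ n = w3 (n * b) (n * c) := by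
  induction n with
  | zero => rw [pow_zero, Nat.cast_zero, zero_mul, zero_mul, w3_zero]
  | succ n ih =>
    rw [pow_succ, ih, w3_mul]
    congr 1 <;> push_cast <;> ring

lemma E3_pow (r : ℕ) [CharP K r] : ∀ e ∈ E3 K, e ^ r = 1 := by
  rintro _ ⟨b, c, rfl⟩
  rw [w3_pow, CharP.cast_eq_zero, zero_mul, zero_mul, w3_zero]

/-- A block matrix acting on `E3`. -/
def bl (a b c d e : K) (h : (a * d - b * c) * e = 1) : X K :=
  ⟨!![a, b, 0; c, d, 0; 0, 0, e], by simp [Matrix.det_fin_three]; linear_combination h⟩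

lemma bl_conj (a b c d e : K) (h : (a * d - b * c) * e = 1) (y x : K) :
    (QuotientGroup.mk (bl a b c d e h) : Matrix.ProjectiveSpecialLinearGroup (Fin 3) K) * w3 y x *
      (QuotientGroup.mk (bl a b c d e h))⁻¹ =
      w3 ((a * d - b * c) * (c * x + d * y)) ((a * d - b * c) * (a * x + b * y)) := by
  rw [mul_inv_eq_iff_eq_mul]
  have h1 : bl a b c d e h * uni 0 y x =
      uni 0 ((a * d - b * c) * (c * x + d * y)) ((a * d - b * c) * (a * x + b * y)) * bl a b c d e h := by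
    apply ext'
    intro i j
    rw [mul_entry, mul_entry]
    fin_cases i <;> fin_cases j <;> simp [uni, bl]
    · linear_combination -(a * x + b * y) * h
    · linear_combination -(c * x + d * y) * h
  exact congrArg (QuotientGroup.mk : X K → Matrix.ProjectiveSpecialLinearGroup (Fin 3) K) h1

variable {F : Type*} [Field F] {P : Subgroup (GL (Fin 3) F)}
variable (Φ : (P ⧸ (scalars (Fin 3) F).subgroupOf P) ≃* Matrix.ProjectiveSpecialLinearGroup (Fin 3) K)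

include Φ

lemma br_mixed (b c : K) : Br Φ (w3 b 0) (w3 0 c) 1 := by
  obtain ⟨z, hz⟩ := Br.exists_of_comm (Φ := Φ) (w3_comm b 0 0 c)
  have h1 := hz.conj (QuotientGroup.mk (bl (-1 : K) 0 0 1 (-1) (by ring)))
  rw [bl_conj, bl_conj] at h1
  have e1 : w3 ((-1 * 1 - 0 * 0) * (0 * 0 + 1 * b)) ((-1 * 1 - 0 * 0) * ((-1) * 0 + 0 * b)) = (w3 b 0)⁻¹ := by
    rw [w3_inv]; congr 1 <;> ring
  have e2 : w3 ((-1 * 1 - 0 * 0) * (0 * c + 1 * 0)) ((-1 * 1 - 0 * 0) * ((-1) * c + 0 * 0)) = w3 0 c := by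
    congr 1 <;> ring
  rw [e1, e2] at h1
  have h2 := h1.unique hz.inv_left
  have h3 : z ^ 2 = 1 := by rw [sq]; exact eq_inv_iff_mul_eq_one.1 h2
  have h4 := hz.pow_three
  have h5 : z = 1 := by
    have : z ^ 3 = z := by rw [pow_succ, h3, one_mul]
    rw [← this, h4]
  rwa [h5] at hz

lemma br_first (b b' : K) : Br Φ (w3 b 0) (w3 b' 0) 1 := by
  obtain ⟨z, hz⟩ := Br.exists_of_comm (Φ := Φ) (w3_comm 0 b 0 b')
  have h1 := hz.conj (QuotientGroup.mk (bl (1 : K) 0 1 1 1 (by ring)))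
  rw [bl_conj, bl_conj] at h1
  have e1 : ∀ t : K, w3 ((1 * 1 - 0 * 1) * (1 * t + 1 * 0)) ((1 * 1 - 0 * 1) * (1 * t + 0 * 0)) = w3 t 0 * w3 0 t := by
    intro t
    rw [w3_mul]; congr 1 <;> ring
  rw [e1, e1] at h1
  obtain ⟨u, hu⟩ := Br.exists_of_comm (Φ := Φ) (w3_comm b 0 b' 0)
  have h2 : Br Φ (w3 b 0 * w3 0 b) (w3 b' 0 * w3 0 b') ((u * 1) * ((1⁻¹) * z)) := by
    refine Br.mul_left (hu.mul_right (br_mixed Φ b b')) (Br.mul_right ?_ hz)
    exact (br_mixed Φ b' b).symm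
  have h3 := h2.unique h1
  rw [mul_one, inv_one, one_mul] at h3
  have h4 : u = 1 := mul_eq_right.1 h3
  rwa [h4] at hu

lemma br_second (b b' : K) : Br Φ (w3 0 b) (w3 0 b') 1 := by
  have hz := br_first Φ b b'
  have h1 := hz.conj (QuotientGroup.mk (bl (0 : K) 1 (-1) 0 1 (by ring)))
  rw [bl_conj, bl_conj] at h1
  have e1 : ∀ t : K, w3 ((0 * 0 - 1 * -1) * (-1 * 0 + 0 * t)) ((0 * 0 - 1 * -1) * (0 * 0 + 1 * t)) = w3 0 t := by
    intro t
    congr 1 <;> ring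
  rwa [e1, e1] at h1

lemma br_E3 : ∀ s ∈ E3 K, ∀ t ∈ E3 K, Br Φ s t 1 := by
  rintro _ ⟨b, c, rfl⟩ _ ⟨b', c', rfl⟩
  have e1 : ∀ x y : K, w3 x y = w3 x 0 * w3 0 y := by
    intro x y
    rw [w3_mul, add_zero, zero_add]
  rw [e1 b c, e1 b' c']
  have h := Br.mul_left ((br_first Φ b b').mul_right (br_mixed Φ b c'))
    (Br.mul_right (br_mixed Φ b' c).symm (br_second Φ c c'))
  simpa using h

theorem crossL3 [Finite F] (hdet : P ≤ specialLinear (Fin 3) F) (r : ℕ) [CharP K r]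
    (hrF : (r : F) ≠ 0) (h2 : (2 : K) ≠ 0) : False := by
  set g : Matrix.ProjectiveSpecialLinearGroup (Fin 3) K := QuotientGroup.mk (bl (0 : K) 1 1 1 (-1) (by ring)) with hg
  have hconj : ∀ y x : K, g * w3 y x * g⁻¹ = w3 (-(x + y)) (-y) := by
    intro y x
    rw [hg, bl_conj]
    congr 1 <;> ring
  have hconj' : ∀ y x : K, g⁻¹ * w3 y x * g = w3 (-x) (x - y) := by
    intro y x
    have h := hconj (-x) (x - y)
    have e1 : w3 (-(x - y + -x)) (- -x) = w3 y x := by congr 1 <;> ring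
    rw [e1] at h
    rw [← h]
    group
  have key := sq_or_cube_br hdet (br_E3 Φ) hrF (E3_pow r) (g := g)
    (by rintro _ ⟨b, c, rfl⟩; exact ⟨_, _, hconj b c⟩)
    (by rintro _ ⟨b, c, rfl⟩; exact ⟨_, _, hconj' b c⟩)
  have hpow : ∀ k : ℕ, (∀ e ∈ E3 K, g ^ k * e = e * g ^ k) → ∀ y x, g ^ k * w3 y x * (g ^ k)⁻¹ = w3 y x := by
    intro k hk y x
    rw [hk _ ⟨y, x, rfl⟩, mul_inv_cancel_right]
  have c2 : ∀ y x, g ^ 2 * w3 y x * (g ^ 2)⁻¹ = w3 (x + 2 * y) (x + y) := by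
    intro y x
    have : g ^ 2 * w3 y x * (g ^ 2)⁻¹ = g * (g * w3 y x * g⁻¹) * g⁻¹ := by
      rw [pow_two, mul_inv_rev]; simp only [mul_assoc]
    rw [this, hconj, hconj]
    congr 1 <;> ring
  have c3 : ∀ y x, g ^ 3 * w3 y x * (g ^ 3)⁻¹ = w3 (-(2 * x + 3 * y)) (-(x + 2 * y)) := by
    intro y x
    have : g ^ 3 * w3 y x * (g ^ 3)⁻¹ = g * (g ^ 2 * w3 y x * (g ^ 2)⁻¹) * g⁻¹ := by
      rw [pow_succ' g 2, mul_inv_rev]; simp only [mul_assoc]
    rw [this, c2, hconj]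
    congr 1 <;> ring
  rcases key with h | h
  · have h1 := hpow 2 h 0 1
    rw [c2] at h1
    have h3 : w3 (1 + 2 * 0 - 0) (1 + 0 - 1 : K) = 1 := by
      have : w3 (1 + 2 * 0 - 0) (1 + 0 - 1 : K) = w3 (1 + 2 * 0) (1 + 0) * (w3 0 1)⁻¹ := by
        rw [w3_inv, w3_mul]; congr 1 <;> ring
      rw [this, h1, mul_inv_cancel]
    have h4 := (w3_eq_one h3).1
    simp at h4
  · have h1 := hpow 3 h 0 1
    rw [c3] at h1
    have h3 : w3 (-(2 * 1 + 3 * 0) - 0) (-(1 + 2 * 0) - 1 : K) = 1 := by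
      have : w3 (-(2 * 1 + 3 * 0) - 0) (-(1 + 2 * 0) - 1 : K) = w3 (-(2 * 1 + 3 * 0)) (-(1 + 2 * 0)) * (w3 0 1)⁻¹ := by
        rw [w3_inv, w3_mul]; congr 1 <;> ring
      rw [this, h1, mul_inv_cancel]
    have h4 := (w3_eq_one h3).2
    apply h2
    linear_combination -h4

end Cfsg.Agent.H906
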