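import Cfsg.Agent.H906.Proj
import Cfsg.Agent.H906.U3Card
import Cfsg.Agent.H906.U3Def

/-!
# `PSU₃(m)`, `m` odd, has no three-dimensional representation in cross characteristic (helper906)
-/

set_option autoImplicit false
set_option linter.unusedSectionVars false

namespace Cfsg.Agent.H906

open Cfsg Cfsg.Geo Cfsg.Agent.UThreeGen.MatGroup
open scoped MatrixGroups Matrix

section Model

variable {K : Type*} [Field K] {σ : K →+* K} [hσ : Fact (∀ x, σ (σ x) = x)]

/-- The torus element with parameter of norm one acts by `(a, b) ↦ (c³ a, b)`. -/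
lemma tor_emb (c : Kˣ) (hc : σ (c : K) * (c : K) = 1) (x y : HG σ) (ha : y.a = (c : K) ^ 3 * x.a)
    (hb : y.b = x.b) : tor σ c * emb σ x * (tor σ c)⁻¹ = emb σ y := by
  rw [mul_inv_eq_iff_eq_mul]
  apply Subtype.ext
  apply Subtype.ext
  have hc' : σ (c : K) = ((c⁻¹ : Kˣ) : K) := by
    rw [Units.val_inv_eq_inv_val]
    exact eq_inv_of_mul_eq_one_left hc
  have hcc : ((c : K))⁻¹ = ((c⁻¹ : Kˣ) : K) := by rw [Units.val_inv_eq_inv_val]
  have h0 : (c : K) ≠ 0 := c.ne_zero
  have hsa : σ y.a = ((c : K)⁻¹) ^ 3 * σ x.a := by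
    rw [ha, map_mul, map_pow, hc', ← hcc]
  have hsc : σ (c : K) = (c : K)⁻¹ := eq_inv_of_mul_eq_one_left hc
  change (tor σ c).1.1 * (emb σ x).1.1 = (emb σ y).1.1 * (tor σ c).1.1
  rw [tor_val, emb_val, emb_val, umat, umat, hsa, ha, hb, hsc]
  ext i j
  fin_cases i <;> fin_cases j <;>
    simp [Matrix.mul_apply, Fin.sum_univ_three] <;> field_simp

end Model

variable {F : Type*} [Field F] {P : Subgroup (GL (Fin 3) F)}

theorem crossU3 [Finite F] (hdet : P ≤ specialLinear (Fin 3) F) {K : Type*} [Field K] [Finite K]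
    (r : ℕ) [hr : Fact r.Prime] [CharP K r]
    (hrF : (r : F) ≠ 0) {m : ℕ} (hK : Nat.card K = m ^ 2) (h2 : (2 : K) ≠ 0)
    (Φ : (P ⧸ (scalars (Fin 3) F).subgroupOf P) ≃* Cfsg.PSU 3 K m) : False := by
  classical
  have := Fintype.ofFinite K
  obtain ⟨a, ha0, ha⟩ := FiniteField.card K r
  have hcardK : Nat.card K = r ^ (a : ℕ) := by rw [Nat.card_eq_fintype_card, ha]
  obtain ⟨b, hb⟩ : ∃ b, m = r ^ b := by
    have h1 : m ∣ r ^ (a : ℕ) := by rw [← hcardK, hK, sq]; exact Dvd.intro _ rfl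
    obtain ⟨b, -, hb⟩ := (Nat.dvd_prime_pow hr.out).1 h1
    exact ⟨b, hb⟩
  have hm : 1 < m := by
    rcases Nat.lt_or_ge 1 m with h | h
    · exact h
    · exfalso
      have h1 : 1 < Nat.card K := Finite.one_lt_card
      rw [hK] at h1
      have : m ^ 2 ≤ 1 ^ 2 := Nat.pow_le_pow_left h 2
      omega
  have hm2 : m ≠ 2 := by
    rintro rfl
    have h1 : ((Nat.card K : ℕ) : K) = 0 := by
      rw [hcardK, Nat.cast_pow, CharP.cast_eq_zero, zero_pow (PNat.ne_zero a)]
    rw [hK, Nat.cast_pow] at h1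
    have h3 := (pow_eq_zero_iff (two_ne_zero)).1 h1
    exact h2 (by exact_mod_cast h3)
  have hexpK : ExpChar K r := ExpChar.prime hr.out
  set σ : K →+* K := iterateFrobenius K r b with hσdef
  have hs : ∀ x, σ x = x ^ m := fun x => by rw [hσdef, iterateFrobenius_def, hb]
  have hcardm : ∀ x : K, x ^ (m * m) = x := by
    intro x
    have := FiniteField.pow_card x
    rwa [← Nat.card_eq_fintype_card, hK, sq] at this
  have hσ : Fact (∀ x, σ (σ x) = x) := ⟨fun x => by rw [hs, hs, ← pow_mul, hcardm]⟩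
  obtain ⟨q, hqs, hqk⟩ := exists_psu_hom (σ := σ) hm hs hK
  have hinj : ∀ x : HG σ, q (emb σ x) = 1 → x = 1 := by
    intro x hx
    apply eq_one_of_mem_center
    rw [← hqk]
    exact hx
  -- an element of norm one with `c ^ 3 ≠ 1`
  obtain ⟨c, hc, hc3⟩ : ∃ c : Kˣ, σ (c : K) * (c : K) = 1 ∧ (c : K) ^ 3 ≠ 1 := by
    obtain ⟨g, hg⟩ := IsCyclic.exists_generator (α := Kˣ)
    have hord : orderOf g = (m - 1) * (m + 1) := by
      rw [orderOf_eq_card_of_forall_mem_zpowers hg, Nat.card_units, hK]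
      obtain ⟨k, rfl⟩ : ∃ k, m = k + 1 := ⟨m - 1, by omega⟩
      rw [Nat.add_sub_cancel]
      have : (k + 1) ^ 2 = k * (k + 1 + 1) + 1 := by ring
      omega
    refine ⟨g ^ (m - 1), ?_, ?_⟩
    · rw [hs, ← pow_succ, ← Units.val_pow_eq_pow_val, ← pow_mul, ← hord, pow_orderOf_eq_one, Units.val_one]
    · intro h
      have h3 : g ^ ((m - 1) * 3) = 1 := by
        apply Units.ext
        rw [pow_mul, Units.val_pow_eq_pow_val, h, Units.val_one]
      have h4 := orderOf_dvd_of_pow_eq_one h3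
      rw [hord] at h4
      have h5 := Nat.le_of_dvd (by norm_num) (Nat.dvd_of_mul_dvd_mul_left (by omega) h4)
      omega
  -- an element not fixed by `σ`
  obtain ⟨δ, hδ⟩ : ∃ δ : K, σ δ ≠ δ := by
    by_contra hcon
    push Not at hcon
    have h3 := card_le_of_pow_eq (F := K) (m := m) hm (fun x => by rw [← hs]; exact hcon x)
    rw [hK] at h3
    have h4 := Nat.le_of_dvd (by omega) h3
    have h5 : m * 2 ≤ m ^ 2 := by rw [sq]; exact Nat.mul_le_mul_left m hm
    omega
  have hc3' : (c : K) ^ 3 - 1 ≠ 0 := sub_ne_zero.2 hc3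
  -- pairs
  have hpair : ∀ a : K, ∃ x t t' : HG σ, x.a = a ∧ x = t' * t⁻¹ ∧
      tor σ c * emb σ t * (tor σ c)⁻¹ = emb σ t' := by
    intro a
    obtain ⟨t, ht⟩ := aHom_surjective (σ := σ) hm hs hK (a / ((c : K) ^ 3 - 1))
    have h1 : t.b + σ t.b = ((c : K) ^ 3 * t.a) * σ ((c : K) ^ 3 * t.a) := by
      have h2 := t.h
      rw [map_mul, map_pow]
      have h3 : (c : K) ^ 3 * σ (c : K) ^ 3 = 1 := by rw [← mul_pow, mul_comm, hc, one_pow]
      linear_combination h2 - t.a * σ t.a * h3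
    refine ⟨⟨_, _, h1⟩ * t⁻¹, t, ⟨_, _, h1⟩, ?_, rfl, tor_emb c hc _ _ rfl rfl⟩
    rw [mul_a, inv_a]
    change (c : K) ^ 3 * t.a + -t.a = a
    rw [ht]
    field_simp
    ring
  obtain ⟨x, t, t', hxa, hx, ht⟩ := hpair 1
  obtain ⟨y, s, s', hya, hy, hs'⟩ := hpair δ
  -- the commutator
  obtain ⟨u, hu⟩ : ∃ u : HG σ, x * y = u * (y * x) := ⟨x * y * (y * x)⁻¹, by group⟩
  have hua : u.a = 0 := by
    have := congrArg HG.a hu
    rw [mul_a, mul_a, mul_a] at this
    linear_combination -this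
  have hub : u.b = σ δ - δ := by
    have := congrArg HG.b hu
    rw [mul_b, mul_b, mul_b, hua, hxa, hya, map_one] at this
    linear_combination -this
  have hub0 : u.b ≠ 0 := by rw [hub]; exact sub_ne_zero.2 hδ
  have hcent : ∀ z : HG σ, u * z = z * u := by
    intro z
    ext
    · rw [mul_a, mul_a, add_comm]
    · rw [mul_b, mul_b, hua, map_zero, zero_mul, mul_zero, add_comm u.b]
  have htu : tor σ c * emb σ u * (tor σ c)⁻¹ = emb σ u :=
    tor_emb c hc u u (by rw [hua, mul_zero]) rfl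
  have hupow : ∀ n : ℕ, (u ^ n).a = 0 ∧ (u ^ n).b = n * u.b := by
    intro n
    induction n with
    | zero => rw [pow_zero]; constructor <;> simp [one_a]
    | succ n ih =>
      rw [pow_succ, mul_a, mul_b, ih.1, ih.2, hua]
      constructor
      · ring
      · rw [map_zero]; push_cast; ring
  have hur : u ^ r = 1 := by
    ext
    · exact (hupow r).1
    · rw [(hupow r).2, CharP.cast_eq_zero, zero_mul]; rfl
  -- the commutator scalars of `u` with `x` and `y`
  have hbr : ∀ z t t' : HG σ, z = t' * t⁻¹ → tor σ c * emb σ t * (tor σ c)⁻¹ = emb σ t' →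
      Br Φ (q (emb σ u)) (q (emb σ z)) 1 := by
    intro z t t' hz ht
    obtain ⟨k, hk⟩ := Br.exists_of_comm (Φ := Φ) (e := q (emb σ u)) (f := q (emb σ t))
      (by rw [← map_mul, ← map_mul, hcent, map_mul, map_mul])
    have h1 := hk.conj (q (tor σ c))
    rw [← map_inv, ← map_mul, ← map_mul, ← map_mul, ← map_mul, htu, ht] at h1
    have h3 := h1.mul_right hk.inv_right
    rw [mul_inv_cancel] at h3
    rw [hz, map_mul, map_mul, map_inv, map_inv]
    exact h3
  have hbx := hbr x t t' hx ht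
  have hby := hbr y s s' hy hs'
  -- lifts
  obtain ⟨A, hA⟩ := pr_surjective Φ (q (emb σ x))
  obtain ⟨B, hB⟩ := pr_surjective Φ (q (emb σ y))
  set V : P := A * B * (B * A)⁻¹ with hV
  have hprV : pr Φ V = q (emb σ u) := by
    rw [hV, map_mul, map_inv, map_mul, map_mul, hA, hB, mul_inv_eq_iff_eq_mul, ← map_mul, ← map_mul, ← map_mul,
      ← map_mul, ← map_mul, ← map_mul, hu]
  have hAB : (A : GL (Fin 3) F) * B = (V : GL (Fin 3) F) * (B * A) := by
    rw [hV]; push_cast; group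
  have hVA := hbx.comm_of_one hprV hA
  have hVB := hby.comm_of_one hprV hB
  obtain ⟨d, hd, hdP⟩ := exists_scalar_exp hdet
  have hVr : (V : GL (Fin 3) F) ^ (r * d) = 1 := by
    rw [pow_mul]
    have h1 : pr Φ (V ^ r) = 1 := by rw [map_pow, hprV, ← map_pow, ← map_pow, hur, map_one, map_one]
    exact hdP _ (P.pow_mem V.2 r) ((pr_eq_one Φ).1 h1)
  have hfin := sq_eq_one_or_scalar' (A := Subgroup.zpowers (V : GL (Fin 3) F)) (x := (A : GL (Fin 3) F))
    (y := (B : GL (Fin 3) F)) (v := (V : GL (Fin 3) F))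
    (by
      rintro _ ⟨i, rfl⟩ _ ⟨j, rfl⟩
      simp only
      rw [← zpow_add, ← zpow_add, add_comm])
    (by
      rintro _ ⟨i, rfl⟩
      refine ⟨r * d, by rw [Nat.cast_mul]; exact mul_ne_zero hrF hd, ?_⟩
      simp only
      rw [← zpow_natCast, ← zpow_mul, mul_comm, zpow_mul, zpow_natCast, hVr, one_zpow])
    (Subgroup.mem_zpowers _) hAB
    (by
      rintro _ ⟨i, rfl⟩
      exact (Commute.zpow_right (show Commute (A : GL (Fin 3) F) (V : GL (Fin 3) F) from hVA.symm) i).eq)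
    (by
      rintro _ ⟨i, rfl⟩
      exact (Commute.zpow_right (show Commute (B : GL (Fin 3) F) (V : GL (Fin 3) F) from hVB.symm) i).eq)
  rcases hfin with h | ⟨k, hk⟩
  · have h1 : pr Φ (V ^ 2) = 1 := by
      have : V ^ 2 = 1 := Subtype.ext h
      rw [this, map_one]
    rw [map_pow, hprV, ← map_pow, ← map_pow] at h1
    have h3 := (hupow 2).2
    rw [hinj _ h1, one_b] at h3
    exact mul_ne_zero h2 hub0 (by exact_mod_cast h3.symm)
  · have hk0 : k ≠ 0 := by
      rintro rfl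
      rw [zero_smul] at hk
      exact (Units.ne_zero (V : GL (Fin 3) F)) hk
    have h1 : pr Φ V = 1 := (pr_eq_one Φ).2 ((mem_scalars_iff _).2 ⟨Units.mk0 k hk0, hk⟩)
    rw [hprV] at h1
    apply hub0
    rw [hinj _ h1, one_b]

end Cfsg.Agent.H906
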