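import Cfsg.Agent.H906.U3Def

/-!
# Forms in dimension three from traces (helper906)
-/

set_option autoImplicit false
set_option linter.unusedSectionVars false

namespace Cfsg.Agent.H906

open Cfsg Cfsg.Geo
open scoped MatrixGroups Matrix

section

variable {F : Type*} [Field F] {P : Subgroup (GL (Fin 3) F)}

/-- A skew-symmetric bilinear form in dimension three with `f(v, v) = 0` is degenerate. -/
lemma not_alternating (f : (Fin 3 → F) → (Fin 3 → F) → F) (hb : IsBilinearForm f)
    (hn : IsNondegenerateForm f) (hskew : ∀ u v, f u v = - f v u) (halt : ∀ v, f v v = 0) : False := by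
  classical
  set e : Fin 3 → (Fin 3 → F) := fun i => Pi.single i 1 with he
  set a := f (e 0) (e 1) with ha
  set b := f (e 0) (e 2) with hb'
  set c := f (e 1) (e 2) with hc
  have hz : ∀ u, f u 0 = 0 := by
    intro u
    have := hb.smul_right 0 u 0
    rwa [zero_smul, zero_mul] at this
  -- the vector `(c, -b, a)` is in the radical
  set v : Fin 3 → F := c • e 0 + (-b) • e 1 + a • e 2 with hv
  have hexp : ∀ x : Fin 3 → F, x = x 0 • e 0 + x 1 • e 1 + x 2 • e 2 := by
    intro x
    funext i
    fin_cases i <;> simp [he]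
  have hrad : ∀ x, f x v = 0 := by
    intro x
    rw [hexp x, hv]
    simp only [hb.add_left, hb.add_right, hb.smul_left, hb.smul_right, halt]
    rw [hskew (e 1) (e 0), hskew (e 2) (e 0), hskew (e 2) (e 1), ← ha, ← hb', ← hc]
    ring
  by_cases hv0 : v = 0
  · have h0 : c = 0 := by have := congrFun hv0 0; simpa [hv, he] using this
    have h1 : b = 0 := by have := congrFun hv0 1; simpa [hv, he] using this
    have h2 : a = 0 := by have := congrFun hv0 2; simpa [hv, he] using this
    obtain ⟨⟨x, hx⟩, -⟩ := hn (e 0) (by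
      intro h
      have := congrFun h 0
      simp [he] at this)
    apply hx
    rw [hexp x]
    simp only [hb.add_left, hb.smul_left, halt]
    rw [hskew (e 1) (e 0), hskew (e 2) (e 0), ← ha, ← hb', h1, h2]
    ring
  · obtain ⟨⟨x, hx⟩, -⟩ := hn v hv0
    exact hx (hrad x)

/-- A real absolutely irreducible group in dimension three (odd characteristic) fixes a non-degenerate
quadratic form. -/
theorem exists_quad_of_trace (h2 : (2 : F) ≠ 0) (hP : ActsAbsolutelyIrreducibly (matrixSet P))
    (htr : ∀ g ∈ P, ((g⁻¹ : GL (Fin 3) F) : Matrix (Fin 3) (Fin 3) F).trace =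
      ((g : Matrix (Fin 3) (Fin 3) F).trace)) :
    ∃ Q : (Fin 3 → F) → F, IsNondegenerateQuadraticForm Q ∧ FixesQuadForm (matrixSet P) Q := by
  obtain ⟨f, hf, hn, hfix, hsym | hskew⟩ := exists_bilinear_of_trace hP htr
  · have hpol : ∀ u v, QuadraticMap.polar (fun v => f v v * 2⁻¹) u v = f u v := by
      intro u v
      simp only [QuadraticMap.polar, hf.add_left, hf.add_right]
      rw [hsym v u]
      field_simp
      ring
    refine ⟨fun v => f v v * 2⁻¹, ⟨?_, ?_, ?_⟩, ?_⟩
    · intro c v
      simp only [hf.smul_left, hf.smul_right]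
      ring
    · have : QuadraticMap.polar (fun v => f v v * 2⁻¹) = f := by
        funext u v; exact hpol u v
      rw [this]; exact hf
    · have : QuadraticMap.polar (fun v => f v v * 2⁻¹) = f := by
        funext u v; exact hpol u v
      rw [this]; exact hn
    · intro s hs v
      simp only
      rw [hfix s hs]
  · exfalso
    apply not_alternating f hf hn hskew
    intro v
    have := hskew v v
    have h3 : (2 : F) * f v v = 0 := by linear_combination this
    exact (mul_eq_zero.1 h3).resolve_left h2

/-- In characteristic two a real absolutely irreducible group does not exist in dimension three. -/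
theorem not_real_of_two [Finite F] (h2 : (2 : F) = 0) (hP : ActsAbsolutelyIrreducibly (matrixSet P))
    (htr : ∀ g ∈ P, ((g⁻¹ : GL (Fin 3) F) : Matrix (Fin 3) (Fin 3) F).trace =
      ((g : Matrix (Fin 3) (Fin 3) F).trace)) : False := by
  classical
  have hneg : ∀ x : F, -x = x := by
    intro x
    have : (2 : F) * x = 0 := by rw [h2, zero_mul]
    linear_combination -this
  have hsym' : ∃ f : (Fin 3 → F) → (Fin 3 → F) → F, IsBilinearForm f ∧ IsNondegenerateForm f ∧
      FixesForm (matrixSet P) f ∧ (∀ u v, f u v = f v u) := by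
    obtain ⟨f, hf, hn, hfix, hsym | hskew⟩ := exists_bilinear_of_trace hP htr
    · exact ⟨f, hf, hn, hfix, hsym⟩
    · exact ⟨f, hf, hn, hfix, fun u v => by rw [hskew, hneg]⟩
  obtain ⟨f, hf, hn, hfix, hsym⟩ := hsym'
  have hadd : ∀ u v, f (u + v) (u + v) = f u u + f v v := by
    intro u v
    simp only [hf.add_left, hf.add_right]
    rw [hsym v u]
    have : (2 : F) * f u v = 0 := by rw [h2, zero_mul]
    linear_combination this
  let W : Submodule F (Fin 3 → F) :=
    { carrier := {v | f v v = 0}
      add_mem' := by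
        intro a b ha hb
        have ha' : f a a = 0 := ha
        have hb' : f b b = 0 := hb
        change f (a + b) (a + b) = 0
        rw [hadd, ha', hb', add_zero]
      zero_mem' := by
        change f 0 0 = 0
        have := hf.smul_left 0 0 0
        rwa [zero_smul, zero_mul] at this
      smul_mem' := by
        intro c a ha
        have ha' : f a a = 0 := ha
        change f (c • a) (c • a) = 0
        rw [hf.smul_left, hf.smul_right, ha', mul_zero, mul_zero] }
  rcases hP.1 W (by
    rintro s hs _ ⟨v, hv, rfl⟩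
    have hv' : f v v = 0 := hv
    change f (Matrix.toLin' s v) (Matrix.toLin' s v) = 0
    rw [Matrix.toLin'_apply, hfix s hs, hv']) with h0 | h0
  · -- `W` meets every plane: a semilinear functional has a kernel of codimension at most one
    -- find a non-zero isotropic vector
    have hne : ∀ v : Fin 3 → F, f v v = 0 → v = 0 := by
      intro v hv
      have : v ∈ W := hv
      rwa [h0, Submodule.mem_bot] at this
    set e : Fin 3 → (Fin 3 → F) := fun i => Pi.single i 1 with he
    have hα : f (e 0) (e 0) ≠ 0 := by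
      intro h
      have h1 := hne _ h
      have := congrFun h1 0
      simp [he] at this
    have hchar : ringChar F = 2 := by
      have : CharP F 2 := CharTwo.of_one_ne_zero_of_two_eq_zero one_ne_zero h2
      exact ringChar.eq F 2 |>.symm ▸ rfl
    obtain ⟨c, hc⟩ := FiniteField.isSquare_of_char_two hchar (f (e 1) (e 1) * (f (e 0) (e 0))⁻¹)
    have h3 := hne (c • e 0 + e 1) (by
      rw [hadd, hf.smul_left, hf.smul_right, ← mul_assoc, ← hc, mul_assoc, inv_mul_cancel₀ hα, mul_one]
      have : (2 : F) * f (e 1) (e 1) = 0 := by rw [h2, zero_mul]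
      linear_combination this)
    have := congrFun h3 1
    simp [he] at this
  · apply not_alternating f hf hn (fun u v => by rw [hsym u v, hneg])
    intro v
    have : v ∈ W := by rw [h0]; trivial
    exact this

/-- Real absolutely irreducible groups in dimension three are orthogonal. -/
theorem quad_of_real [Finite F] (hP : ActsAbsolutelyIrreducibly (matrixSet P))
    (htr : ∀ g ∈ P, ((g⁻¹ : GL (Fin 3) F) : Matrix (Fin 3) (Fin 3) F).trace =
      ((g : Matrix (Fin 3) (Fin 3) F).trace)) :
    (2 : F) ≠ 0 ∧
    ∃ Q : (Fin 3 → F) → F, IsNondegenerateQuadraticForm Q ∧ FixesQuadForm (matrixSet P) Q := by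
  by_cases h2 : (2 : F) = 0
  · exact (not_real_of_two h2 hP htr).elim
  · exact ⟨h2, exists_quad_of_trace h2 hP htr⟩

/-- If `x ^ (m * m) = x` for all `x` and `m` is a power of the characteristic, then from
`tr(g) ^ m = tr(g⁻¹)` we get a quadratic or a unitary form. -/
theorem form_of_trace [Finite F] (hP : ActsAbsolutelyIrreducibly (matrixSet P))
    (p : ℕ) [hp : Fact p.Prime] [CharP F p] (b : ℕ)
    (hns : ∀ F₀ : Subfield F, F₀ ≠ ⊤ → ¬ RealisableOver F₀ (matrixSet P))
    (htr : ∀ g ∈ P, (g : Matrix (Fin 3) (Fin 3) F).trace ^ p ^ b =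
      ((g⁻¹ : GL (Fin 3) F) : Matrix (Fin 3) (Fin 3) F).trace) :
    (∀ x : F, x ^ (p ^ b * p ^ b) = x) ∧
    (((2 : F) ≠ 0 ∧ (∀ x : F, x ^ p ^ b = x) ∧ ∃ Q : (Fin 3 → F) → F, IsNondegenerateQuadraticForm Q ∧
        FixesQuadForm (matrixSet P) Q) ∨
      ((∃ x : F, x ^ p ^ b ≠ x) ∧ ∃ (σ : F ≃+* F) (f : (Fin 3 → F) → (Fin 3 → F) → F),
        (∀ x, σ x = x ^ p ^ b) ∧ IsUnitaryForm σ f ∧ FixesForm (matrixSet P) f)) := by
  have hexp : ExpChar F p := ExpChar.prime hp.out
  have : PerfectRing F p := PerfectRing.ofFiniteOfIsReduced p F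
  have h1 : ∀ x : F, x ^ (p ^ b * p ^ b) = x := by
    rw [← pow_add]
    apply pow_eq_of_no_subfield hP hns
    intro g hg
    rw [pow_add, pow_mul, htr g hg, htr g⁻¹ (P.inv_mem hg), inv_inv]
  refine ⟨h1, ?_⟩
  by_cases hall : ∀ x : F, x ^ p ^ b = x
  · left
    obtain ⟨h2, hQ⟩ := quad_of_real hP (fun g hg => by rw [← htr g hg, hall])
    exact ⟨h2, hall, hQ⟩
  · right
    push Not at hall
    refine ⟨hall, iterateFrobeniusEquiv F p b, ?_⟩
    have hσ : ∀ x, iterateFrobeniusEquiv F p b x = x ^ p ^ b := fun x => iterateFrobeniusEquiv_def _ _ _ _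
    obtain ⟨f, hf, hfix⟩ := exists_unitary_of_trace hP (iterateFrobeniusEquiv F p b) (by
      intro h
      obtain ⟨x, hx⟩ := hall
      apply hx
      rw [← hσ, h]; rfl) (by
      intro a
      rw [hσ, hσ, ← pow_mul, h1]) (by
      intro g hg
      rw [hσ, htr g hg])
    exact ⟨f, hσ, hf, hfix⟩

end

end Cfsg.Agent.H906
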