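import Cfsg.Agent.H906.Forms3
import Cfsg.Agent.H906.ZCases
import Cfsg.Agent.H906.SL2Real

/-!
# Traces and `p`-regular elements; `PSL₂` in defining characteristic (helper906)
-/

set_option autoImplicit false
set_option linter.unusedSectionVars false

namespace Cfsg.Agent.H906

open Cfsg Cfsg.Geo
open scoped MatrixGroups Matrix commutatorElement

section

variable {F : Type*} [Field F] {P : Subgroup (GL (Fin 3) F)}

lemma trace_pow_card_pow [Finite F] (M : Matrix (Fin 3) (Fin 3) F) (j : ℕ) :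
    (M ^ (Nat.card F) ^ j).trace = M.trace := by
  classical
  have := Fintype.ofFinite F
  induction j with
  | zero => simp
  | succ j ih =>
    rw [pow_succ, pow_mul]
    have h1 := FiniteField.trace_pow_card (M ^ (Nat.card F) ^ j)
    rw [← Nat.card_eq_fintype_card] at h1
    rw [h1, ih]
    have := FiniteField.pow_card (M.trace)
    rwa [← Nat.card_eq_fintype_card] at this

/-- There is an exponent `N` such that `g ↦ g ^ N` preserves traces and has `p`-regular values. -/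
lemma exists_reg_pow [Finite F] (p : ℕ) [hp : Fact p.Prime] [CharP F p] :
    ∃ N : ℕ, ∀ g : GL (Fin 3) F, ((g ^ N : GL (Fin 3) F) : Matrix (Fin 3) (Fin 3) F).trace =
      (g : Matrix (Fin 3) (Fin 3) F).trace ∧ (orderOf (g ^ N)).Coprime p := by
  classical
  have := Fintype.ofFinite F
  have hfinG : Finite (GL (Fin 3) F) := inferInstance
  obtain ⟨b, hb0, hb⟩ := FiniteField.card F p
  set c := Nat.card (GL (Fin 3) F) with hc
  refine ⟨(Nat.card F) ^ c, fun g => ⟨?_, ?_⟩⟩
  · rw [Units.val_pow_eq_pow_val]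
    exact trace_pow_card_pow _ _
  · have ho : 0 < orderOf g := orderOf_pos g
    obtain ⟨a, o', hnd, ho'⟩ := Nat.exists_eq_pow_mul_and_not_dvd ho.ne' p hp.out.ne_one
    have hac : a ≤ c := by
      have h1 : a < p ^ a := Nat.lt_pow_self hp.out.one_lt
      have h2 : p ^ a ≤ orderOf g := by
        rw [ho']
        exact Nat.le_mul_of_pos_right _ (Nat.pos_of_ne_zero (by rintro rfl; exact hnd (dvd_zero _)))
      have h3 : orderOf g ≤ c := Nat.le_of_dvd Nat.card_pos (orderOf_dvd_natCard g)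
      omega
    have hdvd : p ^ a ∣ (Nat.card F) ^ c := by
      rw [Nat.card_eq_fintype_card, hb]
      exact (pow_dvd_pow p hac).trans (pow_dvd_pow_of_dvd (dvd_pow_self p b.2.ne') c)
    obtain ⟨e, he⟩ := hdvd
    have h1 : (g ^ (Nat.card F) ^ c) ^ o' = 1 := by
      rw [he, ← pow_mul]
      have : p ^ a * e * o' = orderOf g * e := by rw [ho']; ring
      rw [this, pow_mul, pow_orderOf_eq_one, one_pow]
    have h2 := orderOf_dvd_of_pow_eq_one h1
    rw [Nat.coprime_comm]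
    refine (Nat.Prime.coprime_iff_not_dvd hp.out).2 (fun h => hnd (h.trans h2))

/-- Relations between traces only need to be checked on `p`-regular elements. -/
theorem trace_of_reg [Finite F] (p : ℕ) [hp : Fact p.Prime] [CharP F p] (m : ℕ)
    (h : ∀ s ∈ P, (orderOf s).Coprime p → (s : Matrix (Fin 3) (Fin 3) F).trace ^ m =
      ((s⁻¹ : GL (Fin 3) F) : Matrix (Fin 3) (Fin 3) F).trace) (g : GL (Fin 3) F) (hg : g ∈ P) :
    (g : Matrix (Fin 3) (Fin 3) F).trace ^ m =
      ((g⁻¹ : GL (Fin 3) F) : Matrix (Fin 3) (Fin 3) F).trace := by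
  obtain ⟨N, hN⟩ := exists_reg_pow (F := F) p
  have h1 := h (g ^ N) (P.pow_mem hg N) (hN g).2
  rw [(hN g).1, ← inv_pow, (hN g⁻¹).1] at h1
  exact h1

theorem trace_of_reg' [Finite F] (p : ℕ) [hp : Fact p.Prime] [CharP F p] (m : ℕ)
    (h : ∀ s ∈ P, (orderOf s).Coprime p → (s : Matrix (Fin 3) (Fin 3) F).trace ^ m =
      (s : Matrix (Fin 3) (Fin 3) F).trace) (g : GL (Fin 3) F) (hg : g ∈ P) :
    (g : Matrix (Fin 3) (Fin 3) F).trace ^ m = (g : Matrix (Fin 3) (Fin 3) F).trace := by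
  obtain ⟨N, hN⟩ := exists_reg_pow (F := F) p
  have h1 := h (g ^ N) (P.pow_mem hg N) (hN g).2
  rw [(hN g).1] at h1
  exact h1

lemma trace_conj (h g : GL (Fin 3) F) :
    ((h * g * h⁻¹ : GL (Fin 3) F) : Matrix (Fin 3) (Fin 3) F).trace =
      (g : Matrix (Fin 3) (Fin 3) F).trace := by
  rw [Units.val_mul, Units.val_mul, Matrix.trace_mul_comm, ← Matrix.mul_assoc, ← Units.val_mul,
    inv_mul_cancel, Units.val_one, Matrix.one_mul]

/-- Lifting conjugacy from `P / scalars` when there are no scalars. -/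
lemma conj_of_quot (hZ : ∀ g ∈ P, g ∈ scalars (Fin 3) F → g = 1) {Γ : Type*} [Group Γ]
    (Φ : (P ⧸ (scalars (Fin 3) F).subgroupOf P) ≃* Γ) {a b : P} {y : Γ}
    (h : y * Φ (QuotientGroup.mk a) * y⁻¹ = Φ (QuotientGroup.mk b)) :
    ∃ c ∈ P, c * (a : GL (Fin 3) F) * c⁻¹ = b := by
  obtain ⟨c, hc⟩ := QuotientGroup.mk_surjective (Φ.symm y)
  have hy : y = Φ (QuotientGroup.mk c) := by rw [hc, MulEquiv.apply_symm_apply]
  rw [hy, ← map_inv, ← map_mul, ← map_mul, ← QuotientGroup.mk_inv, ← QuotientGroup.mk_mul,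
    ← QuotientGroup.mk_mul] at h
  have h1 := Φ.injective h
  rw [QuotientGroup.eq, Subgroup.mem_subgroupOf] at h1
  have h2 := hZ _ (((c * a * c⁻¹)⁻¹ * b : P)).2 h1
  refine ⟨c, c.2, ?_⟩
  have h3 : (((c * a * c⁻¹)⁻¹ * b : P) : GL (Fin 3) F) = (c * a * (c : GL (Fin 3) F)⁻¹)⁻¹ * b := rfl
  rw [h3] at h2
  exact inv_mul_eq_one.1 h2

lemma eq_one_of_quot (hZ : ∀ g ∈ P, g ∈ scalars (Fin 3) F → g = 1) {Γ : Type*} [Group Γ]
    (Φ : (P ⧸ (scalars (Fin 3) F).subgroupOf P) ≃* Γ) {a : P}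
    (h : Φ (QuotientGroup.mk a) = 1) : (a : GL (Fin 3) F) = 1 := by
  rw [MulEquiv.map_eq_one_iff, QuotientGroup.eq_one_iff, Subgroup.mem_subgroupOf] at h
  exact hZ _ a.2 h

/-- The image of an element has order dividing the order of the element. -/
lemma orderOf_quot_dvd {Γ : Type*} [Group Γ]
    (Φ : (P ⧸ (scalars (Fin 3) F).subgroupOf P) ≃* Γ) (a : P) :
    orderOf (Φ (QuotientGroup.mk a)) ∣ orderOf (a : GL (Fin 3) F) := by
  apply orderOf_dvd_of_pow_eq_one
  rw [← map_pow, ← QuotientGroup.mk_pow]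
  have : a ^ orderOf (a : GL (Fin 3) F) = 1 := Subtype.ext (pow_orderOf_eq_one _)
  rw [this, QuotientGroup.mk_one, map_one]

/-- No scalars when `P / scalars ≅ PSL₂(K)` with `3 ≠ 0` in `K`, or in characteristic three. -/
lemma L2_no_scalars [Finite F] (hperf : ⁅P, P⁆ = P) {K : Type*} [Field K] [Finite K]
    (Φ : (P ⧸ (scalars (Fin 3) F).subgroupOf P) ≃* Matrix.ProjectiveSpecialLinearGroup (Fin 2) K)
    (h : (3 : F) = 0 ∨ (3 : K) ≠ 0) : ∀ g ∈ P, g ∈ scalars (Fin 3) F → g = 1 := by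
  intro g hg hs
  rcases h with h | h
  · have : CharP F 3 := by
      obtain ⟨q, hq⟩ := CharP.exists F
      have hqp : q.Prime := CharP.char_is_prime F q
      have h4 : q ∣ 3 := by
        rw [← CharP.cast_eq_zero_iff F q 3]
        exact_mod_cast h
      have h5 : q = 3 := (Nat.prime_dvd_prime_iff_eq hqp Nat.prime_three).1 h4
      rwa [h5] at hq
    exact scalar_eq_one_of_char_three (le_specialLinear hperf) hg hs
  · obtain ⟨C, hC, hidx⟩ := L2_cyclic h
    exact scalar_eq_one_of_cyclic hperf Φ C hC hidx hg hs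

/-- **`PSL₂(K)` in defining characteristic is real.** -/
theorem L2_real [Finite F] (hperf : ⁅P, P⁆ = P)
    {K : Type*} [Field K] [Finite K] (p : ℕ) [hp : Fact p.Prime] [CharP F p] [CharP K p]
    (Φ : (P ⧸ (scalars (Fin 3) F).subgroupOf P) ≃* Matrix.ProjectiveSpecialLinearGroup (Fin 2) K)
    (g : GL (Fin 3) F) (hg : g ∈ P) :
    ((g⁻¹ : GL (Fin 3) F) : Matrix (Fin 3) (Fin 3) F).trace =
      (g : Matrix (Fin 3) (Fin 3) F).trace := by
  have hZ : ∀ g ∈ P, g ∈ scalars (Fin 3) F → g = 1 := by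
    apply L2_no_scalars hperf Φ
    by_cases h3 : p = 3
    · left
      subst h3
      have := CharP.cast_eq_zero F 3
      exact_mod_cast this
    · right
      intro h
      apply h3
      have h4 : p ∣ 3 := by
        rw [← CharP.cast_eq_zero_iff K p 3]
        exact_mod_cast h
      exact (Nat.prime_dvd_prime_iff_eq hp.out Nat.prime_three).1 h4
  have key := trace_of_reg (P := P) p 1 (by
    intro s hs hcop
    rw [pow_one]
    rcases PSL2_real_or_unip p (Φ (QuotientGroup.mk ⟨s, hs⟩)) with ⟨y, hy⟩ | h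
    · rw [← map_inv, ← QuotientGroup.mk_inv] at hy
      obtain ⟨c, -, hc⟩ := conj_of_quot hZ Φ hy
      have h1 : c * s * c⁻¹ = s⁻¹ := hc
      rw [← h1, trace_conj]
    · have h1 := orderOf_dvd_of_pow_eq_one h
      have h2 := orderOf_quot_dvd Φ ⟨s, hs⟩
      have h3 : orderOf (Φ (QuotientGroup.mk ⟨s, hs⟩)) ∣ 1 := by
        rw [← Nat.Coprime.gcd_eq_one hcop]
        exact Nat.dvd_gcd h2 h1
      have h4 : Φ (QuotientGroup.mk ⟨s, hs⟩) = 1 := orderOf_eq_one_iff.1 (Nat.dvd_one.1 h3)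
      have h5 : s = 1 := eq_one_of_quot hZ Φ h4
      rw [h5, inv_one]) g hg
  rw [pow_one] at key
  exact key.symm

end

end Cfsg.Agent.H906
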