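import Cfsg.Agent.H906.U3Card
import Cfsg.Agent.H906.U3Def
import Cfsg.Agent.H906.Forms3
import Cfsg.Agent.H906.ZCases
import Cfsg.Agent.H906.Reg

/-!
# Defining characteristic: conclusions (helper906)
-/

set_option autoImplicit false
set_option linter.unusedSectionVars false

namespace Cfsg.Agent.H906

open Cfsg Cfsg.Geo
open scoped MatrixGroups Matrix

variable {F : Type*} [Field F] {P : Subgroup (GL (Fin 3) F)}

lemma charP_three_ne {K : Type*} [Field K] (p : ℕ) [hp : Fact p.Prime] [CharP K p] (h : p ≠ 3) : (3 : K) ≠ 0 := by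
  intro h3
  have h4 : ((3 : ℕ) : K) = 0 := by exact_mod_cast h3
  have h5 := (CharP.cast_eq_zero_iff K p 3).1 h4
  exact h ((Nat.prime_dvd_prime_iff_eq hp.out Nat.prime_three).1 h5)

/-- **`L₂` in defining characteristic.** -/
theorem L2_def [Finite F] (hP : ActsAbsolutelyIrreducibly (matrixSet P)) (hperf : ⁅P, P⁆ = P)
    {K : Type*} [Field K] [Finite K] (p : ℕ) [hp : Fact p.Prime] [CharP F p] [CharP K p]
    (Φ : (P ⧸ (scalars (Fin 3) F).subgroupOf P) ≃* Matrix.ProjectiveSpecialLinearGroup (Fin 2) K) :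
    (2 : F) ≠ 0 ∧
    ∃ Q : (Fin 3 → F) → F, IsNondegenerateQuadraticForm Q ∧ FixesQuadForm (matrixSet P) Q :=
  quad_of_real hP fun g hg => L2_real hperf p Φ g hg

/-- **`L₃` in defining characteristic.** -/
theorem L3_def [Finite F] (hP : ActsAbsolutelyIrreducibly (matrixSet P)) (hperf : ⁅P, P⁆ = P)
    (hns : ∀ F₀ : Subfield F, F₀ ≠ ⊤ → ¬ RealisableOver F₀ (matrixSet P))
    {K : Type*} [Field K] [Finite K] (p : ℕ) [hp : Fact p.Prime] [CharP F p] [CharP K p]
    (Φ : (P ⧸ (scalars (Fin 3) F).subgroupOf P) ≃* Matrix.ProjectiveSpecialLinearGroup (Fin 3) K) :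
    P = specialLinear (Fin 3) F := by
  have hdet := le_specialLinear hperf
  refine L3_eq_specialLinear hP hdet hperf hns p Φ fun g hg => ?_
  by_cases hp3 : p = 3
  · subst hp3
    refine L3_trace hP 3 Φ (d := 1) (Or.inl rfl) (fun g hg hs => ?_) (Nat.coprime_one_right 3)
      (one_dvd _) g hg
    rw [pow_one]
    exact scalar_eq_one_of_char_three hdet hg hs
  · have h3 : (3 : K) ≠ 0 := charP_three_ne p hp3
    by_cases h31 : 3 ∣ Nat.card K - 1
    · exact L3_trace hP p Φ (d := 3) (Or.inr rfl) (fun g hg hs => scalar_pow_three hdet hg hs)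
        ((Nat.coprime_primes hp.out Nat.prime_three).2 hp3) h31 g hg
    · obtain ⟨C, hC, hidx⟩ := L3_cyclic h3 h31
      refine L3_trace hP p Φ (d := 1) (Or.inl rfl) (fun g hg hs => ?_) (Nat.coprime_one_right p)
        (one_dvd _) g hg
      rw [pow_one]
      exact scalar_eq_one_of_cyclic hperf Φ C hC hidx hg hs

/-- **`U₃` in defining characteristic.** -/
theorem U3_def [Finite F] (hP : ActsAbsolutelyIrreducibly (matrixSet P)) (hperf : ⁅P, P⁆ = P)
    (hsimp : IsSimpleGroup (P ⧸ (scalars (Fin 3) F).subgroupOf P))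
    (hns : ∀ F₀ : Subfield F, F₀ ≠ ⊤ → ¬ RealisableOver F₀ (matrixSet P))
    {K : Type*} [Field K] [Finite K] (p : ℕ) [hp : Fact p.Prime] [CharP F p] [CharP K p] {m : ℕ}
    (hK : Nat.card K = m ^ 2)
    (Φ : (P ⧸ (scalars (Fin 3) F).subgroupOf P) ≃* Cfsg.PSU 3 K m) :
    ((2 : F) ≠ 0 ∧
      ∃ Q : (Fin 3 → F) → F, IsNondegenerateQuadraticForm Q ∧ FixesQuadForm (matrixSet P) Q) ∨
    (Nat.card F = m ^ 2 ∧ ∃ (σ : F ≃+* F) (f : (Fin 3 → F) → (Fin 3 → F) → F),
        (∀ x, σ x = x ^ m) ∧ IsUnitaryForm σ f ∧ FixesForm (matrixSet P) f) := by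
  classical
  have := Fintype.ofFinite K
  have := Fintype.ofFinite F
  have hdet := le_specialLinear hperf
  obtain ⟨a, ha0, ha⟩ := FiniteField.card K p
  have hcardK : Nat.card K = p ^ (a : ℕ) := by rw [Nat.card_eq_fintype_card, ha]
  obtain ⟨b, hb⟩ : ∃ b, m = p ^ b := by
    have h1 : m ∣ p ^ (a : ℕ) := by rw [← hcardK, hK, sq]; exact Dvd.intro _ rfl
    obtain ⟨b, -, hb⟩ := (Nat.dvd_prime_pow hp.out).1 h1
    exact ⟨b, hb⟩
  have hm : 1 < m := by
    rcases Nat.lt_or_ge 1 m with h | h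
    · exact h
    · exfalso
      have h1 : 1 < Nat.card K := Finite.one_lt_card
      rw [hK] at h1
      have : m ^ 2 ≤ 1 ^ 2 := Nat.pow_le_pow_left h 2
      omega
  have hb0 : b ≠ 0 := by
    rintro rfl
    rw [pow_zero] at hb
    omega
  -- traces
  have htr : ∀ g ∈ P, (g : Matrix (Fin 3) (Fin 3) F).trace ^ m =
      ((g⁻¹ : GL (Fin 3) F) : Matrix (Fin 3) (Fin 3) F).trace := by
    intro g hg
    by_cases hp3 : p = 3
    · subst hp3
      refine U3_trace hP hperf hsimp 3 hK Φ (d := 1) (Or.inl rfl) (fun g hg hs => ?_)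
        (Nat.coprime_one_right 3) g hg
      rw [pow_one]
      exact scalar_eq_one_of_char_three hdet hg hs
    · by_cases h31 : 3 ∣ m + 1
      · exact U3_trace hP hperf hsimp p hK Φ (d := 3) (Or.inr ⟨rfl, h31⟩)
          (fun g hg hs => scalar_pow_three hdet hg hs)
          ((Nat.coprime_primes hp.out Nat.prime_three).2 hp3) g hg
      · have h3 : ¬ 3 ∣ m := by
          rw [hb]
          intro h
          exact hp3 ((Nat.prime_dvd_prime_iff_eq Nat.prime_three hp.out).1
            (Nat.prime_three.dvd_of_dvd_pow h)).symm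
        obtain ⟨C, hC, hidx⟩ := U3_cyclic hK h3 h31
        refine U3_trace hP hperf hsimp p hK Φ (d := 1) (Or.inl rfl) (fun g hg hs => ?_)
          (Nat.coprime_one_right p) g hg
        rw [pow_one]
        exact scalar_eq_one_of_cyclic hperf Φ C hC hidx hg hs
  rw [hb] at htr
  obtain ⟨hmm, h | ⟨hne, σ, f, hσ, hf, hfix⟩⟩ := form_of_trace hP p b hns htr
  · exact Or.inl ⟨h.1, h.2.2⟩
  · right
    rw [← hb] at hσ hmm hne
    refine ⟨?_, σ, f, hσ, hf, hfix⟩
    -- cardinalities
    obtain ⟨e, he0, he⟩ := FiniteField.card F p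
    have hcardF : Nat.card F = p ^ (e : ℕ) := by rw [Nat.card_eq_fintype_card, he]
    have hp1 : 1 < p := hp.out.one_lt
    have hdvd : Nat.card F - 1 ∣ m * m - 1 := card_le_of_pow_eq (by nlinarith) hmm
    have hle : Nat.card F ≤ m ^ 2 := by
      have h1 : 1 < Nat.card F := Finite.one_lt_card
      have h2 : 0 < m * m - 1 := by
        have : 1 < m * m := by nlinarith
        omega
      have := Nat.le_of_dvd h2 hdvd
      rw [sq]
      omega
    -- `m ≤ card F`
    have hge : m ≤ Nat.card F := by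
      have hexpK : ExpChar K p := ExpChar.prime hp.out
      set τ : K →+* K := iterateFrobenius K p b with hτdef
      have hs : ∀ x, τ x = x ^ m := fun x => by rw [hτdef, iterateFrobenius_def, hb]
      have hcardm : ∀ x : K, x ^ (m * m) = x := by
        intro x
        have := FiniteField.pow_card x
        rwa [← Nat.card_eq_fintype_card, hK, sq] at this
      have hτ : Fact (∀ x, τ (τ x) = x) := ⟨fun x => by rw [hs, hs, ← pow_mul, hcardm]⟩
      obtain ⟨q, hqs, hqk⟩ := exists_psu_hom (σ := τ) hm hs hK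
      have hfinG : Finite (GL (Fin 3) F) := inferInstance
      have hinj : Function.Injective (q.comp (Cfsg.Agent.UThreeGen.MatGroup.emb τ)) := by
        rw [injective_iff_map_eq_one]
        intro x hx
        apply Cfsg.Agent.UThreeGen.MatGroup.eq_one_of_mem_center
        rw [← hqk]
        exact hx
      have hU : m ^ 3 ∣ Nat.card (GL (Fin 3) F) := by
        have h1 := Subgroup.card_dvd_of_injective _ hinj
        rw [← Nat.card_congr Φ.toEquiv, card_HG hm hs hK] at h1
        exact h1.trans ((Subgroup.card_quotient_dvd_card _).trans (Subgroup.card_subgroup_dvd_card P))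
      rw [hb, hcardF]
      rw [hb, Matrix.card_GL_field, ← Nat.card_eq_fintype_card, hcardF, Fin.prod_univ_three] at hU
      set Q := p ^ (e : ℕ) with hQ
      have hQ1 : 1 < Q := Nat.one_lt_pow e.2.ne' hp1
      have e1 : Q ^ 3 - Q ^ ((0 : Fin 3) : ℕ) = Q ^ 3 - 1 := by simp
      have e2 : Q ^ 3 - Q ^ ((1 : Fin 3) : ℕ) = Q * (Q ^ 2 - 1) := by
        simp only [Fin.val_one, pow_one, Nat.mul_sub, mul_one]
        ring_nf
      have e3 : Q ^ 3 - Q ^ ((2 : Fin 3) : ℕ) = Q ^ 2 * (Q - 1) := by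
        simp only [Fin.val_two, Nat.mul_sub, mul_one]
        ring_nf
      rw [e1, e2, e3] at hU
      have hcop : ∀ n, 0 < n → (p ^ (b * 3)).Coprime (Q ^ n - 1) := by
        intro n hn
        apply Nat.Coprime.pow_left
        rw [Nat.Prime.coprime_iff_not_dvd hp.out]
        intro hdvd
        have h1 : p ∣ Q ^ n := dvd_pow (dvd_pow_self p e.2.ne') hn.ne'
        have h2 : Q ^ n = Q ^ n - 1 + 1 := (Nat.sub_add_cancel (Nat.one_le_pow _ _ (by omega))).symm
        rw [h2] at h1
        have h3 := (Nat.dvd_add_right hdvd).1 h1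
        exact hp1.ne' (Nat.dvd_one.1 h3)
      have h1 : p ^ (b * 3) ∣ Q ^ 3 := by
        have h2 : (p ^ b) ^ 3 = p ^ (b * 3) := (pow_mul _ _ _).symm
        rw [h2] at hU
        have h3 : (Q ^ 3 - 1) * (Q * (Q ^ 2 - 1)) * (Q ^ 2 * (Q - 1)) =
            (Q ^ 3 - 1) * ((Q ^ 2 - 1) * ((Q ^ 1 - 1) * Q ^ 3)) := by
          rw [pow_one]; ring
        rw [h3] at hU
        exact (hcop 1 one_pos).dvd_of_dvd_mul_left ((hcop 2 two_pos).dvd_of_dvd_mul_left
          ((hcop 3 three_pos).dvd_of_dvd_mul_left hU))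
      rw [hQ, ← pow_mul] at h1
      have h4 := (Nat.pow_dvd_pow_iff_le_right hp1).1 h1
      apply Nat.pow_le_pow_right hp.out.pos
      omega
    -- `card F ≠ m`, so by divisibility `card F = m ^ 2`
    rw [hcardF] at hdvd hle hge ⊢
    rw [hb, ← pow_add] at hdvd
    rw [hb, ← pow_mul] at hle ⊢
    rw [hb] at hge
    have heb : b ≤ (e : ℕ) := (Nat.pow_le_pow_iff_right hp1).1 hge
    have he2 : (e : ℕ) ≤ b * 2 := (Nat.pow_le_pow_iff_right hp1).1 hle
    have hdv : (e : ℕ) ∣ b + b := by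
      have h5 := Nat.gcd_eq_left hdvd
      rw [Nat.pow_sub_one_gcd_pow_sub_one] at h5
      have h6 : 1 ≤ p ^ (e : ℕ) := Nat.one_le_pow _ _ (by omega)
      have h7 : 1 ≤ p ^ (Nat.gcd (e : ℕ) (b + b)) := Nat.one_le_pow _ _ (by omega)
      have h8 : p ^ (Nat.gcd (e : ℕ) (b + b)) = p ^ (e : ℕ) := by omega
      have h9 := Nat.pow_right_injective (Nat.succ_le_of_lt hp1) h8
      exact Nat.gcd_eq_left_iff_dvd.1 h9
    obtain ⟨k, hk⟩ := hdv
    rcases Nat.lt_or_ge k 2 with hk2 | hk2
    · interval_cases k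
      · omega
      · congr 1; omega
    · -- then `e = b`
      exfalso
      have he3 : (e : ℕ) = b := by nlinarith
      obtain ⟨x, hx⟩ := hne
      apply hx
      have h5 := FiniteField.pow_card x
      rw [← Nat.card_eq_fintype_card, hcardF, he3, ← hb] at h5
      exact h5

end Cfsg.Agent.H906
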