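import Cfsg.Agent.H906.TrA6c
import Cfsg.Agent.H906.CrossL3
import Cfsg.Agent.H906.CrossU3
import Cfsg.Agent.H906.DefFin
import Cfsg.Agent.S0254
import Cfsg.Agent.S0255

/-!
# The residual core in dimension three (helper906)

`Concl P p` is the list; `concl_odd` and `concl_even` derive it from the socle lists.
-/

set_option autoImplicit false
set_option linter.unusedSectionVars false

namespace Cfsg.Agent.H906

open Cfsg Cfsg.Geo
open scoped MatrixGroups Matrix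

variable {F : Type*} [Field F]

/-- `P` fixes a unitary form for the automorphism `x ↦ x ^ m`. -/
def FixesUnitary (P : Subgroup (GL (Fin 3) F)) (m : ℕ) : Prop :=
  ∃ (σ : F ≃+* F) (f : (Fin 3 → F) → (Fin 3 → F) → F),
    (∀ x, σ x = x ^ m) ∧ IsUnitaryForm σ f ∧ FixesForm (matrixSet P) f

/-- The possibilities for a residual core in dimension three. -/
def Concl (P : Subgroup (GL (Fin 3) F)) (p : ℕ) : Prop :=
  P = specialLinear (Fin 3) F ∨
  (∃ Q : (Fin 3 → F) → F, IsNondegenerateQuadraticForm Q ∧ FixesQuadForm (matrixSet P) Q) ∨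
  (∃ (K : Type) (_ : Field K) (_ : Fintype K) (m : ℕ), Fintype.card K = m ^ 2 ∧ CharP K p ∧ Nat.card F = m ^ 2 ∧
    FixesUnitary P m ∧ Nonempty ((P ⧸ (scalars (Fin 3) F).subgroupOf P) ≃* Cfsg.PSU 3 K m)) ∨
  (p ≠ 2 ∧ p ≠ 7 ∧
    Nonempty ((P ⧸ (scalars (Fin 3) F).subgroupOf P) ≃* Matrix.ProjectiveSpecialLinearGroup (Fin 3) (ZMod 2)) ∧
    ((Nat.card F = p ∧ (p % 7 = 1 ∨ p % 7 = 2 ∨ p % 7 = 4)) ∨
      (Nat.card F = p ^ 2 ∧ (p % 7 = 3 ∨ p % 7 = 5 ∨ p % 7 = 6) ∧ FixesUnitary P p))) ∨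
  (p ≠ 3 ∧ Nonempty ((P ⧸ (scalars (Fin 3) F).subgroupOf P) ≃* alternatingGroup (Fin 6)) ∧
    ((Nat.card F = p ∧ (p % 15 = 1 ∨ p % 15 = 4)) ∨
      (Nat.card F = p ^ 2 ∧ (p % 15 = 11 ∨ p % 15 = 14 ∨ p = 5) ∧ FixesUnitary P p) ∨
      (Nat.card F = p ^ 2 ∧ (p % 5 = 2 ∨ p % 5 = 3) ∧
        ¬ ∃ (σ : F ≃+* F) (f : (Fin 3 → F) → (Fin 3 → F) → F), IsUnitaryForm σ f ∧ FixesForm (matrixSet P) f))) ∨
  (p = 5 ∧ Nat.card F = p ^ 2 ∧ FixesUnitary P p ∧
    Nonempty ((P ⧸ (scalars (Fin 3) F).subgroupOf P) ≃* alternatingGroup (Fin 7)))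

variable {P : Subgroup (GL (Fin 3) F)}

lemma odd_card_two_ne {K : Type*} [Field K] [Fintype K] (h : Odd (Fintype.card K)) : (2 : K) ≠ 0 := by
  intro h2
  obtain ⟨p, hp⟩ := CharP.exists K
  obtain ⟨n, hpp, hn⟩ := FiniteField.card K p
  have h3 : p ∣ 2 := by
    rw [← CharP.cast_eq_zero_iff K p 2]
    exact_mod_cast h2
  have h4 := (Nat.prime_dvd_prime_iff_eq hpp Nat.prime_two).1 h3
  rw [hn, h4] at h
  have h5 : Even (2 ^ (n : ℕ)) := (Nat.even_pow' n.pos.ne').2 even_two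
  exact (Nat.not_even_iff_odd.2 h) h5

/-- `L₂(K)`, `|K|` odd. -/
theorem concl_L2 [Finite F] (hP : ActsAbsolutelyIrreducibly (matrixSet P)) (hperf : ⁅P, P⁆ = P)
    (hns : ∀ F₀ : Subfield F, F₀ ≠ ⊤ → ¬ RealisableOver F₀ (matrixSet P)) (p : ℕ) [hp : Fact p.Prime] [CharP F p]
    (hp2 : p ≠ 2) {K : Type} [Field K] [Fintype K] (hK : Odd (Fintype.card K)) (hK5 : 5 ≤ Fintype.card K)
    (Φ : (P ⧸ (scalars (Fin 3) F).subgroupOf P) ≃* Matrix.ProjectiveSpecialLinearGroup (Fin 2) K) : Concl P p := by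
  obtain ⟨r, hr⟩ := CharP.exists K
  obtain ⟨n, hrp, hn⟩ := FiniteField.card K r
  have hrF : Fact r.Prime := ⟨hrp⟩
  have h2K := odd_card_two_ne hK
  by_cases hpr : r = p
  · subst hpr
    exact Or.inr (Or.inl (L2_def hP hperf r Φ).2)
  · have hr0 : (r : F) ≠ 0 := by
      intro h
      have h1 := (CharP.cast_eq_zero_iff F p r).1 h
      exact hpr ((Nat.prime_dvd_prime_iff_eq hp.out hrp).1 h1).symm
    rcases crossL2 (le_specialLinear hperf) r hr0 h2K Φ with ⟨-, h⟩ | ⟨hr3, hle, -⟩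
    · rw [Nat.card_eq_fintype_card] at h
      have h' : Fintype.card K = 5 ∨ Fintype.card K = 7 := by omega
      rcases h' with h | h
      · exact Or.inr (Or.inl (L2_five hP hperf (by rw [Nat.card_eq_fintype_card, h]) Φ).2)
      · have hp7 : p ≠ 7 := by
          rintro rfl
          apply hpr
          have h1 : r ∣ 7 := by rw [← h, hn]; exact dvd_pow_self r n.pos.ne'
          exact (Nat.prime_dvd_prime_iff_eq hrp (by norm_num)).1 h1
        rcases L2_seven hP hperf hns (by rw [Nat.card_eq_fintype_card, h]) p hp7 Φ with h1 | h1 | h1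
        · exact Or.inr (Or.inl h1.2)
        · obtain ⟨e⟩ := Cfsg.Agent.S0255.result (F := K) (K := ZMod 2) h (ZMod.card 2)
          exact Or.inr (Or.inr (Or.inr (Or.inl ⟨hp2, hp7, ⟨Φ.trans e⟩, Or.inl h1⟩)))
        · obtain ⟨e⟩ := Cfsg.Agent.S0255.result (F := K) (K := ZMod 2) h (ZMod.card 2)
          exact Or.inr (Or.inr (Or.inr (Or.inl ⟨hp2, hp7, ⟨Φ.trans e⟩, Or.inr h1⟩)))
    · subst hr3
      have h9 : Fintype.card K = 9 := by
        rw [Nat.card_eq_fintype_card] at hle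
        rw [hn] at hle hK5 ⊢
        have h1 : (n : ℕ) < 3 := by
          by_contra hcon
          push Not at hcon
          have : 3 ^ 3 ≤ 3 ^ (n : ℕ) := Nat.pow_le_pow_right (by norm_num) hcon
          omega
        have h2 : (n : ℕ) ≠ 1 := by
          intro h
          rw [h] at hK5
          omega
        have h3 := n.pos
        have h4 : (n : ℕ) = 2 := by omega
        rw [h4]
        norm_num
      have hp3 : p ≠ 3 := fun h => hpr h.symm
      obtain ⟨e⟩ := Cfsg.Agent.S0254.result (F := K) h9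
      rcases L2_nine hP hperf hns (by rw [Nat.card_eq_fintype_card, h9]) p hp3 Φ with h1 | h1
      · exact Or.inr (Or.inl h1.2)
      · exact Or.inr (Or.inr (Or.inr (Or.inr (Or.inl ⟨hp3, ⟨Φ.trans e⟩, h1⟩))))

/-- `L₃(K)`. -/
theorem concl_L3 [Finite F] (hP : ActsAbsolutelyIrreducibly (matrixSet P)) (hperf : ⁅P, P⁆ = P)
    (hns : ∀ F₀ : Subfield F, F₀ ≠ ⊤ → ¬ RealisableOver F₀ (matrixSet P)) (p : ℕ) [hp : Fact p.Prime] [CharP F p]
    {K : Type} [Field K] [Fintype K] (hK : CharP K p ∨ Odd (Fintype.card K))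
    (Φ : (P ⧸ (scalars (Fin 3) F).subgroupOf P) ≃* Matrix.ProjectiveSpecialLinearGroup (Fin 3) K) : Concl P p := by
  by_cases hKp : CharP K p
  · exact Or.inl (L3_def hP hperf hns p Φ)
  · have hK := hK.resolve_left hKp
    obtain ⟨r, hr⟩ := CharP.exists K
    obtain ⟨n, hrp, hn⟩ := FiniteField.card K r
    have hr0 : (r : F) ≠ 0 := by
      intro h
      have h1 := (CharP.cast_eq_zero_iff F p r).1 h
      have h2 := (Nat.prime_dvd_prime_iff_eq hp.out hrp).1 h1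
      apply hKp
      rwa [h2]
    exact (crossL3 Φ (le_specialLinear hperf) r hr0 (odd_card_two_ne hK)).elim

/-- `U₃(m)`. -/
theorem concl_U3 [Finite F] (hP : ActsAbsolutelyIrreducibly (matrixSet P)) (hperf : ⁅P, P⁆ = P)
    (hsimp : IsSimpleGroup (P ⧸ (scalars (Fin 3) F).subgroupOf P))
    (hns : ∀ F₀ : Subfield F, F₀ ≠ ⊤ → ¬ RealisableOver F₀ (matrixSet P)) (p : ℕ) [hp : Fact p.Prime] [CharP F p]
    {K : Type} [Field K] [Fintype K] {m : ℕ} (hKm : Fintype.card K = m ^ 2) (hK : CharP K p ∨ Odd m)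
    (Φ : (P ⧸ (scalars (Fin 3) F).subgroupOf P) ≃* Cfsg.PSU 3 K m) : Concl P p := by
  by_cases hKp : CharP K p
  · rcases U3_def hP hperf hsimp hns p (by rw [Nat.card_eq_fintype_card, hKm]) Φ with h | ⟨h1, h2⟩
    · exact Or.inr (Or.inl h.2)
    · exact Or.inr (Or.inr (Or.inl ⟨K, inferInstance, inferInstance, m, hKm, hKp, h1, h2, ⟨Φ⟩⟩))
  · have hK := hK.resolve_left hKp
    obtain ⟨r, hr⟩ := CharP.exists K
    obtain ⟨n, hrp, hn⟩ := FiniteField.card K r
    have hrf : Fact r.Prime := ⟨hrp⟩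
    have hr0 : (r : F) ≠ 0 := by
      intro h
      have h1 := (CharP.cast_eq_zero_iff F p r).1 h
      have h2 := (Nat.prime_dvd_prime_iff_eq hp.out hrp).1 h1
      apply hKp
      rwa [h2]
    exact (crossU3 (le_specialLinear hperf) r hr0 (by rw [Nat.card_eq_fintype_card, hKm])
      (odd_card_two_ne (by rw [hKm]; exact hK.pow)) Φ).elim

/-- `A₆`. -/
theorem concl_A6 [Finite F] (hP : ActsAbsolutelyIrreducibly (matrixSet P)) (hperf : ⁅P, P⁆ = P)
    (hns : ∀ F₀ : Subfield F, F₀ ≠ ⊤ → ¬ RealisableOver F₀ (matrixSet P)) (p : ℕ) [hp : Fact p.Prime] [CharP F p]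
    (Φ : (P ⧸ (scalars (Fin 3) F).subgroupOf P) ≃* alternatingGroup (Fin 6)) : Concl P p := by
  have h3p : Fact (Nat.Prime 3) := ⟨by norm_num⟩
  have h9 : Nat.card (GaloisField 3 2) = 9 := by
    rw [GaloisField.card 3 2 (by norm_num)]
    norm_num
  have : Fintype (GaloisField 3 2) := Fintype.ofFinite _
  have h9' : Fintype.card (GaloisField 3 2) = 9 := by rw [← Nat.card_eq_fintype_card, h9]
  obtain ⟨e⟩ := Cfsg.Agent.S0254.result (F := GaloisField 3 2) h9'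
  by_cases hp3 : p = 3
  · subst hp3
    exact Or.inr (Or.inl (L2_def hP hperf 3 (K := GaloisField 3 2) (Φ.trans e.symm)).2)
  · rcases L2_nine hP hperf hns h9 p hp3 (Φ.trans e.symm) with h1 | h1
    · exact Or.inr (Or.inl h1.2)
    · exact Or.inr (Or.inr (Or.inr (Or.inr (Or.inl ⟨hp3, ⟨Φ⟩, h1⟩))))

end Cfsg.Agent.H906
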