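import Cfsg.Agent.H906.Proj

/-!
# Abelian subgroups with non-commuting lifts have order at most nine (helper906)
-/

set_option autoImplicit false
set_option linter.unusedSectionVars false

namespace Cfsg.Agent.H906

open Cfsg Cfsg.Geo
open scoped MatrixGroups Matrix

variable {F : Type*} [Field F] {P : Subgroup (GL (Fin 3) F)} {Γ : Type*} [Group Γ]
variable {Φ : (P ⧸ (scalars (Fin 3) F).subgroupOf P) ≃* Γ}

lemma cube_root_cases {c a : Fˣ} (hc : c ^ 3 = 1) (hc1 : c ≠ 1) (ha : a ^ 3 = 1) :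
    ∃ i : Fin 3, a = c ^ (i : ℕ) := by
  have hc' : (c : F) ^ 3 = 1 := by rw [← Units.val_pow_eq_pow_val, hc, Units.val_one]
  have ha' : (a : F) ^ 3 = 1 := by rw [← Units.val_pow_eq_pow_val, ha, Units.val_one]
  have hc1' : (c : F) - 1 ≠ 0 := fun h => hc1 (Units.ext (by rw [Units.val_one]; exact sub_eq_zero.1 h))
  have h1 : (c : F) ^ 2 + c + 1 = 0 := by
    apply mul_left_cancel₀ hc1'
    linear_combination hc'
  have h2 : ((a : F) - 1) * ((a - c) * (a - c ^ 2)) = 0 := by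
    linear_combination ha' - hc' + (a * (c : F) - a ^ 2) * h1
  rcases mul_eq_zero.1 h2 with h | h
  · exact ⟨0, Units.ext (by simpa using sub_eq_zero.1 h)⟩
  · rcases mul_eq_zero.1 h with h | h
    · exact ⟨1, Units.ext (by simpa using sub_eq_zero.1 h)⟩
    · exact ⟨2, Units.ext (by simpa using sub_eq_zero.1 h)⟩

/-- Elements with `Br e f c`, `c ≠ 1`: everything commuting with both is a product of powers. -/
theorem heis_cover {e f z : Γ} {c : Fˣ} (h : Br Φ e f c) (hc : c ≠ 1) (hze : z * e = e * z)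
    (hzf : z * f = f * z) : ∃ i j : Fin 3, z = (e ^ (2 * (j : ℕ)) * f ^ (i : ℕ))⁻¹ := by
  have hc3 := h.pow_three
  obtain ⟨a, ha⟩ := Br.exists_of_comm (Φ := Φ) hze
  obtain ⟨b, hb⟩ := Br.exists_of_comm (Φ := Φ) hzf
  obtain ⟨i, rfl⟩ := cube_root_cases hc3 hc ha.pow_three
  obtain ⟨j, rfl⟩ := cube_root_cases hc3 hc hb.pow_three
  refine ⟨i, j, ?_⟩
  have h1 : Br Φ (z * (e ^ (2 * (j : ℕ)) * f ^ (i : ℕ))) e 1 := by
    have h2 := ha.mul_left (((Br.self (Φ := Φ) e).pow_left (2 * (j : ℕ))).mul_left (h.symm.pow_left (i : ℕ)))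
    rw [one_pow, one_mul, inv_pow, mul_inv_cancel] at h2
    exact h2
  have h2 : Br Φ (z * (e ^ (2 * (j : ℕ)) * f ^ (i : ℕ))) f 1 := by
    have h3 := hb.mul_left ((h.pow_left (2 * (j : ℕ))).mul_left ((Br.self (Φ := Φ) f).pow_left (i : ℕ)))
    rw [one_pow, mul_one, ← pow_add] at h3
    have h4 : (j : ℕ) + 2 * (j : ℕ) = 3 * j := by ring
    have h5 : c ^ (3 * (j : ℕ)) = 1 := by rw [pow_mul, hc3, one_pow]
    rw [h4, h5] at h3
    exact h3
  obtain ⟨x, hx⟩ := pr_surjective Φ e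
  obtain ⟨y, hy⟩ := pr_surjective Φ f
  obtain ⟨w, hw⟩ := pr_surjective Φ (z * (e ^ (2 * (j : ℕ)) * f ^ (i : ℕ)))
  have hcF : (c : F) ^ 3 = 1 := by rw [← Units.val_pow_eq_pow_val, hc3, Units.val_one]
  have hcF1 : (c : F) ≠ 1 := fun h => hc (Units.ext (by rw [h, Units.val_one]))
  obtain ⟨s, hs⟩ := heis_scalar hcF hcF1 (x := (x : GL (Fin 3) F)) (y := (y : GL (Fin 3) F)) (z := (w : GL (Fin 3) F))
    (by
      have := h x y hx hy
      rwa [Units.val_mul, Units.val_mul] at this)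
    (h1.comm_of_one hw hx) (h2.comm_of_one hw hy)
  have hs0 : s ≠ 0 := by
    rintro rfl
    rw [zero_smul] at hs
    exact (Units.ne_zero (w : GL (Fin 3) F)) hs
  have h5 : pr Φ w = 1 := (pr_eq_one Φ).2 ((mem_scalars_iff _).2 ⟨Units.mk0 s hs0, hs⟩)
  rw [h5] at hw
  exact eq_inv_of_mul_eq_one_left hw.symm

theorem heis_card_le {e f : Γ} {c : Fˣ} (h : Br Φ e f c) (hc : c ≠ 1) (E : Subgroup Γ)
    (hE : ∀ z ∈ E, z * e = e * z ∧ z * f = f * z) : Nat.card E ≤ 9 := by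
  have h1 : (E : Set Γ) ⊆ Set.range (fun ij : Fin 3 × Fin 3 => (e ^ (2 * (ij.2 : ℕ)) * f ^ (ij.1 : ℕ))⁻¹) := by
    intro z hz
    obtain ⟨i, j, hij⟩ := heis_cover h hc (hE z hz).1 (hE z hz).2
    exact ⟨(i, j), hij.symm⟩
  calc Nat.card E ≤ Nat.card (Set.range (fun ij : Fin 3 × Fin 3 => (e ^ (2 * (ij.2 : ℕ)) * f ^ (ij.1 : ℕ))⁻¹)) :=
        Nat.card_mono (Set.finite_range _) h1
    _ ≤ Nat.card (Fin 3 × Fin 3) := Finite.card_range_le _
    _ = 9 := by simp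

end Cfsg.Agent.H906
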