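import Cfsg.Agent.H906.A7Six

/-!
# `A₇` has no self-dual irreducible representation of dimension `12`, odd characteristic
-/

set_option autoImplicit false
set_option linter.unusedSectionVars false
set_option maxRecDepth 10000

namespace Cfsg.Agent.H906.A7T

open Module Equiv Cfsg.Agent.H637.JW Cfsg.Agent.H882.Dim Cfsg.Agent.H882.Sc Cfsg.Agent.H923.Ten.A7

variable {K : Type*} [Field K] {V : Type*} [AddCommGroup V] [Module K V] [FiniteDimensional K V]
  {σ : A →* Module.End K V}

/-- a Frobenius group of order twenty and a dihedral group of order eight -/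
def cc : A := e2 0 1 1 2 * e2 2 3 3 4
@[inherit_doc cc]
def gg : A := e2 1 2 2 3 * e2 2 4 5 6
@[inherit_doc cc]
def zz : A := e2 1 4 2 3
@[inherit_doc cc]
def hh : A := e2 1 2 3 4

instance : IsSimpleGroup A := alternatingGroup.isSimpleGroup (by simp)

theorem inf_le_left' (X Y : Submodule K V) : finrank K (X ⊓ Y : Submodule K V) ≤ finrank K X :=
  Submodule.finrank_mono inf_le_left

theorem inf_le_right' (X Y : Submodule K V) : finrank K (X ⊓ Y : Submodule K V) ≤ finrank K Y :=
  Submodule.finrank_mono inf_le_right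

theorem twelve_odd [IsAlgClosed K] (h2 : (2 : K) ≠ 0) (hI : Irr σ) {B : V →ₗ[K] V →ₗ[K] K} (hB : Form σ B)
    (hV : finrank K V = 12) : False := by
  have s1 := scott_sub (σ := σ) hB (x := xa) (y := ya) (nf_a hI (by omega))
  by_cases h5 : (5 : K) = 0
  · have : Fact (Nat.Prime 5) := ⟨by norm_num⟩
    have hch : CharP K 5 := A7.charP_of_zero (by norm_num) (by exact_mod_cast h5)
    have h3 : (3 : K) ≠ 0 := by
      intro h0
      have : (1 : K) = 0 := by
        have : (1 : K) = 2 * 3 - 5 := by norm_num
        rw [this, h5, h0, mul_zero, sub_zero]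
      exact one_ne_zero this
    have c1 := le_of_char (σ := σ) (p := 5) (c := ya) (by decide +kernel)
    have c2 := le_of_char (σ := σ) (p := 5) (c := xa * ya) (by decide +kernel)
    have c3 := le_of_char (σ := σ) (p := 5) (c := xb * yb) (by decide +kernel)
    have k1 := klein (σ := σ) h2 (a := A7.z) (b := A7.b1) (by decide +kernel) (by decide +kernel) (by decide +kernel) rfl
      (fix_conj (k := e2 1 2 5 6) (by decide +kernel)) (fix_conj (k := e2 1 2 1 3) (by decide +kernel))
    have k2 := klein (σ := σ) h2 (a := A7.z) (b := A7.b2) (by decide +kernel) (by decide +kernel) (by decide +kernel) rfl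
      (fix_conj (k := e2 0 4 1 5) (by decide +kernel)) (fix_conj (k := e2 2 4 3 5) (by decide +kernel))
    have m1 := split_two (σ := σ) h2 (a := A7.b1) (by decide +kernel) (Fix σ A7.z)
      (fun v hv => fix_le_of_comm (by decide +kernel) hv)
    have m2 := split_two (σ := σ) h2 (a := A7.b2) (by decide +kernel) (Fix σ A7.z)
      (fun v hv => fix_le_of_comm (by decide +kernel) hv)
    have g1 := a4_ge (σ := σ) h2 (a := A7.z) (b := A7.b1) (y := A7.y1) (by decide +kernel) (by decide +kernel)
      (by decide +kernel)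
    have g2 := a4_ge (σ := σ) h2 (a := A7.z) (b := A7.b2) (y := A7.y2) (by decide +kernel) (by decide +kernel)
      (by decide +kernel)
    have a1 := a4_le (σ := σ) h2 (a := A7.z) (b := A7.b1) (y := A7.y1) (by decide +kernel) (by decide +kernel)
      (by decide +kernel) (by decide +kernel) (by decide +kernel)
    have a2 := a4_le (σ := σ) h2 (a := A7.z) (b := A7.b2) (y := A7.y2) (by decide +kernel) (by decide +kernel)
      (by decide +kernel) (by decide +kernel) (by decide +kernel)
    obtain ⟨n1, hn1⟩ := even_of_inv (σ := σ) h2 h3 (a := A7.t1) (y := A7.p1) (by decide +kernel) (by decide +kernel)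
      (by decide +kernel)
    obtain ⟨n2, hn2⟩ := even_of_inv (σ := σ) h2 h3 (a := A7.t2) (y := A7.x) (by decide +kernel) (by decide +kernel)
      (by decide +kernel)
    have e9 := nine' (σ := σ) h3 (x := A7.p1) (y := A7.p2) (by decide +kernel) (by decide +kernel) (by decide +kernel)
    have q1 : finrank K (Fix σ A7.p2) = finrank K (Fix σ A7.p1) :=
      fix_conj (k := e2 0 3 1 4 * e2 4 2 2 5) (by decide +kernel)
    have q2 : finrank K (Fix σ (A7.p1 * A7.p2)) = finrank K (Fix σ A7.x) := by
      rw [show A7.p1 * A7.p2 = A7.x by decide +kernel]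
    have q3 : finrank K (Fix σ (A7.p1 * A7.p1 * A7.p2)) = finrank K (Fix σ A7.x) :=
      fix_conj (k := e2 0 3 1 4 * e2 4 2 2 5) (by decide +kernel)
    have q4 : finrank K (Fix σ A7.y2) = finrank K (Fix σ A7.x) :=
      fix_conj (k := e2 0 5 2 3) (by decide +kernel)
    have q5 : finrank K (Fix σ A7.y1) = finrank K (Fix σ A7.p1) :=
      fix_conj (k := e2 0 3 5 6) (by decide +kernel)
    have q6 : finrank K (Fix σ xa) = finrank K (Fix σ A7.z) := fix_conj (k := e2 1 5 3 4) (by decide +kernel)
    have q7 : finrank K (Fix σ xb) = finrank K (Fix σ A7.p1) := fix_conj (k := e2 0 5 1 3) (by decide +kernel)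
    have q8 : finrank K (Fix σ yb) = finrank K (Fix σ A7.x) := fix_conj (k := e2 1 4 2 3) (by decide +kernel)
    have s2 := scott_sub (σ := σ) hB (x := xb) (y := yb) (nf_b hI (by omega))
    have r1 : finrank K (Fix σ A7.z ⊓ A1 (σ A7.b1) : Submodule K V) = finrank K (Fix σ A7.z ⊓ An σ A7.b1 : Submodule K V) :=
      rfl
    have r2 : finrank K (Fix σ A7.z ⊓ A1 (σ A7.b2) : Submodule K V) = finrank K (Fix σ A7.z ⊓ An σ A7.b2 : Submodule K V) :=
      rfl
    rw [r1] at g1
    rw [r2] at g2
    omega
  · obtain ⟨m, f1, f2, f3⟩ := f20 (σ := σ) h2 h5 (g := gg) (c := cc) (z := zz) (by decide +kernel) (by decide +kernel)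
      (by decide +kernel) (by decide +kernel)
    have k1 := klein (σ := σ) h2 (a := zz) (b := hh) (by decide +kernel) (by decide +kernel) (by decide +kernel) rfl
      (fix_conj (k := e2 2 3 3 4) (by decide +kernel)) (fix_conj (k := e2 3 4 5 6) (by decide +kernel))
    have k2 := klein (σ := σ) h2 (a := zz) (b := gg * hh) (by decide +kernel) (by decide +kernel) (by decide +kernel) rfl
      (fix_conj (k := e2 2 5 3 6) (by decide +kernel)) (fix_conj (k := e2 1 5 4 6) (by decide +kernel))
    have d := d8 (σ := σ) h2 (g := gg) (h := hh) (z := zz) (by decide +kernel) (by decide +kernel) (by decide +kernel)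
      (by decide +kernel)
    have l1 := hI.fix_lt (g := cc) (by decide +kernel)
    have q1 : finrank K (Fix σ xa) = finrank K (Fix σ zz) := fix_conj (k := e2 0 1 3 4 * e2 4 5 5 6 ) (by decide +kernel)
    have q2 : finrank K (Fix σ ya) = finrank K (Fix σ cc) :=
      fix_conj (k := e2 1 2 1 5 * e2 2 3 2 4) (by decide +kernel)
    have q3 : finrank K (Fix σ (xa * ya)) = finrank K (Fix σ cc) :=
      fix_conj (k := e2 0 1 1 2 * e2 1 3 2 5) (by decide +kernel)
    have n1 : finrank K (Fix σ gg ⊓ Fix σ hh : Submodule K V) ≤ finrank K (Fix σ zz ⊓ Fix σ hh : Submodule K V) := by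
      refine Submodule.finrank_mono (le_inf ?_ inf_le_right)
      intro v hv
      have h1 := mem_Fix.1 hv.1
      rw [mem_Fix, show zz = gg * gg by decide +kernel, mul_apply', h1, h1]
    have n2 := inf_le_left' (Fix σ gg) (Fix σ hh)
    have n3 : finrank K (Fix σ gg ⊓ Fix σ cc : Submodule K V) ≤ finrank K (Fix σ zz ⊓ Fix σ cc : Submodule K V) := by
      refine Submodule.finrank_mono (le_inf ?_ inf_le_right)
      intro v hv
      have h1 := mem_Fix.1 hv.1
      rw [mem_Fix, show zz = gg * gg by decide +kernel, mul_apply', h1, h1]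
    have n4 := inf_le_right' (Fix σ zz) (Fix σ cc)
    have hm : m = 1 ∨ m = 2 ∨ m = 3 := by omega
    rcases hm with rfl | rfl | rfl <;> omega

end Cfsg.Agent.H906.A7T
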