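import Cfsg.Agent.H906.A7Sub
import Cfsg.Agent.H882.Sc.A7

/-!
# Vectors fixed by `A₆` in representations of `A₇`
-/

set_option autoImplicit false
set_option linter.unusedSectionVars false
set_option maxRecDepth 10000

namespace Cfsg.Agent.H906.A7T

open Module Equiv Cfsg.Agent.H637.JW Cfsg.Agent.H882.Dim Cfsg.Agent.H882.Sc Cfsg.Agent.H923.Ten.A7

variable {K : Type*} [Field K] {V : Type*} [AddCommGroup V] [Module K V] [FiniteDimensional K V]
  {σ : A →* Module.End K V}

/-- the generators of `A₆` -/
def g6 : Fin 4 → A := ![c2, c3, c4, c5]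

/-- words in the generators of `A₆` -/
def wd (l : List (Fin 4)) : A := (l.map g6).prod

theorem wd_fix {v : V} (h : ∀ i, σ (g6 i) v = v) (l : List (Fin 4)) : σ (wd l) v = v := by
  induction l with
  | nil => exact act_one v
  | cons a l ih =>
    have h1 : wd (a :: l) = g6 a * wd l := by simp [wd]
    rw [h1, mul_apply', ih, h]

theorem fix_ev {x y : A} {v : V} (hx : σ x v = v) (hy : σ y v = v) (l : List Bool) : σ (ev x y l) v = v := by
  have h1 : Subgroup.closure ({x, y} : Set A) ≤ stab σ v := by
    rw [Subgroup.closure_le]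
    rintro g (rfl | rfl)
    · exact hx
    · exact hy
  exact h1 (ev_mem x y l)

/-- **Representations of `A₇` of dimension at least eight have no vectors fixed by `A₆`.** -/
theorem no_fixed6 (hI : Irr σ) (hV : 8 ≤ finrank K V) {v : V} (h : ∀ i, σ (g6 i) v = v) : v = 0 := by
  obtain ⟨f, hf⟩ : ∃ f : ℕ → V, f = fun k => σ (A7.c ^ k) v := ⟨_, rfl⟩
  have hf' : ∀ k, f k = σ (A7.c ^ k) v := fun k => by rw [hf]
  have hc : ∀ k, σ A7.c (f k) = f (k + 1) := fun k => by rw [hf', hf', ← mul_apply', pow_succ']
  have h7 : f 7 = f 0 := by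
    rw [hf', hf', show A7.c ^ 7 = A7.c ^ 0 by decide +kernel]
  have z0 : σ A7.z (f 0) = f 0 := by
    simp only [hf']
    rw [← mul_apply', show A7.z * A7.c ^ 0 = A7.c ^ 0 * wd [0, 1, 1, 0] by decide +kernel, mul_apply', wd_fix h]
  have z1 : σ A7.z (f 1) = f 3 := by
    simp only [hf']
    rw [← mul_apply', show A7.z * A7.c ^ 1 = A7.c ^ 3 * wd [0, 2, 1, 0, 3] by decide +kernel, mul_apply', wd_fix h]
  have z2 : σ A7.z (f 2) = f 4 := by
    simp only [hf']
    rw [← mul_apply', show A7.z * A7.c ^ 2 = A7.c ^ 4 * wd [0, 2, 1, 0] by decide +kernel, mul_apply', wd_fix h]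
  have z3 : σ A7.z (f 3) = f 1 := by
    simp only [hf']
    rw [← mul_apply', show A7.z * A7.c ^ 3 = A7.c ^ 1 * wd [1, 3, 0, 1, 2] by decide +kernel, mul_apply', wd_fix h]
  have z4 : σ A7.z (f 4) = f 2 := by
    simp only [hf']
    rw [← mul_apply', show A7.z * A7.c ^ 4 = A7.c ^ 2 * wd [1, 0, 0, 2] by decide +kernel, mul_apply', wd_fix h]
  have z5 : σ A7.z (f 5) = f 5 := by
    simp only [hf']
    rw [← mul_apply', show A7.z * A7.c ^ 5 = A7.c ^ 5 * wd [1, 2, 3, 1, 1] by decide +kernel, mul_apply', wd_fix h]
  have z6 : σ A7.z (f 6) = f 6 := by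
    simp only [hf']
    rw [← mul_apply', show A7.z * A7.c ^ 6 = A7.c ^ 6 * wd [0, 1, 1, 0, 2] by decide +kernel, mul_apply', wd_fix h]
  set U : Submodule K V := Submodule.span K (Set.range fun k : Fin 7 => f k) with hU
  have hmem : ∀ k, k < 7 → f k ∈ U := fun k hk => Submodule.subset_span ⟨⟨k, hk⟩, rfl⟩
  have hinv : ∀ g, (∀ u ∈ U, σ g u ∈ U) → ∀ u ∈ U, σ g⁻¹ u ∈ U := by
    intro g hg u hu
    have hinj : Function.Injective ((σ g).restrict hg) := fun a b hab =>
      Subtype.ext (injective (σ := σ) g (congrArg Subtype.val hab))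
    obtain ⟨w, hw⟩ := (LinearMap.injective_iff_surjective.1 hinj) ⟨u, hu⟩
    have hw' : σ g (w : V) = u := congrArg Subtype.val hw
    rw [← hw', ← mul_apply', inv_mul_cancel, act_one]
    exact w.2
  have gen : ∀ g : A, (∀ k, k < 7 → σ g (f k) ∈ U) → ∀ u ∈ U, σ g u ∈ U := by
    intro g hg u hu
    have h1 : U ≤ U.comap (σ g) := by
      rw [hU, Submodule.span_le]
      rintro _ ⟨k, rfl⟩
      exact hg k k.2
    exact h1 hu
  have hall : ∀ g : A, ∀ u ∈ U, σ g u ∈ U := by
    intro g
    have hg : g ∈ Subgroup.closure ({A7.z, A7.c} : Set A) := by rw [A7.gen_zc]; trivial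
    induction hg using Subgroup.closure_induction with
    | mem x hx =>
      rcases hx with rfl | rfl
      · apply gen
        intro k hk
        interval_cases k
        · rw [z0]; exact hmem _ (by norm_num)
        · rw [z1]; exact hmem _ (by norm_num)
        · rw [z2]; exact hmem _ (by norm_num)
        · rw [z3]; exact hmem _ (by norm_num)
        · rw [z4]; exact hmem _ (by norm_num)
        · rw [z5]; exact hmem _ (by norm_num)
        · rw [z6]; exact hmem _ (by norm_num)
      · apply gen
        intro k hk
        rw [hc]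
        by_cases h6 : k = 6
        · rw [h6, h7]; exact hmem _ (by norm_num)
        · exact hmem _ (by omega)
    | one => intro u hu; rw [act_one]; exact hu
    | mul x y _ _ hx hy => intro u hu; rw [mul_apply']; exact hx _ (hy u hu)
    | inv x _ hx => exact hinv x hx
  have hv : v ∈ U := by
    have := hmem 0 (by norm_num)
    rwa [hf', pow_zero, act_one] at this
  rcases hI.irr U hall with h1 | h1
  · rw [h1] at hv
    exact (Submodule.mem_bot K).1 hv
  · exfalso
    have h3 := finrank_range_le_card (R := K) (fun k : Fin 7 => f k)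
    rw [Set.finrank, ← hU, h1, finrank_top, Fintype.card_fin] at h3
    omega

/-- generators of `A₆`, types 2, 5, product 5 -/
def xa : A := e2 0 5 2 4
@[inherit_doc xa]
def ya : A := e2 0 1 0 4 * e2 0 5 1 3

theorem nf_a (hI : Irr σ) (hV : 8 ≤ finrank K V) (v : V) (hx : σ xa v = v) (hy : σ ya v = v) : v = 0 := by
  refine no_fixed6 hI hV fun i => ?_
  fin_cases i
  · show σ c2 v = v
    rw [show c2 = ev xa ya [true, true, true, true, false, true, false, true, true, false] by decide +kernel]
    exact fix_ev hx hy _
  · show σ c3 v = v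
    rw [show c3 = ev xa ya [false, true, true, true, true, false, true, false, true, true, true] by decide +kernel]
    exact fix_ev hx hy _
  · show σ c4 v = v
    rw [show c4 = ev xa ya [true, true, false, true, false, true, true, true, false] by decide +kernel]
    exact fix_ev hx hy _
  · show σ c5 v = v
    rw [show c5 = ev xa ya [false, true, false, true, true, true, false, true, true] by decide +kernel]
    exact fix_ev hx hy _

/-- generators of `A₆`, types 3A, 3B, product 5 -/
def xb : A := e2 2 3 2 5
@[inherit_doc xb]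
def yb : A := e2 0 3 0 4 * e2 1 2 1 5

theorem nf_b (hI : Irr σ) (hV : 8 ≤ finrank K V) (v : V) (hx : σ xb v = v) (hy : σ yb v = v) : v = 0 := by
  refine no_fixed6 hI hV fun i => ?_
  fin_cases i
  · show σ c2 v = v
    rw [show c2 = ev xb yb [true, false, true, true] by decide +kernel]
    exact fix_ev hx hy _
  · show σ c3 v = v
    rw [show c3 = ev xb yb [false, false, true, false, true, true, false] by decide +kernel]
    exact fix_ev hx hy _
  · show σ c4 v = v
    rw [show c4 = ev xb yb [false, true, false, true, true, false, false, true, true, false, true] by decide +kernel]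
    exact fix_ev hx hy _
  · show σ c5 v = v
    rw [show c5 = ev xb yb [false, true, false, true, true, false, false] by decide +kernel]
    exact fix_ev hx hy _

/-- generators of `A₆`, types 3A, 3B, product 4 -/
def xc : A := e2 2 3 3 4
@[inherit_doc xc]
def yc : A := e2 0 2 0 4 * e2 1 3 1 5

theorem nf_c (hI : Irr σ) (hV : 8 ≤ finrank K V) (v : V) (hx : σ xc v = v) (hy : σ yc v = v) : v = 0 := by
  refine no_fixed6 hI hV fun i => ?_
  fin_cases i
  · show σ c2 v = v
    rw [show c2 = ev xc yc [true, false, true, true] by decide +kernel]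
    exact fix_ev hx hy _
  · show σ c3 v = v
    rw [show c3 = ev xc yc [false, true, false, true, true, false, false] by decide +kernel]
    exact fix_ev hx hy _
  · show σ c4 v = v
    rw [show c4 = ev xc yc [false, false, true, false, true, true, false] by decide +kernel]
    exact fix_ev hx hy _
  · show σ c5 v = v
    rw [show c5 = ev xc yc [false, true, true, false, true, false, false, true, false, true, true] by decide +kernel]
    exact fix_ev hx hy _

end Cfsg.Agent.H906.A7T
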