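import Cfsg.Agent.H882.Sc.Core

/-!
# Dimensions of fixed spaces: Scott's lemma for subgroups, `D₈`, `5:4`, `7:3`
-/

set_option autoImplicit false
set_option linter.unusedSectionVars false

namespace Cfsg.Agent.H906.A7T

open Module Cfsg.Agent.H637.JW Cfsg.Agent.H882.Dim Cfsg.Agent.H882.Sc

variable {K : Type*} [Field K] {V : Type*} [AddCommGroup V] [Module K V] [FiniteDimensional K V]
  {G : Type*} [Group G] {σ : G →* Module.End K V}

/-- in a group without fixed vectors the ranges of `x - 1`, `y - 1` span -/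
theorem sup_eq_top {B : V →ₗ[K] V →ₗ[K] K} (hB : Form σ B) {x y : G}
    (h0 : ∀ v, σ x v = v → σ y v = v → v = 0) : Rg σ x ⊔ Rg σ y = ⊤ := by
  by_contra hne
  obtain ⟨f, hf0, hf⟩ := Submodule.exists_le_ker_of_lt_top _ (lt_top_iff_ne_top.2 hne)
  have hinj : Function.Injective B := by
    rw [injective_iff_map_eq_zero]
    exact fun v hv => hB.nd v fun w => LinearMap.congr_fun hv w
  have hsurj : Function.Surjective B := by
    rw [← LinearMap.injective_iff_surjective_of_finrank_eq_finrank (Subspace.dual_finrank_eq).symm]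
    exact hinj
  obtain ⟨u, rfl⟩ := hsurj f
  have key : ∀ x : G, Rg σ x ≤ LinearMap.ker (B u) → σ x u = u := by
    intro x hx
    have h1 : ∀ v, B u (σ x v) = B u v := fun v => by
      have h2 : B u (σ x v - v) = 0 := hx (mem_Rg x v)
      rwa [map_sub, sub_eq_zero] at h2
    have h3 : σ x⁻¹ u = u := by
      apply hinj
      ext v
      rw [← hB.inv x, ← mul_apply', mul_inv_cancel, map_one, Module.End.one_apply, h1]
    calc σ x u = σ x (σ x⁻¹ u) := by rw [h3]
      _ = u := by rw [← mul_apply', mul_inv_cancel, map_one, Module.End.one_apply]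
  have h4 := h0 u (key x (le_sup_left.trans hf)) (key y (le_sup_right.trans hf))
  apply hf0
  rw [h4, map_zero]

/-- **Scott's lemma for a subgroup without fixed vectors.** -/
theorem scott_sub {B : V →ₗ[K] V →ₗ[K] K} (hB : Form σ B) {x y : G}
    (h0 : ∀ v, σ x v = v → σ y v = v → v = 0) :
    finrank K (Fix σ x) + finrank K (Fix σ y) + finrank K (Fix σ (x * y)) ≤ finrank K V := by
  let f : Fix σ (x * y) →ₗ[K] V := (σ y - 1).comp (Fix σ (x * y)).subtype
  have hfx : ∀ v : Fix σ (x * y), σ x (σ y (v : V)) = v := fun v => by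
    rw [← mul_apply']
    exact mem_Fix.1 v.2
  have hf : Function.Injective f := by
    rw [injective_iff_map_eq_zero]
    rintro ⟨v, hv⟩ h1
    have h3 : σ y v = v := sub_eq_zero.1 h1
    have h4 : σ x (σ y v) = v := hfx ⟨v, hv⟩
    rw [h3] at h4
    exact Subtype.ext (h0 v h4 h3)
  have hr : LinearMap.range f ≤ Rg σ x ⊓ Rg σ y := by
    rintro _ ⟨v, rfl⟩
    refine ⟨⟨-(σ y v), ?_⟩, ⟨v, rfl⟩⟩
    change σ x (-(σ y v)) - -(σ y v) = σ y v - v
    rw [map_neg, hfx v]
    abel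
  have h5 := Submodule.finrank_mono hr
  rw [LinearMap.finrank_range_of_inj hf] at h5
  have h6 := Submodule.finrank_sup_add_finrank_inf_eq (Rg σ x) (Rg σ y)
  rw [sup_eq_top hB h0, finrank_top] at h6
  have h7 := rank_Rg (σ := σ) x
  have h8 := rank_Rg (σ := σ) y
  omega

/-- the space of vectors fixed by an endomorphism -/
abbrev F1 (S : Module.End K V) : Submodule K V := S.eigenspace 1
/-- the space of vectors negated by an endomorphism -/
abbrev A1 (S : Module.End K V) : Submodule K V := S.eigenspace (-1)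

theorem mem_F1 {S : Module.End K V} {v : V} : v ∈ F1 S ↔ S v = v := by
  rw [Module.End.mem_eigenspace_iff, one_smul]

theorem mem_A1 {S : Module.End K V} {v : V} : v ∈ A1 S ↔ S v = -v := by
  rw [Module.End.mem_eigenspace_iff, neg_one_smul]

/-- splitting by an involutory operator -/
theorem split_inv (h2 : (2 : K) ≠ 0) (S : Module.End K V) (U : Submodule K V) (hU : ∀ v ∈ U, S v ∈ U)
    (hS : ∀ v ∈ U, S (S v) = v) :
    finrank K (U ⊓ F1 S : Submodule K V) + finrank K (U ⊓ A1 S : Submodule K V) = finrank K U := by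
  refine split ((2 : K)⁻¹ • (1 + S)) U _ _ (fun v hv => ?_) (fun v hv => ?_) (fun v hv => ?_) fun v _ h1 h3 => ?_
  · exact U.smul_mem _ (U.add_mem hv (hU v hv))
  · rw [mem_F1, LinearMap.smul_apply, map_smul, LinearMap.add_apply, Module.End.one_apply, map_add, hS v hv, add_comm]
  · rw [mem_A1, LinearMap.smul_apply, map_sub, map_smul, LinearMap.add_apply, Module.End.one_apply, map_add, hS v hv]
    match_scalars <;> field_simp <;> ring
  · rw [mem_F1] at h1
    rw [mem_A1, h1] at h3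
    have h4 : (2 : K) • v = 0 := by rw [two_smul]; nth_rewrite 1 [h3]; exact neg_add_cancel v
    exact (smul_eq_zero.1 h4).resolve_left h2

/-- two commuting involutory operators -/
theorem klein_on (h2 : (2 : K) ≠ 0) (S T : Module.End K V) (U : Submodule K V) (hSU : ∀ v ∈ U, S v ∈ U)
    (hTU : ∀ v ∈ U, T v ∈ U) (hS : ∀ v ∈ U, S (S v) = v) (hT : ∀ v ∈ U, T (T v) = v)
    (hST : ∀ v ∈ U, S (T v) = T (S v)) :
    finrank K (U ⊓ F1 S : Submodule K V) + finrank K (U ⊓ F1 T : Submodule K V) +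
      finrank K (U ⊓ F1 (S * T) : Submodule K V) = 2 * finrank K (U ⊓ F1 S ⊓ F1 T : Submodule K V) + finrank K U := by
  have s5 := split_inv h2 S U hSU hS
  have s1 := split_inv h2 T (U ⊓ F1 S) (fun v hv => ⟨hTU v hv.1, by
    have h3 := mem_F1.1 hv.2
    show T v ∈ F1 S
    rw [mem_F1, hST v hv.1, h3]⟩) (fun v hv => hT v hv.1)
  have s4 := split_inv h2 T (U ⊓ A1 S) (fun v hv => ⟨hTU v hv.1, by
    have h3 := mem_A1.1 hv.2
    show T v ∈ A1 S
    rw [mem_A1, hST v hv.1, h3, map_neg]⟩) (fun v hv => hT v hv.1)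
  have s2 := split_inv h2 S (U ⊓ F1 T) (fun v hv => ⟨hSU v hv.1, by
    have h3 := mem_F1.1 hv.2
    show S v ∈ F1 T
    rw [mem_F1, ← hST v hv.1, h3]⟩) (fun v hv => hS v hv.1)
  have s3 := split_inv h2 S (U ⊓ F1 (S * T)) (fun v hv => ⟨hSU v hv.1, by
    have h3 : S (T v) = v := mem_F1.1 hv.2
    show S v ∈ F1 (S * T)
    rw [mem_F1]
    change S (T (S v)) = S v
    rw [← hST v hv.1, h3]⟩) (fun v hv => hS v hv.1)
  have e1 : U ⊓ F1 T ⊓ F1 S = U ⊓ F1 S ⊓ F1 T := by rw [inf_assoc, inf_comm (F1 T), ← inf_assoc]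
  have e2 : U ⊓ F1 T ⊓ A1 S = U ⊓ A1 S ⊓ F1 T := by rw [inf_assoc, inf_comm (F1 T), ← inf_assoc]
  have e3 : U ⊓ F1 (S * T) ⊓ F1 S = U ⊓ F1 S ⊓ F1 T := by
    ext v
    simp only [Submodule.mem_inf, mem_F1, Module.End.mul_apply]
    constructor
    · rintro ⟨⟨h1, h3⟩, h4⟩
      refine ⟨⟨h1, h4⟩, ?_⟩
      rw [hST v h1, h4] at h3
      exact h3
    · rintro ⟨⟨h1, h3⟩, h4⟩
      exact ⟨⟨h1, by rw [h4, h3]⟩, h3⟩
  have e4 : U ⊓ F1 (S * T) ⊓ A1 S = U ⊓ A1 S ⊓ A1 T := by
    ext v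
    simp only [Submodule.mem_inf, mem_F1, mem_A1, Module.End.mul_apply]
    constructor
    · rintro ⟨⟨h1, h3⟩, h4⟩
      refine ⟨⟨h1, h4⟩, ?_⟩
      rw [hST v h1, h4, map_neg] at h3
      exact neg_eq_iff_eq_neg.1 h3
    · rintro ⟨⟨h1, h3⟩, h4⟩
      exact ⟨⟨h1, by rw [h4, map_neg, h3, neg_neg]⟩, h3⟩
  rw [e1, e2] at s2
  rw [e3, e4] at s3
  omega

/-- **dihedral groups of order eight** -/
theorem d8 (h2 : (2 : K) ≠ 0) {g h z : G} (hz : g * g = z) (hh : h * h = 1) (hzh : z * h = h * z)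
    (hgh : g * h = h * g * z) :
    finrank K (Fix σ g) + finrank K (Fix σ z ⊓ Fix σ h : Submodule K V) +
      finrank K (Fix σ z ⊓ Fix σ (g * h) : Submodule K V) =
      2 * finrank K (Fix σ g ⊓ Fix σ h : Submodule K V) + finrank K (Fix σ z) := by
  have hgz : g * z = z * g := by rw [← hz, mul_assoc]
  have gg : ∀ v, σ g (σ g v) = σ z v := fun v => by rw [← mul_apply', hz]
  have zz : ∀ v, v ∈ Fix σ z → σ z v = v := fun v hv => mem_Fix.1 hv
  have hgv : ∀ v, σ g (σ h v) = σ h (σ g (σ z v)) := fun v => by rw [← mul_apply', hgh, mul_apply', mul_apply']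
  have key := klein_on h2 (σ g) (σ h) (Fix σ z) (fun v hv => fix_le_of_comm hgz hv)
    (fun v hv => fix_le_of_comm hzh.symm hv) (fun v hv => by rw [gg, zz v hv])
    (fun v hv => by rw [← mul_apply', hh, act_one]) (fun v hv => by rw [hgv, zz v hv])
  have e1 : Fix σ z ⊓ F1 (σ g) = Fix σ g := by
    apply le_antisymm inf_le_right
    intro v hv
    refine ⟨?_, hv⟩
    have h3 := mem_Fix.1 hv
    show v ∈ Fix σ z
    rw [mem_Fix, ← gg, h3, h3]
  have e2 : F1 (σ h) = Fix σ h := rfl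
  have e3 : F1 (σ g * σ h) = Fix σ (g * h) := by rw [← map_mul]; rfl
  rw [e1, e2, e3] at key
  exact key

/-! ### Frobenius groups of order twenty -/

/-- the complement of the fixed space of an element of order five -/
def O5 (σ : G →* Module.End K V) (c : G) : Submodule K V :=
  LinearMap.ker (1 + σ c + σ c ^ 2 + σ c ^ 3 + σ c ^ 4)

theorem mem_O5 {c : G} {v : V} : v ∈ O5 σ c ↔
    v + σ c v + σ c (σ c v) + σ c (σ c (σ c v)) + σ c (σ c (σ c (σ c v))) = 0 := Iff.rfl

theorem split_five (h5 : (5 : K) ≠ 0) {c : G} (hc : c * c * c * c * c = 1) (U : Submodule K V)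
    (hU : ∀ v ∈ U, v + σ c v + σ c (σ c v) + σ c (σ c (σ c v)) + σ c (σ c (σ c (σ c v))) ∈ U) :
    finrank K (U ⊓ Fix σ c : Submodule K V) + finrank K (U ⊓ O5 σ c : Submodule K V) = finrank K U := by
  have hcc : ∀ v, σ c (σ c (σ c (σ c (σ c v)))) = v := fun v => by
    rw [← mul_apply', ← mul_apply', ← mul_apply', ← mul_apply', hc, act_one]
  have key : ∀ v, ((5 : K)⁻¹ • (1 + σ c + σ c ^ 2 + σ c ^ 3 + σ c ^ 4) : Module.End K V) v =
      (5 : K)⁻¹ • (v + σ c v + σ c (σ c v) + σ c (σ c (σ c v)) + σ c (σ c (σ c (σ c v)))) := fun v => rfl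
  refine split ((5 : K)⁻¹ • (1 + σ c + σ c ^ 2 + σ c ^ 3 + σ c ^ 4)) U _ _ (fun v hv => ?_) (fun v hv => ?_)
    (fun v hv => ?_) fun v _ h1 h4 => ?_
  · rw [key]
    exact U.smul_mem _ (hU v hv)
  · rw [key, mem_Fix, map_smul, map_add, map_add, map_add, map_add, hcc]
    congr 1
    abel
  · rw [key, mem_O5]
    simp only [map_sub, map_smul, map_add, hcc]
    match_scalars <;> field_simp <;> ring
  · rw [mem_Fix] at h1
    rw [mem_O5, h1, h1, h1, h1] at h4
    have h6 : (5 : K) • v = 0 := by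
      rw [← h4]
      module
    exact (smul_eq_zero.1 h6).resolve_left h5

/-- an operator anticommuting with an involutory operator swaps the eigenspaces -/
theorem half_on (h2 : (2 : K) ≠ 0) (S : Module.End K V) (U : Submodule K V) (hU : ∀ v ∈ U, S v ∈ U)
    (hS : ∀ v ∈ U, S (S v) = v) (D : Module.End K V) (hD : ∀ v ∈ U, D v ∈ U) (hD0 : ∀ v ∈ U, D v = 0 → v = 0)
    (hanti : ∀ v ∈ U, S (D v) = - D (S v)) :
    2 * finrank K (U ⊓ F1 S : Submodule K V) = finrank K U := by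
  have h1 := split_inv h2 S U hU hS
  have h3 : finrank K (U ⊓ F1 S : Submodule K V) ≤ finrank K (U ⊓ A1 S : Submodule K V) := by
    refine le_of_inj D _ _ (fun v hv => ⟨hD v hv.1, mem_A1.2 ?_⟩) fun v hv => hD0 v hv.1
    rw [hanti v hv.1, mem_F1.1 hv.2]
  have h4 : finrank K (U ⊓ A1 S : Submodule K V) ≤ finrank K (U ⊓ F1 S : Submodule K V) := by
    refine le_of_inj D _ _ (fun v hv => ⟨hD v hv.1, mem_F1.2 ?_⟩) fun v hv => hD0 v hv.1
    rw [hanti v hv.1, mem_A1.1 hv.2, map_neg, neg_neg]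
  omega

/-- **Frobenius groups of order twenty** -/
theorem f20 (h2 : (2 : K) ≠ 0) (h5 : (5 : K) ≠ 0) {g c z : G} (hz : g * g = z) (hzz : z * z = 1)
    (hc : c * c * c * c * c = 1) (hgc : g * c = c * c * g) :
    ∃ m, finrank K V = finrank K (Fix σ c) + 4 * m ∧
      finrank K (Fix σ z) = finrank K (Fix σ z ⊓ Fix σ c : Submodule K V) + 2 * m ∧
      finrank K (Fix σ g) = finrank K (Fix σ g ⊓ Fix σ c : Submodule K V) + m := by
  have hcc : ∀ v, σ c (σ c (σ c (σ c (σ c v)))) = v := fun v => by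
    rw [← mul_apply', ← mul_apply', ← mul_apply', ← mul_apply', hc, act_one]
  have gc : ∀ v, σ g (σ c v) = σ c (σ c (σ g v)) := fun v => by
    rw [← mul_apply', hgc, mul_apply', mul_apply']
  have gg : ∀ v, σ g (σ g v) = σ z v := fun v => by rw [← mul_apply', hz]
  have zv : ∀ v, σ z (σ z v) = v := fun v => by rw [← mul_apply', hzz, act_one]
  have zc : ∀ v, σ z (σ c v) = σ c (σ c (σ c (σ c (σ z v)))) := fun v => by
    rw [← gg, gc, gc, gc, gg]
  have zg : ∀ v, σ z (σ g v) = σ g (σ z v) := fun v => by rw [← gg, ← gg]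
  -- invariance of `O5`
  have Oc : ∀ v ∈ O5 σ c, σ c v ∈ O5 σ c := by
    intro v hv
    rw [mem_O5] at hv ⊢
    have h1 := congrArg (σ c) hv
    simpa only [map_add, map_zero] using h1
  have Og : ∀ v ∈ O5 σ c, σ g v ∈ O5 σ c := by
    intro v hv
    rw [mem_O5] at hv ⊢
    have h1 := congrArg (σ g) hv
    simp only [map_add, map_zero, gc, hcc] at h1
    rw [← h1]
    abel
  have Oz : ∀ v ∈ O5 σ c, σ z v ∈ O5 σ c := by
    intro v hv
    rw [← gg]
    exact Og _ (Og _ hv)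
  have O0 : ∀ v ∈ O5 σ c, σ c v = v → v = 0 := by
    intro v hv h1
    rw [mem_O5, h1, h1, h1, h1] at hv
    have h6 : (5 : K) • v = 0 := by
      rw [← hv]
      module
    exact (smul_eq_zero.1 h6).resolve_left h5
  have s1 := split_five (σ := σ) h5 hc (⊤ : Submodule K V) (fun _ _ => trivial)
  rw [top_inf_eq, top_inf_eq, finrank_top] at s1
  have s2 := split_five (σ := σ) h5 hc (Fix σ z) (fun v hv => by
    rw [mem_Fix] at hv ⊢
    simp only [map_add, zc, hcc, hv]
    abel)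
  have s3 := split_five (σ := σ) h5 hc (Fix σ g) (fun v hv => by
    rw [mem_Fix] at hv ⊢
    simp only [map_add, gc, hcc, hv]
    abel)
  -- first halving
  have q1 := half_on h2 (σ z) (O5 σ c) Oz (fun v _ => zv v) (σ c - σ c ^ 4)
    (fun v hv => (O5 σ c).sub_mem (Oc v hv) (Oc _ (Oc _ (Oc _ (Oc _ hv)))))
    (fun v hv h0 => by
      have h1 : σ c v = σ c (σ c (σ c (σ c v))) := sub_eq_zero.1 h0
      have h3 : σ c (σ c v) = v := by
        have := congrArg (σ c) h1
        rwa [hcc] at this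
      apply O0 v hv
      rw [h1, h3, h3])
    (fun v _ => by
      change σ z (σ c v - σ c (σ c (σ c (σ c v)))) = -(σ c (σ z v) - σ c (σ c (σ c (σ c (σ z v)))))
      simp only [map_sub, zc, hcc]
      abel)
  -- second halving
  have q2 := half_on h2 (σ g) (O5 σ c ⊓ F1 (σ z)) (fun v hv => ⟨Og v hv.1, by
      have h1 := mem_F1.1 hv.2
      show σ g v ∈ F1 (σ z)
      rw [mem_F1, zg, h1]⟩) (fun v hv => by rw [gg]; exact mem_F1.1 hv.2) (σ c + σ c ^ 4 - σ c ^ 2 - σ c ^ 3)
    (fun v hv => by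
      have h1 := mem_F1.1 hv.2
      refine ⟨(O5 σ c).sub_mem ((O5 σ c).sub_mem ((O5 σ c).add_mem (Oc v hv.1) (Oc _ (Oc _ (Oc _ (Oc _ hv.1)))))
        (Oc _ (Oc _ hv.1))) (Oc _ (Oc _ (Oc _ hv.1))), ?_⟩
      show (σ c v + σ c (σ c (σ c (σ c v))) - σ c (σ c v) - σ c (σ c (σ c v))) ∈ F1 (σ z)
      rw [mem_F1]
      simp only [map_sub, map_add, zc, hcc, h1]
      abel)
    (fun v hv h0 => by
      have h0' : σ c v + σ c (σ c (σ c (σ c v))) - σ c (σ c v) - σ c (σ c (σ c v)) = 0 := h0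
      have hv' := mem_O5.1 hv.1
      have h1 := congrArg (σ c) h0'
      have h3 := congrArg (σ c) h1
      have h4 := congrArg (σ c) h3
      have h6 := congrArg (σ c) h4
      simp only [map_sub, map_add, map_zero, hcc] at h1 h3 h4 h6
      have h5v : (5 : K) • v = 0 := by
        linear_combination (norm := module) h1 - h3 - h4 + h6 + hv'
      exact (smul_eq_zero.1 h5v).resolve_left h5)
    (fun v _ => by
      change σ g (σ c v + σ c (σ c (σ c (σ c v))) - σ c (σ c v) - σ c (σ c (σ c v))) =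
        -(σ c (σ g v) + σ c (σ c (σ c (σ c (σ g v)))) - σ c (σ c (σ g v)) - σ c (σ c (σ c (σ g v))))
      simp only [map_sub, map_add, gc, hcc]
      abel)
  have e1 : O5 σ c ⊓ F1 (σ z) = Fix σ z ⊓ O5 σ c := inf_comm _ _
  have e2 : O5 σ c ⊓ F1 (σ z) ⊓ F1 (σ g) = Fix σ g ⊓ O5 σ c := by
    ext v
    simp only [Submodule.mem_inf, mem_F1, mem_Fix]
    constructor
    · rintro ⟨⟨h1, -⟩, h3⟩
      exact ⟨h3, h1⟩
    · rintro ⟨h1, h3⟩
      exact ⟨⟨h3, by rw [← gg, h1, h1]⟩, h1⟩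
  rw [e2, e1] at q2
  rw [e1] at q1
  refine ⟨finrank K (Fix σ g ⊓ O5 σ c : Submodule K V), ?_, ?_, ?_⟩ <;> omega

/-! ### lower bounds -/

/-- `⟨a, b, y⟩ = A₄` -/
theorem a4_ge (h2 : (2 : K) ≠ 0) {a b y : G} (hya : y * a = b * y) (hyb : y * b = a * b * y)
    (hy : y * y * y = 1) : finrank K (Fix σ a ⊓ A1 (σ b) : Submodule K V) ≤ finrank K (Fix σ y) := by
  have hya' : ∀ v, σ b (σ y v) = σ y (σ a v) := fun v => by rw [← mul_apply', ← hya, mul_apply']
  have hyb' : ∀ v, σ a (σ b (σ y v)) = σ y (σ b v) := fun v => by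
    rw [← mul_apply', ← mul_apply', ← hyb, mul_apply']
  have hyy : ∀ v, σ y (σ y (σ y v)) = v := fun v => by rw [← mul_apply', ← mul_apply', hy, act_one]
  refine le_of_inj (1 + σ y + σ y ^ 2) _ _ (fun v _ => ?_) fun v hv h0 => ?_
  · show v + σ y v + σ y (σ y v) ∈ Fix σ y
    rw [mem_Fix, map_add, map_add, hyy]
    abel
  · have h0' : v + σ y v + σ y (σ y v) = 0 := h0
    have h1 : σ a v = v := mem_Fix.1 hv.1
    have h3 : σ b v = -v := mem_A1.1 hv.2
    have e1 : σ b (σ y v) = σ y v := by rw [hya', h1]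
    have e2 : σ a (σ y v) = -σ y v := by
      have := hyb' v
      rwa [e1, h3, map_neg] at this
    have e3 : σ b (σ y (σ y v)) = -σ y (σ y v) := by rw [hya', e2, map_neg]
    have e4 : σ a (σ y (σ y v)) = -σ y (σ y v) := by
      have := hyb' (σ y v)
      rw [e3, e1, map_neg] at this
      exact neg_eq_iff_eq_neg.1 this
    have h4 := congrArg (σ a) h0'
    rw [map_add, map_add, map_zero, h1, e2, e4] at h4
    have h6 : (2 : K) • v = 0 := by linear_combination (norm := module) h0' + h4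
    exact (smul_eq_zero.1 h6).resolve_left h2

end Cfsg.Agent.H906.A7T
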