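import Cfsg.Agent.H906.A7Odd

/-!
# Tools in characteristic two
-/

set_option autoImplicit false
set_option linter.unusedSectionVars false
set_option maxRecDepth 10000

namespace Cfsg.Agent.H906.A7T

open Module Equiv Cfsg.Agent.H637.JW Cfsg.Agent.H882.Dim Cfsg.Agent.H882.Sc

section tools

variable {K : Type*} [Field K] {V : Type*} [AddCommGroup V] [Module K V] [FiniteDimensional K V]
  {G : Type*} [Group G] {σ : G →* Module.End K V}

/-- elements of order four in characteristic two -/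
theorem le_four [CharP K 2] {c : G} (hc : c ^ 4 = 1) : finrank K V ≤ 4 * finrank K (Fix σ c) := by
  have h1 : (σ c - 1) ^ 4 = 0 := by
    have hc1 : Commute (σ c) 1 := Commute.one_right _
    by_cases hV : Nontrivial V
    · have : CharP (Module.End K V) 2 := charP_of_injective_algebraMap (algebraMap K (Module.End K V)).injective 2
      have h4 : (4 : ℕ) = 2 ^ 2 := by norm_num
      rw [h4, sub_pow_char_pow_of_commute 2 2 hc1, ← h4, ← map_pow, hc, map_one, one_pow, sub_self]
    · rw [not_nontrivial_iff_subsingleton] at hV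
      exact Subsingleton.elim _ _
  have h2 := finrank_ker_pow_le (σ c - 1) 4
  rw [h1] at h2
  have h3 : LinearMap.ker (0 : Module.End K V) = ⊤ := LinearMap.ker_zero
  have h4 : LinearMap.ker (σ c - 1) = Fix σ c := by
    ext v
    rw [LinearMap.mem_ker, LinearMap.sub_apply, Module.End.one_apply, sub_eq_zero, mem_Fix]
  rwa [h3, h4, finrank_top] at h2

theorem sum_Eg [IsAlgClosed K] {c : G} {r : ℕ} [NeZero r] (hr : (r : K) ≠ 0) (hc : c ^ r = 1) {ζ : K}
    (hζ : IsPrimitiveRoot ζ r) : ∑ j : ZMod r, finrank K (Eg σ c (ζ ^ j.val)) = finrank K V := by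
  classical
  have hsum := sum_W (V := V) hr hζ (f := fun _ : Unit => σ c) (fun _ _ => rfl)
    (fun _ => by rw [← map_pow, hc, map_one])
  have hW : ∀ d : Unit → ZMod r, finrank K (W r ζ (fun _ : Unit => σ c) d) = finrank K (Eg σ c (ζ ^ (d ()).val)) := by
    intro d
    have : W r ζ (fun _ : Unit => σ c) d = Eg σ c (ζ ^ (d ()).val) := by
      ext v
      rw [mem_W, mem_Eg]
      exact ⟨fun h => h (), fun h _ => h⟩
    rw [this]
  rw [← hsum, Finset.sum_congr rfl fun d _ => hW d]
  exact (Fintype.sum_equiv (Equiv.funUnique Unit (ZMod r)) _ _ fun d => rfl).symm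

/-- **Frobenius groups of order twenty-one.** -/
theorem f21 [IsAlgClosed K] (h3 : (3 : K) ≠ 0) (h7 : (7 : K) ≠ 0) {c y : G} (hc : c ^ 7 = 1) (hy : y ^ 3 = 1)
    (hyc : y * c = c * c * y) (h0 : ∀ v, σ c v = v → v = 0) : finrank K V = 3 * finrank K (Fix σ y) := by
  have h3' : ((3 : ℕ) : K) ≠ 0 := by exact_mod_cast h3
  obtain ⟨ω, hω⟩ := exists_root (K := K) h3'
  have w3 : ω ^ 3 = 1 := hω.pow_eq_one
  have w1 : ω ^ 2 + ω + 1 = 0 := by
    have h1 := hω.geom_sum_eq_zero (by norm_num)
    simp only [Finset.sum_range_succ, Finset.sum_range_zero, pow_zero, pow_one, zero_add] at h1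
    linear_combination h1
  have hcc : ∀ v, σ c (σ c (σ c (σ c (σ c (σ c (σ c v)))))) = v := fun v => by
    rw [← mul_apply', ← mul_apply', ← mul_apply', ← mul_apply', ← mul_apply', ← mul_apply']
    rw [show c * c * c * c * c * c * c = c ^ 7 by simp only [pow_succ, pow_zero, one_mul], hc, act_one]
  have yc : ∀ v, σ y (σ c v) = σ c (σ c (σ y v)) := fun v => by
    rw [← mul_apply', hyc, mul_apply', mul_apply']
  have hs : ∀ v, v + σ c v + σ c (σ c v) + σ c (σ c (σ c v)) + σ c (σ c (σ c (σ c v))) +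
      σ c (σ c (σ c (σ c (σ c v)))) + σ c (σ c (σ c (σ c (σ c (σ c v))))) = 0 := by
    intro v
    apply h0
    simp only [map_add, hcc]
    abel
  -- the Gauss sum
  have key : ∀ l : K, finrank K (Eg σ y l) ≤ finrank K (Eg σ y (ω ^ 2 * l)) := by
    intro l
    refine le_of_inj (σ c + σ c ^ 6 + ω • (σ c ^ 2 + σ c ^ 5) + ω ^ 2 • (σ c ^ 3 + σ c ^ 4)) _ _ (fun v hv => ?_)
      fun v hv h1 => ?_
    · rw [mem_Eg] at hv ⊢
      change σ y (σ c v + σ c (σ c (σ c (σ c (σ c (σ c v))))) + ω • (σ c (σ c v) + σ c (σ c (σ c (σ c (σ c v))))) +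
        ω ^ 2 • (σ c (σ c (σ c v)) + σ c (σ c (σ c (σ c v))))) = (ω ^ 2 * l) • (σ c v +
        σ c (σ c (σ c (σ c (σ c (σ c v))))) + ω • (σ c (σ c v) + σ c (σ c (σ c (σ c (σ c v))))) +
        ω ^ 2 • (σ c (σ c (σ c v)) + σ c (σ c (σ c (σ c v)))))
      simp only [map_add, map_smul, yc, hcc, hv]
      have w4 : ω ^ 4 = ω := by rw [pow_succ, w3, one_mul]
      match_scalars <;> first
        | ring1
        | linear_combination l * w3
        | linear_combination (-l) * w3
        | linear_combination l * w4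
        | linear_combination (-l) * w4
        | linear_combination l * w3 - l * w4
        | linear_combination l * w4 - l * w3
    · have h1' : σ c v + σ c (σ c (σ c (σ c (σ c (σ c v))))) + ω • (σ c (σ c v) + σ c (σ c (σ c (σ c (σ c v))))) +
        ω ^ 2 • (σ c (σ c (σ c v)) + σ c (σ c (σ c (σ c v)))) = 0 := h1
      have e1 := congrArg (σ c) h1'
      have e2 := congrArg (σ c) e1
      have e3 := congrArg (σ c) e2
      have e4 := congrArg (σ c) e3
      have e5 := congrArg (σ c) e4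
      have e6 := congrArg (σ c) e5
      simp only [map_add, map_smul, map_zero, hcc] at e1 e2 e3 e4 e5 e6
      have h7v : (7 : K) • v = 0 := by
        have hsv := hs v
        have w5 : ω ^ 4 + ω ^ 2 + 1 = 0 := by linear_combination ω * w3 + w1
        linear_combination (norm := module) (e1 + e6) + (ω ^ 2) • (e2 + e5) + ω • (e3 + e4) + hsv -
          w3 • ((4 : K) • v + σ c (σ c (σ c v)) + σ c (σ c (σ c (σ c v))) + σ c v +
            σ c (σ c (σ c (σ c (σ c (σ c v)))))) -
          w1 • ((σ c v + σ c (σ c (σ c (σ c (σ c (σ c v)))))) + (2 : K) • (σ c (σ c (σ c v)) + σ c (σ c (σ c (σ c v)))) +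
            (σ c (σ c v) + σ c (σ c (σ c (σ c (σ c v)))))) -
          w5 • ((σ c v + σ c (σ c (σ c (σ c (σ c (σ c v)))))) + (σ c (σ c v) + σ c (σ c (σ c (σ c (σ c v))))))
      exact (smul_eq_zero.1 h7v).resolve_left h7
  have hsum := sum_Eg (σ := σ) (c := y) h3' hy hω
  have e0 : finrank K (Eg σ y 1) = finrank K (Fix σ y) := rfl
  have k1 := key 1
  have k2 := key (ω ^ 2 * 1)
  have k3 := key (ω ^ 2 * (ω ^ 2 * 1))
  have t2 : ω ^ 2 * (ω ^ 2 * 1) = ω := by linear_combination ω * w3
  have t3 : ω ^ 2 * (ω ^ 2 * (ω ^ 2 * 1)) = 1 := by linear_combination (ω ^ 3 + 1) * w3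
  rw [t3] at k3
  rw [t2] at k2 k3
  rw [mul_one] at k1 k2
  have hF : ∑ j : ZMod 3, finrank K (Eg σ y (ω ^ j.val)) =
      finrank K (Eg σ y (ω ^ 0)) + finrank K (Eg σ y (ω ^ 1)) + finrank K (Eg σ y (ω ^ 2)) := by
    rw [show (Finset.univ : Finset (ZMod 3)) = {0, 1, 2} by decide]
    rw [Finset.sum_insert (by decide), Finset.sum_insert (by decide), Finset.sum_singleton]
    rw [← add_assoc]
    rfl
  rw [hF, pow_zero, pow_one, e0] at hsum
  rw [e0] at k1 k3
  omega

end tools

end Cfsg.Agent.H906.A7T
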