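import Cfsg.Agent.H906.A7TwoA

/-!
# The vectors indexed by the involutions of `A₇`
-/

set_option autoImplicit false
set_option linter.unusedSectionVars false
set_option maxRecDepth 10000

namespace Cfsg.Agent.H906.A7T

open Module Equiv Cfsg.Agent.H637.JW Cfsg.Agent.H882.Dim Cfsg.Agent.H882.Sc Cfsg.Agent.H923.Ten.A7

/-- `A₇` is transitive on `5`-tuples -/
theorem trans5 (f : Fin 5 → Fin 7) (hf : Function.Injective f) : ∃ g : A, ∀ i : Fin 5, g.1 (Fin.castLE (by norm_num) i) = f i := by
  have h := alternatingGroup.isMultiplyPretransitive (Fin 7)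
  have h5 : Nat.card (Fin 7) - 2 = 5 := by simp
  rw [h5] at h
  obtain ⟨g, hg⟩ := MulAction.exists_smul_eq (M := A) (Fin.castLEEmb (by norm_num : 5 ≤ 7)) (⟨f, hf⟩ : Fin 5 ↪ Fin 7)
  refine ⟨g, fun i => ?_⟩
  have h1 := DFunLike.congr_fun hg i
  exact h1

theorem tup5 {i j k l m : Fin 7} (h : [i, j, k, l, m].Nodup) :
    ∃ g : A, g.1 0 = i ∧ g.1 1 = j ∧ g.1 2 = k ∧ g.1 3 = l ∧ g.1 4 = m := by
  obtain ⟨g, hg⟩ := trans5 ![i, j, k, l, m] (by
    have h1 := List.nodup_iff_injective_get.1 h
    intro a b hab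
    have h2 : ∀ a : Fin 5, (![i, j, k, l, m] : Fin 5 → Fin 7) a = [i, j, k, l, m].get a := by
      intro a
      fin_cases a <;> rfl
    rw [h2, h2] at hab
    exact h1 hab)
  exact ⟨g, hg 0, hg 1, hg 2, hg 3, hg 4⟩

theorem tup4 {i j k l : Fin 7} (h : [i, j, k, l].Nodup) :
    ∃ g : A, g.1 0 = i ∧ g.1 1 = j ∧ g.1 2 = k ∧ g.1 3 = l := by
  obtain ⟨m, hm⟩ : ∃ m : Fin 7, m ∉ [i, j, k, l] := by
    by_contra hcon
    push Not at hcon
    have h1 : (Finset.univ : Finset (Fin 7)) ⊆ [i, j, k, l].toFinset := fun x _ => List.mem_toFinset.2 (hcon x)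
    have h2 := Finset.card_le_card h1
    rw [Finset.card_univ, Fintype.card_fin] at h2
    have h3 := List.toFinset_card_le [i, j, k, l]
    simp only [List.length_cons, List.length_nil] at h3
    omega
  obtain ⟨g, h0, h1, h2, h3, -⟩ := tup5 (i := i) (j := j) (k := k) (l := l) (m := m) (by
    simp only [List.nodup_cons, List.mem_cons, List.not_mem_nil, not_or, List.nodup_nil, not_false_iff, and_true,
      or_false] at h hm ⊢
    exact ⟨⟨h.1.1, h.1.2.1, h.1.2.2, fun e => hm.1 e.symm⟩, ⟨h.2.1.1, h.2.1.2, fun e => hm.2.1 e.symm⟩,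
      ⟨h.2.2, fun e => hm.2.2.1 e.symm⟩, fun e => hm.2.2.2 e.symm⟩)
  exact ⟨g, h0, h1, h2, h3⟩

/-- the three-cycle `(4 5 6)`, involutions -/
def c0 : A := e2 4 5 5 6
@[inherit_doc c0]
def a0 : A := e2 0 1 2 3
@[inherit_doc c0]
def b0 : A := e2 0 2 1 3
@[inherit_doc c0]
def d0 : A := e2 0 1 1 2
@[inherit_doc c0]
def h0 : A := e2 0 1 4 5

theorem mem456 {h : A} (h0 : h.1 0 = 0) (h1 : h.1 1 = 1) (h2 : h.1 2 = 2) (h3 : h.1 3 = 3) :
    h = 1 ∨ h = c0 ∨ h = c0 * c0 := by
  have inj := h.1.injective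
  have hs : Perm.sign h.1 = 1 := h.2
  have key : ∀ x : Fin 7, x ≠ 0 → x ≠ 1 → x ≠ 2 → x ≠ 3 → h.1 x = 4 ∨ h.1 x = 5 ∨ h.1 x = 6 := by
    intro x x0 x1 x2 x3
    have e0 : h.1 x ≠ 0 := fun e => x0 (inj (e.trans h0.symm))
    have e1 : h.1 x ≠ 1 := fun e => x1 (inj (e.trans h1.symm))
    have e2 : h.1 x ≠ 2 := fun e => x2 (inj (e.trans h2.symm))
    have e3 : h.1 x ≠ 3 := fun e => x3 (inj (e.trans h3.symm))
    revert e0 e1 e2 e3
    generalize h.1 x = y
    revert y
    decide
  have ext : ∀ g : Perm (Fin 7), g 0 = 0 → g 1 = 1 → g 2 = 2 → g 3 = 3 → g 4 = h.1 4 → g 5 = h.1 5 → g 6 = h.1 6 →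
      h.1 = g := by
    intro g g0 g1 g2 g3 g4 g5 g6
    ext x
    fin_cases x
    · exact congrArg Fin.val (h0.trans g0.symm)
    · exact congrArg Fin.val (h1.trans g1.symm)
    · exact congrArg Fin.val (h2.trans g2.symm)
    · exact congrArg Fin.val (h3.trans g3.symm)
    · exact congrArg Fin.val g4.symm
    · exact congrArg Fin.val g5.symm
    · exact congrArg Fin.val g6.symm
  have n45 : h.1 4 ≠ h.1 5 := fun e => absurd (inj e) (by decide)
  have n46 : h.1 4 ≠ h.1 6 := fun e => absurd (inj e) (by decide)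
  have n56 : h.1 5 ≠ h.1 6 := fun e => absurd (inj e) (by decide)
  rcases key 4 (by decide) (by decide) (by decide) (by decide) with e4 | e4 | e4 <;>
  rcases key 5 (by decide) (by decide) (by decide) (by decide) with e5 | e5 | e5 <;>
  rcases key 6 (by decide) (by decide) (by decide) (by decide) with e6 | e6 | e6
  all_goals first
    | exact absurd (e4.trans e5.symm) n45
    | exact absurd (e4.trans e6.symm) n46
    | exact absurd (e5.trans e6.symm) n56
    | exact Or.inl (Subtype.ext (ext _ (by decide) (by decide) (by decide) (by decide) (by rw [e4]; decide)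
        (by rw [e5]; decide) (by rw [e6]; decide)))
    | exact Or.inr (Or.inl (Subtype.ext (ext _ (by decide) (by decide) (by decide) (by decide) (by rw [e4]; decide)
        (by rw [e5]; decide) (by rw [e6]; decide))))
    | exact Or.inr (Or.inr (Subtype.ext (ext _ (by decide) (by decide) (by decide) (by decide) (by rw [e4]; decide)
        (by rw [e5]; decide) (by rw [e6]; decide))))
    | (exfalso
       have e := ext (swap 5 6) (by decide) (by decide) (by decide) (by decide) (by rw [e4]; decide) (by rw [e5]; decide)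
        (by rw [e6]; decide)
       rw [e, Perm.sign_swap (by decide)] at hs
       exact absurd hs (by decide))
    | (exfalso
       have e := ext (swap 4 5) (by decide) (by decide) (by decide) (by decide) (by rw [e4]; decide) (by rw [e5]; decide)
        (by rw [e6]; decide)
       rw [e, Perm.sign_swap (by decide)] at hs
       exact absurd hs (by decide))
    | (exfalso
       have e := ext (swap 4 6) (by decide) (by decide) (by decide) (by decide) (by rw [e4]; decide) (by rw [e5]; decide)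
        (by rw [e6]; decide)
       rw [e, Perm.sign_swap (by decide)] at hs
       exact absurd hs (by decide))

end Cfsg.Agent.H906.A7T
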