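import Cfsg.Agent.H906.A7TwoB

/-!
# The vectors indexed by the involutions of `A₇` vanish
-/

set_option autoImplicit false
set_option linter.unusedSectionVars false
set_option maxRecDepth 10000

namespace Cfsg.Agent.H906.A7T

open Module Equiv Cfsg.Agent.H637.JW Cfsg.Agent.H882.Dim Cfsg.Agent.H882.Sc Cfsg.Agent.H923.Ten.A7

variable {K : Type*} [Field K] {V : Type*} [AddCommGroup V] [Module K V] {σ : A →* Module.End K V} {v0 : V}

/-- the vector of the involution `(i j)(k l)` -/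
noncomputable def Bv (σ : A →* Module.End K V) (v0 : V) (i j k l : Fin 7) : V := by
  classical
  exact if h : ∃ g : A, g.1 0 = i ∧ g.1 1 = j ∧ g.1 2 = k ∧ g.1 3 = l then σ h.choose v0 else 0

/-- the vector `v0` is fixed by the centraliser of `(0 1)(2 3)` -/
structure Stab (σ : A →* Module.End K V) (v0 : V) : Prop where
  c : σ c0 v0 = v0
  a : σ a0 v0 = v0
  b : σ b0 v0 = v0
  h : σ h0 v0 = v0

theorem Stab.eq (S : Stab σ v0) (g : A) : σ g v0 = Bv σ v0 (g.1 0) (g.1 1) (g.1 2) (g.1 3) := by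
  have hex : ∃ g' : A, g'.1 0 = g.1 0 ∧ g'.1 1 = g.1 1 ∧ g'.1 2 = g.1 2 ∧ g'.1 3 = g.1 3 := ⟨g, rfl, rfl, rfl, rfl⟩
  have h1 : Bv σ v0 (g.1 0) (g.1 1) (g.1 2) (g.1 3) = σ hex.choose v0 := dif_pos hex
  rw [h1]
  obtain ⟨e0, e1, e2, e3⟩ := hex.choose_spec
  obtain ⟨g', hg'⟩ : ∃ g', g' = hex.choose := ⟨_, rfl⟩
  rw [← hg'] at e0 e1 e2 e3 ⊢
  have key : ∀ x : Fin 7, g'.1 x = g.1 x → (g⁻¹ * g').1 x = x := by
    intro x hx
    change g.1⁻¹ (g'.1 x) = x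
    rw [hx]
    exact g.1.symm_apply_apply x
  have h2 : σ (g⁻¹ * g') v0 = v0 := by
    rcases mem456 (key 0 e0) (key 1 e1) (key 2 e2) (key 3 e3) with h | h | h
    · rw [h, map_one, Module.End.one_apply]
    · rw [h, S.c]
    · rw [h, mul_apply', S.c, S.c]
  calc σ g v0 = σ g (σ (g⁻¹ * g') v0) := by rw [h2]
    _ = σ g' v0 := by rw [← mul_apply', mul_inv_cancel_left]

theorem Stab.act (S : Stab σ v0) {g : A} {i j k l i' j' k' l' : Fin 7}
    (hd : [i, j, k, l].Nodup ∧ g.1 i = i' ∧ g.1 j = j' ∧ g.1 k = k' ∧ g.1 l = l') :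
    σ g (Bv σ v0 i j k l) = Bv σ v0 i' j' k' l' := by
  obtain ⟨hn, rfl, rfl, rfl, rfl⟩ := hd
  obtain ⟨g1, rfl, rfl, rfl, rfl⟩ := tup4 hn
  rw [← S.eq, ← mul_apply', S.eq]
  rfl

theorem Stab.symA (S : Stab σ v0) {i j k l : Fin 7} (hd : [i, j, k, l].Nodup) : Bv σ v0 i j k l = Bv σ v0 j i k l := by
  obtain ⟨g1, rfl, rfl, rfl, rfl⟩ := tup4 hd
  rw [← S.eq]
  have h1 : σ g1 v0 = σ (g1 * h0) v0 := by rw [mul_apply', S.h]
  rw [h1, S.eq]
  rfl

theorem Stab.symC (S : Stab σ v0) {i j k l : Fin 7} (hd : [i, j, k, l].Nodup) : Bv σ v0 i j k l = Bv σ v0 k l i j := by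
  obtain ⟨g1, rfl, rfl, rfl, rfl⟩ := tup4 hd
  rw [← S.eq]
  have h1 : σ g1 v0 = σ (g1 * b0) v0 := by rw [mul_apply', S.b]
  rw [h1, S.eq]
  rfl

theorem Stab.symB (S : Stab σ v0) {i j k l : Fin 7} (hd : [i, j, k, l].Nodup) : Bv σ v0 i j k l = Bv σ v0 i j l k := by
  obtain ⟨g1, rfl, rfl, rfl, rfl⟩ := tup4 hd
  rw [← S.eq]
  have h1 : σ g1 v0 = σ (g1 * (a0 * h0)) v0 := by rw [mul_apply', mul_apply', S.h, S.a]
  rw [h1, S.eq]
  rfl

/-- the permutation `0 ↦ 5, 1 ↦ 6, 4 ↦ 0, 5 ↦ 1, 6 ↦ 4` -/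
def kk : A := e2 0 5 5 1 * e2 1 6 6 4
@[inherit_doc kk]
def c1 : A := e2 0 1 1 4
@[inherit_doc kk]
def h1 : A := e2 5 6 0 1

theorem Stab.base (S : Stab σ v0) (PU : ∀ w, σ c0 w = w → σ h0 w = w → ∃ l : K, w = l • v0) :
    ∃ l : K, Bv σ v0 0 1 2 3 + Bv σ v0 1 4 2 3 + Bv σ v0 4 0 2 3 = l • Bv σ v0 5 6 2 3 := by
  obtain ⟨w, hw⟩ : ∃ w, w = Bv σ v0 0 1 2 3 + Bv σ v0 1 4 2 3 + Bv σ v0 4 0 2 3 := ⟨_, rfl⟩
  have k1 : σ c1 w = w := by
    rw [hw, map_add, map_add, S.act (g := c1) (i := 0) (j := 1) (k := 2) (l := 3) (i' := 1) (j' := 4) (k' := 2)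
      (l' := 3) (by decide), S.act (g := c1) (i := 1) (j := 4) (k := 2) (l := 3) (i' := 4) (j' := 0) (k' := 2)
      (l' := 3) (by decide), S.act (g := c1) (i := 4) (j := 0) (k := 2) (l := 3) (i' := 0) (j' := 1) (k' := 2)
      (l' := 3) (by decide)]
    abel
  have k2 : σ h1 w = w := by
    rw [hw, map_add, map_add, S.act (g := h1) (i := 0) (j := 1) (k := 2) (l := 3) (i' := 1) (j' := 0) (k' := 2)
      (l' := 3) (by decide), S.act (g := h1) (i := 1) (j := 4) (k := 2) (l := 3) (i' := 0) (j' := 4) (k' := 2)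
      (l' := 3) (by decide), S.act (g := h1) (i := 4) (j := 0) (k := 2) (l := 3) (i' := 4) (j' := 1) (k' := 2)
      (l' := 3) (by decide), S.symA (i := 1) (j := 0) (by decide), S.symA (i := 0) (j := 4) (by decide),
      S.symA (i := 4) (j := 1) (by decide)]
    abel
  obtain ⟨l, hl⟩ := PU (σ kk⁻¹ w)
    (by rw [← mul_apply', show c0 * kk⁻¹ = kk⁻¹ * c1 by decide +kernel, mul_apply', k1])
    (by rw [← mul_apply', show h0 * kk⁻¹ = kk⁻¹ * h1 by decide +kernel, mul_apply', k2])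
  refine ⟨l, ?_⟩
  have h3 := congrArg (σ kk) hl
  rw [← mul_apply', mul_inv_cancel, map_one, Module.End.one_apply, map_smul, S.eq] at h3
  rw [← hw, h3]
  rfl

theorem Stab.W (S : Stab σ v0) {lm : K}
    (hb : Bv σ v0 0 1 2 3 + Bv σ v0 1 4 2 3 + Bv σ v0 4 0 2 3 = lm • Bv σ v0 5 6 2 3) {i j m k l p q : Fin 7}
    (hd : [i, j, m, k, l, p, q].Nodup) :
    Bv σ v0 i j k l + Bv σ v0 j m k l + Bv σ v0 m i k l = lm • Bv σ v0 p q k l := by
  have hd' := hd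
  simp only [List.nodup_cons, List.mem_cons, List.not_mem_nil, not_or, List.nodup_nil, not_false_iff, and_true,
    or_false] at hd'
  obtain ⟨⟨ij, im, ik, il, ip, iq⟩, ⟨jm, jk, jl, jp, jq⟩, ⟨mk, ml, mp, mq⟩, ⟨kl, kp, kq⟩, ⟨lp, lq⟩, pq⟩ := hd'
  obtain ⟨g, g0, g1, g2, g3, g4⟩ := tup5 (i := i) (j := j) (k := k) (l := l) (m := m) (by
    simp only [List.nodup_cons, List.mem_cons, List.not_mem_nil, not_or, List.nodup_nil, not_false_iff, and_true,
      or_false]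
    exact ⟨⟨ij, ik, il, im⟩, ⟨jk, jl, jm⟩, ⟨kl, fun e => mk e.symm⟩, fun e => ml e.symm⟩)
  have hall : ∀ x : Fin 7, x ∈ [i, j, m, k, l, p, q] := by
    intro x
    by_contra hx
    have h1 : (x :: [i, j, m, k, l, p, q]).Nodup := List.nodup_cons.2 ⟨hx, hd⟩
    have h2 := List.Nodup.length_le_card h1
    simp only [List.length_cons, List.length_nil, Fintype.card_fin] at h2
    omega
  have inj := g.1.injective
  have key : ∀ x : Fin 7, x ≠ 0 → x ≠ 1 → x ≠ 2 → x ≠ 3 → x ≠ 4 → g.1 x = p ∨ g.1 x = q := by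
    intro x x0 x1 x2 x3 x4
    have h1 := hall (g.1 x)
    simp only [List.mem_cons, List.not_mem_nil, or_false] at h1
    rcases h1 with h | h | h | h | h | h | h
    · exact absurd (inj (h.trans g0.symm)) x0
    · exact absurd (inj (h.trans g1.symm)) x1
    · exact absurd (inj (h.trans g4.symm)) x4
    · exact absurd (inj (h.trans g2.symm)) x2
    · exact absurd (inj (h.trans g3.symm)) x3
    · exact Or.inl h
    · exact Or.inr h
  have n56 : g.1 5 ≠ g.1 6 := fun e => absurd (inj e) (by decide)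
  have h3 := congrArg (σ g) hb
  rw [map_add, map_add, map_smul, S.act (g := g) (i := 0) (j := 1) (k := 2) (l := 3) ⟨by decide, g0, g1, g2, g3⟩,
    S.act (g := g) (i := 1) (j := 4) (k := 2) (l := 3) ⟨by decide, g1, g4, g2, g3⟩,
    S.act (g := g) (i := 4) (j := 0) (k := 2) (l := 3) ⟨by decide, g4, g0, g2, g3⟩] at h3
  rcases key 5 (by decide) (by decide) (by decide) (by decide) (by decide) with e5 | e5 <;>
  rcases key 6 (by decide) (by decide) (by decide) (by decide) (by decide) with e6 | e6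
  · exact absurd (e5.trans e6.symm) n56
  · rw [S.act (g := g) (i := 5) (j := 6) (k := 2) (l := 3) ⟨by decide, e5, e6, g2, g3⟩] at h3
    exact h3
  · rw [S.act (g := g) (i := 5) (j := 6) (k := 2) (l := 3) ⟨by decide, e5, e6, g2, g3⟩, S.symA (i := q) (j := p) (k := k) (l := l) (by
      simp only [List.nodup_cons, List.mem_cons, List.not_mem_nil, not_or, List.nodup_nil, not_false_iff, and_true,
        or_false]
      exact ⟨⟨fun e => pq e.symm, fun e => kq e.symm, fun e => lq e.symm⟩, ⟨fun e => kp e.symm, fun e => lp e.symm⟩, kl⟩)] at h3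
    exact h3
  · exact absurd (e5.trans e6.symm) n56

/-- five-cycles and three-cycles -/
def q2 : A := e2 0 1 1 2 * e2 2 4 4 3
@[inherit_doc q2]
def x1 : A := e2 0 1 1 2
@[inherit_doc q2]
def x2 : A := e2 0 1 1 6
@[inherit_doc q2]
def y1 : A := e2 3 4 4 5

theorem Stab.lam (S : Stab σ v0) (hv : v0 ≠ 0) (h2 : (2 : K) = 0) {lm : K}
    (hb : Bv σ v0 0 1 2 3 + Bv σ v0 1 4 2 3 + Bv σ v0 4 0 2 3 = lm • Bv σ v0 5 6 2 3)
    (P5 : ∀ v, σ cc v = v → v = 0) (P5' : ∀ v, σ q2 v = v → v = 0) : lm = 0 := by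
  have symA := @Stab.symA K _ V _ _ σ v0 S
  have symB := @Stab.symB K _ V _ _ σ v0 S
  have symC := @Stab.symC K _ V _ _ σ v0 S
  obtain ⟨β, hβ⟩ : ∃ β, β = Bv σ v0 := ⟨_, rfl⟩
  rw [← hβ] at symA symB symC
  have p1 : β 0 1 5 6 + β 1 2 5 6 + β 2 3 5 6 + β 3 4 5 6 + β 4 0 5 6 = 0 := by
    apply P5
    · simp only [map_add]
      rw [show σ cc (β 0 1 5 6) = β 1 2 5 6 from hβ ▸ S.act (g := cc) (i := 0) (j := 1) (k := 5) (l := 6) (i' := 1) (j' := 2) (k' := 5) (l' := 6) (by decide +kernel),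
        show σ cc (β 1 2 5 6) = β 2 3 5 6 from hβ ▸ S.act (g := cc) (i := 1) (j := 2) (k := 5) (l := 6) (i' := 2) (j' := 3) (k' := 5) (l' := 6) (by decide +kernel),
        show σ cc (β 2 3 5 6) = β 3 4 5 6 from hβ ▸ S.act (g := cc) (i := 2) (j := 3) (k := 5) (l := 6) (i' := 3) (j' := 4) (k' := 5) (l' := 6) (by decide +kernel),
        show σ cc (β 3 4 5 6) = β 4 0 5 6 from hβ ▸ S.act (g := cc) (i := 3) (j := 4) (k := 5) (l := 6) (i' := 4) (j' := 0) (k' := 5) (l' := 6) (by decide +kernel),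
        show σ cc (β 4 0 5 6) = β 0 1 5 6 from hβ ▸ S.act (g := cc) (i := 4) (j := 0) (k := 5) (l := 6) (i' := 0) (j' := 1) (k' := 5) (l' := 6) (by decide +kernel)]
      abel
  have p2 : β 0 1 5 6 + β 1 2 5 6 + β 2 4 5 6 + β 4 3 5 6 + β 3 0 5 6 = 0 := by
    apply P5'
    · simp only [map_add]
      rw [show σ q2 (β 0 1 5 6) = β 1 2 5 6 from hβ ▸ S.act (g := q2) (i := 0) (j := 1) (k := 5) (l := 6) (i' := 1) (j' := 2) (k' := 5) (l' := 6) (by decide +kernel),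
        show σ q2 (β 1 2 5 6) = β 2 4 5 6 from hβ ▸ S.act (g := q2) (i := 1) (j := 2) (k := 5) (l := 6) (i' := 2) (j' := 4) (k' := 5) (l' := 6) (by decide +kernel),
        show σ q2 (β 2 4 5 6) = β 4 3 5 6 from hβ ▸ S.act (g := q2) (i := 2) (j := 4) (k := 5) (l := 6) (i' := 4) (j' := 3) (k' := 5) (l' := 6) (by decide +kernel),
        show σ q2 (β 4 3 5 6) = β 3 0 5 6 from hβ ▸ S.act (g := q2) (i := 4) (j := 3) (k := 5) (l := 6) (i' := 3) (j' := 0) (k' := 5) (l' := 6) (by decide +kernel),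
        show σ q2 (β 3 0 5 6) = β 0 1 5 6 from hβ ▸ S.act (g := q2) (i := 3) (j := 0) (k := 5) (l := 6) (i' := 0) (j' := 1) (k' := 5) (l' := 6) (by decide +kernel)]
      abel
  have w1 : β 2 3 5 6 + β 3 4 5 6 + β 4 2 5 6 = lm • β 0 1 5 6 := hβ ▸ S.W hb (by decide)
  have w2 : β 0 3 5 6 + β 3 4 5 6 + β 4 0 5 6 = lm • β 1 2 5 6 := hβ ▸ S.W hb (by decide)
  have e1 : β 4 0 5 6 = β 0 4 5 6 := by rw [symA (i := 4) (j := 0) (k := 5) (l := 6) (by decide)]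
  have e2 : β 4 3 5 6 = β 3 4 5 6 := by rw [symA (i := 4) (j := 3) (k := 5) (l := 6) (by decide)]
  have e3 : β 3 0 5 6 = β 0 3 5 6 := by rw [symA (i := 3) (j := 0) (k := 5) (l := 6) (by decide)]
  have e4 : β 4 2 5 6 = β 2 4 5 6 := by rw [symA (i := 4) (j := 2) (k := 5) (l := 6) (by decide)]
  rw [e1] at p1
  rw [e2, e3] at p2
  rw [e4] at w1
  rw [e1] at w2
  have h3 : lm • (β 0 1 5 6 + β 1 2 5 6) = 0 := by
    linear_combination (norm := module) p1 + p2 - w1 - w2 - h2 • (β 0 1 5 6 + β 1 2 5 6)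
  rcases smul_eq_zero.1 h3 with h | h
  · exact h
  · exfalso
    have h4 : β 1 2 5 6 = β 0 1 5 6 := by
      linear_combination (norm := module) h - h2 • β 0 1 5 6
    have h5 : σ cc (β 0 1 5 6) = β 1 2 5 6 := hβ ▸ S.act (g := cc) (i := 0) (j := 1) (k := 5) (l := 6) (i' := 1) (j' := 2) (k' := 5) (l' := 6) (by decide +kernel)
    have h6 := P5 _ (h5.trans h4)
    obtain ⟨g, e0, e1, e2, e3⟩ := tup4 (i := 0) (j := 1) (k := 5) (l := 6) (by decide)
    have h7 := S.eq g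
    rw [e0, e1, e2, e3, ← hβ, h6] at h7
    apply hv
    apply injective (σ := σ) g
    rw [h7, map_zero]

theorem Stab.false (S : Stab σ v0) (hv : v0 ≠ 0) (h2 : (2 : K) = 0)
    (PU : ∀ w, σ c0 w = w → σ h0 w = w → ∃ l : K, w = l • v0)
    (P5 : ∀ v, σ cc v = v → v = 0) (P5' : ∀ v, σ q2 v = v → v = 0) (P9 : ∀ v, σ x1 v = v → σ y1 v = v → v = 0)
    (P9' : ∀ v, σ x2 v = v → σ y1 v = v → v = 0) : False := by
  obtain ⟨lm, hb⟩ := S.base PU
  have hl := S.lam hv h2 hb P5 P5'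
  subst hl
  have symA := @Stab.symA K _ V _ _ σ v0 S
  have symB := @Stab.symB K _ V _ _ σ v0 S
  have symC := @Stab.symC K _ V _ _ σ v0 S
  obtain ⟨β, hβ⟩ : ∃ β, β = Bv σ v0 := ⟨_, rfl⟩
  rw [← hβ] at symA symB symC
  have s1 : β 0 3 1 4 + β 0 4 1 5 + β 0 5 1 3 + β 1 3 2 4 + β 1 4 2 5 + β 1 5 2 3 + β 2 3 0 4 + β 2 4 0 5 + β 2 5 0 3 = 0 := by
    apply P9
    · simp only [map_add]
      rw [show σ x1 (β 0 3 1 4) = β 1 3 2 4 from hβ ▸ S.act (g := x1) (i := 0) (j := 3) (k := 1) (l := 4) (i' := 1) (j' := 3) (k' := 2) (l' := 4) (by decide +kernel),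
        show σ x1 (β 0 4 1 5) = β 1 4 2 5 from hβ ▸ S.act (g := x1) (i := 0) (j := 4) (k := 1) (l := 5) (i' := 1) (j' := 4) (k' := 2) (l' := 5) (by decide +kernel),
        show σ x1 (β 0 5 1 3) = β 1 5 2 3 from hβ ▸ S.act (g := x1) (i := 0) (j := 5) (k := 1) (l := 3) (i' := 1) (j' := 5) (k' := 2) (l' := 3) (by decide +kernel),
        show σ x1 (β 1 3 2 4) = β 2 3 0 4 from hβ ▸ S.act (g := x1) (i := 1) (j := 3) (k := 2) (l := 4) (i' := 2) (j' := 3) (k' := 0) (l' := 4) (by decide +kernel),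
        show σ x1 (β 1 4 2 5) = β 2 4 0 5 from hβ ▸ S.act (g := x1) (i := 1) (j := 4) (k := 2) (l := 5) (i' := 2) (j' := 4) (k' := 0) (l' := 5) (by decide +kernel),
        show σ x1 (β 1 5 2 3) = β 2 5 0 3 from hβ ▸ S.act (g := x1) (i := 1) (j := 5) (k := 2) (l := 3) (i' := 2) (j' := 5) (k' := 0) (l' := 3) (by decide +kernel),
        show σ x1 (β 2 3 0 4) = β 0 3 1 4 from hβ ▸ S.act (g := x1) (i := 2) (j := 3) (k := 0) (l := 4) (i' := 0) (j' := 3) (k' := 1) (l' := 4) (by decide +kernel),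
        show σ x1 (β 2 4 0 5) = β 0 4 1 5 from hβ ▸ S.act (g := x1) (i := 2) (j := 4) (k := 0) (l := 5) (i' := 0) (j' := 4) (k' := 1) (l' := 5) (by decide +kernel),
        show σ x1 (β 2 5 0 3) = β 0 5 1 3 from hβ ▸ S.act (g := x1) (i := 2) (j := 5) (k := 0) (l := 3) (i' := 0) (j' := 5) (k' := 1) (l' := 3) (by decide +kernel)]
      abel
    · simp only [map_add]
      rw [show σ y1 (β 0 3 1 4) = β 0 4 1 5 from hβ ▸ S.act (g := y1) (i := 0) (j := 3) (k := 1) (l := 4) (i' := 0) (j' := 4) (k' := 1) (l' := 5) (by decide +kernel),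
        show σ y1 (β 0 4 1 5) = β 0 5 1 3 from hβ ▸ S.act (g := y1) (i := 0) (j := 4) (k := 1) (l := 5) (i' := 0) (j' := 5) (k' := 1) (l' := 3) (by decide +kernel),
        show σ y1 (β 0 5 1 3) = β 0 3 1 4 from hβ ▸ S.act (g := y1) (i := 0) (j := 5) (k := 1) (l := 3) (i' := 0) (j' := 3) (k' := 1) (l' := 4) (by decide +kernel),
        show σ y1 (β 1 3 2 4) = β 1 4 2 5 from hβ ▸ S.act (g := y1) (i := 1) (j := 3) (k := 2) (l := 4) (i' := 1) (j' := 4) (k' := 2) (l' := 5) (by decide +kernel),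
        show σ y1 (β 1 4 2 5) = β 1 5 2 3 from hβ ▸ S.act (g := y1) (i := 1) (j := 4) (k := 2) (l := 5) (i' := 1) (j' := 5) (k' := 2) (l' := 3) (by decide +kernel),
        show σ y1 (β 1 5 2 3) = β 1 3 2 4 from hβ ▸ S.act (g := y1) (i := 1) (j := 5) (k := 2) (l := 3) (i' := 1) (j' := 3) (k' := 2) (l' := 4) (by decide +kernel),
        show σ y1 (β 2 3 0 4) = β 2 4 0 5 from hβ ▸ S.act (g := y1) (i := 2) (j := 3) (k := 0) (l := 4) (i' := 2) (j' := 4) (k' := 0) (l' := 5) (by decide +kernel),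
        show σ y1 (β 2 4 0 5) = β 2 5 0 3 from hβ ▸ S.act (g := y1) (i := 2) (j := 4) (k := 0) (l := 5) (i' := 2) (j' := 5) (k' := 0) (l' := 3) (by decide +kernel),
        show σ y1 (β 2 5 0 3) = β 2 3 0 4 from hβ ▸ S.act (g := y1) (i := 2) (j := 5) (k := 0) (l := 3) (i' := 2) (j' := 3) (k' := 0) (l' := 4) (by decide +kernel)]
      abel
  have s2 : β 0 3 1 4 + β 0 4 1 5 + β 0 5 1 3 + β 1 3 6 4 + β 1 4 6 5 + β 1 5 6 3 + β 6 3 0 4 + β 6 4 0 5 + β 6 5 0 3 = 0 := by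
    apply P9'
    · simp only [map_add]
      rw [show σ x2 (β 0 3 1 4) = β 1 3 6 4 from hβ ▸ S.act (g := x2) (i := 0) (j := 3) (k := 1) (l := 4) (i' := 1) (j' := 3) (k' := 6) (l' := 4) (by decide +kernel),
        show σ x2 (β 0 4 1 5) = β 1 4 6 5 from hβ ▸ S.act (g := x2) (i := 0) (j := 4) (k := 1) (l := 5) (i' := 1) (j' := 4) (k' := 6) (l' := 5) (by decide +kernel),
        show σ x2 (β 0 5 1 3) = β 1 5 6 3 from hβ ▸ S.act (g := x2) (i := 0) (j := 5) (k := 1) (l := 3) (i' := 1) (j' := 5) (k' := 6) (l' := 3) (by decide +kernel),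
        show σ x2 (β 1 3 6 4) = β 6 3 0 4 from hβ ▸ S.act (g := x2) (i := 1) (j := 3) (k := 6) (l := 4) (i' := 6) (j' := 3) (k' := 0) (l' := 4) (by decide +kernel),
        show σ x2 (β 1 4 6 5) = β 6 4 0 5 from hβ ▸ S.act (g := x2) (i := 1) (j := 4) (k := 6) (l := 5) (i' := 6) (j' := 4) (k' := 0) (l' := 5) (by decide +kernel),
        show σ x2 (β 1 5 6 3) = β 6 5 0 3 from hβ ▸ S.act (g := x2) (i := 1) (j := 5) (k := 6) (l := 3) (i' := 6) (j' := 5) (k' := 0) (l' := 3) (by decide +kernel),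
        show σ x2 (β 6 3 0 4) = β 0 3 1 4 from hβ ▸ S.act (g := x2) (i := 6) (j := 3) (k := 0) (l := 4) (i' := 0) (j' := 3) (k' := 1) (l' := 4) (by decide +kernel),
        show σ x2 (β 6 4 0 5) = β 0 4 1 5 from hβ ▸ S.act (g := x2) (i := 6) (j := 4) (k := 0) (l := 5) (i' := 0) (j' := 4) (k' := 1) (l' := 5) (by decide +kernel),
        show σ x2 (β 6 5 0 3) = β 0 5 1 3 from hβ ▸ S.act (g := x2) (i := 6) (j := 5) (k := 0) (l := 3) (i' := 0) (j' := 5) (k' := 1) (l' := 3) (by decide +kernel)]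
      abel
    · simp only [map_add]
      rw [show σ y1 (β 0 3 1 4) = β 0 4 1 5 from hβ ▸ S.act (g := y1) (i := 0) (j := 3) (k := 1) (l := 4) (i' := 0) (j' := 4) (k' := 1) (l' := 5) (by decide +kernel),
        show σ y1 (β 0 4 1 5) = β 0 5 1 3 from hβ ▸ S.act (g := y1) (i := 0) (j := 4) (k := 1) (l := 5) (i' := 0) (j' := 5) (k' := 1) (l' := 3) (by decide +kernel),
        show σ y1 (β 0 5 1 3) = β 0 3 1 4 from hβ ▸ S.act (g := y1) (i := 0) (j := 5) (k := 1) (l := 3) (i' := 0) (j' := 3) (k' := 1) (l' := 4) (by decide +kernel),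
        show σ y1 (β 1 3 6 4) = β 1 4 6 5 from hβ ▸ S.act (g := y1) (i := 1) (j := 3) (k := 6) (l := 4) (i' := 1) (j' := 4) (k' := 6) (l' := 5) (by decide +kernel),
        show σ y1 (β 1 4 6 5) = β 1 5 6 3 from hβ ▸ S.act (g := y1) (i := 1) (j := 4) (k := 6) (l := 5) (i' := 1) (j' := 5) (k' := 6) (l' := 3) (by decide +kernel),
        show σ y1 (β 1 5 6 3) = β 1 3 6 4 from hβ ▸ S.act (g := y1) (i := 1) (j := 5) (k := 6) (l := 3) (i' := 1) (j' := 3) (k' := 6) (l' := 4) (by decide +kernel),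
        show σ y1 (β 6 3 0 4) = β 6 4 0 5 from hβ ▸ S.act (g := y1) (i := 6) (j := 3) (k := 0) (l := 4) (i' := 6) (j' := 4) (k' := 0) (l' := 5) (by decide +kernel),
        show σ y1 (β 6 4 0 5) = β 6 5 0 3 from hβ ▸ S.act (g := y1) (i := 6) (j := 4) (k := 0) (l := 5) (i' := 6) (j' := 5) (k' := 0) (l' := 3) (by decide +kernel),
        show σ y1 (β 6 5 0 3) = β 6 3 0 4 from hβ ▸ S.act (g := y1) (i := 6) (j := 5) (k := 0) (l := 3) (i' := 6) (j' := 3) (k' := 0) (l' := 4) (by decide +kernel)]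
      abel
  have w1 : β 2 4 1 3 + β 4 6 1 3 + β 6 2 1 3 = 0 := by
    have := S.W hb (i := 2) (j := 4) (m := 6) (k := 1) (l := 3) (p := 0) (q := 5) (by decide)
    rwa [← hβ, zero_smul] at this
  have w2 : β 2 3 0 4 + β 3 6 0 4 + β 6 2 0 4 = 0 := by
    have := S.W hb (i := 2) (j := 3) (m := 6) (k := 0) (l := 4) (p := 1) (q := 5) (by decide)
    rwa [← hβ, zero_smul] at this
  have w3 : β 0 1 2 6 + β 1 3 2 6 + β 3 0 2 6 = 0 := by
    have := S.W hb (i := 0) (j := 1) (m := 3) (k := 2) (l := 6) (p := 4) (q := 5) (by decide)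
    rwa [← hβ, zero_smul] at this
  have w4 : β 2 5 1 4 + β 5 6 1 4 + β 6 2 1 4 = 0 := by
    have := S.W hb (i := 2) (j := 5) (m := 6) (k := 1) (l := 4) (p := 0) (q := 3) (by decide)
    rwa [← hβ, zero_smul] at this
  have w5 : β 2 4 0 5 + β 4 6 0 5 + β 6 2 0 5 = 0 := by
    have := S.W hb (i := 2) (j := 4) (m := 6) (k := 0) (l := 5) (p := 1) (q := 3) (by decide)
    rwa [← hβ, zero_smul] at this
  have w6 : β 0 1 2 6 + β 1 4 2 6 + β 4 0 2 6 = 0 := by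
    have := S.W hb (i := 0) (j := 1) (m := 4) (k := 2) (l := 6) (p := 3) (q := 5) (by decide)
    rwa [← hβ, zero_smul] at this
  have w7 : β 2 3 1 5 + β 3 6 1 5 + β 6 2 1 5 = 0 := by
    have := S.W hb (i := 2) (j := 3) (m := 6) (k := 1) (l := 5) (p := 0) (q := 4) (by decide)
    rwa [← hβ, zero_smul] at this
  have w8 : β 2 5 0 3 + β 5 6 0 3 + β 6 2 0 3 = 0 := by
    have := S.W hb (i := 2) (j := 5) (m := 6) (k := 0) (l := 3) (p := 1) (q := 4) (by decide)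
    rwa [← hβ, zero_smul] at this
  have w9 : β 0 1 2 6 + β 1 5 2 6 + β 5 0 2 6 = 0 := by
    have := S.W hb (i := 0) (j := 1) (m := 5) (k := 2) (l := 6) (p := 3) (q := 4) (by decide)
    rwa [← hβ, zero_smul] at this
  have e5 : β 2 3 0 4 = β 0 4 2 3 := by rw [symC (i := 2) (j := 3) (k := 0) (l := 4) (by decide)]
  have e6 : β 2 4 0 5 = β 0 5 2 4 := by rw [symC (i := 2) (j := 4) (k := 0) (l := 5) (by decide)]
  have e7 : β 2 5 0 3 = β 0 3 2 5 := by rw [symC (i := 2) (j := 5) (k := 0) (l := 3) (by decide)]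
  have e8 : β 1 3 6 4 = β 1 3 4 6 := by rw [symB (i := 1) (j := 3) (k := 6) (l := 4) (by decide)]
  have e9 : β 1 4 6 5 = β 1 4 5 6 := by rw [symB (i := 1) (j := 4) (k := 6) (l := 5) (by decide)]
  have e10 : β 1 5 6 3 = β 1 5 3 6 := by rw [symB (i := 1) (j := 5) (k := 6) (l := 3) (by decide)]
  have e11 : β 6 3 0 4 = β 0 4 3 6 := by rw [symA (i := 6) (j := 3) (k := 0) (l := 4) (by decide), symC (i := 3) (j := 6) (k := 0) (l := 4) (by decide)]
  have e12 : β 6 4 0 5 = β 0 5 4 6 := by rw [symA (i := 6) (j := 4) (k := 0) (l := 5) (by decide), symC (i := 4) (j := 6) (k := 0) (l := 5) (by decide)]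
  have e13 : β 6 5 0 3 = β 0 3 5 6 := by rw [symA (i := 6) (j := 5) (k := 0) (l := 3) (by decide), symC (i := 5) (j := 6) (k := 0) (l := 3) (by decide)]
  have e14 : β 2 4 1 3 = β 1 3 2 4 := by rw [symC (i := 2) (j := 4) (k := 1) (l := 3) (by decide)]
  have e15 : β 4 6 1 3 = β 1 3 4 6 := by rw [symC (i := 4) (j := 6) (k := 1) (l := 3) (by decide)]
  have e16 : β 6 2 1 3 = β 1 3 2 6 := by rw [symA (i := 6) (j := 2) (k := 1) (l := 3) (by decide), symC (i := 2) (j := 6) (k := 1) (l := 3) (by decide)]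
  have e17 : β 3 6 0 4 = β 0 4 3 6 := by rw [symC (i := 3) (j := 6) (k := 0) (l := 4) (by decide)]
  have e18 : β 6 2 0 4 = β 0 4 2 6 := by rw [symA (i := 6) (j := 2) (k := 0) (l := 4) (by decide), symC (i := 2) (j := 6) (k := 0) (l := 4) (by decide)]
  have e19 : β 3 0 2 6 = β 0 3 2 6 := by rw [symA (i := 3) (j := 0) (k := 2) (l := 6) (by decide)]
  have e20 : β 2 5 1 4 = β 1 4 2 5 := by rw [symC (i := 2) (j := 5) (k := 1) (l := 4) (by decide)]
  have e21 : β 5 6 1 4 = β 1 4 5 6 := by rw [symC (i := 5) (j := 6) (k := 1) (l := 4) (by decide)]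
  have e22 : β 6 2 1 4 = β 1 4 2 6 := by rw [symA (i := 6) (j := 2) (k := 1) (l := 4) (by decide), symC (i := 2) (j := 6) (k := 1) (l := 4) (by decide)]
  have e23 : β 4 6 0 5 = β 0 5 4 6 := by rw [symC (i := 4) (j := 6) (k := 0) (l := 5) (by decide)]
  have e24 : β 6 2 0 5 = β 0 5 2 6 := by rw [symA (i := 6) (j := 2) (k := 0) (l := 5) (by decide), symC (i := 2) (j := 6) (k := 0) (l := 5) (by decide)]
  have e25 : β 4 0 2 6 = β 0 4 2 6 := by rw [symA (i := 4) (j := 0) (k := 2) (l := 6) (by decide)]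
  have e26 : β 2 3 1 5 = β 1 5 2 3 := by rw [symC (i := 2) (j := 3) (k := 1) (l := 5) (by decide)]
  have e27 : β 3 6 1 5 = β 1 5 3 6 := by rw [symC (i := 3) (j := 6) (k := 1) (l := 5) (by decide)]
  have e28 : β 6 2 1 5 = β 1 5 2 6 := by rw [symA (i := 6) (j := 2) (k := 1) (l := 5) (by decide), symC (i := 2) (j := 6) (k := 1) (l := 5) (by decide)]
  have e29 : β 5 6 0 3 = β 0 3 5 6 := by rw [symC (i := 5) (j := 6) (k := 0) (l := 3) (by decide)]
  have e30 : β 6 2 0 3 = β 0 3 2 6 := by rw [symA (i := 6) (j := 2) (k := 0) (l := 3) (by decide), symC (i := 2) (j := 6) (k := 0) (l := 3) (by decide)]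
  have e31 : β 5 0 2 6 = β 0 5 2 6 := by rw [symA (i := 5) (j := 0) (k := 2) (l := 6) (by decide)]
  rw [e5, e6, e7] at s1
  rw [e8, e9, e10, e11, e12, e13] at s2
  rw [e14, e15, e16] at w1
  rw [e5, e17, e18] at w2
  rw [e19] at w3
  rw [e20, e21, e22] at w4
  rw [e6, e23, e24] at w5
  rw [e25] at w6
  rw [e26, e27, e28] at w7
  rw [e7, e29, e30] at w8
  rw [e31] at w9
  have h3 : β 0 1 2 6 = 0 := by
    linear_combination (norm := module) s1 + s2 + w1 + w2 + w3 + w4 + w5 + w6 + w7 + w8 + w9 - h2 • (β 0 3 1 4 + β 0 4 1 5 + β 0 5 1 3 + β 1 3 2 4 + β 1 4 2 5 + β 1 5 2 3 + β 0 4 2 3 + β 0 5 2 4 + β 0 3 2 5 + β 1 3 4 6 + β 1 4 5 6 + β 1 5 3 6 + β 0 4 3 6 + β 0 5 4 6 + β 0 3 5 6 + β 1 3 2 6 + β 0 4 2 6 + β 0 1 2 6 + β 0 3 2 6 + β 1 4 2 6 + β 0 5 2 6 + β 1 5 2 6)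
  obtain ⟨g, e0, e1, e2, e3⟩ := tup4 (i := 0) (j := 1) (k := 2) (l := 6) (by decide)
  have h7 := S.eq g
  rw [e0, e1, e2, e3, ← hβ, h3] at h7
  apply hv
  apply injective (σ := σ) g
  rw [h7, map_zero]

end Cfsg.Agent.H906.A7T
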