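import Cfsg.Agent.H906.A7TwoC

/-!
# `A₇` has no self-dual irreducible representation of dimension `12`, characteristic two
-/

set_option autoImplicit false
set_option linter.unusedSectionVars false
set_option maxRecDepth 10000

namespace Cfsg.Agent.H906.A7T

open Module Equiv Cfsg.Agent.H637.JW Cfsg.Agent.H882.Dim Cfsg.Agent.H882.Sc Cfsg.Agent.H923.Ten.A7

variable {K : Type*} [Field K] {V : Type*} [AddCommGroup V] [Module K V] [FiniteDimensional K V]
  {σ : A →* Module.End K V}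

theorem res3 : ∀ j : ZMod 3, j ≠ 0 → ∃ i : Fin 3, j = ((2 : ℕ) : ZMod 3) ^ (i : ℕ) ∨ j = -((2 : ℕ) : ZMod 3) ^ (i : ℕ) := by
  decide

theorem zero_of_finrank {U : Submodule K V} (h : finrank K U = 0) {v : V} (hv : v ∈ U) : v = 0 := by
  rw [Submodule.finrank_eq_zero] at h
  rw [h] at hv
  exact (Submodule.mem_bot K).1 hv

/-- involutions in characteristic two have fixed vectors -/
theorem exists_inv (h2 : (2 : K) = 0) {U : Submodule K V} (hU : U ≠ ⊥) {t : A} (ht : t * t = 1)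
    (hinv : ∀ v ∈ U, σ t v ∈ U) : (U ⊓ Fix σ t : Submodule K V) ≠ ⊥ := by
  obtain ⟨v, hv, hv0⟩ := Submodule.exists_mem_ne_zero_of_ne_bot hU
  have tt : σ t (σ t v) = v := by rw [← mul_apply', ht, act_one]
  intro hb
  have key : ∀ w ∈ U, σ t w = w → w = 0 := by
    intro w hw h1
    have : w ∈ (U ⊓ Fix σ t : Submodule K V) := ⟨hw, mem_Fix.2 h1⟩
    rw [hb] at this
    exact (Submodule.mem_bot K).1 this
  have h3 := key (v + σ t v) (U.add_mem hv (hinv v hv)) (by rw [map_add, tt, add_comm])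
  apply hv0
  apply key v hv
  linear_combination (norm := module) h3 - h2 • v

/-- the vectors fixed by the three-cycle `(4 5 6)` -/
theorem exists_stab (h2 : (2 : K) = 0) (hU : Fix σ c0 ≠ ⊥) : ∃ v0 : V, v0 ≠ 0 ∧ Stab σ v0 := by
  have n1 := exists_inv (σ := σ) h2 hU (t := a0) (by decide +kernel) (fun v hv => fix_le_of_comm (by decide +kernel) hv)
  have n2 := exists_inv (σ := σ) h2 n1 (t := b0) (by decide +kernel) (fun v hv =>
    ⟨fix_le_of_comm (by decide +kernel) hv.1, fix_le_of_comm (by decide +kernel) hv.2⟩)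
  have n3 := exists_inv (σ := σ) h2 n2 (t := h0) (by decide +kernel) (fun v hv => by
    have e1 := mem_Fix.1 hv.1.1
    have e2 := mem_Fix.1 hv.1.2
    have e3 := mem_Fix.1 hv.2
    refine ⟨⟨?_, ?_⟩, ?_⟩
    · show σ h0 v ∈ Fix σ c0
      rw [mem_Fix, ← mul_apply', show c0 * h0 = h0 * (c0 * c0) by decide +kernel, mul_apply', mul_apply', e1, e1]
    · show σ h0 v ∈ Fix σ a0
      rw [mem_Fix, ← mul_apply', show a0 * h0 = h0 * a0 by decide +kernel, mul_apply', e2]
    · show σ h0 v ∈ Fix σ b0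
      rw [mem_Fix, ← mul_apply', show b0 * h0 = h0 * (a0 * b0) by decide +kernel, mul_apply', mul_apply', e3, e2])
  obtain ⟨v, hv, hv0⟩ := Submodule.exists_mem_ne_zero_of_ne_bot n3
  exact ⟨v, hv0, ⟨mem_Fix.1 hv.1.1.1, mem_Fix.1 hv.1.1.2, mem_Fix.1 hv.1.2, mem_Fix.1 hv.2⟩⟩

theorem uniq (hU : finrank K (Fix σ c0) = 2) (hd : ∀ v, σ d0 v = v → σ c0 v = v → v = 0) {v0 : V} (hv : v0 ≠ 0)
    (hc : σ c0 v0 = v0) (hh : σ h0 v0 = v0) (w : V) (h1 : σ c0 w = w) (h2 : σ h0 w = w) : ∃ l : K, w = l • v0 := by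
  obtain ⟨T, hT⟩ : ∃ T : Submodule K V, T = Fix σ c0 ⊓ Fix σ h0 := ⟨_, rfl⟩
  have hle : T ≤ Fix σ c0 := hT ▸ inf_le_left
  have hne : T ≠ Fix σ c0 := by
    intro e
    apply hv
    have hall : ∀ u, σ c0 u = u → σ h0 u = u := by
      intro u hu
      have : u ∈ T := by rw [e]; exact mem_Fix.2 hu
      rw [hT] at this
      exact mem_Fix.1 this.2
    refine hd v0 ?_ hc
    have k1 : σ c0 (σ d0 v0) = σ d0 v0 := by
      rw [← mul_apply', show c0 * d0 = d0 * c0 by decide +kernel, mul_apply', hc]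
    have k2 := hall _ k1
    rw [← mul_apply', show h0 * d0 = d0 * d0 * h0 by decide +kernel, mul_apply', hh, mul_apply'] at k2
    exact injective (σ := σ) d0 k2
  have hlt := Submodule.finrank_lt_finrank_of_lt (lt_of_le_of_ne hle hne)
  have hs : (K ∙ v0) ≤ T := by
    rw [Submodule.span_singleton_le_iff_mem, hT]
    exact ⟨mem_Fix.2 hc, mem_Fix.2 hh⟩
  have hse : (K ∙ v0) = T := Submodule.eq_of_le_of_finrank_le hs (by rw [finrank_span_singleton hv]; omega)
  have hw : w ∈ T := by rw [hT]; exact ⟨mem_Fix.2 h1, mem_Fix.2 h2⟩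
  rw [← hse, Submodule.mem_span_singleton] at hw
  obtain ⟨l, hl⟩ := hw
  exact ⟨l, hl.symm⟩

theorem twelve_two [IsAlgClosed K] (h2 : (2 : K) = 0) (hI : Irr σ) {B : V →ₗ[K] V →ₗ[K] K} (hB : Form σ B)
    (hV : finrank K V = 12) : False := by
  have hch : CharP K 2 := A7.charP_of_zero (by norm_num) (by exact_mod_cast h2)
  have hf2 : Fact (Nat.Prime 2) := ⟨by norm_num⟩
  have hf3 : Fact (Nat.Prime 3) := ⟨by norm_num⟩
  have hf5 : Fact (Nat.Prime 5) := ⟨by norm_num⟩
  have hf7 : Fact (Nat.Prime 7) := ⟨by norm_num⟩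
  have h3 : (3 : K) ≠ 0 := by
    have : (3 : K) = 1 := by linear_combination h2
    rw [this]; exact one_ne_zero
  have h5 : (5 : K) ≠ 0 := by
    have : (5 : K) = 1 := by linear_combination 2 * h2
    rw [this]; exact one_ne_zero
  have h7 : (7 : K) ≠ 0 := by
    have : (7 : K) = 1 := by linear_combination 3 * h2
    rw [this]; exact one_ne_zero
  have h3' : ((3 : ℕ) : K) ≠ 0 := by exact_mod_cast h3
  have h5' : ((5 : ℕ) : K) ≠ 0 := by exact_mod_cast h5
  have h7' : ((7 : ℕ) : K) ≠ 0 := by exact_mod_cast h7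
  -- elements of order seven
  obtain ⟨m, hm⟩ := eig hB (c := A7.c) (y := A7.yc) (r := 7) (k := 2) h7' (by decide +kernel) (by decide +kernel) A7.res7
  have z1 := le_of_char (σ := σ) (p := 2) (c := A7.z) (by decide +kernel)
  have s7 := hI.scott A7.gen_zc
  have e7 : finrank K (Fix σ (A7.z * A7.c)) = finrank K (Fix σ (A7.c ^ 3)) :=
    fix_conj (k := e2 1 2 1 4 * e2 1 5 5 6) (by decide +kernel)
  have e7' : Fix σ (A7.c ^ 3) = Fix σ A7.c := by
    ext v
    rw [mem_Fix, mem_Fix]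
    constructor
    · intro h
      rw [show A7.c = A7.c ^ 3 * (A7.c ^ 3 * (A7.c ^ 3 * (A7.c ^ 3 * A7.c ^ 3))) by decide +kernel]
      simp only [mul_apply', h]
    · intro h
      rw [show A7.c ^ 3 = A7.c * (A7.c * A7.c) by decide +kernel]
      simp only [mul_apply', h]
  rw [e7, e7'] at s7
  have f7 : finrank K (Fix σ A7.c) = 0 := by omega
  have y7 := f21 (σ := σ) h3 h7 (c := A7.c) (y := A7.yc) (by decide +kernel) (by decide +kernel) (by decide +kernel)
    (fun v hv => zero_of_finrank f7 (mem_Fix.2 hv))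
  -- elements of order five
  obtain ⟨m5, hm5⟩ := eig hB (c := cc) (y := gg) (r := 5) (k := 2) h5' (by decide +kernel) (by decide +kernel) A7.res5
  have s5 := scott_sub (σ := σ) hB (x := xa) (y := ya) (nf_a hI (by omega))
  have q1 : finrank K (Fix σ xa) = finrank K (Fix σ A7.z) := fix_conj (k := e2 1 5 3 4) (by decide +kernel)
  have q2 : finrank K (Fix σ ya) = finrank K (Fix σ cc) := fix_conj (k := e2 1 2 1 5 * e2 2 3 2 4) (by decide +kernel)
  have q3 : finrank K (Fix σ (xa * ya)) = finrank K (Fix σ cc) :=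
    fix_conj (k := e2 0 1 1 2 * e2 1 3 2 5) (by decide +kernel)
  have f5 : finrank K (Fix σ cc) = 0 := by omega
  -- elements of order three
  obtain ⟨m3, hm3⟩ := eig hB (c := A7.p1) (y := A7.t1) (r := 3) (k := 2) h3' (by decide +kernel) (by decide +kernel) res3
  have e9 := nine' (σ := σ) h3 (x := A7.p1) (y := A7.p2) (by decide +kernel) (by decide +kernel) (by decide +kernel)
  have r1 : finrank K (Fix σ A7.p2) = finrank K (Fix σ A7.p1) :=
    fix_conj (k := e2 0 3 1 4 * e2 4 2 2 5) (by decide +kernel)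
  have r2 : finrank K (Fix σ (A7.p1 * A7.p2)) = finrank K (Fix σ A7.x) := by
    rw [show A7.p1 * A7.p2 = A7.x by decide +kernel]
  have r3 : finrank K (Fix σ (A7.p1 * A7.p1 * A7.p2)) = finrank K (Fix σ A7.x) :=
    fix_conj (k := e2 0 3 1 4 * e2 4 2 2 5) (by decide +kernel)
  have r4 : finrank K (Fix σ A7.yc) = finrank K (Fix σ A7.x) := fix_conj (k := e2 0 1 0 3 * e2 1 6 2 5) (by decide +kernel)
  have s3 := scott_sub (σ := σ) hB (x := xc) (y := yc) (nf_c hI (by omega))
  have r5 : finrank K (Fix σ xc) = finrank K (Fix σ A7.p1) := fix_conj (k := e2 0 3 1 4) (by decide +kernel)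
  have r6 : finrank K (Fix σ yc) = finrank K (Fix σ A7.x) := fix_conj (k := e2 0 3 2 5) (by decide +kernel)
  have z4 := le_four (σ := σ) (c := xc * yc) (by decide +kernel)
  have t1 : finrank K (Fix σ A7.p1) = 2 := by omega
  have t9 : finrank K (Fix σ A7.p1 ⊓ Fix σ A7.p2 : Submodule K V) = 0 := by omega
  have tc : finrank K (Fix σ c0) = 2 := by
    rw [← t1]
    exact fix_conj (k := e2 0 3 0 4 * e2 1 5 2 6) (by decide +kernel)
  -- pairs of commuting three-cycles
  have P9 : ∀ v, σ A7.p1 v = v → σ A7.p2 v = v → v = 0 := fun v h1 h2 =>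
    zero_of_finrank t9 ⟨mem_Fix.2 h1, mem_Fix.2 h2⟩
  have P9' : ∀ {x y k : A}, A7.p1 * k = k * x → A7.p2 * k = k * (y * y) → ∀ v, σ x v = v → σ y v = v → v = 0 := by
    intro x y k e1 e2 v h1 h2
    have h3 := P9 (σ k v) (by rw [← mul_apply', e1, mul_apply', h1]) (by rw [← mul_apply', e2, mul_apply', mul_apply', h2, h2])
    exact injective (σ := σ) k (h3.trans (map_zero _).symm)
  obtain ⟨v0, hv0, S⟩ := exists_stab (σ := σ) h2 (fun h => by
    rw [h, finrank_bot] at tc
    exact absurd tc (by norm_num))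
  refine S.false hv0 h2 (uniq tc ?_ hv0 S.c S.h) ?_ ?_ P9 ?_
  · exact P9' (k := e2 3 4 3 6) (by decide +kernel) (by decide +kernel)
  · exact fun v hv => zero_of_finrank f5 (mem_Fix.2 hv)
  · have : finrank K (Fix σ A7T.q2) = finrank K (Fix σ cc) := fix_conj (k := e2 3 4 5 6) (by decide +kernel)
    rw [f5] at this
    exact fun v hv => zero_of_finrank this (mem_Fix.2 hv)
  · exact P9' (k := e2 2 6 4 5) (by decide +kernel) (by decide +kernel)

end Cfsg.Agent.H906.A7T
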