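import Cfsg.Agent.H906.Cover

/-!
# The rank-one argument for covers (helper906)
-/

set_option autoImplicit false
set_option linter.unusedSectionVars false

namespace Cfsg.Agent.H906

open Cfsg Cfsg.Geo
open scoped MatrixGroups Matrix commutatorElement

section

variable {F : Type*} [Field F] {G X : Type*} [Group G] [Group X]
variable {ρ : G →* Matrix (Fin 3) (Fin 3) F} {τ : G →* X} {N : Subgroup X} {d : ℕ}

/-- **Rank one in a cover.** -/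
theorem Cover.rankOne [Finite F] [Finite G] (p : ℕ) [Fact p.Prime] [CharP F p]
    (hc : Cover ρ τ N d) (hpd : p.Coprime d)
    (hnorm : ∀ M : Subgroup G, M.Normal → (∃ x ∈ M, τ x ∉ N) → ∀ g, ∃ x ∈ M, ρ g = ρ x)
    {B U : Subgroup X} {w t : X} (hww : w * w = 1)
    (hbr : ∀ g, g ∈ B ∨ ∃ b₁ ∈ B, ∃ b₂ ∈ B, g = b₁ * w * b₂)
    (hUB : U ≤ B) (hUn : ∀ b ∈ B, ∀ u ∈ U, b⁻¹ * u * b ∈ U) (hU : IsPGroup p U)
    (htB : t ∈ B) (hBt : ∀ b ∈ B, ∃ u ∈ U, ∃ k : ℕ, b = u * t ^ k)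
    (hx : ∃ u ∈ U, u ∉ N)
    (m : ℕ) (hwt : w⁻¹ * t * w = (t ^ m)⁻¹) (htm : t ^ (m * m) = t)
    (hd : d = 1 ∨ (d = 3 ∧ 3 ∣ m + 1 ∧ ∃ k, m * m = 1 + 3 * k ∧ t ^ k ∈ N))
    (σ : F ≃+* F) (hσ : ∀ x, σ x = x ^ m) (g : G) :
    σ (ρ g).trace = (ρ g⁻¹).trace := by
  classical
  obtain ⟨S, hS, hSs, hSp⟩ := exists_lift p hc.surj hc.central hc.pow hpd U hU
  obtain ⟨w1, hw1⟩ := hc.surj w
  obtain ⟨t1, ht1⟩ := hc.surj t
  set K := τ.ker with hK
  -- arithmetic in the kernel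
  have hkm : ∀ k ∈ K, k ^ (m * m) = k := by
    intro k hk
    have h1 := hc.pow k hk
    rcases hd with rfl | ⟨rfl, h3, k', hk', -⟩
    · rw [pow_one] at h1; rw [h1, one_pow]
    · rw [hk', pow_add, pow_one, pow_mul, h1, one_pow, mul_one]
  have hkm1 : ∀ k ∈ K, k * k ^ m = 1 := by
    intro k hk
    have h1 := hc.pow k hk
    rcases hd with rfl | ⟨rfl, ⟨l, hl⟩, -⟩
    · rw [pow_one] at h1; rw [h1, one_pow, one_mul]
    · rw [← pow_succ', hl, pow_mul, h1, one_pow]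
  have hww1 : w1 * w1 ∈ K := by
    rw [hK, MonoidHom.mem_ker, map_mul, hw1, hww]
  -- `t1 ^ (m * m) = t1`
  have ht1m : t1 ^ (m * m) = t1 := by
    rcases hd with hd1 | ⟨hd3, -, k, hk, hkN⟩
    · have h1 : t1 ^ (m * m) * t1⁻¹ ∈ K := by
        rw [hK, MonoidHom.mem_ker, map_mul, map_pow, map_inv, ht1, htm, mul_inv_cancel]
      have h2 := hc.pow _ h1
      rw [hd1, pow_one] at h2
      exact mul_inv_eq_one.1 h2
    · obtain ⟨y, hy, hy1⟩ := hc.ker_lift _ hkN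
      have h1 : y⁻¹ * t1 ^ k ∈ K := by
        rw [hK, MonoidHom.mem_ker, map_mul, map_inv, hy, map_pow, ht1, inv_mul_cancel]
      have h2 := hc.pow _ h1
      rw [hd3] at h2
      have h3 : (t1 ^ k) ^ 3 = y ^ 3 := by
        have h4 : t1 ^ k = y * (y⁻¹ * t1 ^ k) := by group
        have h5 : Commute y (y⁻¹ * t1 ^ k) := hc.central _ h1 y
        rw [h4, h5.mul_pow, h2, mul_one]
      have h4 : y ^ 3 = 1 := by
        apply hc.faithful
        · rw [map_pow, hy, ← pow_mul, mul_comm k 3]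
          have h5 : t ^ (1 + 3 * k) = t := by rw [← hk, htm]
          rw [pow_add, pow_one] at h5
          exact mul_eq_left.1 h5
        · rw [map_pow, hy1, one_pow]
      rw [hk, pow_add, pow_one, mul_comm 3 k, pow_mul, h3, h4, mul_one]
  -- the action of `w1` on `t1`
  obtain ⟨k0, hk0, hk0e⟩ : ∃ k ∈ K, w1⁻¹ * t1 * w1 = (t1 ^ m)⁻¹ * k := by
    refine ⟨t1 ^ m * (w1⁻¹ * t1 * w1), ?_, by group⟩
    rw [hK, MonoidHom.mem_ker, map_mul, map_mul, map_mul, map_inv, map_pow, hw1, ht1, hwt,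
      mul_inv_cancel]
  have hk01 : k0 = 1 := by
    -- conjugate twice
    have h1 : w1⁻¹ * (w1⁻¹ * t1 * w1) * w1 = t1 := by
      have h2 : w1⁻¹ * (w1⁻¹ * t1 * w1) * w1 = (w1 * w1)⁻¹ * t1 * (w1 * w1) := by group
      rw [h2, mul_assoc, hc.central _ hww1 t1, ← mul_assoc, inv_mul_cancel, one_mul]
    have hcj : ∀ n : ℕ, w1⁻¹ * (t1 ^ n) * w1 = (w1⁻¹ * t1 * w1) ^ n := by
      intro n
      have h2 : w1⁻¹ * t1 * w1 = w1⁻¹ * t1 * (w1⁻¹)⁻¹ := by rw [inv_inv]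
      rw [h2, conj_pow, inv_inv]
    have h3 : w1⁻¹ * ((t1 ^ m)⁻¹ * k0) * w1 = t1 := by rw [← hk0e]; exact h1
    have h4 : w1⁻¹ * ((t1 ^ m)⁻¹ * k0) * w1 = (w1⁻¹ * t1 ^ m * w1)⁻¹ * k0 := by
      have h5 : k0 * w1 = w1 * k0 := (hc.central _ hk0 w1).symm
      calc w1⁻¹ * ((t1 ^ m)⁻¹ * k0) * w1 = w1⁻¹ * (t1 ^ m)⁻¹ * (k0 * w1) := by group
        _ = w1⁻¹ * (t1 ^ m)⁻¹ * (w1 * k0) := by rw [h5]
        _ = (w1⁻¹ * t1 ^ m * w1)⁻¹ * k0 := by group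
    have hcomm : Commute ((t1 ^ m)⁻¹) k0 := hc.central _ hk0 _
    rw [h4, hcj, hk0e, hcomm.mul_pow, mul_inv_rev, inv_pow, inv_inv, ← pow_mul, ht1m] at h3
    -- `(k0 ^ m)⁻¹ * t1 * k0 = t1`
    have h6 : (k0 ^ m)⁻¹ * k0 = 1 := by
      have h7 : (k0 ^ m)⁻¹ * t1 * k0 = t1 * ((k0 ^ m)⁻¹ * k0) := by
        have h8 : t1 * (k0 ^ m)⁻¹ = (k0 ^ m)⁻¹ * t1 := hc.central _ (K.inv_mem (K.pow_mem hk0 m)) t1
        rw [← mul_assoc, h8]
      rw [h7] at h3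
      exact mul_eq_left.1 h3
    have h9 : k0 ^ m = k0 := by
      have := congrArg (fun z => k0 ^ m * z) h6
      simpa using this.symm
    have h10 := hkm1 k0 hk0
    rw [h9] at h10
    have h11 := hc.pow k0 hk0
    rcases hd with rfl | ⟨rfl, -⟩
    · rwa [pow_one] at h11
    · rw [pow_succ, pow_two, h10, one_mul] at h11
      exact h11
  rw [hk01, mul_one] at hk0e
  have hcj : ∀ n : ℕ, w1⁻¹ * (t1 ^ n) * w1 = ((t1 ^ m)⁻¹) ^ n := by
    intro n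
    have h2 : w1⁻¹ * t1 ^ n * w1 = (w1⁻¹ * t1 * w1) ^ n := by
      have h3 : w1⁻¹ * t1 * w1 = w1⁻¹ * t1 * (w1⁻¹)⁻¹ := by rw [inv_inv]
      rw [h3, conj_pow, inv_inv]
    rw [h2, hk0e]
  -- the torus in the cover
  let C : Subgroup G := (Subgroup.zpowers t).comap τ
  have hCe : ∀ c ∈ C, ∃ n : ℕ, ∃ k ∈ K, c = t1 ^ n * k := by
    intro c hcC
    have h1 : τ c ∈ Subgroup.zpowers t := hcC
    have hfX : Finite X := Finite.of_surjective τ hc.surj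
    rw [← mem_powers_iff_mem_zpowers] at h1
    obtain ⟨n, hn⟩ := h1
    refine ⟨n, (t1 ^ n)⁻¹ * c, ?_, by group⟩
    have hn' : t ^ n = τ c := hn
    rw [hK, MonoidHom.mem_ker, map_mul, map_inv, map_pow, ht1, hn', inv_mul_cancel]
  refine rankOne_trace p hc.span (B := B.comap τ) (C := C) (S := S) (w := w1) ?_ ?_ ?_ hSp ?_ ?_ ?_ m
    ?_ ?_ σ hσ g
  · intro g
    rcases hbr (τ g) with h | ⟨b₁, hb₁, b₂, hb₂, h⟩
    · exact Or.inl h
    · right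
      obtain ⟨c₁, rfl⟩ := hc.surj b₁
      refine ⟨c₁, hb₁, (c₁ * w1)⁻¹ * g, ?_, by group⟩
      rw [Subgroup.mem_comap, map_mul, map_inv, map_mul, hw1, h, inv_mul_cancel_left]
      exact hb₂
  · intro s hs
    exact hUB ((hS s).1 hs).1
  · intro b hb s hs
    have h1 : τ (b⁻¹ * s * b) ∈ U := by
      rw [map_mul, map_mul, map_inv]
      exact hUn _ hb _ ((hS s).1 hs).1
    refine (hS _).2 ⟨h1, ?_⟩
    obtain ⟨n, hn⟩ := ((hS s).1 hs).2
    refine ⟨n, ?_⟩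
    have h2 : b⁻¹ * s * b = b⁻¹ * s * (b⁻¹)⁻¹ := by rw [inv_inv]
    rw [h2, conj_pow, hn, mul_one, mul_inv_cancel]
  · -- generation
    intro H hSH hSwH g
    set H0 : Subgroup G := S ⊔ S.map (MulAut.conj w1).toMonoidHom with hH0
    have hH0le : H0 ≤ H := by
      rw [hH0, sup_le_iff]
      refine ⟨hSH, ?_⟩
      rintro _ ⟨s, hs, rfl⟩
      exact hSwH s hs
    have hSmem : ∀ s ∈ S, s ∈ H0 := fun s hs => Subgroup.mem_sup_left hs
    have hSwmem : ∀ s ∈ S, w1 * s * w1⁻¹ ∈ H0 := fun s hs =>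
      Subgroup.mem_sup_right ⟨s, hs, rfl⟩
    -- elements normalising `S`
    have hSn : ∀ b, τ b ∈ B → ∀ s ∈ S, b * s * b⁻¹ ∈ S := by
      intro b hb s hs
      have hb' : τ b⁻¹ ∈ B := by rw [map_inv]; exact B.inv_mem hb
      have h1 : τ (b * s * b⁻¹) ∈ U := by
        have := hUn _ hb' _ ((hS s).1 hs).1
        rw [map_inv, inv_inv] at this
        rw [map_mul, map_mul, map_inv]
        exact this
      refine (hS _).2 ⟨h1, ?_⟩
      obtain ⟨n, hn⟩ := ((hS s).1 hs).2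
      exact ⟨n, by rw [conj_pow, hn, mul_one, mul_inv_cancel]⟩
    -- the normaliser of `H0`
    have hle : ∀ b : G, (∀ s ∈ S, b * s * b⁻¹ ∈ H0) → (∀ s ∈ S, b * (w1 * s * w1⁻¹) * b⁻¹ ∈ H0) →
        ∀ x ∈ H0, b * x * b⁻¹ ∈ H0 := by
      intro b h1 h2 x hx
      have h3 : H0 ≤ H0.comap (MulAut.conj b).toMonoidHom := by
        rw [hH0, sup_le_iff]
        constructor
        · intro s hs
          exact h1 s hs
        · rintro _ ⟨s, hs, rfl⟩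
          exact h2 s hs
      exact h3 hx
    have hS1 : ∀ s ∈ S, ∀ x ∈ H0, s * x * s⁻¹ ∈ H0 := fun s hs x hx =>
      H0.mul_mem (H0.mul_mem (hSmem s hs) hx) (H0.inv_mem (hSmem s hs))
    have hK1 : ∀ k ∈ K, ∀ x ∈ H0, k * x * k⁻¹ ∈ H0 := by
      intro k hk x hx
      have : k * x * k⁻¹ = x := by rw [← hc.central k hk x, mul_inv_cancel_right]
      rw [this]; exact hx
    have hK1' : ∀ k ∈ K, τ k ∈ B := by
      intro k hk
      have : τ k = 1 := hk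
      rw [this]; exact B.one_mem
    have ht1B : τ t1 ∈ B := by rw [ht1]; exact htB
    have hT1 : ∀ n : ℕ, ∀ x ∈ H0, t1 ^ n * x * (t1 ^ n)⁻¹ ∈ H0 := by
      intro n
      have htn : τ (t1 ^ n) ∈ B := by rw [map_pow, ht1]; exact B.pow_mem htB n
      apply hle
      · intro s hs
        exact hSmem _ (hSn _ htn s hs)
      · intro s hs
        have h1 : t1 ^ n * (w1 * s * w1⁻¹) * (t1 ^ n)⁻¹ =
            w1 * ((w1⁻¹ * t1 ^ n * w1) * s * (w1⁻¹ * t1 ^ n * w1)⁻¹) * w1⁻¹ := by group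
        rw [h1, hcj]
        apply hSwmem
        apply hSn _ _ s hs
        rw [map_pow, map_inv, map_pow, ht1]
        exact B.pow_mem (B.inv_mem (B.pow_mem htB m)) n
    have hB1 : ∀ b, τ b ∈ B → ∀ x ∈ H0, b * x * b⁻¹ ∈ H0 := by
      intro b hb x hx
      obtain ⟨u, hu, n, hun⟩ := hBt _ hb
      obtain ⟨s, hs, rfl⟩ := hSs u hu
      obtain ⟨k, hk, hbk⟩ : ∃ k ∈ K, b = s * t1 ^ n * k := by
        refine ⟨(s * t1 ^ n)⁻¹ * b, ?_, by group⟩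
        rw [hK, MonoidHom.mem_ker, map_mul, map_inv, map_mul, map_pow, ht1, hun, inv_mul_cancel]
      have h1 : b * x * b⁻¹ = s * (t1 ^ n * (k * x * k⁻¹) * (t1 ^ n)⁻¹) * s⁻¹ := by
        rw [hbk]; group
      rw [h1]
      exact hS1 s hs _ (hT1 n _ (hK1 k hk x hx))
    have hW1 : ∀ x ∈ H0, w1 * x * w1⁻¹ ∈ H0 := by
      apply hle
      · exact hSwmem
      · intro s hs
        have h1 : w1 * (w1 * s * w1⁻¹) * w1⁻¹ = (w1 * w1) * s * (w1 * w1)⁻¹ := by group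
        rw [h1]
        exact hK1 _ hww1 s (hSmem s hs)
    have hnormal : H0.Normal := by
      refine ⟨fun x hx g => ?_⟩
      rcases hbr (τ g) with h | ⟨b₁, hb₁, b₂, hb₂, h⟩
      · exact hB1 g h x hx
      · obtain ⟨c₁, hc₁⟩ := hc.surj b₁
        have h3 : τ ((c₁ * w1)⁻¹ * g) ∈ B := by
          rw [map_mul, map_inv, map_mul, hw1, hc₁, h, inv_mul_cancel_left]
          exact hb₂
        have h4 : g * x * g⁻¹ = c₁ * (w1 * (((c₁ * w1)⁻¹ * g) * x * ((c₁ * w1)⁻¹ * g)⁻¹) * w1⁻¹) * c₁⁻¹ := by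
          group
        rw [h4]
        exact hB1 _ (by rw [hc₁]; exact hb₁) _ (hW1 _ (hB1 _ h3 _ hx))
    obtain ⟨u, hu, huN⟩ := hx
    obtain ⟨s, hs, rfl⟩ := hSs u hu
    obtain ⟨x, hx, hgx⟩ := hnorm H0 hnormal ⟨s, hSmem s hs, huN⟩ g
    exact ⟨x, hH0le hx, hgx⟩
  · intro c hcC
    obtain ⟨n, k, hk, rfl⟩ := hCe c hcC
    have hk' : τ k = 1 := hk
    rw [Subgroup.mem_comap, map_mul, map_pow, ht1, hk', mul_one]
    exact B.pow_mem htB n
  · intro b hb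
    obtain ⟨u, hu, n, hun⟩ := hBt _ hb
    obtain ⟨s, hs, rfl⟩ := hSs u hu
    refine ⟨s, hs, s⁻¹ * b, ?_, by group⟩
    rw [Subgroup.mem_comap, map_mul, map_inv, hun, inv_mul_cancel_left]
    exact Subgroup.pow_mem _ (Subgroup.mem_zpowers t) n
  · intro c hcC
    obtain ⟨n, k, hk, rfl⟩ := hCe c hcC
    have h1 : w1⁻¹ * (t1 ^ n * k) * w1 = (w1⁻¹ * t1 ^ n * w1) * k := by
      have h5 : k * w1 = w1 * k := (hc.central _ hk w1).symm
      calc w1⁻¹ * (t1 ^ n * k) * w1 = w1⁻¹ * t1 ^ n * (k * w1) := by group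
        _ = w1⁻¹ * t1 ^ n * (w1 * k) := by rw [h5]
        _ = _ := by group
    have hcomm : Commute (t1 ^ n) k := hc.central _ hk _
    have h6 : (k ^ m)⁻¹ = k := inv_eq_of_mul_eq_one_left (hkm1 k hk)
    rw [h1, hcj, hcomm.mul_pow, mul_inv_rev, h6, ← pow_mul, mul_comm n m, pow_mul, inv_pow]
    exact (hc.central _ hk _)
  · intro c hcC
    obtain ⟨n, k, hk, rfl⟩ := hCe c hcC
    have hcomm : Commute (t1 ^ n) k := hc.central _ hk _
    rw [hcomm.mul_pow, hkm k hk, ← pow_mul, mul_comm n, pow_mul, ht1m]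

end

end Cfsg.Agent.H906
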