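import Cfsg.Agent.H906.RankOne

/-!
# Two parabolic subgroups (helper906)

The trace field of a three-dimensional representation of a group with two "parabolic" subgroups and two
double cosets.
-/

set_option autoImplicit false
set_option linter.unusedSectionVars false

namespace Cfsg.Agent.H906

open Cfsg Cfsg.Geo
open scoped MatrixGroups Matrix

section

variable {F : Type*} [Field F] {G : Type*} [Group G]

lemma two_core {ρ : G →* Matrix (Fin 3) (Fin 3) F} (h : Submodule.span F (Set.range ρ) = ⊤)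
    {P1 P2 : Subgroup G} {g0 : G}
    (hdc : ∀ g, (∃ a ∈ P2, ∃ b ∈ P1, g = a * b) ∨ (∃ a ∈ P2, ∃ b ∈ P1, g = a * g0 * b))
    {φ e : Fin 3 → F} (hφ : φ ≠ 0) (he : e ≠ 0)
    (h1 : ∀ b ∈ P1, ∃ c : F, ρ b *ᵥ e = c • e)
    (h2 : ∀ a ∈ P2, ∃ c : F, contra ρ a *ᵥ φ = c • φ) (h0 : φ ⬝ᵥ e = 0)
    (σ : F ≃+* F)
    (hχ1 : ∀ χ : P1 →* Fˣ, (∀ x : P1, ρ x = 1 → χ x = 1) → ∀ x, σ ((χ x : Fˣ) : F) = ((χ x : Fˣ) : F))
    (hχ2 : ∀ χ : P2 →* Fˣ, (∀ x : P2, ρ x = 1 → χ x = 1) → ∀ x, σ ((χ x : Fˣ) : F) = ((χ x : Fˣ) : F))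
    (g : G) : σ (ρ g).trace = (ρ g).trace := by
  classical
  obtain ⟨χ, hχ⟩ := exists_char (ρ := ρ) he h1
  obtain ⟨ψ, hψ⟩ := exists_char (ρ := contra ρ) hφ h2
  have hψb : ∀ (b : P2) (v : Fin 3 → F), φ ⬝ᵥ (ρ b *ᵥ v) = ((ψ b)⁻¹ : Fˣ) * (φ ⬝ᵥ v) := by
    intro b v
    have h1 := contra_dot ρ (b : G) φ (ρ b *ᵥ v)
    rw [hψ, rho_inv_mul, smul_dotProduct, smul_eq_mul] at h1
    rw [← h1, ← mul_assoc, Units.inv_mul, one_mul]
  have hχσ := hχ1 χ (by
    intro x hx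
    have h3 := hχ x
    rw [hx, Matrix.one_mulVec] at h3
    have h4 : (((χ x : Fˣ) : F) - 1) • e = 0 := by rw [sub_smul, one_smul, ← h3, sub_self]
    rcases smul_eq_zero.1 h4 with h5 | h5
    · exact Units.ext (sub_eq_zero.1 h5)
    · exact absurd h5 he)
  have hψσ := hχ2 ψ (by
    intro x hx
    have h3 := hψ x
    have h6 : contra ρ (x : G) = 1 := by
      rw [contra_apply]
      have h7 : ρ ((x : G)⁻¹) = 1 := by
        have h8 : ρ ((x : G)⁻¹) * ρ (x : G) = 1 := by rw [← map_mul, inv_mul_cancel, map_one]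
        rwa [hx, mul_one] at h8
      rw [h7, Matrix.transpose_one]
    rw [h6, Matrix.one_mulVec] at h3
    have h4 : (((ψ x : Fˣ) : F) - 1) • φ = 0 := by rw [sub_smul, one_smul, ← h3, sub_self]
    rcases smul_eq_zero.1 h4 with h5 | h5
    · exact Units.ext (sub_eq_zero.1 h5)
    · exact absurd h5 hφ)
  have hψσ' : ∀ x, σ (((ψ x)⁻¹ : Fˣ) : F) = (((ψ x)⁻¹ : Fˣ) : F) := by
    intro x
    have := hψσ x⁻¹
    rwa [map_inv] at this
  have hf : ∀ (a : P2) (x : G) (b : P1), φ ⬝ᵥ (ρ (a * x * b) *ᵥ e) =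
      ((ψ a)⁻¹ : Fˣ) * ((χ b : Fˣ) : F) * (φ ⬝ᵥ (ρ x *ᵥ e)) := by
    intro a x b
    rw [rho_mul, rho_mul, hχ, Matrix.mulVec_smul, Matrix.mulVec_smul, dotProduct_smul, hψb,
      smul_eq_mul]
    ring
  have hf1 : ∀ (a : P2) (b : P1), φ ⬝ᵥ (ρ (a * b) *ᵥ e) = 0 := by
    intro a b
    have := hf a 1 b
    rw [mul_one, map_one, Matrix.one_mulVec, h0, mul_zero] at this
    exact this
  have hg0 : φ ⬝ᵥ (ρ g0 *ᵥ e) ≠ 0 := by
    intro h3
    have hall : ∀ g, φ ⬝ᵥ (ρ g *ᵥ e) = 0 := by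
      intro g
      rcases hdc g with ⟨a, ha, b, hb, rfl⟩ | ⟨a, ha, b, hb, rfl⟩
      · exact hf1 ⟨a, ha⟩ ⟨b, hb⟩
      · rw [hf ⟨a, ha⟩ g0 ⟨b, hb⟩, h3, mul_zero]
    have h1 : coef φ e = 0 := by
      have h2 : (⊤ : Submodule F _) ≤ LinearMap.ker (coef φ e) := by
        rw [← h, Submodule.span_le]
        rintro _ ⟨g, rfl⟩
        exact hall g
      exact LinearMap.ker_eq_top.1 (top_le_iff.1 h2)
    exact coef_ne_zero hφ he h1
  apply trace_fixed_of_coef h σ hφ he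
    (c := σ (φ ⬝ᵥ (ρ g0 *ᵥ e)) * (φ ⬝ᵥ (ρ g0 *ᵥ e))⁻¹)
    (mul_ne_zero ((map_ne_zero σ).2 hg0) (inv_ne_zero hg0))
  intro g
  rcases hdc g with ⟨a, ha, b, hb, rfl⟩ | ⟨a, ha, b, hb, rfl⟩
  · have := hf1 ⟨a, ha⟩ ⟨b, hb⟩
    change φ ⬝ᵥ (ρ (a * b) *ᵥ e) = 0 at this
    rw [this, map_zero, mul_zero]
  · have h5 := hf ⟨a, ha⟩ g0 ⟨b, hb⟩
    change φ ⬝ᵥ (ρ (a * g0 * b) *ᵥ e) = _ at h5
    rw [h5, map_mul, map_mul, hψσ', hχσ]
    field_simp

lemma eq_top_of_contains {P1 P2 : Subgroup G} {g0 : G}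
    (hdc : ∀ g, (∃ a ∈ P2, ∃ b ∈ P1, g = a * b) ∨ (∃ a ∈ P2, ∃ b ∈ P1, g = a * g0 * b))
    (hg0 : g0 ∈ P1 ⊔ P2) : P1 ⊔ P2 = ⊤ := by
  rw [eq_top_iff]
  rintro g -
  rcases hdc g with ⟨a, ha, b, hb, rfl⟩ | ⟨a, ha, b, hb, rfl⟩
  · exact Subgroup.mul_mem _ (Subgroup.mem_sup_right ha) (Subgroup.mem_sup_left hb)
  · exact Subgroup.mul_mem _ (Subgroup.mul_mem _ (Subgroup.mem_sup_right ha) hg0)
      (Subgroup.mem_sup_left hb)

/-- A plane stabilised by `P2` gives a functional. -/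
lemma exists_functional {ρ : G →* Matrix (Fin 3) (Fin 3) F} {P2 : Subgroup G}
    {W : Submodule F (Fin 3 → F)} (hW : Module.finrank F W = 2)
    (hinv : ∀ a ∈ P2, ∀ v ∈ W, ρ a *ᵥ v ∈ W) :
    ∃ φ : Fin 3 → F, φ ≠ 0 ∧ (∀ v ∈ W, φ ⬝ᵥ v = 0) ∧
      ∀ a ∈ P2, ∃ c : F, contra ρ a *ᵥ φ = c • φ := by
  classical
  have hlt : W < ⊤ := by
    rw [lt_top_iff_ne_top]
    rintro rfl
    rw [finrank_top, finrank_V] at hW
    omega
  obtain ⟨f, hf0, hf⟩ := Submodule.exists_le_ker_of_lt_top W hlt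
  have hker : LinearMap.ker f = W := by
    symm
    apply Submodule.eq_of_le_of_finrank_le hf
    have h1 := LinearMap.finrank_range_add_finrank_ker f
    rw [finrank_V] at h1
    have h2 : Module.finrank F (LinearMap.range f) ≠ 0 := by
      intro h3
      rw [Submodule.finrank_eq_zero, LinearMap.range_eq_bot] at h3
      exact hf0 h3
    omega
  set φ : Fin 3 → F := fun i => f (Pi.single i 1) with hφ
  have hφv : ∀ v, φ ⬝ᵥ v = f v := by
    intro v
    have h1 : v = ∑ i, v i • (Pi.single i (1 : F) : Fin 3 → F) := by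
      funext j
      simp [Finset.sum_apply, Pi.single_apply]
    conv_rhs => rw [h1]
    rw [map_sum]
    simp only [map_smul, smul_eq_mul, dotProduct, hφ]
    apply Finset.sum_congr rfl
    intro i _
    ring
  have hφ0 : φ ≠ 0 := by
    intro h1
    apply hf0
    ext v
    have := hφv (Pi.single v 1)
    rw [h1, zero_dotProduct] at this
    simpa using this.symm
  refine ⟨φ, hφ0, ?_, ?_⟩
  · intro v hv
    rw [hφv]
    exact hf hv
  · intro a ha
    obtain ⟨v, hv⟩ : ∃ v, f v ≠ 0 := by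
      by_contra hcon
      push Not at hcon
      exact hf0 (LinearMap.ext hcon)
    refine ⟨f (ρ a⁻¹ *ᵥ v) * (f v)⁻¹, ?_⟩
    have h1 : ∀ u, (contra ρ a *ᵥ φ) ⬝ᵥ u = (f (ρ a⁻¹ *ᵥ v) * (f v)⁻¹) * (φ ⬝ᵥ u) := by
      intro u
      rw [contra_dot, hφv, hφv]
      have h2 : u - (f u * (f v)⁻¹) • v ∈ W := by
        rw [← hker, LinearMap.mem_ker, map_sub, map_smul, smul_eq_mul, mul_assoc,
          inv_mul_cancel₀ hv, mul_one, sub_self]
      have h3 := hinv a⁻¹ (P2.inv_mem ha) _ h2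
      have h4 : f (ρ a⁻¹ *ᵥ (u - (f u * (f v)⁻¹) • v)) = 0 := by
        rw [← LinearMap.mem_ker, hker]; exact h3
      rw [Matrix.mulVec_sub, Matrix.mulVec_smul, map_sub, map_smul, smul_eq_mul, sub_eq_zero] at h4
      rw [h4]
      ring
    funext i
    have h2 := h1 (Pi.single i 1)
    rw [dotProduct_single, dotProduct_single, mul_one, mul_one] at h2
    exact h2

/-- **The two-parabolics argument.** -/
theorem twoPar_trace [Finite F] (p : ℕ) [Fact p.Prime] [CharP F p]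
    {ρ : G →* Matrix (Fin 3) (Fin 3) F} (h : Submodule.span F (Set.range ρ) = ⊤)
    {Pa Pb Qa Qb S : Subgroup G} {g0 : G}
    (hdc : ∀ g, (∃ a ∈ Pa, ∃ b ∈ Pb, g = a * b) ∨ (∃ a ∈ Pa, ∃ b ∈ Pb, g = a * g0 * b))
    (hg0 : g0 ∈ Pa ⊔ Pb)
    (hQa : ∀ a ∈ Pa, ∀ x ∈ Qa, a⁻¹ * x * a ∈ Qa) (hQb : ∀ a ∈ Pb, ∀ x ∈ Qb, a⁻¹ * x * a ∈ Qb)
    (hQaS : Qa ≤ S) (hQbS : Qb ≤ S) (hS : IsPGroup p S)
    (hx : ∃ x ∈ Qa ⊓ Qb, ρ x ≠ 1)
    (σ : F ≃+* F)
    (hχa : ∀ χ : Pa →* Fˣ, (∀ x : Pa, ρ x = 1 → χ x = 1) → ∀ x, σ ((χ x : Fˣ) : F) = ((χ x : Fˣ) : F))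
    (hχb : ∀ χ : Pb →* Fˣ, (∀ x : Pb, ρ x = 1 → χ x = 1) → ∀ x, σ ((χ x : Fˣ) : F) = ((χ x : Fˣ) : F))
    (g : G) : σ (ρ g).trace = (ρ g).trace := by
  classical
  set Va := fixSub ρ Qa with hVa
  set Vb := fixSub ρ Qb with hVb
  have hinva : ∀ a ∈ Pa, ∀ v ∈ Va, ρ a *ᵥ v ∈ Va := fun a ha v hv =>
    fixSub_invariant ρ (hQa a ha) hv
  have hinvb : ∀ a ∈ Pb, ∀ v ∈ Vb, ρ a *ᵥ v ∈ Vb := fun a ha v hv =>
    fixSub_invariant ρ (hQb a ha) hv
  obtain ⟨e, -, he, heS⟩ := exists_fixed p ρ hS (⊤ : Submodule F (Fin 3 → F)) (by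
    intro h0
    have h1 : Module.finrank F (⊤ : Submodule F (Fin 3 → F)) = 3 := by
      rw [finrank_top, finrank_V]
    rw [h0, finrank_bot] at h1
    omega) (fun _ _ _ _ => trivial)
  have hea : e ∈ Va := fixSub_mono ρ hQaS heS
  have heb : e ∈ Vb := fixSub_mono ρ hQbS heS
  obtain ⟨x, ⟨hxa, hxb⟩, hx1⟩ := hx
  have hnot : ∀ W : Submodule F (Fin 3 → F), (∀ v ∈ W, ρ x *ᵥ v = v) → W ≠ ⊤ := by
    rintro _ hW rfl
    apply hx1
    apply Matrix.toLin'.injective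
    ext1 v
    rw [Matrix.toLin'_one]
    ext j
    simp only [LinearMap.comp_apply, LinearMap.single_apply, Matrix.toLin'_apply, LinearMap.id_apply]
    rw [hW _ trivial]
  have hVat : Va ≠ ⊤ := hnot Va (fun v hv => hv x hxa)
  have hVbt : Vb ≠ ⊤ := hnot Vb (fun v hv => hv x hxb)
  have hsup : Va ⊔ Vb ≠ ⊤ := by
    apply hnot
    intro v hv
    obtain ⟨a, ha, b, hb, rfl⟩ := Submodule.mem_sup.1 hv
    rw [Matrix.mulVec_add, ha x hxa, hb x hxb]
  have htop : Pb ⊔ Pa = ⊤ := eq_top_of_contains hdc (by rwa [sup_comm])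
  have hne : Va ≠ Vb := by
    intro heq
    rcases eq_bot_or_top h Va (by
      let H : Subgroup G :=
        { carrier := {g | (∀ v ∈ Va, ρ g *ᵥ v ∈ Va) ∧ (∀ v ∈ Va, ρ g⁻¹ *ᵥ v ∈ Va)}
          mul_mem' := by
            rintro a b ⟨ha, ha'⟩ ⟨hb, hb'⟩
            constructor
            · intro v hv
              rw [rho_mul]
              exact ha _ (hb _ hv)
            · intro v hv
              rw [mul_inv_rev, rho_mul]
              exact hb' _ (ha' _ hv)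
          one_mem' := by
            constructor <;> intro v hv <;> simpa using hv
          inv_mem' := by
            rintro a ⟨ha, ha'⟩
            exact ⟨ha', by rw [inv_inv]; exact ha⟩ }
      have hH : H = ⊤ := by
        rw [eq_top_iff, ← htop, sup_le_iff]
        constructor
        · intro a ha
          refine ⟨fun v hv => ?_, fun v hv => ?_⟩
          · rw [heq] at hv ⊢
            exact hinvb a ha v hv
          · rw [heq] at hv ⊢
            exact hinvb a⁻¹ (Pb.inv_mem ha) v hv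
        · intro a ha
          exact ⟨hinva a ha, hinva a⁻¹ (Pa.inv_mem ha)⟩
      intro g v hv
      have : g ∈ H := by rw [hH]; trivial
      exact this.1 v hv) with h1 | h1
    · rw [h1, Submodule.mem_bot] at hea
      exact he hea
    · exact hVat h1
  -- dimensions
  have hd : ∀ W : Submodule F (Fin 3 → F), W ≠ ⊤ → e ∈ W →
      Module.finrank F W = 1 ∨ Module.finrank F W = 2 := by
    intro W hW heW
    have h1 : Module.finrank F W < 3 := by
      have := Submodule.finrank_lt (lt_top_iff_ne_top.2 hW).ne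
      rwa [finrank_V] at this
    have h2 : Module.finrank F W ≠ 0 := by
      intro h3
      rw [Submodule.finrank_eq_zero] at h3
      rw [h3, Submodule.mem_bot] at heW
      exact he heW
    omega
  have hline : ∀ W : Submodule F (Fin 3 → F), Module.finrank F W = 1 → e ∈ W →
      W = Submodule.span F {e} := by
    intro W hW heW
    symm
    apply Submodule.eq_of_le_of_finrank_le
    · rw [Submodule.span_singleton_le_iff_mem]; exact heW
    · rw [finrank_span_singleton he, hW]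
  have hboth2 : ¬ (Module.finrank F Va = 2 ∧ Module.finrank F Vb = 2) := by
    rintro ⟨h1, h2⟩
    have h3 : Va = Va ⊔ Vb := by
      apply Submodule.eq_of_le_of_finrank_le le_sup_left
      rcases hd _ hsup (Submodule.mem_sup_left hea) with h4 | h4 <;> omega
    have h5 : Vb = Va ⊔ Vb := by
      apply Submodule.eq_of_le_of_finrank_le le_sup_right
      rcases hd _ hsup (Submodule.mem_sup_left hea) with h4 | h4 <;> omega
    exact hne (h3.trans h5.symm)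
  have hboth1 : ¬ (Module.finrank F Va = 1 ∧ Module.finrank F Vb = 1) := by
    rintro ⟨h1, h2⟩
    exact hne ((hline Va h1 hea).trans (hline Vb h2 heb).symm)
  rcases hd Va hVat hea with ha1 | ha2
  · rcases hd Vb hVbt heb with hb1 | hb2
    · exact absurd ⟨ha1, hb1⟩ hboth1
    · -- `Va` a line, `Vb` a plane
      obtain ⟨φ, hφ, hφ0, hφc⟩ := exists_functional (ρ := ρ) hb2 hinvb
      refine two_core h (P1 := Pa) (P2 := Pb) (g0 := g0⁻¹) ?_ hφ he ?_ hφc (hφ0 e heb) σ hχa hχb g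
      · intro g
        rcases hdc g⁻¹ with ⟨a, ha, b, hb, hg⟩ | ⟨a, ha, b, hb, hg⟩
        · left
          refine ⟨b⁻¹, Pb.inv_mem hb, a⁻¹, Pa.inv_mem ha, ?_⟩
          rw [← mul_inv_rev, ← hg, inv_inv]
        · right
          refine ⟨b⁻¹, Pb.inv_mem hb, a⁻¹, Pa.inv_mem ha, ?_⟩
          rw [← inv_inv g, hg]
          group
      · intro a ha
        have h1 := hinva a ha e hea
        rw [hline Va ha1 hea] at h1
        obtain ⟨c, hc⟩ := Submodule.mem_span_singleton.1 h1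
        exact ⟨c, hc.symm⟩
  · rcases hd Vb hVbt heb with hb1 | hb2
    · obtain ⟨φ, hφ, hφ0, hφc⟩ := exists_functional (ρ := ρ) ha2 hinva
      refine two_core h (P1 := Pb) (P2 := Pa) (g0 := g0) hdc hφ he ?_ hφc (hφ0 e hea) σ hχb hχa g
      intro a ha
      have h1 := hinvb a ha e heb
      rw [hline Vb hb1 heb] at h1
      obtain ⟨c, hc⟩ := Submodule.mem_span_singleton.1 h1
      exact ⟨c, hc.symm⟩
    · exact absurd ⟨ha2, hb2⟩ hboth2

end

end Cfsg.Agent.H906
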