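import Cfsg.Agent.H906.Heis

/-!
# `PSL₂(K)` in cross characteristic has a three-dimensional representation only for `|K| ≤ 9` (helper906)
-/

set_option autoImplicit false
set_option linter.unusedSectionVars false

namespace Cfsg.Agent.H906

open Cfsg Cfsg.Geo
open scoped MatrixGroups Matrix

section Model

variable {K : Type*} [Field K]

/-- Upper unitriangular elements. -/
def un (b : K) : SL(2, K) := ⟨!![1, b; 0, 1], by simp [Matrix.det_fin_two]⟩

/-- Diagonal elements. -/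
def dg (t : Kˣ) : SL(2, K) := ⟨!![(t : K), 0; 0, ((t⁻¹ : Kˣ) : K)], by simp [Matrix.det_fin_two]⟩

lemma un_val (b : K) : (un b).1 = !![1, b; 0, 1] := rfl

lemma dg_val (t : Kˣ) : (dg t).1 = !![(t : K), 0; 0, ((t⁻¹ : Kˣ) : K)] := rfl

lemma un_mul (a b : K) : un a * un b = un (a + b) := by
  apply Subtype.ext
  rw [Matrix.SpecialLinearGroup.coe_mul, un_val, un_val, un_val]
  ext i j
  fin_cases i <;> fin_cases j <;> simp [Matrix.mul_apply, Fin.sum_univ_two, add_comm]

/-- `b ↦ un b` to `PSL₂`. -/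
def unP (K : Type*) [Field K] : Multiplicative K →* Matrix.ProjectiveSpecialLinearGroup (Fin 2) K where
  toFun b := QuotientGroup.mk (un (Multiplicative.toAdd b))
  map_one' := by
    have : un (0 : K) = 1 := by
      apply Subtype.ext
      rw [un_val, Matrix.SpecialLinearGroup.coe_one]
      ext i j
      fin_cases i <;> fin_cases j <;> simp
    change QuotientGroup.mk (un (0 : K)) = _
    rw [this]
    rfl
  map_mul' a b := by
    change QuotientGroup.mk (un (Multiplicative.toAdd a + Multiplicative.toAdd b)) = _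
    rw [← un_mul]
    rfl

/-- The unipotent subgroup of `PSL₂`. -/
def EP (K : Type*) [Field K] : Subgroup (Matrix.ProjectiveSpecialLinearGroup (Fin 2) K) := (unP K).range

lemma un_mem_center {b : K} (h : un b ∈ Subgroup.center SL(2, K)) : b = 0 := by
  rw [Matrix.SpecialLinearGroup.mem_center_iff] at h
  obtain ⟨r, -, hr⟩ := h
  have := congrFun (congrFun hr 0) 1
  rw [un_val] at this
  simpa [Matrix.scalar_apply] using this.symm

lemma unP_injective : Function.Injective (unP K) := by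
  rw [injective_iff_map_eq_one]
  intro a ha
  have h : un (Multiplicative.toAdd a) ∈ Subgroup.center SL(2, K) := (QuotientGroup.eq_one_iff _).1 ha
  have h2 : Multiplicative.toAdd a = 0 := un_mem_center h
  exact h2

lemma card_EP : Nat.card (EP K) = Nat.card K := by
  have h := (Nat.card_congr (MonoidHom.ofInjective (unP_injective (K := K))).toEquiv).symm
  exact h

lemma EP_comm : ∀ a ∈ EP K, ∀ b ∈ EP K, a * b = b * a := by
  rintro _ ⟨a, rfl⟩ _ ⟨b, rfl⟩
  rw [← map_mul, mul_comm, map_mul]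

lemma EP_pow (r : ℕ) [CharP K r] : ∀ a ∈ EP K, a ^ r = 1 := by
  rintro _ ⟨a, rfl⟩
  rw [← map_pow]
  have : a ^ r = 1 := by
    change Multiplicative.ofAdd (r • (Multiplicative.toAdd a)) = 1
    rw [nsmul_eq_mul, CharP.cast_eq_zero, zero_mul]
    rfl
  rw [this, map_one]

lemma dg_mul_un (t : Kˣ) (b : K) : dg t * un b * (dg t)⁻¹ = un ((t : K) ^ 2 * b) := by
  rw [mul_inv_eq_iff_eq_mul]
  apply Subtype.ext
  rw [Matrix.SpecialLinearGroup.coe_mul, Matrix.SpecialLinearGroup.coe_mul, un_val, un_val, dg_val]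
  ext i j
  fin_cases i <;> fin_cases j <;> simp [Matrix.mul_apply, Fin.sum_univ_two]
  field_simp

lemma dg_mul (s t : Kˣ) : dg s * dg t = dg (s * t) := by
  apply Subtype.ext
  rw [Matrix.SpecialLinearGroup.coe_mul, dg_val, dg_val, dg_val]
  ext i j
  fin_cases i <;> fin_cases j <;> simp [Matrix.mul_apply, Fin.sum_univ_two, mul_comm]

lemma dg_inv (t : Kˣ) : (dg t)⁻¹ = dg t⁻¹ := by
  rw [inv_eq_iff_mul_eq_one, dg_mul, mul_inv_cancel]
  apply Subtype.ext
  rw [dg_val, Matrix.SpecialLinearGroup.coe_one]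
  ext i j
  fin_cases i <;> fin_cases j <;> simp

lemma dg_pow (t : Kˣ) (n : ℕ) : dg t ^ n = dg (t ^ n) := by
  induction n with
  | zero =>
    rw [pow_zero, pow_zero]
    apply Subtype.ext
    rw [dg_val, Matrix.SpecialLinearGroup.coe_one]
    ext i j
    fin_cases i <;> fin_cases j <;> simp
  | succ n ih => rw [pow_succ, pow_succ, ih, dg_mul]

lemma dg_conj_mem (t : Kˣ) : ∀ e ∈ EP K, (QuotientGroup.mk (dg t) : Matrix.ProjectiveSpecialLinearGroup (Fin 2) K) * e *
    (QuotientGroup.mk (dg t))⁻¹ ∈ EP K := by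
  rintro _ ⟨a, rfl⟩
  refine ⟨Multiplicative.ofAdd ((t : K) ^ 2 * Multiplicative.toAdd a), ?_⟩
  have h := dg_mul_un t (Multiplicative.toAdd a)
  have h2 := congrArg (QuotientGroup.mk : SL(2, K) → Matrix.ProjectiveSpecialLinearGroup (Fin 2) K) h
  exact h2.symm

lemma pow_of_centralize (t : Kˣ) (n : ℕ)
    (h : ∀ e ∈ EP K, (QuotientGroup.mk (dg t) : Matrix.ProjectiveSpecialLinearGroup (Fin 2) K) ^ n * e =
      e * (QuotientGroup.mk (dg t)) ^ n) : t ^ (2 * n) = 1 := by
  have h1 := h (unP K (Multiplicative.ofAdd 1)) ⟨_, rfl⟩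
  have h3 : (QuotientGroup.mk (dg (t ^ n) * un 1 * (dg (t ^ n))⁻¹) : Matrix.ProjectiveSpecialLinearGroup (Fin 2) K) =
      QuotientGroup.mk (un 1) := by
    rw [← dg_pow]
    change (QuotientGroup.mk (dg t) : Matrix.ProjectiveSpecialLinearGroup (Fin 2) K) ^ n * (QuotientGroup.mk (un 1)) *
      (QuotientGroup.mk (dg t) ^ n)⁻¹ = _
    rw [mul_inv_eq_iff_eq_mul]
    exact h1
  rw [dg_mul_un, mul_one] at h3
  have h4 : unP K (Multiplicative.ofAdd (((t ^ n : Kˣ) : K) ^ 2)) = unP K (Multiplicative.ofAdd 1) := h3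
  have h5 := unP_injective h4
  have h6 : ((t ^ n : Kˣ) : K) ^ 2 = 1 := h5
  apply Units.ext
  rw [mul_comm, pow_mul, Units.val_pow_eq_pow_val, h6, Units.val_one]

lemma not_two_dvd_card [Finite K] (h2 : (2 : K) ≠ 0) : ¬ 2 ∣ Nat.card K := by
  intro h
  have := Fintype.ofFinite K
  obtain ⟨p, hp⟩ := CharP.exists K
  obtain ⟨n, hpp, hn⟩ := FiniteField.card K p
  rw [Nat.card_eq_fintype_card, hn] at h
  have h3 := Nat.prime_two.dvd_of_dvd_pow h
  have h4 := (Nat.prime_dvd_prime_iff_eq Nat.prime_two hpp).1 h3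
  apply h2
  have h5 := CharP.cast_eq_zero K p
  rw [← h4] at h5
  exact_mod_cast h5

end Model

variable {F : Type*} [Field F] {P : Subgroup (GL (Fin 3) F)}

theorem crossL2 [Finite F] (hdet : P ≤ specialLinear (Fin 3) F) {K : Type*} [Field K] [Finite K] (r : ℕ)
    [hr : Fact r.Prime] [CharP K r] (hrF : (r : F) ≠ 0) (h2 : (2 : K) ≠ 0)
    (Φ : (P ⧸ (scalars (Fin 3) F).subgroupOf P) ≃* Matrix.ProjectiveSpecialLinearGroup (Fin 2) K) :
    ((∀ s ∈ EP K, ∀ t ∈ EP K, Br Φ s t 1) ∧ (Nat.card K = 3 ∨ Nat.card K = 5 ∨ Nat.card K = 7)) ∨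
    (r = 3 ∧ Nat.card K ≤ 9 ∧ ∃ s ∈ EP K, ∃ t ∈ EP K, ∃ c : Fˣ, c ≠ 1 ∧ Br Φ s t c) := by
  by_cases hbr : ∀ s ∈ EP K, ∀ t ∈ EP K, Br Φ s t 1
  · left
    refine ⟨hbr, ?_⟩
    obtain ⟨t, ht⟩ := IsCyclic.exists_generator (α := Kˣ)
    have hord : orderOf t = Nat.card K - 1 := by
      rw [orderOf_eq_card_of_forall_mem_zpowers ht, Nat.card_units]
    have hc1 : 1 < Nat.card K := Finite.one_lt_card
    have hodd : ¬ 2 ∣ Nat.card K := not_two_dvd_card h2
    rcases sq_or_cube_br hdet hbr hrF (EP_pow r) (g := QuotientGroup.mk (dg t)) (dg_conj_mem t) (by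
      intro e he
      have h := dg_conj_mem t⁻¹ e he
      rw [← dg_inv] at h
      have e1 : (QuotientGroup.mk (dg t)⁻¹ : Matrix.ProjectiveSpecialLinearGroup (Fin 2) K) =
        (QuotientGroup.mk (dg t))⁻¹ := rfl
      rw [e1, inv_inv] at h
      exact h) with h | h
    · have h4 := orderOf_dvd_of_pow_eq_one (pow_of_centralize t 2 h)
      rw [hord] at h4
      have h5 := Nat.le_of_dvd (by norm_num) h4
      have : Nat.card K ≤ 5 := by omega
      interval_cases hK : Nat.card K <;> simp_all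
    · have h4 := orderOf_dvd_of_pow_eq_one (pow_of_centralize t 3 h)
      rw [hord] at h4
      have h5 := Nat.le_of_dvd (by norm_num) h4
      have : Nat.card K ≤ 7 := by omega
      interval_cases hK : Nat.card K <;> simp_all
  · right
    push Not at hbr
    obtain ⟨s, hs, t, ht, hst⟩ := hbr
    obtain ⟨c, hc⟩ := Br.exists_of_comm (Φ := Φ) (EP_comm s hs t ht)
    have hc1 : c ≠ 1 := by rintro rfl; exact hst hc
    refine ⟨?_, ?_, s, hs, t, ht, c, hc1, hc⟩
    · by_contra hr3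
      apply hc1
      exact hc.eq_one_of_pow ((Nat.coprime_primes hr.out Nat.prime_three).2 hr3) (EP_pow r s hs)
    · rw [← card_EP]
      exact heis_card_le hc hc1 (EP K) fun z hz => ⟨EP_comm z hz s hs, EP_comm z hz t ht⟩

end Cfsg.Agent.H906
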