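import Cfsg.Agent.H906.T14Cls
import Cfsg.Agent.H906.E9
import Cfsg.Agent.H908.Lift

/-!
# `3²:Q₈` in `PSL_3(4)`; covers with centre of order prime to three have degree at least eight
-/

set_option autoImplicit false
set_option linter.unusedSectionVars false

namespace Cfsg.Agent.H906.T14

open Cfsg Cfsg.Geo SL3Par L34
open scoped MatrixGroups commutatorElement Matrix

variable {K : Type*} [Field K]

/-- the group `3²:Q₈` in `PSL_3(4)` -/
theorem exists_E9 [Fintype K] (hK : Fintype.card K = 4) :
    ∃ D C i j : Matrix.ProjectiveSpecialLinearGroup (Fin 3) K, D ^ 3 = 1 ∧ C ^ 3 = 1 ∧ D ≠ 1 ∧ D * C = C * D ∧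
      i * D * i⁻¹ = C ^ 2 ∧ i * C * i⁻¹ = D ∧ j * D * j⁻¹ = D ^ 2 * C ^ 2 ∧ j * C * j⁻¹ = D ^ 2 * C := by
  have k2 := two_zero hK
  obtain ⟨w, hw⟩ := exists_w hK
  have hw3 : w ^ 3 = 1 := by linear_combination (w - 1) * hw
  have hw4 : w ^ 4 = w := by linear_combination w * hw3
  obtain ⟨d, hd⟩ : ∃ x : X K, x.1 = !![1, 0, 0; 0, w, 0; 0, 0, w ^ 2] :=
    ⟨⟨!![1, 0, 0; 0, w, 0; 0, 0, w ^ 2], by
      rw [Matrix.det_fin_three]
      simp
      linear_combination hw3⟩, rfl⟩
  obtain ⟨c, hc⟩ : ∃ x : X K, x.1 = !![0, 0, 1; 1, 0, 0; 0, 1, 0] :=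
    ⟨⟨!![0, 0, 1; 1, 0, 0; 0, 1, 0], by
      rw [Matrix.det_fin_three]
      simp⟩, rfl⟩
  obtain ⟨f, hf⟩ : ∃ x : X K, x.1 = !![1, 1, 1; 1, w, w ^ 2; 1, w ^ 2, w] :=
    ⟨⟨!![1, 1, 1; 1, w, w ^ 2; 1, w ^ 2, w], by
      rw [Matrix.det_fin_three]
      simp
      linear_combination (3 - w ^ 2 + w) * hw - (3 * w + 2) * k2⟩, rfl⟩
  -- `g f g⁻¹`, `g = diag (1, 1, w)`
  obtain ⟨j, hj⟩ : ∃ x : X K, x.1 = !![1, 1, w ^ 2; 1, w, w; w, 1, w] :=
    ⟨⟨!![1, 1, w ^ 2; 1, w, w; w, 1, w], by
      rw [Matrix.det_fin_three]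
      simp
      linear_combination (3 - w ^ 2 + w) * hw - (3 * w + 2) * k2⟩, rfl⟩
  have hcc : (c * c).1 = !![0, 1, 0; 0, 0, 1; 1, 0, 0] := by
    ext k l
    rw [mul_entry, hc]
    fin_cases k <;> fin_cases l <;> simp
  have hdd : (d * d).1 = !![1, 0, 0; 0, w ^ 2, 0; 0, 0, w] := by
    ext k l
    rw [mul_entry, hd]
    fin_cases k <;> fin_cases l <;> simp
    · ring
    · linear_combination hw4
  have hd3 : d * d * d = 1 := by
    apply ext'
    intro k l
    rw [mul_entry, hdd, hd]
    fin_cases k <;> fin_cases l <;> simp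
    · linear_combination hw3
    · linear_combination hw3
  have hc3 : c * c * c = 1 := by
    apply ext'
    intro k l
    rw [mul_entry, hcc, hc]
    fin_cases k <;> fin_cases l <;> simp
  have r1 : f * d = c * c * f := by
    apply ext'
    intro k l
    rw [mul_entry, mul_entry, hcc, hd, hf]
    fin_cases k <;> fin_cases l <;> simp
    all_goals first | ring1 | linear_combination hw3 | linear_combination hw4 | linear_combination (-1) * hw3 | linear_combination (-1) * hw4 | linear_combination (w+1) * hw3 | linear_combination (-1) * (w+1) * hw3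
  have r2 : f * c = d * f := by
    apply ext'
    intro k l
    rw [mul_entry, mul_entry, hc, hd, hf]
    fin_cases k <;> fin_cases l <;> simp
    all_goals first | ring1 | linear_combination hw3 | linear_combination hw4 | linear_combination (-1) * hw3 | linear_combination (-1) * hw4 | linear_combination (w+1) * hw3 | linear_combination (-1) * (w+1) * hw3
  have m1 : (d * d * (c * c)).1 = !![0, 1, 0; 0, 0, w ^ 2; w, 0, 0] := by
    ext k l
    rw [mul_entry, hdd, hcc]
    fin_cases k <;> fin_cases l <;> simp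
  have m2 : (d * d * c).1 = !![0, 0, 1; w ^ 2, 0, 0; 0, w, 0] := by
    ext k l
    rw [mul_entry, hdd, hc]
    fin_cases k <;> fin_cases l <;> simp
  have r3 : j * d = d * d * (c * c) * j := by
    apply ext'
    intro k l
    rw [mul_entry, mul_entry, m1, hd, hj]
    fin_cases k <;> fin_cases l <;> simp
    all_goals first | ring1 | linear_combination hw3 | linear_combination hw4 | linear_combination (-1) * hw3 | linear_combination (-1) * hw4 | linear_combination (w+1) * hw3 | linear_combination (-1) * (w+1) * hw3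
  have r4 : (scal w hw3) * (j * c) = d * d * c * j := by
    apply ext'
    intro k l
    rw [mul_entry, mul_entry _ j, m2]
    simp only [scal_entry, mul_entry j c, hc, hj]
    fin_cases k <;> fin_cases l <;> simp
    all_goals first | ring1 | linear_combination hw3 | linear_combination hw4 | linear_combination (-1) * hw3 | linear_combination (-1) * hw4 | linear_combination (w+1) * hw3 | linear_combination (-1) * (w+1) * hw3
  have r5 : (scal w hw3) * (c * d) = d * c := by
    apply ext'
    intro k l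
    rw [mul_entry, mul_entry d c]
    simp only [scal_entry, mul_entry c d, hc, hd]
    fin_cases k <;> fin_cases l <;> simp
    all_goals first | ring1 | linear_combination hw3 | linear_combination hw4 | linear_combination (-1) * hw3 | linear_combination (-1) * hw4 | linear_combination (w+1) * hw3 | linear_combination (-1) * (w+1) * hw3
  have hs : pj K (scal w hw3) = 1 := (QuotientGroup.eq_one_iff _).2 (scal_mem_center w hw3)
  refine ⟨pj K d, pj K c, pj K f, pj K j, ?_, ?_, ?_, ?_, ?_, ?_, ?_, ?_⟩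
  · rw [← map_pow, pow_succ, pow_two, hd3, map_one]
  · rw [← map_pow, pow_succ, pow_two, hc3, map_one]
  · intro h0
    have h1 : d ∈ Subgroup.center (X K) := (QuotientGroup.eq_one_iff d).1 h0
    obtain ⟨r, -, hr⟩ := Matrix.SpecialLinearGroup.mem_center_iff.1 h1
    have e1 := congrFun (congrFun hr 0) 0
    have e2 := congrFun (congrFun hr 1) 1
    rw [hd] at e1 e2
    simp at e1 e2
    rw [e1] at e2
    rw [← e2] at hw
    have : (1 : K) = 0 := by linear_combination hw - k2
    exact one_ne_zero this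
  · rw [← map_mul, ← map_mul, ← r5, map_mul, hs, one_mul]
  · rw [mul_inv_eq_iff_eq_mul, ← map_mul, r1, map_mul, map_mul, pow_two]
  · rw [mul_inv_eq_iff_eq_mul, ← map_mul, r2, map_mul]
  · rw [mul_inv_eq_iff_eq_mul, ← map_mul, r3, map_mul, map_mul, map_mul, map_mul, pow_two, pow_two]
  · rw [mul_inv_eq_iff_eq_mul, ← map_mul]
    have h1 := congrArg (pj K) r4
    rw [map_mul, hs, one_mul] at h1
    rw [h1, map_mul, map_mul, map_mul, pow_two]

end Cfsg.Agent.H906.T14
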