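import Cfsg.Agent.H906.L34Anti

/-!
# Glueing intertwiners of two subgroups
-/

set_option autoImplicit false
set_option linter.unusedSectionVars false

namespace Cfsg.Agent.H906.L34

open Cfsg Cfsg.Geo Cfsg.Agent.H908
open scoped MatrixGroups commutatorElement Matrix

section Agree

variable {F : Type*} [Field F] {ι : Type} [Fintype ι] [DecidableEq ι] {Γ : Type*} [Group Γ]

/-- the conjugate representation -/
def cjB (B : GL ι F) (ρ : Γ →* Matrix ι ι F) : Γ →* Matrix ι ι F where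
  toFun g := (B : Matrix ι ι F) * ρ g * ((B⁻¹ : GL ι F) : Matrix ι ι F)
  map_one' := by rw [map_one, mul_one, ← Units.val_mul, mul_inv_cancel, Units.val_one]
  map_mul' x y := by
    rw [map_mul]
    have h1 : ((B⁻¹ : GL ι F) : Matrix ι ι F) * (B : Matrix ι ι F) = 1 := by
      rw [← Units.val_mul, inv_mul_cancel, Units.val_one]
    calc (B : Matrix ι ι F) * (ρ x * ρ y) * ((B⁻¹ : GL ι F) : Matrix ι ι F)
        = (B : Matrix ι ι F) * ρ x * 1 * ρ y * ((B⁻¹ : GL ι F) : Matrix ι ι F) := by simp only [mul_assoc, one_mul]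
      _ = _ := by rw [← h1]; simp only [mul_assoc]

lemma cjB_apply (B : GL ι F) (ρ : Γ →* Matrix ι ι F) (g : Γ) :
    cjB B ρ g = (B : Matrix ι ι F) * ρ g * ((B⁻¹ : GL ι F) : Matrix ι ι F) := rfl

/-- the subgroup where `ρ₂` is the conjugate of `ρ₁` by `B` -/
def agree (ρ₁ ρ₂ : Γ →* Matrix ι ι F) (B : GL ι F) : Subgroup Γ := (cjB B ρ₁).eqLocus ρ₂

lemma mem_agree {ρ₁ ρ₂ : Γ →* Matrix ι ι F} {B : GL ι F} {g : Γ} : g ∈ agree ρ₁ ρ₂ B ↔ cjB B ρ₁ g = ρ₂ g := Iff.rfl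

/-- A matrix commuting with a spanning set is scalar. -/
lemma scalar_of_comm [Nonempty ι] {S : Set (Matrix ι ι F)} (hS : Submodule.span F S = ⊤) {D : Matrix ι ι F}
    (hD : ∀ s ∈ S, D * s = s * D) : ∃ c : F, D = c • 1 := by
  have h1 : ∀ Y : Matrix ι ι F, D * Y = Y * D := by
    intro Y
    have hY : Y ∈ Submodule.span F S := by rw [hS]; trivial
    induction hY using Submodule.span_induction with
    | mem s hs => exact hD s hs
    | zero => simp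
    | add a b _ _ ha hb => rw [mul_add, add_mul, ha, hb]
    | smul c a _ ha => rw [mul_smul_comm, smul_mul_assoc, ha]
  obtain ⟨c, hc⟩ := (Matrix.mem_range_scalar_iff_commute_single' (M := D)).2 (fun i j => (h1 _).symm)
  refine ⟨c, ?_⟩
  rw [← hc]
  simp [Matrix.smul_one_eq_diagonal]

/-- elements normalising a subgroup on which the intertwiner works -/
lemma normalizer_scalar [Nonempty ι] {ρ₁ ρ₂ : Γ →* Matrix ι ι F} {B : GL ι F} {Q : Subgroup Γ}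
    (hspan : Submodule.span F (ρ₁ '' Q) = ⊤) (hQ : Q ≤ agree ρ₁ ρ₂ B) {g : Γ}
    (hg : ∀ q ∈ Q, g⁻¹ * q * g ∈ Q) : ∃ c : F, ρ₂ g = c • cjB B ρ₁ g := by
  have hB1 : ((B⁻¹ : GL ι F) : Matrix ι ι F) * (B : Matrix ι ι F) = 1 := by
    rw [← Units.val_mul, inv_mul_cancel, Units.val_one]
  have hB2 : (B : Matrix ι ι F) * ((B⁻¹ : GL ι F) : Matrix ι ι F) = 1 := by
    rw [← Units.val_mul, mul_inv_cancel, Units.val_one]
  set β : Matrix ι ι F := (B : Matrix ι ι F)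
  set β' : Matrix ι ι F := ((B⁻¹ : GL ι F) : Matrix ι ι F)
  have hq : ∀ q ∈ Q, ρ₂ q = β * ρ₁ q * β' := fun q hq => (mem_agree.1 (hQ hq)).symm
  obtain ⟨c, hc⟩ := scalar_of_comm hspan (D := β' * ρ₂ g * β * ρ₁ g⁻¹) (by
    rintro _ ⟨q, hqQ, rfl⟩
    have hq' := hg q hqQ
    have e1 : g⁻¹ * q = (g⁻¹ * q * g) * g⁻¹ := by group
    calc β' * ρ₂ g * β * ρ₁ g⁻¹ * ρ₁ q = β' * ρ₂ g * β * ρ₁ (g⁻¹ * q) := by rw [map_mul, mul_assoc _ (ρ₁ g⁻¹)]
      _ = β' * ρ₂ g * β * (ρ₁ (g⁻¹ * q * g) * ρ₁ g⁻¹) := by rw [← map_mul ρ₁, ← e1]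
      _ = β' * ρ₂ g * (β * ρ₁ (g⁻¹ * q * g) * 1) * ρ₁ g⁻¹ := by simp only [mul_assoc, one_mul]
      _ = β' * ρ₂ g * (β * ρ₁ (g⁻¹ * q * g) * β' * β) * ρ₁ g⁻¹ := by rw [← hB1]; simp only [mul_assoc]
      _ = β' * ρ₂ g * (ρ₂ (g⁻¹ * q * g) * β) * ρ₁ g⁻¹ := by rw [← hq _ hq']
      _ = β' * (ρ₂ g * ρ₂ (g⁻¹ * q * g)) * β * ρ₁ g⁻¹ := by simp only [mul_assoc]
      _ = β' * (ρ₂ q * ρ₂ g) * β * ρ₁ g⁻¹ := by
          rw [← map_mul, ← map_mul]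
          congr 4
          group
      _ = β' * ((β * ρ₁ q * β') * ρ₂ g) * β * ρ₁ g⁻¹ := by rw [hq q hqQ]
      _ = (β' * β) * ρ₁ q * (β' * ρ₂ g * β * ρ₁ g⁻¹) := by simp only [mul_assoc]
      _ = ρ₁ q * (β' * ρ₂ g * β * ρ₁ g⁻¹) := by rw [hB1, one_mul])
  refine ⟨c, ?_⟩
  rw [cjB_apply]
  calc ρ₂ g = (β * β') * ρ₂ g * ((β * (ρ₁ g⁻¹ * ρ₁ g)) * β') := by
        rw [← map_mul, inv_mul_cancel, map_one, mul_one, hB2, one_mul, mul_one]
    _ = β * (β' * ρ₂ g * β * ρ₁ g⁻¹) * ρ₁ g * β' := by simp only [mul_assoc]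
    _ = c • (β * ρ₁ g * β') := by
        rw [hc]
        simp only [mul_smul_comm, smul_mul_assoc, mul_one]

lemma commutator_mem_agree [Nonempty ι] {ρ₁ ρ₂ : Γ →* Matrix ι ι F} {B : GL ι F} {Q : Subgroup Γ}
    (hspan : Submodule.span F (ρ₁ '' Q) = ⊤) (hQ : Q ≤ agree ρ₁ ρ₂ B) {g k : Γ}
    (hg : ∀ q ∈ Q, g⁻¹ * q * g ∈ Q) (hk : ∀ q ∈ Q, k⁻¹ * q * k ∈ Q) : ⁅g, k⁆ ∈ agree ρ₁ ρ₂ B := by
  obtain ⟨c, hc⟩ := normalizer_scalar hspan hQ hg
  obtain ⟨d, hd⟩ := normalizer_scalar hspan hQ hk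
  rw [mem_agree]
  have h1 : ρ₂ (g * k) = (c * d) • cjB B ρ₁ (g * k) := by
    rw [map_mul, map_mul, hc, hd, smul_mul_smul_comm]
  have h2 : ρ₂ (k * g) = (c * d) • cjB B ρ₁ (k * g) := by
    rw [map_mul, map_mul, hc, hd, smul_mul_smul_comm, mul_comm d c]
  have h3 : g * k = ⁅g, k⁆ * (k * g) := by rw [commutatorElement_def]; group
  have h4 : ρ₂ ⁅g, k⁆ * ρ₂ (k * g) = cjB B ρ₁ ⁅g, k⁆ * ρ₂ (k * g) := by
    rw [← map_mul, ← h3, h1, h2, mul_smul_comm, ← map_mul, ← h3]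
  have h5 := congrArg (fun M => M * ρ₂ (k * g)⁻¹) h4
  simp only [mul_assoc, ← map_mul, mul_inv_cancel, map_one, mul_one] at h5
  exact h5.symm

/-- uniqueness of the intertwiner -/
lemma agree_eq [Nonempty ι] {ρ₁ ρ₂ : Γ →* Matrix ι ι F} {B C : GL ι F} {Q : Subgroup Γ}
    (hspan : Submodule.span F (ρ₁ '' Q) = ⊤) (hB : Q ≤ agree ρ₁ ρ₂ B) (hC : Q ≤ agree ρ₁ ρ₂ C) :
    agree ρ₁ ρ₂ B = agree ρ₁ ρ₂ C := by
  obtain ⟨c, hc⟩ := scalar_of_comm hspan (D := ((C⁻¹ * B : GL ι F) : Matrix ι ι F)) (by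
    rintro _ ⟨q, hq, rfl⟩
    have h1 : (B : Matrix ι ι F) * ρ₁ q * ((B⁻¹ : GL ι F) : Matrix ι ι F) =
        (C : Matrix ι ι F) * ρ₁ q * ((C⁻¹ : GL ι F) : Matrix ι ι F) :=
      (mem_agree.1 (hB hq)).trans (mem_agree.1 (hC hq)).symm
    have h2 := congrArg (fun M => ((C⁻¹ : GL ι F) : Matrix ι ι F) * M * (B : Matrix ι ι F)) h1
    have e1 : ((B⁻¹ : GL ι F) : Matrix ι ι F) * (B : Matrix ι ι F) = 1 := by
      rw [← Units.val_mul, inv_mul_cancel, Units.val_one]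
    have e2 : ((C⁻¹ : GL ι F) : Matrix ι ι F) * (C : Matrix ι ι F) = 1 := by
      rw [← Units.val_mul, inv_mul_cancel, Units.val_one]
    rw [Units.val_mul]
    calc ((C⁻¹ : GL ι F) : Matrix ι ι F) * (B : Matrix ι ι F) * ρ₁ q
        = ((C⁻¹ : GL ι F) : Matrix ι ι F) * ((B : Matrix ι ι F) * ρ₁ q * ((B⁻¹ : GL ι F) : Matrix ι ι F)) *
          (B : Matrix ι ι F) := by simp only [mul_assoc, e1, mul_one]
      _ = ((C⁻¹ : GL ι F) : Matrix ι ι F) * ((C : Matrix ι ι F) * ρ₁ q * ((C⁻¹ : GL ι F) : Matrix ι ι F)) *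
          (B : Matrix ι ι F) := by rw [h1]
      _ = (((C⁻¹ : GL ι F) : Matrix ι ι F) * (C : Matrix ι ι F)) * ρ₁ q *
          (((C⁻¹ : GL ι F) : Matrix ι ι F) * (B : Matrix ι ι F)) := by simp only [mul_assoc]
      _ = _ := by rw [e2, one_mul])
  -- conjugation by `B` and by `C` agree
  have hc' : ((B⁻¹ * C : GL ι F) : Matrix ι ι F) * (c • 1) = 1 := by
    rw [← hc, ← Units.val_mul]
    have : B⁻¹ * C * (C⁻¹ * B) = 1 := by group
    rw [this, Units.val_one]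
  have key : cjB B ρ₁ = cjB C ρ₁ := by
    apply MonoidHom.ext
    intro g
    rw [cjB_apply, cjB_apply]
    have e1 : (B : Matrix ι ι F) = (C : Matrix ι ι F) * ((C⁻¹ * B : GL ι F) : Matrix ι ι F) := by
      rw [← Units.val_mul]
      congr 1
      group
    have e2 : ((B⁻¹ : GL ι F) : Matrix ι ι F) = ((B⁻¹ * C : GL ι F) : Matrix ι ι F) * ((C⁻¹ : GL ι F) : Matrix ι ι F) := by
      rw [← Units.val_mul]
      congr 1
      group
    rw [e1, e2, hc, mul_smul_comm, mul_one, smul_mul_assoc, smul_mul_assoc]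
    calc c • ((C : Matrix ι ι F) * ρ₁ g * (((B⁻¹ * C : GL ι F) : Matrix ι ι F) * ((C⁻¹ : GL ι F) : Matrix ι ι F)))
        = (C : Matrix ι ι F) * ρ₁ g * ((((B⁻¹ * C : GL ι F) : Matrix ι ι F) * (c • 1)) *
            ((C⁻¹ : GL ι F) : Matrix ι ι F)) := by
          simp only [mul_smul_comm, smul_mul_assoc, mul_one]
      _ = _ := by rw [hc', one_mul]
  unfold agree
  rw [key]

/-- existence of the intertwiner on a subgroup -/
lemma exists_agree (ρ₁ ρ₂ : Γ →* Matrix ι ι F) (Q : Subgroup Γ)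
    (h₁ : Submodule.span F (ρ₁ '' Q) = ⊤) (h₂ : Submodule.span F (ρ₂ '' Q) = ⊤)
    (htr : ∀ g ∈ Q, (ρ₁ g).trace = (ρ₂ g).trace) : ∃ B : GL ι F, Q ≤ agree ρ₁ ρ₂ B := by
  have hr : ∀ ρ : Γ →* Matrix ι ι F, Set.range (ρ.comp Q.subtype) = ρ '' Q := by
    intro ρ
    ext M
    constructor
    · rintro ⟨q, rfl⟩
      exact ⟨q.1, q.2, rfl⟩
    · rintro ⟨q, hq, rfl⟩
      exact ⟨⟨q, hq⟩, rfl⟩
  obtain ⟨B, hB⟩ := exists_conj_of_trace (ρ₁.comp Q.subtype) (ρ₂.comp Q.subtype) (by rw [hr, h₁]) (by rw [hr, h₂])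
    (fun g => htr g.1 g.2)
  exact ⟨B, fun q hq => (hB ⟨q, hq⟩).symm⟩

end Agree

section Amal

variable {F : Type*} [Field F] {T : Type*} [Group T] {P : Subgroup (GL (Fin 4) F)} {φ : P →* T}

lemma ker_trace [CharP F 3] (h : Cov P φ) {x : P} (hx : φ x = 1) : tr x ^ 3 = tr x⁻¹ := by
  obtain ⟨c, hc⟩ := (h.ker x).1 hx
  have h4 := h.pow_four hc
  have hc0 : c ≠ 0 := by
    rintro rfl
    norm_num at h4
  have h3 : (3 : F) = 0 := by
    have := CharP.cast_eq_zero F 3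
    exact_mod_cast this
  have hi : mt P x⁻¹ = c⁻¹ • 1 := by
    have h1 : mt P x⁻¹ * mt P x = 1 := by rw [← map_mul, inv_mul_cancel, map_one]
    rw [hc, mul_smul_comm, mul_one] at h1
    rw [← h1, smul_smul, inv_mul_cancel₀ hc0, one_smul]
  have e1 : tr x = c * 4 := by
    unfold tr
    rw [hc, Matrix.trace_smul, Matrix.trace_one, Fintype.card_fin]
    simp
  have e2 : tr x⁻¹ = c⁻¹ * 4 := by
    unfold tr
    rw [hi, Matrix.trace_smul, Matrix.trace_one, Fintype.card_fin]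
    simp
  have e3 : c ^ 3 = c⁻¹ := by
    apply eq_inv_of_mul_eq_one_left
    rw [← pow_succ, h4]
  rw [e1, e2, mul_pow, e3]
  congr 1
  linear_combination 20 * h3

/-- **Glueing.** -/
theorem cov_amalgam [Finite F] [CharP F 3] (h : Cov P φ) (U₁ U₂ N₁ N₂ : Subgroup T)
    (hs₁ : Submodule.span F (Set.range ((mt P).comp (U₁.comap φ).subtype)) = ⊤)
    (hs₂ : Submodule.span F (Set.range ((mt P).comp (U₂.comap φ).subtype)) = ⊤)
    (ht₁ : ∀ x : P, φ x ∈ U₁ → φ x ≠ 1 → tr x = 0) (ht₂ : ∀ x : P, φ x ∈ U₂ → φ x ≠ 1 → tr x = 0)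
    (hN₁ : ∀ t ∈ N₁, ∀ u ∈ U₁, t⁻¹ * u * t ∈ U₁) (hN₂ : ∀ t ∈ N₂, ∀ u ∈ U₂, t⁻¹ * u * t ∈ U₂)
    (h12 : U₁ ≤ U₂ ⊔ ⁅N₂, N₂⁆) (hgen : (U₁ ⊔ ⁅N₁, N₁⁆) ⊔ (U₂ ⊔ ⁅N₂, N₂⁆) = ⊤) (g : P) : tr g ^ 3 = tr g⁻¹ := by
  classical
  have hf3 : Fact (Nat.Prime 3) := ⟨Nat.prime_three⟩
  let σ : F ≃+* F := frobeniusEquiv F 3
  have hσ : ∀ c : F, σ c = c ^ 3 := fun c => by
    change frobeniusEquiv F 3 c = c ^ 3
    rw [frobeniusEquiv_apply, frobenius_def]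
  let ρ₁ := twist σ (mt P)
  let ρ₂ := contra (mt P)
  have tr₁ : ∀ x, (ρ₁ x).trace = tr x ^ 3 := fun x => by
    change ((mt P x).map σ).trace = _
    rw [map_trace', hσ]
    rfl
  have tr₂ : ∀ x, (ρ₂ x).trace = tr x⁻¹ := fun x => by
    change ((mt P x⁻¹)ᵀ).trace = _
    rw [Matrix.trace_transpose]
    rfl
  have key : ∀ U N : Subgroup T, Submodule.span F (Set.range ((mt P).comp (U.comap φ).subtype)) = ⊤ →
      (∀ x : P, φ x ∈ U → φ x ≠ 1 → tr x = 0) → (∀ t ∈ N, ∀ u ∈ U, t⁻¹ * u * t ∈ U) →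
      Submodule.span F (ρ₁ '' (U.comap φ : Subgroup P)) = ⊤ ∧ ∃ B : GL (Fin 4) F, U.comap φ ≤ agree ρ₁ ρ₂ B ∧
        ∀ x : P, φ x ∈ U ⊔ ⁅N, N⁆ → x ∈ agree ρ₁ ρ₂ B := by
    intro U N hs ht hN
    have hr : ∀ ρ : P →* Matrix (Fin 4) (Fin 4) F, Set.range (ρ.comp (U.comap φ).subtype) = ρ '' (U.comap φ : Subgroup P) := by
      intro ρ
      ext M
      constructor
      · rintro ⟨q, rfl⟩
        exact ⟨q.1, q.2, rfl⟩
      · rintro ⟨q, hq, rfl⟩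
        exact ⟨⟨q, hq⟩, rfl⟩
    have s1 : Submodule.span F (ρ₁ '' (U.comap φ : Subgroup P)) = ⊤ := by
      have e : ρ₁.comp (U.comap φ).subtype = twist σ ((mt P).comp (U.comap φ).subtype) :=
        MonoidHom.ext fun _ => rfl
      rw [← hr, e]
      exact span_twist σ hs
    have s2 : Submodule.span F (ρ₂ '' (U.comap φ : Subgroup P)) = ⊤ := by
      have e : ρ₂.comp (U.comap φ).subtype = contra ((mt P).comp (U.comap φ).subtype) :=
        MonoidHom.ext fun _ => rfl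
      rw [← hr, e]
      exact span_contra hs
    refine ⟨s1, ?_⟩
    obtain ⟨B, hB⟩ := exists_agree ρ₁ ρ₂ (U.comap φ) s1 s2 (by
      intro q hq
      rw [tr₁, tr₂]
      by_cases hq1 : φ q = 1
      · exact ker_trace h hq1
      · rw [ht q hq hq1, ht q⁻¹ (by rw [map_inv]; exact U.inv_mem hq) (by rw [map_inv, Ne, inv_eq_one]; exact hq1)]
        norm_num)
    refine ⟨B, hB, ?_⟩
    intro x hx
    have hmap : U ⊔ ⁅N, N⁆ ≤ (agree ρ₁ ρ₂ B).map φ := by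
      rw [sup_le_iff]
      constructor
      · intro u hu
        obtain ⟨y, rfl⟩ := h.surj u
        exact ⟨y, hB hu, rfl⟩
      · rw [Subgroup.commutator_le]
        intro a ha b hb
        obtain ⟨y, rfl⟩ := h.surj a
        obtain ⟨z, rfl⟩ := h.surj b
        refine ⟨⁅y, z⁆, ?_, by rw [map_commutatorElement]⟩
        apply commutator_mem_agree s1 hB
        · intro q hq
          change φ (y⁻¹ * q * y) ∈ U
          rw [map_mul, map_mul, map_inv]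
          exact hN _ ha _ hq
        · intro q hq
          change φ (z⁻¹ * q * z) ∈ U
          rw [map_mul, map_mul, map_inv]
          exact hN _ hb _ hq
    obtain ⟨s, hs, hsx⟩ := hmap hx
    have h1 : x = s * (s⁻¹ * x) := by group
    rw [h1]
    refine Subgroup.mul_mem _ hs (hB ?_)
    change φ (s⁻¹ * x) ∈ U
    rw [map_mul, map_inv, hsx, inv_mul_cancel]
    exact U.one_mem
  obtain ⟨s1, B₁, hB₁, hB₁'⟩ := key U₁ N₁ hs₁ ht₁ hN₁
  obtain ⟨s2, B₂, hB₂, hB₂'⟩ := key U₂ N₂ hs₂ ht₂ hN₂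
  have heq : agree ρ₁ ρ₂ B₁ = agree ρ₁ ρ₂ B₂ := agree_eq s1 hB₁ (fun q hq => hB₂' q (h12 hq))
  have htop : ∀ x : P, x ∈ agree ρ₁ ρ₂ B₁ := by
    intro x
    have h1 : (U₁ ⊔ ⁅N₁, N₁⁆) ⊔ (U₂ ⊔ ⁅N₂, N₂⁆) ≤ (agree ρ₁ ρ₂ B₁).map φ := by
      rw [sup_le_iff]
      constructor
      · intro t ht
        obtain ⟨y, rfl⟩ := h.surj t
        exact ⟨y, hB₁' y ht, rfl⟩
      · intro t ht
        obtain ⟨y, rfl⟩ := h.surj t
        rw [heq]
        exact ⟨y, hB₂' y ht, rfl⟩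
    rw [hgen] at h1
    obtain ⟨s, hs, hsx⟩ := h1 (x := φ x) trivial
    have h2 : x = s * (s⁻¹ * x) := by group
    rw [h2]
    refine Subgroup.mul_mem _ hs (hB₁ ?_)
    change φ (s⁻¹ * x) ∈ U₁
    rw [map_mul, map_inv, hsx, inv_mul_cancel]
    exact U₁.one_mem
  have h5 := mem_agree.1 (htop g)
  rw [← tr₁, ← tr₂, ← h5, cjB_apply, Matrix.trace_mul_comm, ← mul_assoc, ← Units.val_mul, inv_mul_cancel,
    Units.val_one, one_mul]

end Amal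

end Cfsg.Agent.H906.L34
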