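import Cfsg.Agent.H906.L34Lin
import Cfsg.Agent.H906.MatCoef
import Cfsg.Agent.H906.Trace
import Cfsg.Agent.H908.CovFour

/-!
# Elementary abelian subgroups of order sixteen in a cover in dimension four
-/

set_option autoImplicit false
set_option linter.unusedSectionVars false

namespace Cfsg.Agent.H906.L34

open Cfsg Cfsg.Geo Cfsg.Agent.H908
open scoped MatrixGroups commutatorElement

variable {F : Type*} [Field F] {T : Type*} [Group T] {P : Subgroup (GL (Fin 4) F)} {φ : P →* T}

/-- Lifts of a non-trivial element of a large elementary abelian group anticommute with some other lift. -/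
theorem exists_anti (h : Cov P φ) (h2 : (2 : F) ≠ 0) (U : Subgroup T) [Finite U] (hcard : 8 < Nat.card U)
    (hsq : ∀ a ∈ U, a * a = 1) (hcomm : ∀ a ∈ U, ∀ b ∈ U, a * b = b * a)
    (htrans : ∀ a ∈ U, ∀ b ∈ U, a ≠ 1 → b ≠ 1 → ∃ t : T, (∀ c, c ∈ U ↔ t * c * t⁻¹ ∈ U) ∧ t * a * t⁻¹ = b)
    {x : P} (hx : φ x ∈ U) (hx1 : φ x ≠ 1) :
    ∃ y : P, φ y ∈ U ∧ mt P x * mt P y = -(mt P y * mt P x) := by
  classical
  by_contra hcon
  push Not at hcon
  have h1 : ∀ y : P, φ y ∈ U → x * y = y * x := by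
    intro y hy
    apply mt_injective
    rw [map_mul, map_mul]
    exact (h.comm_or_anti (hcomm _ hx _ hy) (hsq _ hx)).resolve_right (hcon y hy)
  have h3 : ∀ x' y : P, φ x' ∈ U → φ y ∈ U → x' * y = y * x' := by
    intro x' y hx' hy
    by_cases hx'1 : φ x' = 1
    · exact (h.central hx'1 y).symm
    obtain ⟨t, ht, hta⟩ := htrans _ hx _ hx' hx1 hx'1
    obtain ⟨τ, rfl⟩ := h.surj t
    set z := τ * x * τ⁻¹ * x'⁻¹ with hz
    have hzk : φ z = 1 := by
      rw [hz, map_mul, map_mul, map_mul, map_inv, map_inv, hta, mul_inv_cancel]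
    have hx'' : x' = z⁻¹ * (τ * x * τ⁻¹) := by rw [hz]; group
    have hzi : φ z⁻¹ = 1 := by rw [map_inv, hzk, inv_one]
    have hy' : φ (τ⁻¹ * y * τ) ∈ U := by
      rw [ht, map_mul, map_mul, map_inv]
      have : φ τ * ((φ τ)⁻¹ * φ y * φ τ) * (φ τ)⁻¹ = φ y := by group
      rw [this]
      exact hy
    have h4 := h1 _ hy'
    have h5 : (τ * x * τ⁻¹) * y = y * (τ * x * τ⁻¹) := by
      calc (τ * x * τ⁻¹) * y = τ * (x * (τ⁻¹ * y * τ)) * τ⁻¹ := by group
        _ = τ * ((τ⁻¹ * y * τ) * x) * τ⁻¹ := by rw [h4]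
        _ = y * (τ * x * τ⁻¹) := by group
    rw [hx'']
    generalize τ * x * τ⁻¹ = g at h5
    rw [mul_assoc, h5, ← mul_assoc, ← h.central hzi y, mul_assoc]
  choose y hy using fun a : U => h.surj (a : T)
  have : Fintype U := Fintype.ofFinite U
  have hle := card_le_eight' (F := F) (E := U) h2 (fun a => mt P (y a))
    (by
      intro a b
      rw [← map_mul, ← map_mul, h3 _ _ (by rw [hy]; exact a.2) (by rw [hy]; exact b.2)])
    (by
      intro a
      have h4 : φ (y a * y a) = 1 := by rw [map_mul, hy]; exact hsq _ a.2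
      obtain ⟨c, hc⟩ := (h.ker _).1 h4
      refine ⟨c, ?_, by rw [← map_mul, hc]⟩
      rintro rfl
      have := h.pow_four hc
      norm_num at this)
    (by
      rintro a b ⟨d, hd⟩
      have h4 : φ (y a * (y b)⁻¹) = 1 := by
        rw [h.ker]
        refine ⟨d, ?_⟩
        rw [map_mul, hd, smul_mul_assoc, ← map_mul, mul_inv_cancel, map_one]
      rw [map_mul, map_inv, hy, hy, mul_inv_eq_one] at h4
      exact Subtype.ext h4)
  rw [Nat.card_eq_fintype_card] at hcard
  omega

/-- The traces vanish. -/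
theorem tr_eq_zero (h : Cov P φ) (h2 : (2 : F) ≠ 0) (U : Subgroup T) [Finite U] (hcard : 8 < Nat.card U)
    (hsq : ∀ a ∈ U, a * a = 1) (hcomm : ∀ a ∈ U, ∀ b ∈ U, a * b = b * a)
    (htrans : ∀ a ∈ U, ∀ b ∈ U, a ≠ 1 → b ≠ 1 → ∃ t : T, (∀ c, c ∈ U ↔ t * c * t⁻¹ ∈ U) ∧ t * a * t⁻¹ = b)
    {x : P} (hx : φ x ∈ U) (hx1 : φ x ≠ 1) : tr x = 0 := by
  obtain ⟨y, -, hy⟩ := exists_anti h h2 U hcard hsq hcomm htrans hx hx1
  exact h.tr_zero_of_anti h2 hy

/-- The lifts span the matrix algebra. -/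
theorem span_eq_top (h : Cov P φ) (h2 : (2 : F) ≠ 0) (U : Subgroup T) [Finite U] (hcard : Nat.card U = 16)
    (htr : ∀ x : P, φ x ∈ U → φ x ≠ 1 → tr x = 0) :
    Submodule.span F (Set.range ((mt P).comp (U.comap φ).subtype)) = ⊤ := by
  classical
  have : Fintype U := Fintype.ofFinite U
  choose y hy using fun a : U => h.surj (a : T)
  have hli : LinearIndependent F (fun a : U => mt P (y a)) := by
    rw [Fintype.linearIndependent_iff]
    intro c hc a
    have h1 := congrArg (fun M => (M * mt P (y a)⁻¹).trace) hc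
    simp only [Finset.sum_mul, Matrix.trace_sum, smul_mul_assoc, Matrix.trace_smul, ← map_mul, zero_mul,
      Matrix.trace_zero] at h1
    rw [Finset.sum_eq_single a] at h1
    · rw [mul_inv_cancel, map_one, Matrix.trace_one, Fintype.card_fin] at h1
      have h4 : ((4 : ℕ) : F) ≠ 0 := by
        rw [show ((4 : ℕ) : F) = 2 * 2 by norm_num]
        exact mul_ne_zero h2 h2
      exact (smul_eq_zero.1 h1).resolve_right h4
    · intro b _ hb
      have h3 : tr (y b * (y a)⁻¹) = 0 := by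
        apply htr
        · rw [map_mul, map_inv, hy, hy]
          exact U.mul_mem b.2 (U.inv_mem a.2)
        · rw [map_mul, map_inv, hy, hy, Ne, mul_inv_eq_one]
          exact fun h => hb (Subtype.ext h)
      have h5 : (mt P (y b * (y a)⁻¹)).trace = 0 := h3
      rw [h5, smul_zero]
    · intro ha
      exact absurd (Finset.mem_univ a) ha
  have hcard' : Fintype.card U = Module.finrank F (Matrix (Fin 4) (Fin 4) F) := by
    rw [← Nat.card_eq_fintype_card, hcard, Module.finrank_matrix]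
    simp
  have h5 := hli.span_eq_top_of_card_eq_finrank' hcard'
  rw [eq_top_iff, ← h5, Submodule.span_le]
  rintro _ ⟨a, rfl⟩
  apply Submodule.subset_span
  exact ⟨⟨y a, by change φ (y a) ∈ U; rw [hy]; exact a.2⟩, rfl⟩

end Cfsg.Agent.H906.L34
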