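import Mathlib

/-!
# Commuting families of 4×4 matrices with scalar squares
-/

set_option autoImplicit false

namespace Cfsg.Agent.H906.L34

open Module Module.End

section AlgClosed

variable {K V E : Type*} [Field K] [IsAlgClosed K] [AddCommGroup V] [Module K V] [FiniteDimensional K V]

/-- In dimension four a commuting family of endomorphisms with scalar squares has at most eight members modulo
scalars. -/
theorem card_le_eight (h2 : (2 : K) ≠ 0) (hd : finrank K V = 4) [Fintype E] (y : E → Module.End K V)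
    (hcomm : ∀ a b, y a * y b = y b * y a) (hsq : ∀ a, ∃ c : K, c ≠ 0 ∧ y a * y a = c • 1)
    (hinj : ∀ a b, (∃ d : K, y a = d • y b) → a = b) : Fintype.card E ≤ 8 := by
  classical
  choose c hc0 hc using hsq
  let wt : (E → K) → Submodule K V := fun χ => ⨅ a, (y a).eigenspace (χ a)
  have mem_wt : ∀ (χ : E → K) (v : V), v ∈ wt χ ↔ ∀ a, y a v = χ a • v := by
    intro χ v
    change v ∈ ⨅ a, (y a).eigenspace (χ a) ↔ _
    rw [Submodule.mem_iInf]
    constructor
    · intro h a
      exact mem_eigenspace_iff.1 (h a)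
    · intro h a
      exact mem_eigenspace_iff.2 (h a)
  have hss : ∀ a, (y a).IsSemisimple := by
    intro a
    apply isSemisimple_of_squarefree_aeval_eq_zero (p := Polynomial.X ^ 2 - Polynomial.C (c a))
    · apply Polynomial.Separable.squarefree
      exact Polynomial.separable_X_pow_sub_C (c a) (by exact_mod_cast h2) (hc0 a)
    · rw [map_sub, map_pow, Polynomial.aeval_X, Polynomial.aeval_C, pow_two, hc]
      rw [Algebra.algebraMap_eq_smul_one, sub_self]
  have hwt : ∀ χ, wt χ = ⨅ a, (y a).maxGenEigenspace (χ a) := by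
    intro χ
    change ⨅ a, (y a).eigenspace (χ a) = _
    congr 1
    funext a
    exact ((hss a).isFinitelySemisimple.maxGenEigenspace_eq_eigenspace _).symm
  have htop : ⨆ χ : E → K, wt χ = ⊤ := by
    simp only [hwt]
    apply iSup_iInf_maxGenEigenspace_eq_top_of_iSup_maxGenEigenspace_eq_top_of_commute
    · intro a b _
      exact hcomm a b
    · intro a
      exact iSup_maxGenEigenspace_eq_top _
  have hind : iSupIndep (fun χ : E → K => wt χ) := by
    simp only [hwt]
    apply independent_iInf_maxGenEigenspace_of_forall_mapsTo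
    intro a b φ
    apply mapsTo_maxGenEigenspace_of_comm
    exact hcomm b a
  let Λ := {χ : E → K // wt χ ≠ ⊥}
  have hfin : Finite Λ := (WellFoundedGT.finite_ne_bot_of_iSupIndep hind).to_subtype
  have : Fintype Λ := Fintype.ofFinite Λ
  have hcard : Fintype.card Λ ≤ 4 := by
    have := hind.subtype_ne_bot_le_finrank
    rwa [hd] at this
  have hval : ∀ (χ : Λ) a, χ.1 a * χ.1 a = c a := by
    intro χ a
    obtain ⟨v, hv, hv0⟩ := (wt χ.1).ne_bot_iff.1 χ.2
    have h1 := (mem_wt _ _).1 hv a
    have h3 : (y a * y a) v = (χ.1 a * χ.1 a) • v := by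
      rw [Module.End.mul_apply, h1, map_smul, h1, smul_smul]
    rw [hc a] at h3
    have h4 : (c a - χ.1 a * χ.1 a) • v = 0 := by
      rw [sub_smul, ← h3]
      simp
    exact (sub_eq_zero.1 ((smul_eq_zero.1 h4).resolve_right hv0)).symm
  have hne : Nonempty Λ := by
    by_contra hemp
    have h3 : ∀ χ : E → K, wt χ = ⊥ := by
      intro χ
      by_contra h4
      exact hemp ⟨⟨χ, h4⟩⟩
    have h5 : (⊤ : Submodule K V) = ⊥ := by
      rw [← htop]
      simp only [h3, iSup_bot]
    have h6 : finrank K (⊤ : Submodule K V) = 0 := by rw [h5]; exact finrank_bot K V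
    rw [finrank_top, hd] at h6
    omega
  obtain ⟨χ₀⟩ := hne
  let s : E → ({χ : Λ // χ ≠ χ₀} → Bool) := fun a χ => decide (χ.1.1 a = χ₀.1 a)
  have hsinj : Function.Injective s := by
    intro a b hab
    apply hinj
    have hb0 : χ₀.1 b ≠ 0 := by
      intro h0
      have := hval χ₀ b
      rw [h0, mul_zero] at this
      exact hc0 b this.symm
    refine ⟨χ₀.1 a / χ₀.1 b, ?_⟩
    have key : ∀ χ : Λ, χ.1 a = χ₀.1 a / χ₀.1 b * χ.1 b := by
      intro χ
      by_cases hχ : χ = χ₀
      · subst hχ
        field_simp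
      · have h3 := congrFun hab ⟨χ, hχ⟩
        have h4 : (χ.1 a = χ₀.1 a) ↔ (χ.1 b = χ₀.1 b) := by
          simpa [s] using h3
        by_cases h5 : χ.1 a = χ₀.1 a
        · rw [h5, h4.1 h5]
          field_simp
        · have h6 : ¬ χ.1 b = χ₀.1 b := fun h => h5 (h4.2 h)
          have e1 : χ.1 a = - χ₀.1 a :=
            (mul_self_eq_mul_self_iff.1 ((hval χ a).trans (hval χ₀ a).symm)).resolve_left h5
          have e2 : χ.1 b = - χ₀.1 b :=
            (mul_self_eq_mul_self_iff.1 ((hval χ b).trans (hval χ₀ b).symm)).resolve_left h6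
          rw [e1, e2]
          field_simp
    refine LinearMap.ext fun v => ?_
    have h1 : (⊤ : Submodule K V) ≤ LinearMap.eqLocus (y a) ((χ₀.1 a / χ₀.1 b) • y b) := by
      rw [← htop, iSup_le_iff]
      intro χ v hv
      by_cases hχ : wt χ = ⊥
      · rw [hχ, Submodule.mem_bot] at hv
        rw [hv]
        exact Submodule.zero_mem _
      · change y a v = ((χ₀.1 a / χ₀.1 b) • y b) v
        rw [LinearMap.smul_apply, (mem_wt _ _).1 hv a, (mem_wt _ _).1 hv b, smul_smul]
        rw [← key ⟨χ, hχ⟩]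
    exact h1 (Submodule.mem_top (x := v))
  have h7 := Fintype.card_le_of_injective s hsinj
  have h8 : Fintype.card ({χ : Λ // χ ≠ χ₀} → Bool) ≤ 8 := by
    have h9 : Fintype.card {χ : Λ // χ ≠ χ₀} = Fintype.card Λ - 1 := by
      rw [Fintype.card_subtype_compl, Fintype.card_subtype_eq]
    rw [Fintype.card_fun, Fintype.card_bool, h9]
    calc 2 ^ (Fintype.card Λ - 1) ≤ 2 ^ 3 := Nat.pow_le_pow_right (by norm_num) (by omega)
      _ = 8 := by norm_num
  exact h7.trans h8

end AlgClosed

section Mat

open Matrix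

variable {F E : Type*} [Field F]

theorem card_le_eight' (h2 : (2 : F) ≠ 0) [Fintype E] (y : E → Matrix (Fin 4) (Fin 4) F)
    (hcomm : ∀ a b, y a * y b = y b * y a) (hsq : ∀ a, ∃ c : F, c ≠ 0 ∧ y a * y a = c • 1)
    (hinj : ∀ a b, (∃ d : F, y a = d • y b) → a = b) : Fintype.card E ≤ 8 := by
  classical
  let Ω := AlgebraicClosure F
  let ι := algebraMap F Ω
  have hι : Function.Injective ι := ι.injective
  let T : Matrix (Fin 4) (Fin 4) F → Module.End Ω (Fin 4 → Ω) := fun M => Matrix.toLin' (M.map ι)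
  have Tmul : ∀ M N, T (M * N) = T M * T N := by
    intro M N
    change Matrix.toLin' ((M * N).map ι) = _
    rw [Matrix.map_mul, Matrix.toLin'_mul]
    rfl
  have Tsmul1 : ∀ c : F, T (c • 1) = ι c • 1 := by
    intro c
    change Matrix.toLin' ((c • (1 : Matrix (Fin 4) (Fin 4) F)).map ι) = _
    rw [Matrix.map_smul' ι c _ (map_mul ι), Matrix.map_one ι (map_zero ι) (map_one ι), map_smul, Matrix.toLin'_one]
    rfl
  apply card_le_eight (K := Ω) (V := Fin 4 → Ω) (E := E) _ (by simp) (fun a => T (y a))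
  · intro a b
    rw [← Tmul, ← Tmul, hcomm]
  · intro a
    obtain ⟨c, hc0, hc⟩ := hsq a
    refine ⟨ι c, ?_, ?_⟩
    · rw [Ne, map_eq_zero]; exact hc0
    · rw [← Tmul, hc, Tsmul1]
  · rintro a b ⟨d, hd⟩
    apply hinj
    obtain ⟨c, hc0, hc⟩ := hsq b
    -- `y a * y b = (d c) 1`
    have h3 : T (y a * y b) = (d * ι c) • 1 := by
      rw [Tmul, hd, smul_mul_assoc, ← Tmul, hc, Tsmul1, smul_smul]
    have h4 : (y a * y b).map ι = (d * ι c) • 1 := by
      apply Matrix.toLin'.injective
      rw [map_smul, Matrix.toLin'_one]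
      exact h3
    set e := (y a * y b) 0 0 with he
    have h5 : ι e = d * ι c := by
      have := congrFun (congrFun h4 0) 0
      simpa using this
    have h6 : y a * y b = e • 1 := by
      ext i j
      apply hι
      have h7 := congrFun (congrFun h4 i) j
      rw [Matrix.map_apply] at h7
      rw [h7, Matrix.smul_apply, Matrix.smul_apply, smul_eq_mul, smul_eq_mul, map_mul, h5]
      by_cases hij : i = j
      · subst hij; simp
      · simp [Matrix.one_apply_ne hij]
    refine ⟨c⁻¹ * e, ?_⟩
    have h8 : y a * (y b * y b) = e • y b := by rw [← mul_assoc, h6, smul_mul_assoc, one_mul]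
    rw [hc, mul_smul_comm, mul_one] at h8
    rw [mul_smul, ← h8, smul_smul, inv_mul_cancel₀ hc0, one_smul]
  · intro h
    apply h2
    apply hι
    rw [map_zero, ← h]
    exact map_ofNat ι 2

end Mat

end Cfsg.Agent.H906.L34
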