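import Cfsg.Agent.H906.CoverTwo
import Cfsg.Agent.H906.SL3Par
import Cfsg.Agent.H906.TraceField

/-!
# `PSL₃` in defining characteristic (helper906)
-/

set_option autoImplicit false
set_option linter.unusedSectionVars false

namespace Cfsg.Agent.H906

open Cfsg Cfsg.Geo SL3Par
open scoped MatrixGroups Matrix

section

variable {F : Type*} [Field F] {P : Subgroup (GL (Fin 3) F)}

/-- The scalar matrix with entry `ζ`, `ζ³ = 1`, in `SL₃`. -/
def scal {K : Type*} [Field K] (ζ : K) (h : ζ ^ 3 = 1) : X K :=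
  ⟨ζ • 1, by rw [Matrix.det_smul, Matrix.det_one, mul_one, Fintype.card_fin, h]⟩

lemma scal_entry {K : Type*} [Field K] (ζ : K) (h : ζ ^ 3 = 1) (i j : Fin 3) :
    (scal ζ h).1 i j = if i = j then ζ else 0 := by
  change (ζ • (1 : Matrix (Fin 3) (Fin 3) K)) i j = _
  rw [Matrix.smul_apply, Matrix.one_apply]
  split_ifs <;> simp

lemma scal_mem_center {K : Type*} [Field K] (ζ : K) (h : ζ ^ 3 = 1) :
    scal ζ h ∈ Subgroup.center (X K) := by
  rw [Subgroup.mem_center_iff]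
  intro g
  apply Subtype.ext
  change g.1 * (ζ • (1 : Matrix (Fin 3) (Fin 3) K)) = (ζ • (1 : Matrix (Fin 3) (Fin 3) K)) * g.1
  rw [Matrix.mul_smul, Matrix.smul_mul, Matrix.mul_one, Matrix.one_mul]

/-- The characters of `Pa`. -/
lemma Pa_char_pow {K : Type*} [Field K] [Finite K] (p : ℕ) [CharP K p] {M : Type*} [CommGroup M]
    {d k : ℕ} (hd : d = 1 ∨ d = 3) (hk : Nat.card K - 1 = d * k) (ψ : Pa K →* M)
    (h1 : ∀ x : Pa K, (x : X K) ^ p = 1 → ψ x = 1)
    (h2 : ∀ x : Pa K, (x : X K) ∈ Subgroup.center (X K) → ψ x = 1) (x : Pa K) : ψ x ^ k = 1 := by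
  classical
  have := Fintype.ofFinite K
  obtain ⟨h20, h21⟩ := x.2
  have hpow : ∀ n : ℕ, (x ^ n).1.1 2 2 = (x.1.1 2 2) ^ n := by
    intro n
    induction n with
    | zero =>
      rw [pow_zero, pow_zero]
      simp
    | succ n ih =>
      obtain ⟨k20, k21⟩ := (x ^ n).2
      rw [pow_succ, pow_succ, ← ih]
      change ((x ^ n : Pa K).1 * x.1).1 2 2 = _
      rw [mul_entry]
      change (x ^ n).1.1 2 0 * _ + (x ^ n).1.1 2 1 * _ + _ = _
      rw [k20, k21, zero_mul, zero_mul, zero_add, zero_add]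
  have ht0 : x.1.1 2 2 ≠ 0 := by
    intro h
    have hd := det_eq x.1
    rw [h, h20, h21] at hd
    simp at hd
  set t := x.1.1 2 2 with ht
  have htq : t ^ (Nat.card K - 1) = 1 := by
    rw [Nat.card_eq_fintype_card]
    exact FiniteField.pow_card_sub_one_eq_one t ht0
  have hζd : (t ^ k) ^ d = 1 := by rw [← pow_mul, mul_comm, ← hk, htq]
  have hζ3 : (t ^ k) ^ 3 = 1 := by
    rcases hd with rfl | rfl
    · rw [pow_one] at hζd; rw [hζd, one_pow]
    · exact hζd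
  have hζi3 : ((t ^ k)⁻¹) ^ 3 = 1 := by rw [inv_pow, hζ3, inv_one]
  have hζmem : scal ((t ^ k)⁻¹) hζi3 ∈ Pa K := by
    constructor <;> rw [scal_entry] <;> simp
  have h3 : ψ (x ^ k * ⟨scal ((t ^ k)⁻¹) hζi3, hζmem⟩) = 1 := by
    apply Pa_char p ψ h1
    change ((x ^ k : Pa K).1 * scal ((t ^ k)⁻¹) hζi3).1 2 2 = 1
    rw [mul_entry, scal_entry, scal_entry, scal_entry, hpow]
    simp [ht0]
  rw [map_mul, h2 ⟨scal ((t ^ k)⁻¹) hζi3, hζmem⟩ (scal_mem_center _ hζi3), mul_one, map_pow] at h3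
  exact h3

/-- The characters of `Pb`. -/
lemma Pb_char_pow {K : Type*} [Field K] [Finite K] (p : ℕ) [CharP K p] {M : Type*} [CommGroup M]
    {d k : ℕ} (hd : d = 1 ∨ d = 3) (hk : Nat.card K - 1 = d * k) (ψ : Pb K →* M)
    (h1 : ∀ x : Pb K, (x : X K) ^ p = 1 → ψ x = 1)
    (h2 : ∀ x : Pb K, (x : X K) ∈ Subgroup.center (X K) → ψ x = 1) (x : Pb K) : ψ x ^ k = 1 := by
  classical
  have := Fintype.ofFinite K
  obtain ⟨h10, h20⟩ := x.2
  have hpow : ∀ n : ℕ, (x ^ n).1.1 0 0 = (x.1.1 0 0) ^ n := by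
    intro n
    induction n with
    | zero =>
      rw [pow_zero, pow_zero]
      simp
    | succ n ih =>
      rw [pow_succ, pow_succ, ← ih]
      change ((x ^ n : Pb K).1 * x.1).1 0 0 = _
      rw [mul_entry, h10, h20, mul_zero, mul_zero, add_zero, add_zero]
  have ht0 : x.1.1 0 0 ≠ 0 := by
    intro h
    have hd := det_eq x.1
    rw [h, h20, h10] at hd
    simp at hd
  set t := x.1.1 0 0 with ht
  have htq : t ^ (Nat.card K - 1) = 1 := by
    rw [Nat.card_eq_fintype_card]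
    exact FiniteField.pow_card_sub_one_eq_one t ht0
  have hζd : (t ^ k) ^ d = 1 := by rw [← pow_mul, mul_comm, ← hk, htq]
  have hζ3 : (t ^ k) ^ 3 = 1 := by
    rcases hd with rfl | rfl
    · rw [pow_one] at hζd; rw [hζd, one_pow]
    · exact hζd
  have hζi3 : ((t ^ k)⁻¹) ^ 3 = 1 := by rw [inv_pow, hζ3, inv_one]
  have hζmem : scal ((t ^ k)⁻¹) hζi3 ∈ Pb K := by
    constructor <;> rw [scal_entry] <;> simp
  have h3 : ψ (x ^ k * ⟨scal ((t ^ k)⁻¹) hζi3, hζmem⟩) = 1 := by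
    apply Pb_char p ψ h1
    change ((x ^ k : Pb K).1 * scal ((t ^ k)⁻¹) hζi3).1 0 0 = 1
    rw [mul_entry, scal_entry, scal_entry, scal_entry, hpow]
    simp [ht0]
  rw [map_mul, h2 ⟨scal ((t ^ k)⁻¹) hζi3, hζmem⟩ (scal_mem_center _ hζi3), mul_one, map_pow] at h3
  exact h3

/-- **Traces of `PSL₃(K)` in defining characteristic.** -/
theorem L3_trace [Finite F] (hP : ActsAbsolutelyIrreducibly (matrixSet P)) {K : Type*} [Field K]
    [Finite K] (p : ℕ) [hp : Fact p.Prime] [CharP F p] [CharP K p]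
    (Φ : (P ⧸ (scalars (Fin 3) F).subgroupOf P) ≃* Matrix.ProjectiveSpecialLinearGroup (Fin 3) K)
    {d : ℕ} (hd : d = 1 ∨ d = 3) (hdP : ∀ g ∈ P, g ∈ scalars (Fin 3) F → g ^ d = 1)
    (hpd : p.Coprime d) (hdm : d ∣ Nat.card K - 1) (g : GL (Fin 3) F) (hg : g ∈ P) :
    (g : Matrix (Fin 3) (Fin 3) F).trace ^ Nat.card K = (g : Matrix (Fin 3) (Fin 3) F).trace := by
  classical
  have := Fintype.ofFinite K
  set q : X K →* Matrix.ProjectiveSpecialLinearGroup (Fin 3) K := QuotientGroup.mk' _ with hq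
  have hqs : Function.Surjective q := QuotientGroup.mk'_surjective _
  have hqk : q.ker = Subgroup.center (X K) := QuotientGroup.ker_mk' _
  have hcov := fibre_cover hP Φ q hqs hdP
  obtain ⟨a, -, ha⟩ := FiniteField.card K p
  have hcardK : Nat.card K = p ^ (a : ℕ) := by rw [Nat.card_eq_fintype_card, ha]
  obtain ⟨k, hk⟩ := hdm
  have : ExpChar F p := ExpChar.prime hp.out
  have : PerfectRing F p := PerfectRing.ofFiniteOfIsReduced p F
  have hfinG : Finite (GL (Fin 3) F) := inferInstance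
  have hfinX : Finite (X K) := inferInstance
  have hfin : Finite (P × X K) := inferInstance
  obtain ⟨y, hy⟩ := fibre_exists_left Φ hqs ⟨g, hg⟩
  have key := hcov.twoPar p hpd (Pa := Pa K) (Pb := Pb K) (Qa := Qa K) (Qb := Qb K) (U := U K)
    (a0 := n12 K) (b0 := n23 K) n12_mem n23_mem double_coset Qa_normal Qb_normal Qa_le Qb_le
    (U_isPGroup p) ⟨uni 0 0 1, ⟨⟨0, 1, rfl⟩, ⟨0, 1, rfl⟩⟩, by
      rw [hqk, Subgroup.mem_center_iff]
      intro h
      have h1 := h (n12 K)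
      have h2 := congrArg (fun z : X K => z.1 0 2) h1
      change (n12 K * uni 0 0 1).1 0 2 = (uni 0 0 1 * n12 K).1 0 2 at h2
      rw [mul_entry, mul_entry] at h2
      simp [n12, uni] at h2⟩
    (Nat.card K) (iterateFrobeniusEquiv F p a) (fun x => by rw [iterateFrobeniusEquiv_def, hcardK])
    (fun ψ h1 h2 x => ⟨k, hk, Pa_char_pow p hd hk ψ h1 (by rw [← hqk]; exact h2) x⟩)
    (fun ψ h1 h2 x => ⟨k, hk, Pb_char_pow p hd hk ψ h1 (by rw [← hqk]; exact h2) x⟩)
    Nat.card_pos y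
  rw [iterateFrobeniusEquiv_def, ← hcardK] at key
  have h3 : fibreRho Φ q y = (g : Matrix (Fin 3) (Fin 3) F) := by
    change (((y.1.1 : P) : GL (Fin 3) F) : Matrix (Fin 3) (Fin 3) F) = _
    rw [hy]
  rwa [h3] at key

end

end Cfsg.Agent.H906
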