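import Cfsg.Agent.H906.T12Pair

/-!
# The case of commuting lifts
-/

set_option autoImplicit false

namespace Cfsg.Agent.H906.T12

open F4

variable {Ω V : Type*} [Field Ω] [AddCommGroup V] [Module Ω V]
variable {R : Module.End Ω V → M3 → Prop} {A B C : F4 → Module.End Ω V} {r y : Module.End Ω V} {z : Ω}

lemma Half.Cy (H : Half R A B C r y z) (c : F4) (v : V) : C c (y v) = y (C (u * c) v) := by
  rw [H.yC]
  congr 2
  revert c
  decide

lemma Half.Ay (H : Half R A B C r y z) (c : F4) (v : V) : A c (y v) = y (A (w * c) v) := by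
  rw [H.yA]
  congr 2
  revert c
  decide

lemma Half.By (H : Half R A B C r y z) (c : F4) (v : V) : B c (y v) = y (B (w * c) v) := by
  rw [H.yB]
  congr 2
  revert c
  decide

lemma Half.y_inj (H : Half R A B C r y z) {v : V} (hv : y v = 0) : v = 0 := by
  rw [← H.y3 v, hv, map_zero, map_zero]

lemma add_same : ∀ b : F4, b + b = 0 := by decide

lemma Half.A_inj (H : Half R A B C r y z) (b : F4) {v : V} (hv : A b v = 0) : v = 0 := by
  rw [← H.A0 v, ← add_same b, ← H.AA, hv, map_zero]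

lemma Half.B_inj (H : Half R A B C r y z) (b : F4) {v : V} (hv : B b v = 0) : v = 0 := by
  rw [← H.B0 v, ← add_same b, ← H.BB, hv, map_zero]

lemma Half.r_inj (H : Half R A B C r y z) {v : V} (hv : r v = 0) : v = 0 := by
  rw [← H.r2 v, hv, map_zero]

/-- the root group of `C` has no fixed vectors if ... -/
lemma Half.A_fix (H : Half R A B C r y z) (hC : wt C 0 = ⊥) {v : V} (hv : ∀ b, A b v = v) : v = 0 := by
  apply H.r_inj
  have h1 : r v ∈ wt C 0 := by
    intro c
    rw [← H.rA, hv, zero_mul, ch_zero, one_smul]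
  rw [hC] at h1
  exact h1

section dims

variable [FiniteDimensional Ω V]

lemma Half.n_eq (H : Half R A B C r y z) : Module.finrank Ω (wt C 1) = Module.finrank Ω (wt C u) ∧
    Module.finrank Ω (wt C u) = Module.finrank Ω (wt C w) := by
  have key : ∀ γ, Module.finrank Ω (wt C γ) ≤ Module.finrank Ω (wt C (u * γ)) := by
    intro γ
    apply finrank_le_of_map (g := y) (fun v hv => H.y_inj hv)
    intro v hv c
    rw [H.Cy, hv, map_smul]
    congr 1
    exact ch_congr ((show ∀ γ c : F4, sg (γ * (u * c)) = sg (u * γ * c) by decide) γ c)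
  have h1 := key 1
  have h2 := key u
  have h3 := key w
  change _ ≤ Module.finrank Ω (wt C u) at h1
  change _ ≤ Module.finrank Ω (wt C w) at h2
  change _ ≤ Module.finrank Ω (wt C 1) at h3
  omega

lemma Half.n_sum (H : Half R A B C r y z) (h2 : (2 : Ω) ≠ 0) :
    Module.finrank Ω V = Module.finrank Ω (wt C 0) + 3 * Module.finrank Ω (wt C 1) := by
  have h1 := finrank_wt h2 H.C0 H.CC ⊤ (fun _ _ _ => trivial)
  have h5 : ∀ γ, Module.finrank Ω ↥(⊤ ⊓ wt C γ) = Module.finrank Ω (wt C γ) := fun γ => by rw [top_inf_eq]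
  rw [sum_four, h5, h5, h5, h5, finrank_top] at h1
  obtain ⟨h3, h4⟩ := H.n_eq
  omega

/-- `C` is not trivial -/
lemma Half.n_zero_ne (H : Half R A B C r y z) (hR : PR R) :
    Module.finrank Ω (wt C 0) ≠ Module.finrank Ω V := by
  intro h0
  have h1 : wt C 0 = ⊤ := Submodule.eq_top_of_finrank_eq h0
  have h3 : C 1 = 1 := by
    ext v
    have h4 : v ∈ wt C 0 := by rw [h1]; trivial
    rw [h4 1, zero_mul, ch_zero, one_smul]
    rfl
  have h5 := H.RC 1
  rw [h3] at h5
  obtain ⟨s, hs⟩ := hR.faith h5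
  revert s
  decide

end dims

/-- commuting lifts, linear action -/
theorem caseA0 [FiniteDimensional Ω V] (hR : PR R) (h2 : (2 : Ω) ≠ 0) (h12 : Module.finrank Ω V = 12)
    (H : Half R A B C r y z) (CA : ∀ c b v, C c (A b v) = A b (C c v)) (CB : ∀ c b v, C c (B b v) = B b (C c v))
    (BA : ∀ a b v, B a (A b v) = A b (C (a * b) (B a v))) : False := by
  have h3 := finrank_wt h2 H.A0 H.AA (wt C 1) (by
    intro b v hv c
    rw [CA, hv, map_smul])
  have key : ∀ a α, Module.finrank Ω ↥(wt C 1 ⊓ wt A α) ≤ Module.finrank Ω ↥(wt C 1 ⊓ wt A (α + a)) := by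
    intro a α
    apply finrank_le_of_map (g := B a) (fun v hv => H.B_inj a hv)
    rintro v ⟨hv, hv'⟩
    refine ⟨?_, ?_⟩
    · intro c
      rw [CB, hv, map_smul]
    · intro b
      have e1 : A b (B a v) = A b (C (a * b) (B a (C (a * b) v))) := by
        rw [← CB, H.CC, (show ∀ x : F4, x + x = 0 by decide), H.C0]
      rw [e1, ← BA, hv, map_smul, map_smul, hv', map_smul, smul_smul, ← ch_add]
      congr 1
      exact ch_congr ((show ∀ a α b : F4, sg (1 * (a * b) + α * b) = sg ((α + a) * b) by decide) a α b)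
  have hle : ∀ α β, Module.finrank Ω ↥(wt C 1 ⊓ wt A α) ≤ Module.finrank Ω ↥(wt C 1 ⊓ wt A β) := by
    intro α β
    have h4 := key (α + β) α
    have e1 : α + (α + β) = β := (show ∀ α β : F4, α + (α + β) = β by decide) α β
    rwa [e1] at h4
  rw [sum_four] at h3
  have h4 := H.n_sum h2
  have h5 := H.n_zero_ne hR
  have h6 := hle 0 1
  have h7 := hle 1 0
  have h8 := hle 0 w
  have h9 := hle w 0
  have h10 := hle 0 u
  have h11 := hle u 0
  have h13 : Module.finrank Ω (wt C 0) = 0 := by omega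
  have h14 : wt C 0 = ⊥ := Submodule.finrank_eq_zero.1 h13
  have h15 : wt C 1 ⊓ wt A 0 = ⊥ := by
    rw [eq_bot_iff]
    rintro v ⟨-, hv⟩
    exact H.A_fix h14 fun b => by rw [hv, zero_mul, ch_zero, one_smul]
  rw [h15, finrank_bot] at h7 h9 h11 h3
  omega

/-- commuting lifts, affine action: no fixed vectors -/
theorem caseA1_fix [FiniteDimensional Ω V] (hR : PR R) (h2 : (2 : Ω) ≠ 0) (h12 : Module.finrank Ω V = 12)
    (H : Half R A B C r y z) (CA : ∀ c b v, C c (A b v) = A b (C c v)) (CB : ∀ c b v, C c (B b v) = B b (C c v))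
    (BA : ∀ a b v, B a (A b v) = (ch (a * a * b) : Ω) • A b (C (a * b) (B a v))) : wt C 0 = ⊥ := by
  have h3 := finrank_wt h2 H.A0 H.AA (wt C 0) (by
    intro b v hv c
    rw [CA, hv, map_smul])
  have key : ∀ a α, Module.finrank Ω ↥(wt C 0 ⊓ wt A α) ≤ Module.finrank Ω ↥(wt C 0 ⊓ wt A (α + a * a)) := by
    intro a α
    apply finrank_le_of_map (g := B a) (fun v hv => H.B_inj a hv)
    rintro v ⟨hv, hv'⟩
    refine ⟨?_, ?_⟩
    · intro c
      rw [CB, hv, map_smul]
    · intro b
      have e1 : C (a * b) v = v := by rw [hv, zero_mul, ch_zero, one_smul]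
      have e2 : B a (A b v) = (ch (a * a * b) : Ω) • A b (B a v) := by rw [BA, CB, e1]
      have e3 : A b (B a v) = (ch (a * a * b) : Ω) • B a (A b v) := by
        rw [e2, smul_smul, ch_mul_self, one_smul]
      rw [e3, hv', map_smul, smul_smul, ← ch_add]
      congr 1
      exact ch_congr ((show ∀ a α b : F4, sg (a * a * b + α * b) = sg ((α + a * a) * b) by decide) a α b)
  have hle : ∀ α β, Module.finrank Ω ↥(wt C 0 ⊓ wt A α) ≤ Module.finrank Ω ↥(wt C 0 ⊓ wt A β) := by
    intro α β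
    have h4 := key ((α + β) * (α + β)) α
    have e1 : α + (α + β) * (α + β) * ((α + β) * (α + β)) = β :=
      (show ∀ α β : F4, α + (α + β) * (α + β) * ((α + β) * (α + β)) = β by decide) α β
    rwa [e1] at h4
  rw [sum_four] at h3
  have h4 := H.n_sum h2
  have h5 := H.n_zero_ne hR
  have h6 := hle 0 1
  have h7 := hle 1 0
  have h8 := hle 0 w
  have h9 := hle w 0
  have h10 := hle 0 u
  have h11 := hle u 0
  exact Submodule.finrank_eq_zero.1 (by omega)

section affine

variable (H : Half R A B C r y z) (CA : ∀ c b v, C c (A b v) = A b (C c v)) (CB : ∀ c b v, C c (B b v) = B b (C c v))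
    (BA : ∀ a b v, B a (A b v) = (ch (a * a * b) : Ω) • A b (C (a * b) (B a v))) (hC : wt C 0 = ⊥)

include H CA CB BA hC

/-- `A(1)` on the first weight space -/
lemma affine_one (h2 : (2 : Ω) ≠ 0) {v : V} (hv : v ∈ wt C 1) : A 1 v = -v := by
  have AB : ∀ a b, ∀ x ∈ wt C 1, A b (B a x) = ((ch (a * a * b) : Ω) * ch (a * b)) • B a (A b x) := by
    intro a b x hx
    have e1 : B a (A b x) = ((ch (a * a * b) : Ω) * ch (a * b)) • A b (B a x) := by
      rw [BA, CB, hx, map_smul, map_smul, smul_smul, one_mul]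
    rw [e1, smul_smul]
    have e2 : ((ch (a * a * b) : Ω) * ch (a * b)) * (ch (a * a * b) * ch (a * b)) = 1 := by
      linear_combination (ch_mul_self (Ω := Ω) (a * a * b)) * (ch (a * b) * ch (a * b)) + ch_mul_self (Ω := Ω) (a * b)
    rw [e2, one_smul]
  have hA1 : ∀ b, ∀ x ∈ wt C 1, A b x ∈ wt C 1 := by
    intro b x hx c
    rw [CA, hx, map_smul]
  have fixA : ∀ x : V, A 1 x = x → A w x = x → x = 0 := by
    intro x h1 hw
    apply H.A_fix hC
    intro b
    cases b
    · exact H.A0 x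
    · exact h1
    · exact hw
    · have : A u x = A 1 (A w x) := by rw [H.AA]; rfl
      rw [this, hw, h1]
  obtain ⟨p, hp⟩ : ∃ p, p = v + A 1 v := ⟨_, rfl⟩
  have hp1 : A 1 p = p := by
    rw [hp, map_add, H.AA, (show (1 : F4) + 1 = 0 by decide), H.A0, add_comm]
  have hpm : p ∈ wt C 1 := by rw [hp]; exact Submodule.add_mem _ hv (hA1 1 v hv)
  have hcomm : A 1 (A w p) = A w (A 1 p) := by rw [H.AA, H.AA]; rfl
  have hpp : p + A w p = 0 := by
    apply fixA
    · rw [map_add, hcomm, hp1]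
    · rw [map_add, H.AA, (show w + w = 0 by decide), H.A0, add_comm]
  have hpq : p - A w p = 0 := by
    have hq : p - A w p ∈ wt C 1 := Submodule.sub_mem _ hpm (hA1 w p hpm)
    have q1 : A 1 (p - A w p) = p - A w p := by rw [map_sub, hcomm, hp1]
    have q2 : A w (p - A w p) = -(p - A w p) := by
      rw [map_sub, H.AA, (show w + w = 0 by decide), H.A0, neg_sub]
    apply H.B_inj w
    apply fixA
    · rw [AB _ _ _ hq, q1]
      have e1 : (ch (w * w * 1) : Ω) * ch (w * 1) = 1 := by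
        rw [← ch_add]
        exact (ch_congr (by decide)).trans ch_zero
      rw [e1, one_smul]
    · rw [AB _ _ _ hq, q2, map_neg]
      have e1 : (ch (w * w * w) : Ω) * ch (w * w) = -1 := by
        rw [← ch_add]
        exact (ch_congr (by decide)).trans ch_w
      rw [e1, neg_smul, one_smul, neg_neg]
  have h3 : p = 0 := by
    have h4 : (2 : Ω) • p = 0 := by
      have : (2 : Ω) • p = (p + A w p) + (p - A w p) := by rw [two_smul]; abel
      rw [this, hpp, hpq, add_zero]
    exact (smul_eq_zero.1 h4).resolve_left h2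
  rw [hp] at h3
  rw [eq_neg_iff_add_eq_zero, add_comm, h3]

end affine

/-- an element of order five -/
lemma five_line {g : Module.End Ω V} {κ c : Ω} (hκ : g * g * g * g * g = κ • 1) {v x : V} (h1 : g v = -x)
    (h2 : g x = -(c • v)) (hc : c ≠ 0) : ∃ d : Ω, x = d • v := by
  have h3 := LinearMap.congr_fun hκ v
  change g (g (g (g (g v)))) = κ • v at h3
  have h4 : g (g v) = c • v := by rw [h1, map_neg, h2, neg_neg]
  rw [h4, map_smul, map_smul, h4, smul_smul, map_smul, h1, smul_neg] at h3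
  refine ⟨-((c * c)⁻¹ * κ), ?_⟩
  have h5 : (c * c) • x = -(κ • v) := by rw [← h3, neg_neg]
  rw [neg_smul, mul_smul, ← smul_neg, ← h5, smul_smul, inv_mul_cancel₀ (mul_ne_zero hc hc), one_smul]

section lines

variable (H : Half R A B C r y z) (hR : PR R) (CA : ∀ c b v, C c (A b v) = A b (C c v))
    (CB : ∀ c b v, C c (B b v) = B b (C c v))
    (BA : ∀ a b v, B a (A b v) = (ch (a * a * b) : Ω) • A b (C (a * b) (B a v)))
    (hB : ∀ v ∈ wt C 1, B 1 v = -v)

lemma Half.Cr (H : Half R A B C r y z) (c : F4) (v : V) : C c (r v) = r (A c v) := (H.rA c v).symm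

lemma Half.Ar (H : Half R A B C r y z) (c : F4) (v : V) : A c (r v) = r (C c v) := (H.rC c v).symm

lemma Half.z_ne (H : Half R A B C r y z) : z ≠ 0 := by
  rintro rfl
  have := H.z3
  rw [zero_pow (by norm_num)] at this
  exact zero_ne_one this

include H hR CA CB BA hB

/-- lines fixed by the reflection -/
theorem line_one {v : V} (hv : v ∈ wt C 1) (hw : v ∈ wt A w) : ∃ κ : Ω, y (r v) = κ • v := by
  obtain ⟨κ, -, hκ⟩ := hR.rel (g := y * r * B 1 * (y * r * B 1) * (y * r * B 1) * (y * r * B 1) * (y * r * B 1))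
    (hR.mul (hR.mul (hR.mul (hR.mul (hR.mul (hR.mul H.Ry H.Rr) (H.RB 1)) (hR.mul (hR.mul H.Ry H.Rr) (H.RB 1)))
      (hR.mul (hR.mul H.Ry H.Rr) (H.RB 1))) (hR.mul (hR.mul H.Ry H.Rr) (H.RB 1)))
      (hR.mul (hR.mul H.Ry H.Rr) (H.RB 1))) hR.one (s := w) (by decide) (by decide)
  have hx : y (r v) ∈ wt C 1 := by
    intro c
    rw [H.Cy, H.Cr, hw, map_smul, map_smul]
    congr 1
    exact ch_congr ((show ∀ c : F4, sg (w * (u * c)) = sg (1 * c) by decide) c)
  apply five_line hκ (c := z) ?_ ?_ H.z_ne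
  · change y (r (B 1 v)) = -y (r v)
    rw [hB v hv, map_neg, map_neg]
  · change y (r (B 1 (y (r v)))) = -(z • v)
    rw [hB _ hx, map_neg, map_neg, H.ry, map_smul, H.y3, H.r2]

theorem line_two {v : V} (hv : v ∈ wt C 1) (hw : v ∈ wt A w) : ∃ κ : Ω, B w (y (y (r (B w v)))) = κ • v := by
  have Rg := hR.mul (hR.mul (hR.mul (hR.mul (hR.mul (H.RB w) H.Ry) H.Ry) H.Rr) (H.RB w)) (H.RB 1)
  obtain ⟨κ, -, hκ⟩ := hR.rel (hR.mul (hR.mul (hR.mul (hR.mul Rg Rg) Rg) Rg) Rg) hR.one (s := u) (by decide) (by decide)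
  have AB : ∀ x ∈ wt C 1, ∀ a b, A b (B a x) = ((ch (a * a * b) : Ω) * ch (a * b)) • B a (A b x) := by
    intro x hx a b
    have e1 : B a (A b x) = ((ch (a * a * b) : Ω) * ch (a * b)) • A b (B a x) := by
      rw [BA, CB, hx, map_smul, map_smul, smul_smul, one_mul]
    rw [e1, smul_smul]
    have e2 : ((ch (a * a * b) : Ω) * ch (a * b)) * (ch (a * a * b) * ch (a * b)) = 1 := by
      linear_combination (ch_mul_self (Ω := Ω) (a * a * b)) * (ch (a * b) * ch (a * b)) + ch_mul_self (Ω := Ω) (a * b)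
    rw [e2, one_smul]
  have hx1 : B w v ∈ wt C 1 := by
    intro c
    rw [CB, hv, map_smul]
  have hx1' : B w v ∈ wt A u := by
    intro b
    rw [AB v hv, hw, map_smul, smul_smul, ← ch_add, ← ch_add]
    congr 1
    exact ch_congr ((show ∀ b : F4, sg (w * w * b + w * b + w * b) = sg (u * b) by decide) b)
  have hx2 : y (y (r (B w v))) ∈ wt C 1 := by
    intro c
    rw [H.Cy, H.Cy, H.Cr, hx1', map_smul, map_smul, map_smul]
    congr 1
    exact ch_congr ((show ∀ b : F4, sg (u * (u * (u * b))) = sg (1 * b) by decide) c)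
  have hx3 : B w (y (y (r (B w v)))) ∈ wt C 1 := by
    intro c
    rw [CB, hx2, map_smul]
  apply five_line hκ (c := z * z) ?_ ?_ (mul_ne_zero H.z_ne H.z_ne)
  · change B w (y (y (r (B w (B 1 v))))) = -B w (y (y (r (B w v))))
    rw [hB v hv, map_neg, map_neg, map_neg, map_neg, map_neg]
  · change B w (y (y (r (B w (B 1 (B w (y (y (r (B w v)))))))))) = -((z * z) • v)
    rw [hB _ hx3, map_neg, H.BB, add_same, H.B0]
    simp only [map_neg, H.ry, map_smul, H.y3, H.r2, smul_smul, H.BB, add_same, H.B0]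

end lines

end Cfsg.Agent.H906.T12
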