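import Cfsg.Agent.H906.T12A

/-!
# The case of commuting lifts, affine action
-/

set_option autoImplicit false
set_option linter.unusedSectionVars false

namespace Cfsg.Agent.H906.T12

open F4

variable {Ω V : Type*} [Field Ω] [AddCommGroup V] [Module Ω V]
variable {R : Module.End Ω V → M3 → Prop} {A B C : F4 → Module.End Ω V} {r t y : Module.End Ω V} {z : Ω}

lemma wt_of {A : F4 → Module.End Ω V} (A0 : ∀ v, A 0 v = v) (AA : ∀ b b' v, A b (A b' v) = A (b + b') v) {x : V}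
    (α : F4) (h1 : A 1 x = (ch α : Ω) • x) (hw : A w x = (ch (α * w) : Ω) • x) : x ∈ wt A α := by
  intro b
  cases b
  · change A 0 x = (ch (α * 0) : Ω) • x
    rw [A0, mul_zero, ch_zero, one_smul]
  · change A 1 x = (ch (α * 1) : Ω) • x
    rw [mul_one, h1]
  · exact hw
  · change A (1 + w) x = (ch (α * u) : Ω) • x
    rw [← AA, hw, map_smul, h1, smul_smul, ← ch_add]
    congr 1
    exact ch_congr ((show ∀ α : F4, sg (α * w + α) = sg (α * u) by decide) α)

theorem caseA1 [FiniteDimensional Ω V] (hR : PR R) (h2 : (2 : Ω) ≠ 0) (h12 : Module.finrank Ω V = 12)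
    (H : Half R A B C r y 1) (H' : Half (fun g x => R g (T12.gam x)) B A C t y z)
    (CA : ∀ c b v, C c (A b v) = A b (C c v)) (CB : ∀ c b v, C c (B b v) = B b (C c v))
    (BA : ∀ a b v, B a (A b v) = (ch (a * a * b) : Ω) • A b (C (a * b) (B a v))) : False := by
  have hC := caseA1_fix hR h2 h12 H CA CB BA
  have hR' := hR.gam
  have BA' : ∀ a b v, A a (B b v) = (ch (a * a * b) : Ω) • B b (C (a * b) (A a v)) := by
    intro a b v
    have e1 : A a (B b v) = A a (C (b * a) (B b (C (b * a) v))) := by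
      rw [← CB, H.CC, add_same, H.C0]
    have e2 : B b (A a (C (b * a) v)) = (ch (b * b * a) : Ω) • A a (B b v) := by
      rw [BA, ← CB, H.CC, add_same, H.C0]
    have e3 : (ch (a * a * b) : Ω) = ch (b * b * a) :=
      ch_congr ((show ∀ a b : F4, sg (a * a * b) = sg (b * b * a) by decide) a b)
    rw [mul_comm a b, CA, e2, e3, smul_smul, ch_mul_self, one_smul]
  have hA1 : ∀ v ∈ wt C 1, A 1 v = -v := fun v hv => affine_one H CA CB BA hC h2 hv
  have hB1 : ∀ v ∈ wt C 1, B 1 v = -v := fun v hv => affine_one H' CB CA BA' hC h2 hv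
  have AB : ∀ x ∈ wt C 1, ∀ a b, A b (B a x) = ((ch (a * a * b) : Ω) * ch (a * b)) • B a (A b x) := by
    intro x hx a b
    have e1 : B a (A b x) = ((ch (a * a * b) : Ω) * ch (a * b)) • A b (B a x) := by
      rw [BA, CB, hx, map_smul, map_smul, smul_smul, one_mul]
    rw [e1, smul_smul]
    have e2 : ((ch (a * a * b) : Ω) * ch (a * b)) * (ch (a * a * b) * ch (a * b)) = 1 := by
      linear_combination (ch_mul_self (Ω := Ω) (a * a * b)) * (ch (a * b) * ch (a * b)) + ch_mul_self (Ω := Ω) (a * b)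
    rw [e2, one_smul]
  have shiftw : ∀ x ∈ wt C 1, ∀ α, x ∈ wt A α → B w x ∈ wt C 1 ∧ B w x ∈ wt A (α + 1) := by
    intro x hx α hα
    constructor
    · intro c
      rw [CB, hx, map_smul]
    · intro b
      rw [AB x hx, hα, map_smul, smul_smul, ← ch_add, ← ch_add]
      congr 1
      exact ch_congr ((show ∀ α b : F4, sg (w * w * b + w * b + α * b) = sg ((α + 1) * b) by decide) α b)
  -- a weight vector
  have h3 := finrank_wt h2 H.A0 H.AA (wt C 1) (by
    intro b v hv c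
    rw [CA, hv, map_smul])
  have h4 := H.n_sum h2
  have z0 : wt C 1 ⊓ wt A 0 = ⊥ := by
    rw [eq_bot_iff]
    rintro v ⟨-, hv⟩
    exact H.A_fix hC fun b => by rw [hv, zero_mul, ch_zero, one_smul]
  have z1 : wt C 1 ⊓ wt A 1 = ⊥ := by
    rw [eq_bot_iff]
    rintro v ⟨hv, hv'⟩
    have e1 := hA1 v hv
    rw [hv', mul_one, ch_one, one_smul] at e1
    have e2 : (2 : Ω) • v = 0 := by
      rw [two_smul]
      nth_rewrite 2 [e1]
      exact add_neg_cancel v
    exact (smul_eq_zero.1 e2).resolve_left h2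
  have hle : Module.finrank Ω ↥(wt C 1 ⊓ wt A u) ≤ Module.finrank Ω ↥(wt C 1 ⊓ wt A w) := by
    apply finrank_le_of_map (g := B w) (fun v hv => H.B_inj w hv)
    rintro v ⟨hv, hv'⟩
    exact shiftw v hv u hv'
  rw [sum_four, z0, z1, finrank_bot] at h3
  rw [hC, finrank_bot, h12] at h4
  have hne : wt C 1 ⊓ wt A w ≠ ⊥ := by
    intro h0
    rw [h0, finrank_bot] at hle h3
    omega
  obtain ⟨v, ⟨hv, hvw⟩, hv0⟩ := Submodule.exists_mem_ne_zero_of_ne_bot hne
  obtain ⟨x, hx⟩ : ∃ x, x = B w v := ⟨_, rfl⟩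
  obtain ⟨hx1, hxu⟩ : x ∈ wt C 1 ∧ x ∈ wt A u := by rw [hx]; exact shiftw v hv w hvw
  obtain ⟨κ1, e1⟩ := line_one H hR CA CB BA hB1 hv hvw
  obtain ⟨κ2, e2⟩ := line_two H hR CA CB BA hB1 hv hvw
  rw [← hx] at e2
  have rv : r v = κ1 • y (y v) := by rw [← map_smul, ← map_smul, ← e1, H.y3]
  have rx : r x = κ2 • y x := by
    have f1 : y (y (r x)) = κ2 • x := by
      rw [hx, ← map_smul, ← e2, ← hx, H.BB, add_same, H.B0]
    rw [← map_smul, ← f1, H.y3]
  -- the other side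
  have Bv : B w v = x := hx.symm
  have Bx : B w x = v := by rw [hx, H.BB, add_same, H.B0]
  have hm1 : v - x ∈ wt C 1 := Submodule.sub_mem _ hv hx1
  have hmw : v - x ∈ wt B w := by
    apply wt_of H.B0 H.BB
    · rw [ch_w, neg_smul, one_smul, hB1 _ hm1]
    · rw [map_sub, Bv, Bx, show w * w = u from rfl, ch_u, neg_smul, one_smul, neg_sub]
  obtain ⟨κ3, e3⟩ := line_one H' hR' CB CA BA' hA1 hm1 hmw
  obtain ⟨κ4, e4⟩ := line_two H' hR' CB CA BA' hA1 hm1 hmw
  have Avx : A w (v - x) = -(v + x) := by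
    rw [map_sub, hvw, hxu, show w * w = u from rfl, show u * w = 1 from rfl, ch_u, ch_one, neg_smul, one_smul, one_smul]
    abel
  have tm : t (v - x) = κ3 • y (y (v - x)) := by rw [← map_smul, ← map_smul, ← e3, H.y3]
  have tp : t (v + x) = κ4 • y (v + x) := by
    have f1 : y (y (t (A w (v - x)))) = κ4 • A w (v - x) := by
      rw [← map_smul, ← e4, H.AA, add_same, H.A0]
    rw [Avx, map_neg, map_neg, map_neg, smul_neg, neg_inj] at f1
    rw [← map_smul, ← f1, H.y3]
  have tv : t v = (2 : Ω)⁻¹ • (κ3 • y (y (v - x)) + κ4 • y (v + x)) := by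
    rw [← tm, ← tp, ← map_add, ← map_smul]
    congr 1
    have : v - x + (v + x) = (2 : Ω) • v := by rw [two_smul]; abel
    rw [this, smul_smul, inv_mul_cancel₀ h2, one_smul]
  have tx : t x = (2 : Ω)⁻¹ • (κ4 • y (v + x) - κ3 • y (y (v - x))) := by
    rw [← tm, ← tp, ← map_sub, ← map_smul]
    congr 1
    have : v + x - (v - x) = (2 : Ω) • x := by rw [two_smul]; abel
    rw [this, smul_smul, inv_mul_cancel₀ h2, one_smul]
  -- the invariant subspace
  let f : Fin 6 → V := ![v, x, y v, y x, y (y v), y (y x)]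
  let W : Submodule Ω V := Submodule.span Ω (Set.range f)
  have m0 : v ∈ W := Submodule.subset_span ⟨0, rfl⟩
  have m1 : x ∈ W := Submodule.subset_span ⟨1, rfl⟩
  have m2 : y v ∈ W := Submodule.subset_span ⟨2, rfl⟩
  have m3 : y x ∈ W := Submodule.subset_span ⟨3, rfl⟩
  have m4 : y (y v) ∈ W := Submodule.subset_span ⟨4, rfl⟩
  have m5 : y (y x) ∈ W := Submodule.subset_span ⟨5, rfl⟩
  have inv : ∀ g : Module.End Ω V, g v ∈ W → g x ∈ W → g (y v) ∈ W → g (y x) ∈ W → g (y (y v)) ∈ W →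
      g (y (y x)) ∈ W → ∀ p ∈ W, g p ∈ W := by
    intro g n0 n1 n2 n3 n4 n5 p hp
    have h5 : W ≤ W.comap g := by
      rw [Submodule.span_le]
      rintro _ ⟨i, rfl⟩
      fin_cases i
      · exact n0
      · exact n1
      · exact n2
      · exact n3
      · exact n4
      · exact n5
    exact h5 hp
  have hy : ∀ p ∈ W, y p ∈ W := inv y m2 m3 m4 m5 (by rw [H.y3]; exact m0) (by rw [H.y3]; exact m1)
  have hA : ∀ b, ∀ p ∈ W, A b p ∈ W := by
    intro b
    apply inv
    · rw [hvw]; exact W.smul_mem _ m0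
    · rw [hxu]; exact W.smul_mem _ m1
    · rw [H.Ay, hvw, map_smul]; exact W.smul_mem _ m2
    · rw [H.Ay, hxu, map_smul]; exact W.smul_mem _ m3
    · rw [H.Ay, H.Ay, hvw, map_smul, map_smul]; exact W.smul_mem _ m4
    · rw [H.Ay, H.Ay, hxu, map_smul, map_smul]; exact W.smul_mem _ m5
  have hr0 : r v ∈ W := by rw [rv]; exact W.smul_mem _ m4
  have hr1 : r x ∈ W := by rw [rx]; exact W.smul_mem _ m3
  have hrs : ∀ p, r p ∈ W → r (y p) ∈ W := by
    intro p hp
    rw [H.ry]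
    exact W.smul_mem _ (hy _ (hy _ hp))
  have hr : ∀ p ∈ W, r p ∈ W := inv r hr0 hr1 (hrs _ hr0) (hrs _ hr1) (hrs _ (hrs _ hr0)) (hrs _ (hrs _ hr1))
  have mm : v - x ∈ W := W.sub_mem m0 m1
  have mp : v + x ∈ W := W.add_mem m0 m1
  have ht0 : t v ∈ W := by
    rw [tv]
    exact W.smul_mem _ (W.add_mem (W.smul_mem _ (hy _ (hy _ mm))) (W.smul_mem _ (hy _ mp)))
  have ht1 : t x ∈ W := by
    rw [tx]
    exact W.smul_mem _ (W.sub_mem (W.smul_mem _ (hy _ mp)) (W.smul_mem _ (hy _ (hy _ mm))))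
  have hts : ∀ p, t p ∈ W → t (y p) ∈ W := by
    intro p hp
    rw [H'.ry]
    exact W.smul_mem _ (hy _ (hy _ hp))
  have ht : ∀ p ∈ W, t p ∈ W := inv t ht0 ht1 (hts _ ht0) (hts _ ht1) (hts _ (hts _ ht0)) (hts _ (hts _ ht1))
  have Rt : R t mt := by rw [← gam_r]; exact H'.Rr
  rcases hR.irr_gen H.RA H.Rr Rt W hA hr ht with h5 | h5
  · rw [h5] at m0
    exact hv0 ((Submodule.mem_bot Ω).1 m0)
  · have h6 := finrank_range_le_card (R := Ω) f
    rw [Set.finrank] at h6
    change Module.finrank Ω W ≤ _ at h6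
    rw [h5, finrank_top, h12, Fintype.card_fin] at h6
    omega

end Cfsg.Agent.H906.T12
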