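import Cfsg.Agent.H906.T12A1

/-!
# The case of commuting lifts: conclusion
-/

set_option autoImplicit false
set_option linter.unusedSectionVars false

namespace Cfsg.Agent.H906.T12

open F4

variable {Ω V : Type*} [Field Ω] [AddCommGroup V] [Module Ω V]
variable {R : Module.End Ω V → M3 → Prop} {A B C : F4 → Module.End Ω V} {r t y : Module.End Ω V} {z : Ω}

theorem caseA [FiniteDimensional Ω V] [Nontrivial V] (hR : PR R) (h2 : (2 : Ω) ≠ 0) (h12 : Module.finrank Ω V = 12)
    (H : Half R A B C r y 1) (H' : Half (fun g x => R g (T12.gam x)) B A C t y z) {s : F4 → Ω} {ζ : F4 → F4 → Ω}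
    (P : Pairing A B C s ζ) (hs : ∀ x, s x = 1) : False := by
  have CA : ∀ c b v, C c (A b v) = A b (C c v) := fun c b v => by rw [P.CA, hs, one_smul]
  have CB : ∀ c b v, C c (B b v) = B b (C c v) := fun c b v => by rw [P.CB, hs, one_smul]
  have hz0 : ∀ b, ζ 0 b = 1 := by
    intro b
    apply hR.cancelv (H.RA b)
    intro v
    have h1 := P.BA 0 b v
    rw [zero_mul, H.B0, H.C0, H.B0] at h1
    rw [← h1, one_smul]
  have f1 : ∀ b, ζ 1 b = 1 ∨ ζ 1 b = -1 := by
    intro b
    have h1 := P.zsq 1 b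
    rw [hs, mul_one] at h1
    exact mul_self_eq_one_iff.1 h1
  have fadd : ∀ b b', ζ 1 (b + b') = ζ 1 b * ζ 1 b' := by
    intro b b'
    rw [P.zadd, hs, mul_one]
  have f0 : ζ 1 0 = 1 := by
    have h1 := fadd 0 0
    rw [add_zero] at h1
    rcases f1 0 with h | h
    · exact h
    · rw [h] at h1 ⊢
      linear_combination h1
  have hζ : ∀ a b, ζ a b = ζ 1 (a * a * b) := by
    intro a b
    cases a
    · change ζ 0 b = ζ 1 (0 * 0 * b)
      rw [hz0, zero_mul, zero_mul, f0]
    · change ζ 1 b = ζ 1 (1 * 1 * b)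
      rw [one_mul, one_mul]
    · rw [← P.zinv w b]
      rfl
    · rw [← P.zinv u b, ← P.zinv (u * u) (u * b)]
      change ζ 1 (u * (u * b)) = ζ 1 (u * u * b)
      rw [mul_assoc]
  have BA : ∀ a b v, B a (A b v) = ζ 1 (a * a * b) • A b (C (a * b) (B a v)) := fun a b v => by rw [P.BA, hζ]
  obtain ⟨S1, S1'⟩ := shift hR H H'
  obtain ⟨S2, S2'⟩ := shift hR.del S1 S1'
  rcases sign_cases f1 fadd with h | h | h | h
  · exact caseA0 hR h2 h12 H CA CB (fun a b v => by rw [BA, h, one_smul])
  · exact caseA1 hR h2 h12 H H' CA CB (fun a b v => by rw [BA, h])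
  · refine caseA1 hR.del.del h2 h12 S2 S2' (fun c b v => CA _ _ v) (fun c b v => CB _ _ v) (fun a b v => ?_)
    have e1 : a * a * (u * (u * b)) = w * (a * a * b) :=
      (show ∀ a b : F4, a * a * (u * (u * b)) = w * (a * a * b) by decide) a b
    have e2 : a * (u * (u * b)) = u * (u * (a * b)) :=
      (show ∀ a b : F4, a * (u * (u * b)) = u * (u * (a * b)) by decide) a b
    change B a (A (u * (u * b)) v) = (ch (a * a * b) : Ω) • A (u * (u * b)) (C (u * (u * (a * b))) (B a v))
    rw [BA, e1, h, e2]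
  · refine caseA1 hR.del h2 h12 S1 S1' (fun c b v => CA _ _ v) (fun c b v => CB _ _ v) (fun a b v => ?_)
    have e1 : a * a * (u * b) = u * (a * a * b) :=
      (show ∀ a b : F4, a * a * (u * b) = u * (a * a * b) by decide) a b
    have e2 : a * (u * b) = u * (a * b) :=
      (show ∀ a b : F4, a * (u * b) = u * (a * b) by decide) a b
    change B a (A (u * b) v) = (ch (a * a * b) : Ω) • A (u * b) (C (u * (a * b)) (B a v))
    rw [BA, e1, h, e2]

end Cfsg.Agent.H906.T12
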