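import Cfsg.Agent.H906.T12A2

/-!
# The case of anticommuting lifts
-/

set_option autoImplicit false
set_option linter.unusedSectionVars false

namespace Cfsg.Agent.H906.T12

open F4

variable {Ω V : Type*} [Field Ω] [AddCommGroup V] [Module Ω V]
variable {R : Module.End Ω V → M3 → Prop} {A B C : F4 → Module.End Ω V} {r t y : Module.End Ω V} {z : Ω}

/-- the scalars of the anticommuting case -/
def zt (i : Ω) (a b : F4) : Ω := if a = 0 ∨ b = 0 then 1 else if a = b then -1 else i

structure HB (R : Module.End Ω V → M3 → Prop) (A B C : F4 → Module.End Ω V) (r y : Module.End Ω V) (z i : Ω) :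
    Prop where
  H : Half R A B C r y z
  CA : ∀ c b v, C c (A b v) = (ch (c * b) : Ω) • A b (C c v)
  CB : ∀ c b v, C c (B b v) = (ch (c * b) : Ω) • B b (C c v)
  BA : ∀ a b v, B a (A b v) = zt i a b • A b (C (a * b) (B a v))
  hi : i * i = -1

lemma zt_mul {i : Ω} (hi : i * i = -1) (a b : F4) : zt i b a * zt (-i) a b = ch (a * b * b) * ch (a * b * a) := by
  have h1 : i * -i = 1 := by linear_combination -hi
  have h2 : (-1 : Ω) * -1 = 1 := by norm_num
  have hch : ∀ x : F4, x * x = x → (ch x : Ω) = 1 := by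
    intro x hx
    have : x = 0 ∨ x = 1 := by revert x; decide
    rcases this with h | h
    · rw [h, ch_zero]
    · rw [h, ch_one]
  rw [← ch_add]
  have h3 : a * b * b + a * b * a = 0 ∨ a * b * b + a * b * a = 1 := by revert a b; decide
  have h4 : (ch (a * b * b + a * b * a) : Ω) = 1 := by
    rcases h3 with h | h
    · rw [h, ch_zero]
    · rw [h, ch_one]
  rw [h4]
  unfold zt
  by_cases ha : a = 0
  · simp [ha]
  by_cases hb : b = 0
  · simp [hb]
  by_cases hab : a = b
  · simp [ha, hb, hab]
  · have hba : ¬ b = a := fun h => hab h.symm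
    simp only [ha, hb, hab, hba, or_self, if_false]
    exact h1

theorem HB.swap {R' : Module.End Ω V → M3 → Prop} {i z' : Ω} (h : HB R A B C r y z i) (H' : Half R' B A C t y z') :
    HB R' B A C t y z' (-i) where
  H := H'
  CA := h.CB
  CB := h.CA
  BA := fun a b v => by
    have e1 := h.BA b a (C (a * b) v)
    have e2 : A a (C (a * b) v) = (ch (a * b * a) : Ω) • C (a * b) (A a v) := by
      rw [h.CA, smul_smul, ch_mul_self, one_smul]
    have e3 : C (b * a) (B b (C (a * b) v)) = (ch (a * b * b) : Ω) • B b v := by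
      rw [mul_comm b a, h.CB, h.H.CC, add_same, h.H.C0]
    rw [e2, e3, map_smul, map_smul, smul_smul] at e1
    have e4 := zt_mul h.hi a b
    have e5 : (ch (a * b * a) : Ω) • A a (B b v) = (ch (a * b * a) : Ω) • (zt (-i) a b • B b (C (a * b) (A a v))) := by
      rw [smul_comm, e1, smul_smul]
      congr 1
      linear_combination (-(ch (a * b * b) : Ω)) * e4 - (ch (a * b * a) : Ω) * ch_mul_self (Ω := Ω) (a * b * b)
    have e6 := congrArg (fun x => (ch (a * b * a) : Ω) • x) e5
    simp only [smul_smul] at e6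
    rw [ch_mul_self, one_smul, ← mul_assoc, ch_mul_self, one_mul] at e6
    exact e6
  hi := by rw [neg_mul_neg, h.hi]

section dim

variable [FiniteDimensional Ω V]

/-- the fixed space of `C` has dimension three -/
lemma dim_three (h2 : (2 : Ω) ≠ 0) (h12 : Module.finrank Ω V = 12) (H : Half R A B C r y z)
    (CA : ∀ c b v, C c (A b v) = (ch (c * b) : Ω) • A b (C c v)) : Module.finrank Ω (wt C 0) = 3 := by
  have key : ∀ a α, Module.finrank Ω (wt C α) ≤ Module.finrank Ω (wt C (α + a)) := by
    intro a α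
    apply finrank_le_of_map (g := A a) (fun v hv => H.A_inj a hv)
    intro v hv c
    rw [CA, hv, map_smul, smul_smul, ← ch_add]
    congr 1
    exact ch_congr ((show ∀ a α c : F4, sg (c * a + α * c) = sg ((α + a) * c) by decide) a α c)
  have hle : ∀ α β, Module.finrank Ω (wt C α) ≤ Module.finrank Ω (wt C β) := by
    intro α β
    have h4 := key (α + β) α
    have e1 : α + (α + β) = β := (show ∀ α β : F4, α + (α + β) = β by decide) α β
    rwa [e1] at h4
  have h4 := H.n_sum h2
  have h6 := hle 0 1
  have h7 := hle 1 0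
  omega

/-- the anticommuting case -/
theorem HB.of_pairing [Nontrivial V] (hR : PR R) (h2 : (2 : Ω) ≠ 0) (h12 : Module.finrank Ω V = 12)
    (H : Half R A B C r y z) {s : F4 → Ω} {ζ : F4 → F4 → Ω} (P : Pairing A B C s ζ) (hs : ∀ x, s x = ch x) :
    ∃ i, HB R A B C r y z i := by
  have CA : ∀ c b v, C c (A b v) = (ch (c * b) : Ω) • A b (C c v) := fun c b v => by rw [P.CA, hs]
  have CB : ∀ c b v, C c (B b v) = (ch (c * b) : Ω) • B b (C c v) := fun c b v => by
    rw [P.CB, hs]
    congr 1
    exact ch_congr ((show ∀ a c : F4, sg (c * a * (c * a)) = sg (c * a) by decide) b c)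
  have hz0 : ∀ b, ζ 0 b = 1 := by
    intro b
    apply hR.cancelv (H.RA b)
    intro v
    have h1 := P.BA 0 b v
    rw [zero_mul, H.B0, H.C0, H.B0] at h1
    rw [← h1, one_smul]
  have hz0' : ∀ a, ζ a 0 = 1 := by
    intro a
    apply hR.cancelv (H.RB a)
    intro v
    have h1 := P.BA a 0 v
    rw [mul_zero, H.A0, H.A0, H.C0] at h1
    rw [← h1, one_smul]
  have q1 : ζ 1 1 * ζ 1 1 = 1 := by
    have h1 := P.zsq 1 1
    rw [hs, show (1 : F4) * 1 * 1 = 1 from rfl, ch_one, mul_one] at h1
    exact h1
  have q2 : ζ 1 w * ζ 1 w = -1 := by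
    have h1 := P.zsq 1 w
    rw [hs, show (1 : F4) * w * w = u from rfl, ch_u] at h1
    linear_combination -h1
  have q3 : ζ 1 u = -(ζ 1 1 * ζ 1 w) := by
    have h1 := P.zadd 1 1 w
    rw [hs, show (1 : F4) * 1 * w = w from rfl, ch_w, show (1 : F4) + w = u from rfl] at h1
    rw [h1]; ring
  have i1 : ζ w w = ζ 1 1 := (P.zinv w w).symm
  have i2 : ζ u u = ζ 1 1 := by rw [← i1]; exact (P.zinv u u).symm
  have i3 : ζ w 1 = ζ 1 u := (P.zinv w 1).symm
  have i4 : ζ w u = ζ 1 w := (P.zinv w u).symm
  have i5 : ζ u 1 = ζ 1 w := by rw [← i4]; exact (P.zinv u 1).symm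
  have i6 : ζ u w = ζ 1 u := by rw [← i3]; exact (P.zinv u w).symm
  have q0 : ζ 1 1 = -1 := by
    rcases mul_self_eq_one_iff.1 q1 with h | h
    swap
    · exact h
    exfalso
    have hd := dim_three h2 h12 H CA
    rw [h, one_mul] at q3
    -- the operators on the fixed space
    have f1 : ∀ v ∈ wt C 0, ∀ a, A a (B a v) ∈ wt C 0 := by
      intro v hv a c
      rw [CA, CB, hv, map_smul, map_smul, map_smul, smul_smul, smul_smul, ← ch_add, ← ch_add]
      congr 1
      exact ch_congr ((show ∀ a c : F4, sg (c * a + c * a + 0 * c) = sg (0 * c) by decide) a c)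
    have f2 : ∀ v ∈ wt C 0, A 1 (B 1 (A w (B w v))) = ζ 1 w • A u (B u v) := by
      intro v hv
      rw [P.BA, map_smul, H.BB, CB, hv, show (1 : F4) * w * (1 + w) = 1 from rfl, zero_mul, ch_zero, ch_one, one_smul,
        one_smul, H.AA]
      rfl
    have f3 : ∀ v ∈ wt C 0, A w (B w (A 1 (B 1 v))) = ζ w 1 • A u (B u v) := by
      intro v hv
      rw [P.BA, map_smul, H.BB, CB, hv, show w * (1 : F4) * (w + 1) = 1 from rfl, zero_mul, ch_zero, ch_one, one_smul,
        one_smul, H.AA]
      rfl
    have f4 : ∀ v ∈ wt C 0, ∀ a, a ≠ 0 → A a (B a (A a (B a v))) = v := by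
      intro v hv a ha
      rw [P.BA, map_smul, H.BB, add_same, H.B0, hv, zero_mul, ch_zero, one_smul, H.AA, add_same, H.A0]
      have : ζ a a = 1 := by
        cases a
        · exact absurd rfl ha
        · exact h
        · rw [i1, h]
        · rw [i2, h]
      rw [this, one_smul]
    let T1 : Module.End Ω (wt C 0) := (A 1 * B 1).restrict (fun v hv => f1 v hv 1)
    let Tw : Module.End Ω (wt C 0) := (A w * B w).restrict (fun v hv => f1 v hv w)
    have g1 : T1 * Tw = (-1 : Ω) • (Tw * T1) := by
      ext v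
      change A 1 (B 1 (A w (B w (v : V)))) = (-1 : Ω) • A w (B w (A 1 (B 1 (v : V))))
      rw [f2 v v.2, f3 v v.2, i3, q3, smul_smul]
      congr 1
      ring
    have g2 : T1 * T1 = 1 := by
      ext v
      exact f4 v v.2 1 (by decide)
    have g3 : Tw * Tw = 1 := by
      ext v
      exact f4 v v.2 w (by decide)
    have g4 := congrArg LinearMap.det g1
    rw [map_mul, LinearMap.det_smul, map_mul, hd] at g4
    have g5 := congrArg LinearMap.det g2
    rw [map_mul, map_one] at g5
    have g6 := congrArg LinearMap.det g3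
    rw [map_mul, map_one] at g6
    apply h2
    linear_combination (LinearMap.det T1 * LinearMap.det Tw) * g4 - 2 * g5 - 2 * LinearMap.det T1 * LinearMap.det T1 * g6
  refine ⟨ζ 1 w, H, CA, CB, ?_, q2⟩
  have q4 : ζ 1 u = ζ 1 w := by rw [q3, q0]; ring
  have hzt : ∀ a b, ζ a b = zt (ζ 1 w) a b := by
    intro a b
    unfold zt
    cases a <;> cases b
    · rw [if_pos (by decide)]; exact hz0 _
    · rw [if_pos (by decide)]; exact hz0 _
    · rw [if_pos (by decide)]; exact hz0 _
    · rw [if_pos (by decide)]; exact hz0 _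
    · rw [if_pos (by decide)]; exact hz0' _
    · rw [if_neg (by decide), if_pos rfl]; exact q0
    · rw [if_neg (by decide), if_neg (by decide)]; rfl
    · rw [if_neg (by decide), if_neg (by decide)]; exact q4
    · rw [if_pos (by decide)]; exact hz0' _
    · rw [if_neg (by decide), if_neg (by decide)]; exact i3.trans q4
    · rw [if_neg (by decide), if_pos rfl]; exact i1.trans q0
    · rw [if_neg (by decide), if_neg (by decide)]; exact i4
    · rw [if_pos (by decide)]; exact hz0' _
    · rw [if_neg (by decide), if_neg (by decide)]; exact i5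
    · rw [if_neg (by decide), if_neg (by decide)]; exact i6.trans q4
    · rw [if_neg (by decide), if_pos rfl]; exact i2.trans q0
  intro a b v
  rw [P.BA, hzt]

end dim

end Cfsg.Agent.H906.T12
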