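import Cfsg.Agent.H906.T12B

/-!
# The case of anticommuting lifts: trivial quotient
-/

set_option autoImplicit false
set_option linter.unusedSectionVars false

namespace Cfsg.Agent.H906.T12

open F4

variable {Ω V : Type*} [Field Ω] [AddCommGroup V] [Module Ω V]
variable {R : Module.End Ω V → M3 → Prop} {A B C : F4 → Module.End Ω V} {r t y : Module.End Ω V} {z i : Ω}

/-- the span of the translates -/
def Wv (A : F4 → Module.End Ω V) (v : V) : Submodule Ω V := Submodule.span Ω (Set.range fun γ => A γ v)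

lemma mem_Wv (A : F4 → Module.End Ω V) (γ : F4) (v : V) : A γ v ∈ Wv A v := Submodule.subset_span ⟨γ, rfl⟩

lemma Wv_ind {A : F4 → Module.End Ω V} {v : V} {g : Module.End Ω V} {W : Submodule Ω V} (h : ∀ γ, g (A γ v) ∈ W) :
    ∀ x ∈ Wv A v, g x ∈ W := by
  intro x hx
  have h1 : Wv A v ≤ W.comap g := by
    unfold Wv
    rw [Submodule.span_le]
    rintro _ ⟨γ, rfl⟩
    exact h γ
  exact h1 hx

/-- the formula for `B(1)` -/
lemma HB.B_one (h : HB R A B C r y z i) (h2 : (2 : Ω) ≠ 0) (hT : ∀ v ∈ wt C 0, B 1 v = i • A 1 v) (x : V) :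
    (2 : Ω) • B 1 x = A 1 (x - C 1 x + i • C w x + i • C u x) := by
  have key : ∀ γ, ∀ x ∈ wt C γ, (2 : Ω) • B 1 x = A 1 (x - C 1 x + i • C w x + i • C u x) := by
    intro γ x hx
    obtain ⟨v, hv⟩ : ∃ v, v = A γ x := ⟨_, rfl⟩
    have hv0 : v ∈ wt C 0 := by
      intro c
      rw [hv, h.CA, hx, map_smul, smul_smul, ← ch_add]
      congr 1
      exact ch_congr ((show ∀ γ c : F4, sg (c * γ + γ * c) = sg (0 * c) by decide) γ c)
    have hxv : x = A γ v := by rw [hv, h.H.AA, add_same, h.H.A0]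
    have e1 : B 1 x = (zt i 1 γ * i * ch γ) • A 1 x := by
      rw [hxv, h.BA, one_mul, hT v hv0, map_smul, h.CA, hv0, zero_mul, ch_zero, one_smul, map_smul, map_smul, smul_smul,
        smul_smul, mul_one, h.H.AA, h.H.AA, add_comm γ 1, mul_assoc]
    have e2 : x - C 1 x + i • C w x + i • C u x = (1 - ch γ + i * ch (γ * w) + i * ch (γ * u)) • x := by
      rw [hx, hx, hx, mul_one]
      module
    rw [e1, e2, map_smul, smul_smul]
    congr 1
    have hi := h.hi
    unfold zt
    cases γ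
    · rw [if_pos (by decide)]
      change 2 * (1 * i * ch 0) = 1 - ch 0 + i * ch 0 + i * ch 0
      rw [ch_zero]; ring
    · rw [if_neg (by decide), if_pos (by decide)]
      change 2 * (-1 * i * ch 1) = 1 - ch 1 + i * ch w + i * ch u
      rw [ch_one, ch_w, ch_u]; ring
    · rw [if_neg (by decide), if_neg (by decide)]
      change 2 * (i * i * ch w) = 1 - ch w + i * ch u + i * ch 1
      rw [ch_one, ch_w, ch_u]; linear_combination (-2) * hi
    · rw [if_neg (by decide), if_neg (by decide)]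
      change 2 * (i * i * ch u) = 1 - ch u + i * ch 1 + i * ch w
      rw [ch_one, ch_w, ch_u]; linear_combination (-2) * hi
  have hx := sum_pr h2 h.H.C0 x
  have h3 : ∀ γ, (2 : Ω) • B 1 (pr C γ x) = A 1 (pr C γ x - C 1 (pr C γ x) + i • C w (pr C γ x) + i • C u (pr C γ x)) :=
    fun γ => key γ _ (pr_mem h.H.CC γ x)
  rw [sum_four] at hx
  rw [← hx]
  simp only [map_add, smul_add]
  rw [h3, h3, h3, h3]
  simp only [map_add, map_sub, map_smul]
  abel

/-- invariance under the reflection -/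
lemma HB.r_inv (h : HB R A B C r y z i) (hR : PR R) (h2 : (2 : Ω) ≠ 0) (hT : ∀ v ∈ wt C 0, B 1 v = i • A 1 v)
    {v : V} (hv : v ∈ wt C 0) : (∀ b, ∀ x ∈ Wv A v, A b x ∈ Wv A v) ∧ ∀ x ∈ Wv A v, r x ∈ Wv A v := by
  have hA : ∀ b, ∀ x ∈ Wv A v, A b x ∈ Wv A v := by
    intro b
    apply Wv_ind
    intro γ
    rw [h.H.AA]
    exact mem_Wv _ _ _
  have hC : ∀ b, ∀ x ∈ Wv A v, C b x ∈ Wv A v := by
    intro b
    apply Wv_ind
    intro γ
    rw [h.CA, hv, map_smul]
    exact Submodule.smul_mem _ _ (Submodule.smul_mem _ _ (mem_Wv _ _ _))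
  have two : ∀ p : V, (2 : Ω) • p ∈ Wv A v → p ∈ Wv A v := by
    intro p hp
    have h3 := Submodule.smul_mem _ (2 : Ω)⁻¹ hp
    rwa [smul_smul, inv_mul_cancel₀ h2, one_smul] at h3
  have hB1 : ∀ x ∈ Wv A v, B 1 x ∈ Wv A v := by
    intro x hx
    apply two
    rw [h.B_one h2 hT]
    apply hA
    exact Submodule.add_mem _ (Submodule.add_mem _ (Submodule.sub_mem _ hx (hC 1 x hx)) (Submodule.smul_mem _ _ (hC w x hx)))
      (Submodule.smul_mem _ _ (hC u x hx))
  have hrB : ∀ x ∈ Wv A v, r (B 1 (r x)) ∈ Wv A v := by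
    intro x hx
    apply two
    have e1 : (2 : Ω) • r (B 1 (r x)) = C 1 (x - A 1 x + i • A w x + i • A u x) := by
      rw [← map_smul, h.B_one h2 hT, h.H.Cr, h.H.Cr, h.H.Cr, h.H.rA]
      congr 1
      simp only [map_add, map_sub, map_smul, h.H.r2]
    rw [e1]
    apply hC
    exact Submodule.add_mem _ (Submodule.add_mem _ (Submodule.sub_mem _ hx (hA 1 x hx)) (Submodule.smul_mem _ _ (hA w x hx)))
      (Submodule.smul_mem _ _ (hA u x hx))
  refine ⟨hA, ?_⟩
  intro x hx
  obtain ⟨κ, -, hκ⟩ := hR.rel1 h.H.Rr (hR.mul (hR.mul (hR.mul (hR.mul (h.H.RB 1) h.H.Rr) (h.H.RB 1)) h.H.Rr) (h.H.RB 1))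
    (by decide)
  have e1 : r x = κ • B 1 (r (B 1 (r (B 1 x)))) := LinearMap.congr_fun hκ x
  rw [e1]
  exact Submodule.smul_mem _ _ (hB1 _ (hrB _ (hB1 _ hx)))

/-- trivial action on the multiplicity space is impossible -/
theorem caseB0 [FiniteDimensional Ω V] (hR : PR R) (h2 : (2 : Ω) ≠ 0) (h12 : Module.finrank Ω V = 12) {z' : Ω}
    (h : HB R A B C r y z i) (h' : HB (fun g x => R g (T12.gam x)) B A C t y z' (-i))
    (hT : ∀ v ∈ wt C 0, ∀ a, a ≠ 0 → B a v = i • A a v) : False := by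
  have hR' := hR.gam
  have hT' : ∀ v ∈ wt C 0, A 1 v = (-i) • B 1 v := by
    intro v hv
    rw [hT v hv 1 (by decide), smul_smul]
    have : -i * i = 1 := by linear_combination -h.hi
    rw [this, one_smul]
  have hd := dim_three h2 h12 h.H h.CA
  have hne : wt C 0 ≠ ⊥ := by
    intro h0
    rw [h0, finrank_bot] at hd
    omega
  obtain ⟨v, hv, hv0⟩ := Submodule.exists_mem_ne_zero_of_ne_bot hne
  obtain ⟨hA, hr⟩ := h.r_inv hR h2 (fun v hv => hT v hv 1 (by decide)) hv
  obtain ⟨-, ht⟩ := h'.r_inv hR' h2 hT' hv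
  have hW : Wv B v = Wv A v := by
    apply le_antisymm
    · unfold Wv
      rw [Submodule.span_le]
      rintro _ ⟨γ, rfl⟩
      by_cases hγ : γ = 0
      · subst hγ
        change B 0 v ∈ Wv A v
        have e0 := mem_Wv A 0 v
        rw [h.H.A0] at e0
        rw [h.H.B0]
        exact e0
      · change B γ v ∈ Wv A v
        rw [hT v hv γ hγ]
        exact Submodule.smul_mem _ _ (mem_Wv _ _ _)
    · unfold Wv
      rw [Submodule.span_le]
      rintro _ ⟨γ, rfl⟩
      by_cases hγ : γ = 0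
      · subst hγ
        change A 0 v ∈ Wv B v
        have e0 := mem_Wv B 0 v
        rw [h.H.B0] at e0
        rw [h.H.A0]
        exact e0
      · change A γ v ∈ Wv B v
        have e1 : A γ v = (-i) • B γ v := by
          rw [hT v hv γ hγ, smul_smul]
          have : -i * i = 1 := by linear_combination -h.hi
          rw [this, one_smul]
        rw [e1]
        exact Submodule.smul_mem _ _ (mem_Wv _ _ _)
  rw [hW] at ht
  have Rt : R t mt := by rw [← gam_r]; exact h'.H.Rr
  have m0 : v ∈ Wv A v := by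
    have := mem_Wv A 0 v
    rwa [h.H.A0] at this
  rcases hR.irr_gen h.H.RA h.H.Rr Rt (Wv A v) hA hr ht with h5 | h5
  · rw [h5] at m0
    exact hv0 ((Submodule.mem_bot Ω).1 m0)
  · have h6 := finrank_range_le_card (R := Ω) (fun γ => A γ v)
    rw [Set.finrank] at h6
    change Module.finrank Ω (Wv A v) ≤ _ at h6
    rw [h5, finrank_top, h12] at h6
    have h7 : Fintype.card F4 = 4 := rfl
    omega

end Cfsg.Agent.H906.T12
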