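import Cfsg.Agent.H906.T12B0

/-!
# The case of anticommuting lifts: the basis
-/

set_option autoImplicit false
set_option linter.unusedSectionVars false

namespace Cfsg.Agent.H906.T12

open F4

variable {Ω V : Type*} [Field Ω] [AddCommGroup V] [Module Ω V]
variable {R : Module.End Ω V → M3 → Prop} {A B C : F4 → Module.End Ω V} {r t y : Module.End Ω V} {z i : Ω}

/-- the weights -/
def wj : Fin 3 → F4 := ![1, w, u]

/-- a basis of the fixed space of `C` -/
structure UB (A B C : F4 → Module.End Ω V) (y : Module.End Ω V) (i : Ω) (e : Fin 3 → V) : Prop where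
  e0 : ∀ j, e j ∈ wt C 0
  eB : ∀ j a, a ≠ 0 → B a (e j) = (i * ch (wj j * a)) • A a (e j)
  ey : ∀ j, y (e j) = e (j + 1)
  ene : ∀ j, e j ≠ 0

variable {e : Fin 3 → V}

lemma UB.swap (hi : i * i = -1) (U : UB A B C y i e) : UB B A C y (-i) e where
  e0 := U.e0
  eB := fun j a ha => by
    rw [U.eB j a ha, smul_smul]
    have : -i * ch (wj j * a) * (i * ch (wj j * a)) = 1 := by
      linear_combination (-(ch (wj j * a) : Ω) * ch (wj j * a)) * hi + ch_mul_self (Ω := Ω) (wj j * a)
    rw [this, one_smul]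
  ey := U.ey
  ene := U.ene

lemma UB.wtA (U : UB A B C y i e) (h : HB R A B C r y z i) (γ : F4) (j : Fin 3) : A γ (e j) ∈ wt C γ := by
  intro c
  rw [h.CA, U.e0 j, zero_mul, ch_zero, one_smul, mul_comm]

/-- linear independence -/
theorem UB.linInd (h : HB R A B C r y z i) (U : UB A B C y i e) (h2 : (2 : Ω) ≠ 0) :
    LinearIndependent Ω (fun k : F4 × Fin 3 => A k.1 (e k.2)) := by
  rw [Fintype.linearIndependent_iff]
  rintro c hc ⟨γ, j⟩
  have h1 := congrArg (pr C γ) hc
  rw [map_sum, map_zero, Fintype.sum_prod_type] at h1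
  have h3 : ∀ δ : F4, ∑ k : Fin 3, pr C γ (c (δ, k) • A δ (e k)) =
      if γ = δ then ∑ k : Fin 3, c (γ, k) • A γ (e k) else 0 := by
    intro δ
    by_cases hγ : γ = δ
    · subst hγ
      rw [if_pos rfl]
      apply Finset.sum_congr rfl
      intro k _
      rw [map_smul, pr_of_wt h2 (U.wtA h γ k), if_pos rfl]
    · rw [if_neg hγ]
      apply Finset.sum_eq_zero
      intro k _
      rw [map_smul, pr_of_wt h2 (U.wtA h δ k), if_neg hγ, smul_zero]
  rw [Finset.sum_congr rfl fun δ _ => h3 δ, Finset.sum_ite_eq, if_pos (Finset.mem_univ _)] at h1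
  have h4 : ∑ k : Fin 3, c (γ, k) • e k = 0 := by
    apply h.H.A_inj γ
    rw [map_sum]
    simpa only [map_smul] using h1
  let T : F4 → Module.End Ω V := fun a => if a = 0 then 1 else (-i) • (A a * B a)
  have hT : ∀ k, e k ∈ wt T (wj k) := by
    intro k a
    by_cases ha : a = 0
    · subst ha
      change (if (0 : F4) = 0 then (1 : Module.End Ω V) else _) (e k) = _
      rw [if_pos rfl, mul_zero, ch_zero, one_smul]
      rfl
    · change (if a = 0 then (1 : Module.End Ω V) else (-i) • (A a * B a)) (e k) = _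
      rw [if_neg ha]
      change (-i) • A a (B a (e k)) = _
      rw [U.eB k a ha, map_smul, h.H.AA, add_same, h.H.A0, smul_smul]
      congr 1
      linear_combination (-(ch (wj k * a) : Ω)) * h.hi
  have h5 := congrArg (pr T (wj j)) h4
  rw [map_sum, map_zero] at h5
  have hwj : ∀ j k : Fin 3, wj j = wj k ↔ j = k := by decide
  have h6 : ∀ k : Fin 3, pr T (wj j) (c (γ, k) • e k) = if j = k then c (γ, k) • e k else 0 := by
    intro k
    rw [map_smul, pr_of_wt h2 (hT k)]
    by_cases hjk : j = k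
    · rw [if_pos ((hwj j k).2 hjk), if_pos hjk]
    · rw [if_neg (fun h => hjk ((hwj j k).1 h)), if_neg hjk, smul_zero]
  rw [Finset.sum_congr rfl fun k _ => h6 k, Finset.sum_ite_eq, if_pos (Finset.mem_univ _)] at h5
  exact (smul_eq_zero.1 h5).resolve_right (U.ene j)

/-- the basis -/
theorem UB.exists_basis [FiniteDimensional Ω V] (h : HB R A B C r y z i) (U : UB A B C y i e) (h2 : (2 : Ω) ≠ 0)
    (h12 : Module.finrank Ω V = 12) : ∃ b : Module.Basis (F4 × Fin 3) Ω V, ∀ k, b k = A k.1 (e k.2) := by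
  have hcard : Fintype.card (F4 × Fin 3) = Module.finrank Ω V := by rw [h12]; rfl
  refine ⟨basisOfLinearIndependentOfCardEqFinrank (U.linInd h h2) hcard, fun k => ?_⟩
  rw [coe_basisOfLinearIndependentOfCardEqFinrank]

/-- traces in a basis -/
lemma trace_basis {κ : Type*} [Fintype κ] [DecidableEq κ] (b : Module.Basis κ Ω V) (f : Module.End Ω V) :
    LinearMap.trace Ω V f = ∑ k, b.repr (f (b k)) k := by
  rw [LinearMap.trace_eq_matrix_trace Ω b]
  unfold Matrix.trace
  exact Finset.sum_congr rfl fun k _ => by rw [Matrix.diag_apply, LinearMap.toMatrix_apply]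

section coords

variable (h : HB R A B C r y z i) {b : Module.Basis (F4 × Fin 3) Ω V} (hb : ∀ k, b k = A k.1 (e k.2))

include h hb

lemma repr_A (x : V) (δ κ : F4) (j : Fin 3) : b.repr (A δ x) (κ, j) = b.repr x (κ + δ, j) := by
  have h1 : (b.coord (κ, j)).comp (A δ) = b.coord (κ + δ, j) := by
    apply b.ext
    rintro ⟨κ', j'⟩
    change b.repr (A δ (b (κ', j'))) (κ, j) = b.repr (b (κ', j')) (κ + δ, j)
    have e1 : A δ (b (κ', j')) = b (δ + κ', j') := by rw [hb, hb, h.H.AA]
    rw [e1, Module.Basis.repr_self, Module.Basis.repr_self, Finsupp.single_apply, Finsupp.single_apply]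
    congr 1
    rw [Prod.mk.injEq, Prod.mk.injEq]
    have := (show ∀ δ κ κ' : F4, δ + κ' = κ ↔ κ' = κ + δ by decide) δ κ κ'
    rw [this]
  exact LinearMap.congr_fun h1 x

lemma repr_C (x : V) (δ κ : F4) (j : Fin 3) (U : UB A B C y i e) :
    b.repr (C δ x) (κ, j) = ch (κ * δ) * b.repr x (κ, j) := by
  have h1 : (b.coord (κ, j)).comp (C δ) = (ch (κ * δ) : Ω) • b.coord (κ, j) := by
    apply b.ext
    rintro ⟨κ', j'⟩
    change b.repr (C δ (b (κ', j'))) (κ, j) = ch (κ * δ) * b.repr (b (κ', j')) (κ, j)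
    have e1 : C δ (b (κ', j')) = (ch (κ' * δ) : Ω) • b (κ', j') := by
      rw [hb]
      exact U.wtA h κ' j' δ
    rw [e1, map_smul, Finsupp.smul_apply, Module.Basis.repr_self, Finsupp.single_apply, smul_eq_mul]
    by_cases hk : (κ', j') = (κ, j)
    · rw [if_pos hk]
      rw [Prod.mk.injEq] at hk
      rw [hk.1]
    · rw [if_neg hk, mul_zero, mul_zero]
  exact LinearMap.congr_fun h1 x

/-- the trace of the torus element -/
lemma trace_y (U : UB A B C y i e) : LinearMap.trace Ω V y = 0 := by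
  rw [trace_basis b]
  apply Finset.sum_eq_zero
  rintro ⟨γ, j⟩ -
  have e1 : y (b (γ, j)) = b (u * γ, j + 1) := by rw [hb, hb, h.H.yA, U.ey]
  rw [e1, Module.Basis.repr_self, Finsupp.single_apply, if_neg]
  intro h0
  rw [Prod.mk.injEq] at h0
  exact (show ∀ j : Fin 3, j + 1 ≠ j by decide) j h0.2

end coords

end Cfsg.Agent.H906.T12
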