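import Cfsg.Agent.H906.T12B1

/-!
# The case of anticommuting lifts: the reflection
-/

set_option autoImplicit false
set_option linter.unusedSectionVars false

namespace Cfsg.Agent.H906.T12

open F4

variable {Ω V : Type*} [Field Ω] [AddCommGroup V] [Module Ω V]
variable {R : Module.End Ω V → M3 → Prop} {A B C : F4 → Module.End Ω V} {r t y : Module.End Ω V} {z i : Ω}
variable {e : Fin 3 → V}

/-- traces of conjugate elements -/
lemma PR.tr0' (hR : PR R) {g g' h : Module.End Ω V} {x x' k : M3} (hg : R g x) (hg' : R g' x') (hh : R h k) {s : F4}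
    (hs : s ≠ 0) (hk : k * x = s • (x' * k)) (h0 : LinearMap.trace Ω V g' = 0) : LinearMap.trace Ω V g = 0 := by
  obtain ⟨c, hc, e1⟩ := hR.rel (hR.mul hh hg) (hR.mul hg' hh) hs hk
  obtain ⟨h', k', -, -, -, e2, e3⟩ := hR.inv hh
  have e4 : g = c • (h' * (g' * h)) := by
    rw [← mul_smul_comm, ← e1, ← mul_assoc, e3, one_mul]
  rw [e4, map_smul, LinearMap.trace_mul_comm, mul_assoc, e2, mul_one, h0, smul_zero]

/-- the matrix of the reflection -/
theorem HB.exists_g [FiniteDimensional Ω V] (h : HB R A B C r y z i) (U : UB A B C y i e) (hR : PR R)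
    (h2 : (2 : Ω) ≠ 0) {b : Module.Basis (F4 × Fin 3) Ω V} (hb : ∀ k, b k = A k.1 (e k.2)) :
    ∃ g : Fin 3 → Ω, (∀ γ j, r (A γ (e j)) = ∑ k : F4 × Fin 3,
      (ch (γ * k.1) * z ^ ((k.2 : ℕ) + 2 * (j : ℕ)) * g (k.2 + j)) • A k.1 (e k.2)) ∧
      g 0 = g 1 + g 2 ∧ g 0 * g 1 + g 1 * g 2 + g 2 * g 0 = 0 ∧ 4 * (g 0 ^ 2 + g 1 ^ 2 + g 2 ^ 2) = 1 := by
  have z3 : z * z * z = 1 := by rw [← h.H.z3]; ring
  obtain ⟨M, hM⟩ : ∃ M : Fin 3 → Fin 3 → Ω, M = fun l j => b.repr (r (e j)) (0, l) := ⟨_, rfl⟩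
  have hMd : ∀ l j, M l j = b.repr (r (e j)) (0, l) := fun l j => by rw [hM]
  -- constancy
  have c1 : ∀ δ l j, b.repr (r (e j)) (δ, l) = M l j := by
    intro δ l j
    have e1 : A δ (r (e j)) = r (e j) := by
      rw [h.H.Ar, U.e0 j, zero_mul, ch_zero, one_smul]
    have e3 := repr_A h hb (r (e j)) δ 0 l
    rw [e1, zero_add] at e3
    rw [hMd, ← e3]
  have hr : ∀ j, r (e j) = ∑ k : F4 × Fin 3, M k.2 j • A k.1 (e k.2) := by
    intro j
    conv_lhs => rw [← b.sum_repr (r (e j))]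
    apply Finset.sum_congr rfl
    rintro ⟨δ, l⟩ -
    rw [c1, hb]
  -- the torus
  have c2 : ∀ l j, M l (j + 1) = z * M (l + 1) j := by
    intro l j
    have e1 : (b.coord (0, l)).comp (y * y) = b.coord (0, l + 1) := by
      apply b.ext
      rintro ⟨κ, j'⟩
      change b.repr (y (y (b (κ, j')))) (0, l) = b.repr (b (κ, j')) (0, l + 1)
      have e3 : y (y (b (κ, j'))) = b (w * κ, j' + 1 + 1) := by
        rw [hb, hb, h.H.yA, h.H.yA, U.ey, U.ey]
        congr 2
        exact (show ∀ κ : F4, u * (u * κ) = w * κ by decide) κ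
      rw [e3, Module.Basis.repr_self, Module.Basis.repr_self, Finsupp.single_apply, Finsupp.single_apply]
      congr 1
      rw [Prod.mk.injEq, Prod.mk.injEq]
      have h4 := (show ∀ κ : F4, w * κ = 0 ↔ κ = 0 by decide) κ
      have h5 := (show ∀ l j : Fin 3, j + 1 + 1 = l ↔ j = l + 1 by decide) l j'
      rw [h4, h5]
    rw [hMd, hMd, ← U.ey, h.H.ry, map_smul, Finsupp.smul_apply, smul_eq_mul]
    congr 1
    exact LinearMap.congr_fun e1 (r (e j))
  have a1 : M 0 1 = z * M 1 0 := c2 0 0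
  have a2 : M 0 2 = z * M 1 1 := c2 0 1
  have a3 : M 0 0 = z * M 1 2 := c2 0 2
  have a4 : M 1 1 = z * M 2 0 := c2 1 0
  have a5 : M 1 2 = z * M 2 1 := c2 1 1
  have a6 : M 1 0 = z * M 2 2 := c2 1 2
  have a7 : M 2 1 = z * M 0 0 := c2 2 0
  have a8 : M 2 2 = z * M 0 1 := c2 2 1
  have a9 : M 2 0 = z * M 0 2 := c2 2 2
  obtain ⟨g, hg⟩ : ∃ g : Fin 3 → Ω, g = ![M 0 0, z * z * M 1 0, M 1 1] := ⟨_, rfl⟩
  have g0 : g 0 = M 0 0 := by rw [hg]; rfl
  have g1 : g 1 = z * z * M 1 0 := by rw [hg]; rfl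
  have g2 : g 2 = M 1 1 := by rw [hg]; rfl
  have m00 : M 0 0 = g 0 := g0.symm
  have m10 : M 1 0 = z * g 1 := by rw [g1]; linear_combination (-M 1 0) * z3
  have m11 : M 1 1 = g 2 := g2.symm
  have m01 : M 0 1 = z * z * g 1 := by rw [a1, m10]; ring
  have m02 : M 0 2 = z * g 2 := by rw [a2, m11]
  have m21 : M 2 1 = z * g 0 := by rw [a7, m00]
  have m12 : M 1 2 = z * z * g 0 := by rw [a5, m21]; ring
  have m22 : M 2 2 = g 1 := by rw [a8, m01]; linear_combination g 1 * z3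
  have m20 : M 2 0 = z * z * g 2 := by rw [a9, m02]; ring
  have hMg : ∀ l j : Fin 3, M l j = z ^ ((l : ℕ) + 2 * (j : ℕ)) * g (l + j) := by
    intro l j
    fin_cases l <;> fin_cases j
    · change M 0 0 = z ^ 0 * g 0
      rw [m00]; ring
    · change M 0 1 = z ^ 2 * g 1
      rw [m01]; ring
    · change M 0 2 = z ^ 4 * g 2
      rw [m02]; linear_combination (-z * g 2) * z3
    · change M 1 0 = z ^ 1 * g 1
      rw [m10]; ring
    · change M 1 1 = z ^ 3 * g 2
      rw [m11]; linear_combination (-g 2) * z3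
    · change M 1 2 = z ^ 5 * g 0
      rw [m12]; linear_combination (-z * z * g 0) * z3
    · change M 2 0 = z ^ 2 * g 2
      rw [m20]; ring
    · change M 2 1 = z ^ 4 * g 0
      rw [m21]; linear_combination (-z * g 0) * z3
    · change M 2 2 = z ^ 6 * g 1
      rw [m22]; linear_combination (-(z * z * z + 1) * g 1) * z3
  -- the square
  have sq : ∀ l j, 4 * ∑ k : Fin 3, M k j * M l k = if l = j then 1 else 0 := by
    intro l j
    have e1 : b.repr (r (r (e j))) (0, l) = if l = j then 1 else 0 := by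
      rw [h.H.r2]
      have e3 : e j = b (0, j) := by rw [hb, h.H.A0]
      rw [e3, Module.Basis.repr_self, Finsupp.single_apply]
      congr 1
      rw [Prod.mk.injEq]
      simp only [true_and, eq_iff_iff]
      exact eq_comm
    rw [← e1]
    conv_rhs => rw [hr j]
    rw [map_sum, map_sum, Finsupp.finsetSum_apply, Fintype.sum_prod_type]
    have e4 : ∀ δ k, b.repr (r (M k j • A δ (e k))) (0, l) = M k j * M l k := by
      intro δ k
      rw [map_smul, map_smul, Finsupp.smul_apply, h.H.rA, repr_C h hb _ _ _ _ U, zero_mul, ch_zero, one_mul, smul_eq_mul,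
        hMd l k]
    simp only [e4]
    rw [Finset.sum_const, Finset.card_univ, show Fintype.card F4 = 4 from rfl, nsmul_eq_mul]
    norm_num
  have s00 := sq 0 0
  have s10 := sq 1 0
  rw [Fin.sum_univ_three, if_pos rfl] at s00
  rw [Fin.sum_univ_three, if_neg (by decide)] at s10
  have s1 : 4 * (g 0 ^ 2 + g 1 ^ 2 + g 2 ^ 2) = 1 := by
    rw [m00, m10, m20, m01, m02] at s00
    linear_combination s00 - 4 * (g 1 ^ 2 + g 2 ^ 2) * z3
  have hz0 := h.H.z_ne
  have s2 : g 0 * g 1 + g 1 * g 2 + g 2 * g 0 = 0 := by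
    rw [m00, m10, m20, m11, m12] at s10
    have e5 : (4 * z) * (g 0 * g 1 + g 1 * g 2 + g 2 * g 0) = 0 := by
      linear_combination s10 - 4 * z * g 2 * g 0 * z3
    exact (mul_eq_zero.1 e5).resolve_left (mul_ne_zero (four_ne h2) hz0)
  -- the trace
  have s3 : g 0 = g 1 + g 2 := by
    obtain ⟨k, hk⟩ := hR.ex !![0, 0, 1; 1, w, 0; 1, u, 0] (by rw [Matrix.det_fin_three]; decide)
    have t0 : LinearMap.trace Ω V (r * B 1) = 0 :=
      hR.tr0' (hR.mul h.H.Rr (h.H.RB 1)) h.H.Ry hk (s := 1) (by decide) (by decide) (trace_y h hb U)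
    rw [trace_basis b, Fintype.sum_prod_type] at t0
    have e1 : ∀ γ j, b.repr ((r * B 1) (b (γ, j))) (γ, j) =
        zt i 1 γ * (i * ch (wj j)) * ch γ * ch (γ * (γ + 1)) * M j j := by
      intro γ j
      have f1 : B 1 (b (γ, j)) = (zt i 1 γ * (i * ch (wj j)) * ch γ) • A (γ + 1) (e j) := by
        rw [hb, h.BA, U.eB j 1 (by decide), map_smul, map_smul, one_mul, h.CA, U.e0 j, zero_mul, ch_zero, one_smul,
          map_smul, h.H.AA, smul_smul, smul_smul, mul_one, mul_one, mul_assoc]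
      change b.repr (r (B 1 (b (γ, j)))) (γ, j) = _
      rw [f1, map_smul, map_smul, Finsupp.smul_apply, h.H.rA, repr_C h hb _ _ _ _ U, c1, smul_eq_mul]
      ring
    simp only [e1] at t0
    rw [sum_four] at t0
    simp only [Fin.sum_univ_three] at t0
    rw [m00, m11, m22] at t0
    have z0 : zt i 1 (0 : F4) = 1 := by unfold zt; rw [if_pos (by decide)]
    have z1 : zt i 1 (1 : F4) = -1 := by unfold zt; rw [if_neg (by decide), if_pos rfl]
    have zw : zt i 1 w = i := by unfold zt; rw [if_neg (by decide), if_neg (by decide)]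
    have zu : zt i 1 u = i := by unfold zt; rw [if_neg (by decide), if_neg (by decide)]
    rw [z0, z1, zw, zu, show wj 0 = 1 from rfl, show wj 1 = w from rfl, show wj 2 = u from rfl,
      show (0 : F4) * (0 + 1) = 0 from rfl, show (1 : F4) * (1 + 1) = 0 from rfl, show w * (w + 1) = 1 from rfl,
      show u * (u + 1) = 1 from rfl, ch_zero, ch_one, ch_w, ch_u] at t0
    have e6 : 2 * (g 0 - (g 1 + g 2)) = 0 := by
      linear_combination t0 + (2 * (g 0 - g 1 - g 2)) * h.hi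
    exact sub_eq_zero.1 ((mul_eq_zero.1 e6).resolve_left h2)
  refine ⟨g, ?_, s3, s2, s1⟩
  intro γ j
  rw [h.H.rA, hr j, map_sum]
  apply Finset.sum_congr rfl
  rintro ⟨δ, l⟩ -
  change C γ (M l j • A δ (e l)) = (ch (γ * δ) * z ^ ((l : ℕ) + 2 * (j : ℕ)) * g (l + j)) • A δ (e l)
  rw [map_smul, U.wtA h δ l, smul_smul, hMg]
  congr 1
  rw [mul_comm δ γ]
  ring

end Cfsg.Agent.H906.T12
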