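import Cfsg.Agent.H906.T12B2

/-!
# The case of anticommuting lifts: conclusion
-/

set_option autoImplicit false
set_option linter.unusedSectionVars false

namespace Cfsg.Agent.H906.T12

open F4

/-- tables -/
def bre (γ : F4) : ℤ := if γ = 0 then 1 else 0
def bim (γ : F4) (j : Fin 3) : ℤ := if γ = 0 then 0 else sg (wj j * γ)
def PP (σ : F4 → F4 → F4) (l j : Fin 3) : ℤ := ∑ γ, ∑ δ, (bre γ * bre δ + bim γ j * bim δ l) * sg (σ γ δ)
def QQ (σ : F4 → F4 → F4) (l j : Fin 3) : ℤ := ∑ γ, ∑ δ, (bre γ * bim δ l - bim γ j * bre δ) * sg (σ γ δ)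

def σ0 (γ δ : F4) : F4 := γ * δ + δ * γ
def σ1 (γ δ : F4) : F4 := γ * δ + (w * δ + (1 + u * δ) * γ)

lemma PP0 : ∀ l j, PP σ0 l j = 2 := by decide
lemma QQ0 : ∀ l j, QQ σ0 l j = 0 := by decide
lemma PP1 : ∀ l j, PP σ1 l j = ![![2, 6, -2], ![-2, 2, 2], ![2, -2, 6]] l j := by decide
lemma QQ1 : ∀ l j, QQ σ1 l j = ![![-4, 0, 0], ![0, 4, 4], ![-4, 0, 0]] l j := by decide

variable {Ω V : Type*} [Field Ω] [AddCommGroup V] [Module Ω V]
variable {R : Module.End Ω V → M3 → Prop} {A B C : F4 → Module.End Ω V} {r t y : Module.End Ω V} {z i : Ω}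
variable {e : Fin 3 → V}

lemma S_eq (hi : i * i = -1) (σ : F4 → F4 → F4) (l j : Fin 3) :
    ∑ γ, ∑ δ, ((bre γ : Ω) - i * (bim γ j : Ω)) * ((bre δ : Ω) + i * (bim δ l : Ω)) * ch (σ γ δ) =
      (PP σ l j : Ω) + i * (QQ σ l j : Ω) := by
  unfold PP QQ ch
  push_cast
  rw [Finset.mul_sum, ← Finset.sum_add_distrib]
  apply Finset.sum_congr rfl
  intro γ _
  rw [Finset.mul_sum, ← Finset.sum_add_distrib]
  apply Finset.sum_congr rfl
  intro δ _
  linear_combination (-(bim γ j : Ω) * (bim δ l : Ω) * (sg (σ γ δ) : Ω)) * hi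

lemma UB.B_eq (U : UB A B C y i e) (h : HB R A B C r y z i) (γ : F4) (j : Fin 3) :
    B γ (e j) = ((bre γ : Ω) + i * (bim γ j : Ω)) • A γ (e j) := by
  unfold bre bim
  by_cases hγ : γ = 0
  · subst hγ
    rw [if_pos rfl, if_pos rfl, h.H.B0, h.H.A0]
    simp
  · rw [if_neg hγ, if_neg hγ, U.eB j γ hγ]
    congr 1
    simp [ch]

lemma UB.A_eq (U : UB A B C y i e) (h : HB R A B C r y z i) (γ : F4) (j : Fin 3) :
    A γ (e j) = ((bre γ : Ω) - i * (bim γ j : Ω)) • B γ (e j) := by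
  rw [U.B_eq h, smul_smul]
  have : ((bre γ : Ω) - i * (bim γ j : Ω)) * ((bre γ : Ω) + i * (bim γ j : Ω)) = 1 := by
    unfold bre bim
    by_cases hγ : γ = 0
    · rw [if_pos hγ, if_pos hγ]
      simp
    · rw [if_neg hγ, if_neg hγ]
      have h1 := ch_mul_self (Ω := Ω) (wj j * γ)
      unfold ch at h1
      push_cast
      linear_combination (-(sg (wj j * γ) : Ω) * (sg (wj j * γ) : Ω)) * h.hi + h1
  rw [this, one_smul]

/-- traces of products -/
theorem trace_X [FiniteDimensional Ω V] (h : HB R A B C r y 1 i) (U : UB A B C y i e)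
    {b : Module.Basis (F4 × Fin 3) Ω V} (hb : ∀ k, b k = A k.1 (e k.2)) {g' : Fin 3 → Ω}
    (ht : ∀ γ j, t (B γ (e j)) = ∑ k : F4 × Fin 3,
      (ch (γ * k.1) * z ^ ((k.2 : ℕ) + 2 * (j : ℕ)) * g' (k.2 + j)) • B k.1 (e k.2))
    {X : Module.End Ω V} {gX : Fin 3 → Fin 3 → Ω} {σ : F4 → F4 → F4}
    (hX : ∀ δ l, X (A δ (e l)) = ∑ k : F4 × Fin 3, (ch (k.1 * δ + σ k.1 δ) * gX k.2 l) • A k.1 (e k.2)) :
    LinearMap.trace Ω V (X * t) = ∑ j : Fin 3, ∑ l : Fin 3, z ^ ((l : ℕ) + 2 * (j : ℕ)) * g' (l + j) * gX j l *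
      ((PP σ l j : Ω) + i * (QQ σ l j : Ω)) := by
  rw [trace_basis b, Fintype.sum_prod_type, Finset.sum_comm]
  apply Finset.sum_congr rfl
  intro j _
  simp only [← S_eq h.hi]
  simp only [Finset.mul_sum]
  rw [Finset.sum_comm]
  apply Finset.sum_congr rfl
  intro γ _
  have e1 : (X * t) (b (γ, j)) = ∑ l : F4 × Fin 3, (((bre γ : Ω) - i * (bim γ j : Ω)) *
      (ch (γ * l.1) * z ^ ((l.2 : ℕ) + 2 * (j : ℕ)) * g' (l.2 + j)) *
        ((bre l.1 : Ω) + i * (bim l.1 l.2 : Ω))) • X (A l.1 (e l.2)) := by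
    change X (t (b (γ, j))) = _
    rw [hb]
    change X (t (A γ (e j))) = _
    rw [U.A_eq h, map_smul, ht, map_smul, map_sum, Finset.smul_sum]
    apply Finset.sum_congr rfl
    intro l _
    rw [map_smul, U.B_eq h l.1 l.2, map_smul, smul_smul, smul_smul, mul_assoc]
  have e2 : ∀ δ l, b.repr (X (A δ (e l))) (γ, j) = ch (γ * δ + σ γ δ) * gX j l := by
    intro δ l
    rw [hX, map_sum, Finsupp.finsetSum_apply, Finset.sum_eq_single (γ, j)]
    · rw [map_smul, Finsupp.smul_apply, ← hb (γ, j), Module.Basis.repr_self, Finsupp.single_eq_same, smul_eq_mul, mul_one]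
    · intro k _ hk
      rw [map_smul, Finsupp.smul_apply, ← hb k, Module.Basis.repr_self, Finsupp.single_apply, if_neg hk, smul_zero]
    · intro h0
      exact absurd (Finset.mem_univ _) h0
  rw [e1, map_sum, Finsupp.finsetSum_apply, Fintype.sum_prod_type, Finset.sum_comm]
  apply Finset.sum_congr rfl
  intro l _
  apply Finset.sum_congr rfl
  intro δ _
  rw [map_smul, Finsupp.smul_apply, e2, smul_eq_mul, ch_add]
  have e3 := ch_mul_self (Ω := Ω) (γ * δ)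
  linear_combination (((bre γ : Ω) - i * (bim γ j : Ω)) * ((bre δ : Ω) + i * (bim δ l : Ω)) *
    ch (σ γ δ) * z ^ ((l : ℕ) + 2 * (j : ℕ)) * g' (l + j) * gX j l) * e3

end Cfsg.Agent.H906.T12
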