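import Cfsg.Agent.H906.T12B3

/-!
# The case of anticommuting lifts: conclusion
-/

set_option autoImplicit false
set_option linter.unusedSectionVars false

namespace Cfsg.Agent.H906.T12

open F4

variable {Ω V : Type*} [Field Ω] [AddCommGroup V] [Module Ω V]
variable {R : Module.End Ω V → M3 → Prop} {A B C : F4 → Module.End Ω V} {r t y : Module.End Ω V} {z i : Ω}
variable {e : Fin 3 → V}

/-- the final computation -/
theorem final_algebra (h2 : (2 : Ω) ≠ 0) {i z : Ω} {g g' : Fin 3 → Ω} (hi : i * i = -1) (z3 : z ^ 3 = 1)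
    (s1 : g 0 = g 1 + g 2) (s2 : g 0 * g 1 + g 1 * g 2 + g 2 * g 0 = 0) (s3 : 4 * (g 0 ^ 2 + g 1 ^ 2 + g 2 ^ 2) = 1)
    (s1' : g' 0 = g' 1 + g' 2) (s2' : g' 0 * g' 1 + g' 1 * g' 2 + g' 2 * g' 0 = 0)
    (s3' : 4 * (g' 0 ^ 2 + g' 1 ^ 2 + g' 2 ^ 2) = 1)
    (t0 : ∑ j : Fin 3, ∑ l : Fin 3, z ^ ((l : ℕ) + 2 * (j : ℕ)) * g' (l + j) * g (j + l) *
      ((PP σ0 l j : Ω) + i * (QQ σ0 l j : Ω)) = 0)
    (t1 : ∑ j : Fin 3, ∑ l : Fin 3, z ^ ((l : ℕ) + 2 * (j : ℕ)) * g' (l + j) * g (j + (l + 1)) *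
      ((PP σ1 l j : Ω) + i * (QQ σ1 l j : Ω)) = 0) : (7 : Ω) = 0 ∧ z ≠ 1 := by
  have hz0 : z ≠ 0 := by
    rintro rfl
    rw [zero_pow (by norm_num)] at z3
    exact zero_ne_one z3
  simp only [Fin.sum_univ_three] at t0 t1
  simp only [PP0, QQ0] at t0
  rw [show PP σ1 0 0 = 2 from PP1 0 0, show PP σ1 0 1 = 6 from PP1 0 1, show PP σ1 0 2 = -2 from PP1 0 2,
    show PP σ1 1 0 = -2 from PP1 1 0, show PP σ1 1 1 = 2 from PP1 1 1, show PP σ1 1 2 = 2 from PP1 1 2,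
    show PP σ1 2 0 = 2 from PP1 2 0, show PP σ1 2 1 = -2 from PP1 2 1, show PP σ1 2 2 = 6 from PP1 2 2,
    show QQ σ1 0 0 = -4 from QQ1 0 0, show QQ σ1 0 1 = 0 from QQ1 0 1, show QQ σ1 0 2 = 0 from QQ1 0 2,
    show QQ σ1 1 0 = 0 from QQ1 1 0, show QQ σ1 1 1 = 4 from QQ1 1 1, show QQ σ1 1 2 = 4 from QQ1 1 2,
    show QQ σ1 2 0 = -4 from QQ1 2 0, show QQ σ1 2 1 = 0 from QQ1 2 1, show QQ σ1 2 2 = 0 from QQ1 2 2] at t1
  push_cast at t0 t1
  have t0' : (z ^ 0 * g' 0 * g 0 * (2 + i * 0) + z ^ 1 * g' 1 * g 1 * (2 + i * 0) + z ^ 2 * g' 2 * g 2 * (2 + i * 0)) +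
      (z ^ 2 * g' 1 * g 1 * (2 + i * 0) + z ^ 3 * g' 2 * g 2 * (2 + i * 0) + z ^ 4 * g' 0 * g 0 * (2 + i * 0)) +
      (z ^ 4 * g' 2 * g 2 * (2 + i * 0) + z ^ 5 * g' 0 * g 0 * (2 + i * 0) + z ^ 6 * g' 1 * g 1 * (2 + i * 0)) = 0 := t0
  have t1' : (z ^ 0 * g' 0 * g 1 * (2 + i * (-4)) + z ^ 1 * g' 1 * g 2 * (-2 + i * 0) +
        z ^ 2 * g' 2 * g 0 * (2 + i * (-4))) +
      (z ^ 2 * g' 1 * g 2 * (6 + i * 0) + z ^ 3 * g' 2 * g 0 * (2 + i * 4) + z ^ 4 * g' 0 * g 1 * (-2 + i * 0)) +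
      (z ^ 4 * g' 2 * g 0 * (-2 + i * 0) + z ^ 5 * g' 0 * g 1 * (2 + i * 4) + z ^ 6 * g' 1 * g 2 * (6 + i * 0)) = 0 := t1
  have z4 : z ^ 4 = z := by linear_combination z * z3
  have z5 : z ^ 5 = z ^ 2 := by linear_combination z ^ 2 * z3
  have z6 : z ^ 6 = 1 := by linear_combination (z ^ 3 + 1) * z3
  rw [z3, z4, z5, z6] at t0' t1'
  -- the golden ratio
  have golden : ∀ {g : Fin 3 → Ω}, g 0 = g 1 + g 2 → g 0 * g 1 + g 1 * g 2 + g 2 * g 0 = 0 →
      4 * (g 0 ^ 2 + g 1 ^ 2 + g 2 ^ 2) = 1 → ∃ φ, g 0 ≠ 0 ∧ g 1 = φ * g 0 ∧ g 2 = (1 - φ) * g 0 ∧ φ ^ 2 = φ + 1 := by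
    intro g e1 e2 e3
    have hg0 : g 0 ≠ 0 := by
      intro h0
      have h1 : g 2 = -g 1 := by linear_combination -e1 + h0
      have h3 : g 1 ^ 2 = 0 := by
        rw [h0, h1] at e2
        linear_combination -e2
      have h4 : g 1 = 0 := pow_eq_zero_iff (by norm_num) |>.1 h3
      rw [h1, h0, h4] at e3
      norm_num at e3
    refine ⟨g 1 / g 0, hg0, by field_simp, ?_, ?_⟩
    · rw [sub_mul, div_mul_cancel₀ _ hg0]
      linear_combination -e1
    · field_simp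
      have h1 : g 2 = g 0 - g 1 := by linear_combination -e1
      rw [h1] at e2
      linear_combination -e2
  obtain ⟨φ, n0, p1, p2, hφ⟩ := golden s1 s2 s3
  obtain ⟨φ', n0', p1', p2', hφ'⟩ := golden s1' s2' s3'
  have hor : φ' = φ ∨ φ' = 1 - φ := by
    have h1 : (φ' - φ) * (φ' - (1 - φ)) = 0 := by linear_combination hφ' - hφ
    rcases mul_eq_zero.1 h1 with h | h
    · exact Or.inl (sub_eq_zero.1 h)
    · exact Or.inr (sub_eq_zero.1 h)
  rw [p1, p2, p1', p2'] at t0' t1'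
  have h4 := four_ne h2
  -- characteristic three if `z = 1`
  have hz1 : z = 1 → (3 : Ω) = 0 := by
    intro hz
    rw [hz] at t0'
    rcases hor with h | h
    · rw [h] at t0'
      have h5 : (3 : Ω) * (4 * 2 * (g 0 * g' 0)) = 0 := by
        linear_combination t0' - 12 * g 0 * g' 0 * hφ
      refine (mul_eq_zero.1 h5).resolve_right ?_
      exact mul_ne_zero (mul_ne_zero h4 h2) (mul_ne_zero n0 n0')
    · rw [h] at t0'
      have h5 : (3 : Ω) * (2 * (g 0 * g' 0)) = 0 := by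
        linear_combination -t0' - 12 * g 0 * g' 0 * hφ
      refine (mul_eq_zero.1 h5).resolve_right ?_
      exact mul_ne_zero h2 (mul_ne_zero n0 n0')
  have hzz : z ^ 2 = -1 - z := by
    by_cases hz : z = 1
    · have := hz1 hz
      rw [hz]
      linear_combination this
    · have h5 : (z - 1) * (z ^ 2 + z + 1) = 0 := by linear_combination z3
      have h6 := (mul_eq_zero.1 h5).resolve_left (sub_ne_zero.2 hz)
      linear_combination h6
  rw [hzz] at t1'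
  have hgg : g 0 * g' 0 ≠ 0 := mul_ne_zero n0 n0'
  have key : (7 : Ω) = 0 := by
    rcases hor with h | h
    · rw [h] at t1'
      have h5 : (4 * (g 0 * g' 0)) * (i * (2 + z) * (1 - 2 * φ) + z) = 0 := by
        linear_combination t1' - 8 * z * g 0 * g' 0 * hφ
      have h6 := (mul_eq_zero.1 h5).resolve_left (mul_ne_zero h4 hgg)
      have h7 : i * (2 + z) * (1 - 2 * φ) = -z := by linear_combination h6
      have h8 : (i * (2 + z) * (1 - 2 * φ)) ^ 2 = z ^ 2 := by rw [h7]; ring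
      have h9 : (7 : Ω) * (2 * z ^ 2) = 0 := by
        linear_combination h8 - (2 + z) ^ 2 * (1 - 2 * φ) ^ 2 * hi + 4 * (2 + z) ^ 2 * hφ + 20 * hzz
      exact (mul_eq_zero.1 h9).resolve_right (mul_ne_zero h2 (pow_ne_zero _ hz0))
    · exfalso
      rw [h] at t1'
      have h5 : (4 * (g 0 * g' 0)) * (4 * z) = 0 := by
        linear_combination -t1' - 8 * z * g 0 * g' 0 * hφ
      exact mul_ne_zero (mul_ne_zero h4 hgg) (mul_ne_zero h4 hz0) h5
  refine ⟨key, ?_⟩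
  intro hz
  have h3 := hz1 hz
  exact one_ne_zero (α := Ω) (by linear_combination key - 2 * h3)

/-- the case of a nontrivial action on the multiplicity space -/
theorem caseB1 [FiniteDimensional Ω V] (hR : PR R) (h2 : (2 : Ω) ≠ 0) (h12 : Module.finrank Ω V = 12)
    (h : HB R A B C r y 1 i) (h' : HB (fun g x => R g (T12.gam x)) B A C t y z (-i)) (U : UB A B C y i e) :
    (7 : Ω) = 0 ∧ z ≠ 1 := by
  obtain ⟨b, hb⟩ := U.exists_basis h h2 h12
  obtain ⟨b', hb'⟩ := (U.swap h.hi).exists_basis h' h2 h12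
  obtain ⟨g, hr, s1, s2, s3⟩ := h.exists_g U hR h2 hb
  obtain ⟨g', ht, s1', s2', s3'⟩ := h'.exists_g (U.swap h.hi) hR.gam h2 hb'
  have Rt : R t mt := by rw [← gam_r]; exact h'.H.Rr
  have trY := trace_y h hb U
  have hr' : ∀ γ j, r (A γ (e j)) = ∑ k : F4 × Fin 3, (ch (γ * k.1) * g (k.2 + j)) • A k.1 (e k.2) := by
    intro γ j
    rw [hr]
    simp only [one_pow, mul_one]
  -- the first trace
  have t0 : LinearMap.trace Ω V (r * t) = 0 := by
    obtain ⟨k, hk⟩ := hR.ex !![1, 1, 1; 1, w, u; 1, u, w] (by rw [Matrix.det_fin_three]; decide)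
    exact hR.tr0' (hR.mul h.H.Rr Rt) h.H.Ry hk (s := 1) (by decide) (by decide) trY
  rw [trace_X h U hb ht (X := r) (gX := fun j l => g (j + l)) (σ := σ0) (by
    intro δ l
    rw [hr']
    apply Finset.sum_congr rfl
    intro k _
    congr 2
    exact ch_congr ((show ∀ δ κ : F4, sg (δ * κ) = sg (κ * δ + σ0 κ δ) by decide) δ k.1))] at t0
  -- the second trace
  have hAB : LinearMap.trace Ω V (A w * B 1) = 0 := by
    rw [trace_basis b]
    apply Finset.sum_eq_zero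
    rintro ⟨γ, j⟩ -
    have f1 : (A w * B 1) (b (γ, j)) = (zt i 1 γ * (i * ch (wj j)) * ch γ) • b (γ + 1 + w, j) := by
      have f0 : B 1 (b (γ, j)) = (zt i 1 γ * (i * ch (wj j)) * ch γ) • A (γ + 1) (e j) := by
        rw [hb, h.BA, U.eB j 1 (by decide), map_smul, map_smul, one_mul, h.CA, U.e0 j, zero_mul, ch_zero, one_smul,
          map_smul, h.H.AA, smul_smul, smul_smul, mul_one, mul_one, mul_assoc]
      change A w (B 1 (b (γ, j))) = _
      rw [f0, map_smul, h.H.AA, hb, add_comm w]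
    rw [f1, map_smul, Finsupp.smul_apply, Module.Basis.repr_self, Finsupp.single_apply, if_neg, smul_zero]
    intro h0
    rw [Prod.mk.injEq] at h0
    exact (show ∀ γ : F4, γ + 1 + w ≠ γ by decide) γ h0.1
  have t1 : LinearMap.trace Ω V (r * A 1 * C u * y * t) = 0 := by
    obtain ⟨k, hk⟩ := hR.ex !![0, 0, 1; 0, w, 1; u, 1, u] (by rw [Matrix.det_fin_three]; decide)
    exact hR.tr0' (hR.mul (hR.mul (hR.mul (hR.mul h.H.Rr (h.H.RA 1)) (h.H.RC u)) h.H.Ry) Rt)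
      (hR.mul (h.H.RA w) (h.H.RB 1)) hk (s := w) (by decide) (by decide) hAB
  rw [trace_X h U hb ht (X := r * A 1 * C u * y) (gX := fun j l => g (j + (l + 1))) (σ := σ1) (by
    intro δ l
    change r (A 1 (C u (y (A δ (e l))))) = _
    rw [h.H.yA, U.ey, U.wtA h, map_smul, map_smul, h.H.AA, hr', Finset.smul_sum]
    apply Finset.sum_congr rfl
    intro k _
    rw [smul_smul, ← mul_assoc, ← ch_add]
    congr 2
    exact ch_congr ((show ∀ δ κ : F4, sg (u * δ * u + (1 + u * δ) * κ) = sg (κ * δ + σ1 κ δ) by decide) δ k.1))] at t1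
  exact final_algebra h2 h.hi h'.H.z3 s1 s2 s3 s1' s2' s3' t0 t1

end Cfsg.Agent.H906.T12
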