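import Cfsg.Agent.H906.T12Main
import Cfsg.Agent.H906.T14SixZ

/-!
# Cores with socle `PSL_3(4)` in degree twelve
-/

set_option autoImplicit false
set_option linter.unusedSectionVars false

namespace Cfsg.Agent.H906.T12

open Cfsg Cfsg.Geo SL3Par L34 H915.LD F4 T14
open scoped MatrixGroups commutatorElement Matrix

universe u v

section field

variable {K : Type v} [Field K]

/-- the map from the concrete field -/
def kmap (w0 : K) (hw : w0 ^ 2 + w0 + 1 = 0) (k2 : (2 : K) = 0) : F4 →+* K where
  toFun := fun x => match x with | .o => 0 | .i => 1 | .w => w0 | .u => w0 + 1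
  map_one' := rfl
  map_zero' := rfl
  map_add' := by
    intro x y
    cases x <;> cases y
    · change (0 : K) = 0 + 0
      ring
    · change (1 : K) = 0 + 1
      ring
    · change w0 = 0 + w0
      ring
    · change w0 + 1 = 0 + (w0 + 1)
      ring
    · change (1 : K) = 1 + 0
      ring
    · change (0 : K) = 1 + 1
      linear_combination -k2
    · change w0 + 1 = 1 + w0
      ring
    · change w0 = 1 + (w0 + 1)
      linear_combination -k2
    · change w0 = w0 + 0
      ring
    · change w0 + 1 = w0 + 1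
      ring
    · change (0 : K) = w0 + w0
      linear_combination -w0 * k2
    · change (1 : K) = w0 + (w0 + 1)
      linear_combination -w0 * k2
    · change w0 + 1 = (w0 + 1) + 0
      ring
    · change w0 = (w0 + 1) + 1
      linear_combination -k2
    · change (1 : K) = (w0 + 1) + w0
      linear_combination -w0 * k2
    · change (0 : K) = (w0 + 1) + (w0 + 1)
      linear_combination (-w0 - 1) * k2
  map_mul' := by
    intro x y
    cases x <;> cases y
    · change (0 : K) = 0 * 0
      ring
    · change (0 : K) = 0 * 1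
      ring
    · change (0 : K) = 0 * w0
      ring
    · change (0 : K) = 0 * (w0 + 1)
      ring
    · change (0 : K) = 1 * 0
      ring
    · change (1 : K) = 1 * 1
      ring
    · change w0 = 1 * w0
      ring
    · change w0 + 1 = 1 * (w0 + 1)
      ring
    · change (0 : K) = w0 * 0
      ring
    · change w0 = w0 * 1
      ring
    · change w0 + 1 = w0 * w0
      linear_combination -hw + (w0 + 1) * k2
    · change (1 : K) = w0 * (w0 + 1)
      linear_combination -hw + k2
    · change (0 : K) = (w0 + 1) * 0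
      ring
    · change w0 + 1 = (w0 + 1) * 1
      ring
    · change (1 : K) = (w0 + 1) * w0
      linear_combination -hw + k2
    · change w0 = (w0 + 1) * (w0 + 1)
      linear_combination -hw

lemma exists_k [Fintype K] (hK : Fintype.card K = 4) : ∃ k : F4 →+* K, Function.Bijective k := by
  obtain ⟨w0, hw⟩ := exists_w hK
  refine ⟨kmap w0 hw (two_zero hK), ?_⟩
  rw [Fintype.bijective_iff_injective_and_card]
  exact ⟨RingHom.injective _, by rw [hK]; rfl⟩

end field

variable {ι : Type} [Fintype ι] [DecidableEq ι] {F : Type u} [Field F] {P : Subgroup (GL ι F)}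
  {K : Type v} [Field K] [Fintype K] (e : Soc P ≃* Matrix.ProjectiveSpecialLinearGroup (Fin 3) K)

/-- the projective representation of a core -/
def RP (e : Soc P ≃* Matrix.ProjectiveSpecialLinearGroup (Fin 3) K) (k : F4 →+* K)
    (g : Module.End (AlgebraicClosure F) (ι → AlgebraicClosure F)) (x : M3) : Prop :=
  ∃ (l : P) (X : SL3Par.X K) (s : K) (c : AlgebraicClosure F), ph e l = pj K X ∧ s ≠ 0 ∧ X.1 = s • x.map k ∧
    x.det = 1 ∧ c ≠ 0 ∧ g = c • rep P l

lemma pj_eq_of_smul {x y : SL3Par.X K} {s : K} (h : x.1 = s • y.1) : pj K x = pj K y := by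
  have h1 : pj K (x * y⁻¹) = 1 := by
    apply pj_eq_one_of_smul (c := s)
    have h2 : (x * y⁻¹).1 = x.1 * (y⁻¹).1 := rfl
    have h3 : y.1 * (y⁻¹).1 = 1 := congrArg Subtype.val (mul_inv_cancel y)
    rw [h2, h, smul_mul_assoc, h3]
  rw [map_mul, map_inv] at h1
  exact mul_inv_eq_one.1 h1

lemma rep_irr (hC : Core P) (W : Submodule (AlgebraicClosure F) (ι → AlgebraicClosure F))
    (hW : ∀ l : P, ∀ v ∈ W, rep P l v ∈ W) : W = ⊥ ∨ W = ⊤ := by
  by_cases h0 : W = ⊥
  · exact Or.inl h0
  right
  have hspan := Cfsg.Agent.H920.span_eq_top hC.absIrred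
  let S : Submodule F (Matrix ι ι F) :=
    { carrier := {M | ∀ v ∈ W, Matrix.toLin' (M.map (algebraMap F (AlgebraicClosure F))) v ∈ W}
      add_mem' := fun {M N} hM hN v hv => by
        have h1 : (M + N).map (algebraMap F (AlgebraicClosure F)) =
            M.map (algebraMap F (AlgebraicClosure F)) + N.map (algebraMap F (AlgebraicClosure F)) :=
          Matrix.map_add _ (map_add _) M N
        rw [h1, map_add]
        exact W.add_mem (hM v hv) (hN v hv)
      zero_mem' := fun v hv => by
        have h1 : (0 : Matrix ι ι F).map (algebraMap F (AlgebraicClosure F)) = 0 := Matrix.map_zero _ (map_zero _)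
        rw [h1, map_zero]
        exact W.zero_mem
      smul_mem' := fun c M hM v hv => by
        have h1 : (c • M).map (algebraMap F (AlgebraicClosure F)) =
            algebraMap F (AlgebraicClosure F) c • M.map (algebraMap F (AlgebraicClosure F)) := by
          ext i j
          simp
        rw [h1, map_smul]
        exact W.smul_mem _ (hM v hv) }
  have hS : S = ⊤ := by
    rw [eq_top_iff, ← hspan, Submodule.span_le]
    rintro _ ⟨g, hg, rfl⟩
    exact fun v hv => hW ⟨g, hg⟩ v hv
  obtain ⟨v, hv, hv0⟩ := Submodule.exists_mem_ne_zero_of_ne_bot h0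
  obtain ⟨j, hj⟩ : ∃ j, v j ≠ 0 := by
    by_contra hcon
    push Not at hcon
    exact hv0 (funext hcon)
  have hE : ∀ i : ι, Pi.single i (1 : AlgebraicClosure F) ∈ W := by
    intro i
    have h1 : Matrix.single i j (1 : F) ∈ S := by rw [hS]; trivial
    have h2 := h1 v hv
    have h3 : Matrix.toLin' ((Matrix.single i j (1 : F)).map (algebraMap F (AlgebraicClosure F))) v = v j • Pi.single i 1 := by
      rw [Matrix.toLin'_apply]
      have h4 : (Matrix.single i j (1 : F)).map (algebraMap F (AlgebraicClosure F)) =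
          Matrix.single i j (1 : AlgebraicClosure F) := by
        ext a b
        simp [Matrix.single_apply, apply_ite]
      rw [h4, Matrix.single_mulVec]
      ext a
      by_cases ha : a = i
      · subst ha
        simp
      · simp [ha]
    rw [h3] at h2
    have h5 := W.smul_mem (v j)⁻¹ h2
    rwa [smul_smul, inv_mul_cancel₀ hj, one_smul] at h5
  rw [eq_top_iff]
  intro x _
  rw [pi_eq_sum_univ' x]
  apply W.sum_mem
  intro i _
  have h1 := W.smul_mem (x i) (hE i)
  convert h1 using 2

lemma rep_ker {l : P} {c : AlgebraicClosure F} (h : rep P l = c • 1) : l ∈ (ph e).ker := by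
  rw [ker_comp e, Subgroup.mem_subgroupOf, mem_scalars_iff]
  have h1 : ((l : GL ι F) : Matrix ι ι F).map (algebraMap F (AlgebraicClosure F)) = c • 1 := by
    rw [rep_apply] at h
    apply Matrix.toLin'.injective
    rw [h, map_smul, Matrix.toLin'_one]
    rfl
  have inj := (algebraMap F (AlgebraicClosure F)).injective
  have hoff : ∀ a b, a ≠ b → ((l : GL ι F) : Matrix ι ι F) a b = 0 := by
    intro a b hab
    apply inj
    have h2 := congrFun (congrFun h1 a) b
    rw [Matrix.map_apply, Matrix.smul_apply, Matrix.one_apply_ne hab, smul_zero] at h2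
    rw [h2, map_zero]
  have hdiag : ∀ a b, ((l : GL ι F) : Matrix ι ι F) a a = ((l : GL ι F) : Matrix ι ι F) b b := by
    intro a b
    apply inj
    have h2 := congrFun (congrFun h1 a) a
    have h3 := congrFun (congrFun h1 b) b
    rw [Matrix.map_apply, Matrix.smul_apply, Matrix.one_apply_eq] at h2 h3
    rw [h2, h3]
  by_cases hι : Nonempty ι
  · obtain ⟨a⟩ := hι
    have h4 : ((l : GL ι F) : Matrix ι ι F) = (((l : GL ι F) : Matrix ι ι F) a a) • 1 := by
      ext p q
      by_cases hpq : p = q
      · subst hpq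
        rw [Matrix.smul_apply, Matrix.one_apply_eq, smul_eq_mul, mul_one]
        exact hdiag p a
      · rw [Matrix.smul_apply, Matrix.one_apply_ne hpq, smul_zero]
        exact hoff p q hpq
    have h5 : ((l : GL ι F) : Matrix ι ι F) a a ≠ 0 := by
      intro h0
      rw [h0, zero_smul] at h4
      have h6 : ((l : GL ι F) : Matrix ι ι F) * (((l : GL ι F)⁻¹ : GL ι F) : Matrix ι ι F) = 1 := by
        rw [← Units.val_mul, mul_inv_cancel, Units.val_one]
      rw [h4, Matrix.zero_mul] at h6
      have h7 := congrFun (congrFun h6 a) a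
      rw [Matrix.one_apply_eq] at h7
      exact zero_ne_one h7
    exact ⟨Units.mk0 _ h5, h4⟩
  · rw [not_nonempty_iff] at hι
    exact ⟨1, by ext a; exact (IsEmpty.false a).elim⟩

/-- a core gives a projective representation -/
theorem RP_pr (hC : Core P) (k : F4 →+* K) (hk : Function.Bijective k) : PR (RP e k) where
  mul := by
    rintro g g' x x' ⟨l, X, s, c, h1, h2, h3, h4, h5, h6⟩ ⟨l', X', s', c', h1', h2', h3', h4', h5', h6'⟩
    refine ⟨l * l', X * X', s * s', c * c', ?_, mul_ne_zero h2 h2', ?_, ?_, mul_ne_zero h5 h5', ?_⟩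
    · rw [map_mul, map_mul, h1, h1']
    · have e1 : (X * X').1 = X.1 * X'.1 := rfl
      rw [e1, h3, h3', smul_mul_smul_comm, Matrix.map_mul]
    · rw [Matrix.det_mul, h4, h4', one_mul]
    · rw [h6, h6', smul_mul_smul_comm, map_mul]
  ex := by
    intro x hx
    have hX : (x.map k).det = 1 := by
      have h1 := RingHom.map_det k x
      rw [hx, map_one] at h1
      exact h1.symm
    obtain ⟨l, hl⟩ := ph_surj e (pj K ⟨x.map k, hX⟩)
    exact ⟨rep P l, l, ⟨x.map k, hX⟩, 1, 1, hl, one_ne_zero, (one_smul _ _).symm, hx, one_ne_zero, (one_smul _ _).symm⟩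
  smul := by
    rintro g x d hd ⟨l, X, s, c, h1, h2, h3, h4, h5, h6⟩
    exact ⟨l, X, s, d * c, h1, h2, h3, h4, mul_ne_zero hd h5, by rw [h6, smul_smul]⟩
  smulM := by
    rintro g x s' hs' ⟨l, X, s, c, h1, h2, h3, h4, h5, h6⟩
    have hks : k s' ≠ 0 := (map_ne_zero k).2 hs'
    refine ⟨l, X, s * (k s')⁻¹, c, h1, mul_ne_zero h2 (inv_ne_zero hks), ?_, ?_, h5, h6⟩
    · have e1 : (s' • x).map k = k s' • x.map k := by
        ext i j
        simp
      rw [e1, smul_smul, mul_assoc, inv_mul_cancel₀ hks, mul_one, h3]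
    · rw [Matrix.det_smul, h4, mul_one]
      exact (show ∀ s : F4, s ≠ 0 → s ^ Fintype.card (Fin 3) = 1 by decide) s' hs'
  eq := by
    rintro g g' x ⟨l, X, s, c, h1, h2, h3, h4, h5, h6⟩ ⟨l', X', s', c', h1', h2', h3', h4', h5', h6'⟩
    have e1 : X.1 = (s * s'⁻¹) • X'.1 := by
      rw [h3', smul_smul, mul_assoc, inv_mul_cancel₀ h2', mul_one, h3]
    have e2 : ph e l = ph e l' := by rw [h1, h1', pj_eq_of_smul e1]
    have e3 : l * l'⁻¹ ∈ (ph e).ker := by rw [MonoidHom.mem_ker, map_mul, map_inv, e2, mul_inv_cancel]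
    obtain ⟨d, hd⟩ := rep_scalar e e3
    have e4 : rep P l = d • rep P l' := by
      calc rep P l = rep P (l * l'⁻¹) * rep P l' := by rw [← map_mul, inv_mul_cancel_right]
        _ = d • rep P l' := by rw [hd, smul_mul_assoc, one_mul]
    have hd0 : d ≠ 0 := by
      rintro rfl
      have hne := hC.nonempty
      rw [zero_smul] at e4
      have e5 : rep P l * rep P l⁻¹ = 1 := by rw [← map_mul, mul_inv_cancel, map_one]
      rw [e4, zero_mul] at e5
      exact zero_ne_one e5
    refine ⟨c * d * c'⁻¹, mul_ne_zero (mul_ne_zero h5 hd0) (inv_ne_zero h5'), ?_⟩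
    rw [h6', smul_smul, mul_assoc, inv_mul_cancel₀ h5', mul_one, h6, e4, smul_smul]
  one := ⟨1, 1, 1, 1, by rw [map_one, map_one], one_ne_zero, by
    rw [one_smul, Matrix.map_one _ (map_zero k) (map_one k)]; rfl, Matrix.det_one, one_ne_zero, by
    rw [map_one, one_smul]⟩
  det := fun ⟨l, X, s, c, h1, h2, h3, h4, h5, h6⟩ => h4
  faith := by
    rintro x ⟨l, X, s, c, h1, h2, h3, h4, h5, h6⟩
    have e1 : rep P l = c⁻¹ • 1 := by rw [h6, smul_smul, inv_mul_cancel₀ h5, one_smul]
    have e2 := rep_ker e e1
    rw [MonoidHom.mem_ker, h1] at e2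
    have e3 : X ∈ Subgroup.center (SL3Par.X K) := (QuotientGroup.eq_one_iff X).1 e2
    obtain ⟨r, -, hr⟩ := Matrix.SpecialLinearGroup.mem_center_iff.1 e3
    have e4 : ∀ a b, k (x a b) = s⁻¹ * (Matrix.scalar (Fin 3) r) a b := by
      intro a b
      have e5 := congrFun (congrFun h3 a) b
      rw [Matrix.smul_apply, Matrix.map_apply, smul_eq_mul] at e5
      have e6 := congrFun (congrFun hr a) b
      rw [e6, e5, ← mul_assoc, inv_mul_cancel₀ h2, one_mul]
    refine ⟨x 0 0, ?_⟩
    ext a b
    apply hk.1
    by_cases hab : a = b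
    · subst hab
      rw [Matrix.smul_apply, Matrix.one_apply_eq, smul_eq_mul, mul_one, e4, e4]
      simp
    · rw [Matrix.smul_apply, Matrix.one_apply_ne hab, smul_zero, map_zero, e4]
      simp [hab]
  irr := by
    intro W hW
    apply rep_irr hC
    intro l v hv
    obtain ⟨X, hX⟩ : ∃ X : SL3Par.X K, pj K X = ph e l := QuotientGroup.mk'_surjective _ _
    choose f hf using hk.2
    have e1 : (X.1.map f).map k = X.1 := by
      ext a b
      rw [Matrix.map_apply, Matrix.map_apply, hf]
    apply hW (rep P l) (X.1.map f)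
    · refine ⟨l, X, 1, 1, hX.symm, one_ne_zero, by rw [e1, one_smul], ?_, one_ne_zero, (one_smul _ _).symm⟩
      apply hk.1
      have h1 := RingHom.map_det k (X.1.map f)
      rw [h1, map_one]
      change ((X.1.map f).map k).det = 1
      rw [e1]
      exact X.2
    · exact hv

end Cfsg.Agent.H906.T12
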