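import Cfsg.Agent.H906.T12Gen

/-!
# Weight spaces of a Klein four group
-/

set_option autoImplicit false

namespace Cfsg.Agent.H906.T12

open F4

variable {Ω V : Type*} [Field Ω] [AddCommGroup V] [Module Ω V]

/-- the additive character -/
def ch {Ω : Type*} [Field Ω] (x : F4) : Ω := ((sg x : ℤ) : Ω)

lemma ch_zero : (ch 0 : Ω) = 1 := by
  change ((1 : ℤ) : Ω) = 1
  simp

lemma ch_one : (ch 1 : Ω) = 1 := by
  change ((1 : ℤ) : Ω) = 1
  simp

lemma ch_w : (ch w : Ω) = -1 := by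
  change ((-1 : ℤ) : Ω) = -1
  simp

lemma ch_u : (ch u : Ω) = -1 := by
  change ((-1 : ℤ) : Ω) = -1
  simp

lemma sg_add (x y : F4) : sg (x + y) = sg x * sg y := by revert x y; decide

lemma ch_add (x y : F4) : (ch (x + y) : Ω) = ch x * ch y := by
  unfold ch
  rw [sg_add, Int.cast_mul]

lemma ch_mul_self (x : F4) : (ch x : Ω) * ch x = 1 := by
  rw [← ch_add, show x + x = 0 by revert x; decide, ch_zero]

lemma ch_cases (x : F4) : (ch x : Ω) = 1 ∨ (ch x : Ω) = -1 := by
  cases x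
  · exact Or.inl ch_zero
  · exact Or.inl ch_one
  · exact Or.inr ch_w
  · exact Or.inr ch_u

lemma ch_congr {x y : F4} (h : sg x = sg y) : (ch x : Ω) = ch y := by
  unfold ch
  rw [h]

lemma csum (x : F4) : ∑ c, (ch (x * c) : Ω) = if x = 0 then 4 else 0 := by
  rw [sum_four]
  cases x
  · change ch 0 + ch 0 + ch 0 + ch 0 = (4 : Ω)
    rw [ch_zero]; norm_num
  · change ch 0 + ch 1 + ch w + ch u = (0 : Ω)
    rw [ch_zero, ch_one, ch_w, ch_u]; norm_num
  · change ch 0 + ch w + ch u + ch 1 = (0 : Ω)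
    rw [ch_zero, ch_one, ch_w, ch_u]; norm_num
  · change ch 0 + ch u + ch 1 + ch w = (0 : Ω)
    rw [ch_zero, ch_one, ch_w, ch_u]; norm_num

/-- the weight spaces -/
def wt (C : F4 → Module.End Ω V) (γ : F4) : Submodule Ω V where
  carrier := {v | ∀ c, C c v = (ch (γ * c) : Ω) • v}
  add_mem' := fun {a b} ha hb c => by rw [map_add, ha c, hb c, smul_add]
  zero_mem' := fun c => by rw [map_zero, smul_zero]
  smul_mem' := fun k v hv c => by rw [map_smul, hv c, smul_comm]

lemma mem_wt {C : F4 → Module.End Ω V} {γ : F4} {v : V} : v ∈ wt C γ ↔ ∀ c, C c v = (ch (γ * c) : Ω) • v := Iff.rfl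

variable {C : F4 → Module.End Ω V} (h2 : (2 : Ω) ≠ 0) (C0 : ∀ v, C 0 v = v) (CC : ∀ b b' v, C b (C b' v) = C (b + b') v)

/-- the projections -/
noncomputable def pr (C : F4 → Module.End Ω V) (γ : F4) : Module.End Ω V := (4 : Ω)⁻¹ • ∑ c, (ch (γ * c) : Ω) • C c

lemma pr_apply (γ : F4) (v : V) : pr C γ v = (4 : Ω)⁻¹ • ∑ c, (ch (γ * c) : Ω) • C c v := by
  unfold pr
  rw [LinearMap.smul_apply, LinearMap.sum_apply]
  rfl

include CC in
lemma pr_mem (γ : F4) (v : V) : pr C γ v ∈ wt C γ := by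
  intro d
  rw [pr_apply, map_smul, map_sum, smul_comm]
  congr 1
  rw [Finset.smul_sum]
  have h1 : ∀ c, C d ((ch (γ * c) : Ω) • C c v) = (ch (γ * d) : Ω) • (ch (γ * (d + c)) : Ω) • C (d + c) v := by
    intro c
    rw [map_smul, CC, smul_smul]
    congr 1
    rw [mul_add, ch_add, ← mul_assoc, ch_mul_self, one_mul]
  rw [Finset.sum_congr rfl fun c _ => h1 c]
  exact Fintype.sum_equiv (Equiv.addLeft d) _ _ fun c => rfl

include h2

lemma four_ne : (4 : Ω) ≠ 0 := by
  have : (4 : Ω) = 2 * 2 := by norm_num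
  rw [this]
  exact mul_ne_zero h2 h2

include C0 in
lemma sum_pr (v : V) : ∑ γ, pr C γ v = v := by
  simp only [pr_apply]
  rw [← Finset.smul_sum, Finset.sum_comm]
  have h1 : ∀ c, ∑ γ, (ch (γ * c) : Ω) • C c v = (if c = 0 then (4 : Ω) else 0) • C c v := by
    intro c
    rw [← Finset.sum_smul, ← csum c]
    congr 1
    exact Finset.sum_congr rfl fun x _ => by rw [mul_comm]
  rw [Finset.sum_congr rfl fun c _ => h1 c]
  simp only [ite_smul, zero_smul, Finset.sum_ite_eq', Finset.mem_univ, if_true]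
  rw [C0, smul_smul, inv_mul_cancel₀ (four_ne h2), one_smul]

omit h2 in
lemma pr_of_wt (h2 : (2 : Ω) ≠ 0) {γ δ : F4} {v : V} (hv : v ∈ wt C δ) : pr C γ v = if γ = δ then v else 0 := by
  rw [pr_apply]
  have h1 : ∀ c, (ch (γ * c) : Ω) • C c v = (ch ((γ + δ) * c) : Ω) • v := by
    intro c
    rw [hv c, smul_smul, add_mul, ch_add]
  rw [Finset.sum_congr rfl fun c _ => h1 c, ← Finset.sum_smul, csum]
  by_cases h : γ = δ
  · have h3 : γ + δ = 0 := (show ∀ a b : F4, a = b → a + b = 0 by decide) _ _ h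
    rw [if_pos h3, if_pos h, smul_smul, inv_mul_cancel₀ (four_ne h2), one_smul]
  · have h3 : γ + δ ≠ 0 := (show ∀ a b : F4, a ≠ b → a + b ≠ 0 by decide) _ _ h
    rw [if_neg h3, if_neg h, zero_smul, smul_zero]

include C0 CC

/-- dimensions of the weight spaces -/
theorem finrank_wt [FiniteDimensional Ω V] (U : Submodule Ω V) (hU : ∀ c, ∀ v ∈ U, C c v ∈ U) :
    Module.finrank Ω U = ∑ γ, Module.finrank Ω ↥(U ⊓ wt C γ) := by
  let Φ : (∀ γ : F4, ↥(U ⊓ wt C γ)) →ₗ[Ω] U :=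
    { toFun := fun f => ⟨∑ γ, (f γ : V), U.sum_mem fun γ _ => (f γ).2.1⟩
      map_add' := fun f g => Subtype.ext (by
        change ∑ γ, ((f γ : V) + (g γ : V)) = _
        rw [Finset.sum_add_distrib]; rfl)
      map_smul' := fun c f => Subtype.ext (by
        change ∑ γ, c • (f γ : V) = _
        rw [← Finset.smul_sum]; rfl) }
  have hprU : ∀ γ, ∀ v ∈ U, pr C γ v ∈ U := by
    intro γ v hv
    rw [pr_apply]
    exact U.smul_mem _ (U.sum_mem fun c _ => U.smul_mem _ (hU c v hv))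
  have hinj : Function.Injective Φ := by
    rw [← LinearMap.ker_eq_bot, LinearMap.ker_eq_bot']
    intro f hf
    have h1 : ∑ γ, (f γ : V) = 0 := congrArg Subtype.val hf
    funext δ
    apply Subtype.ext
    have h3 := congrArg (pr C δ) h1
    rw [map_sum, map_zero] at h3
    have h4 : ∀ γ, pr C δ (f γ : V) = if δ = γ then (f γ : V) else 0 := fun γ => pr_of_wt h2 (f γ).2.2
    rw [Finset.sum_congr rfl fun γ _ => h4 γ, Finset.sum_ite_eq, if_pos (Finset.mem_univ _)] at h3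
    exact h3
  have hsurj : Function.Surjective Φ := by
    intro v
    refine ⟨fun γ => ⟨pr C γ v, hprU γ v v.2, pr_mem CC γ v⟩, ?_⟩
    exact Subtype.ext (sum_pr h2 C0 (v : V))
  rw [← (LinearEquiv.ofBijective Φ ⟨hinj, hsurj⟩).finrank_eq, Module.finrank_pi_fintype]

omit C0 CC h2 in
/-- equal dimensions -/
lemma finrank_le_of_map [FiniteDimensional Ω V] {g : Module.End Ω V} (hg : ∀ v, g v = 0 → v = 0) {U U' : Submodule Ω V}
    (h : ∀ v ∈ U, g v ∈ U') : Module.finrank Ω U ≤ Module.finrank Ω U' := by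
  apply LinearMap.finrank_le_finrank_of_injective (f := g.restrict (p := U) (q := U') h)
  rw [← LinearMap.ker_eq_bot, LinearMap.ker_eq_bot']
  intro v hv
  apply Subtype.ext
  exact hg v (congrArg Subtype.val hv)

end Cfsg.Agent.H906.T12
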