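import Cfsg.Agent.H906.T14Core

/-!
# A concrete field with four elements
-/

set_option autoImplicit false

namespace Cfsg.Agent.H906.T12

/-- the field with four elements: `0, 1, w, w²` -/
inductive F4 : Type
  | o : F4
  | i : F4
  | w : F4
  | u : F4
  deriving DecidableEq

namespace F4

instance : Fintype F4 := ⟨{o, i, w, u}, by intro x; cases x <;> decide⟩

def add : F4 → F4 → F4
  | o, x => x
  | x, o => x
  | i, i => o
  | i, w => u
  | i, u => w
  | w, i => u
  | w, w => o
  | w, u => i
  | u, i => w
  | u, w => i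
  | u, u => o

def mul : F4 → F4 → F4
  | o, _ => o
  | _, o => o
  | i, x => x
  | x, i => x
  | w, w => u
  | w, u => i
  | u, w => i
  | u, u => w

def inv : F4 → F4
  | o => o
  | i => i
  | w => u
  | u => w

instance : Zero F4 := ⟨o⟩
instance : One F4 := ⟨i⟩
instance : Add F4 := ⟨add⟩
instance : Mul F4 := ⟨mul⟩
instance : Neg F4 := ⟨fun x => x⟩
instance : Sub F4 := ⟨add⟩
instance : Inv F4 := ⟨inv⟩

instance : CommRing F4 where
  add_assoc := by decide
  zero_add := by decide
  add_zero := by decide
  add_comm := by decide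
  mul_assoc := by decide
  one_mul := by decide
  mul_one := by decide
  mul_comm := by decide
  left_distrib := by decide
  right_distrib := by decide
  zero_mul := by decide
  mul_zero := by decide
  neg_add_cancel := by decide
  sub_eq_add_neg := by decide
  nsmul := nsmulRec
  zsmul := zsmulRec

instance : Field F4 where
  exists_pair_ne := ⟨0, 1, by decide⟩
  mul_inv_cancel := by decide
  inv_zero := by decide
  nnqsmul := _
  nnqsmul_def := fun _ _ => rfl
  qsmul := _
  qsmul_def := fun _ _ => rfl

/-- the sign `(-1)^Tr` -/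
def sg : F4 → ℤ
  | o => 1
  | i => 1
  | w => -1
  | u => -1

lemma sum_four {M : Type*} [AddCommMonoid M] (f : F4 → M) : ∑ x, f x = f 0 + f 1 + f w + f u := by
  have : (Finset.univ : Finset F4) = {0, 1, w, u} := by decide
  rw [this, Finset.sum_insert (by decide), Finset.sum_insert (by decide), Finset.sum_insert (by decide),
    Finset.sum_singleton]
  abel

end F4

abbrev M3 : Type := Matrix (Fin 3) (Fin 3) F4

open F4

/-- unipotent matrices -/
def mU (a b c : F4) : M3 := !![1, a, c; 0, 1, b; 0, 0, 1]
def mr : M3 := !![0, 1, 0; 1, 0, 0; 0, 0, 1]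
def mt : M3 := !![1, 0, 0; 0, 0, 1; 0, 1, 0]
def my : M3 := !![1, 0, 0; 0, w, 0; 0, 0, u]

lemma mU_mul (a b c a' b' c' : F4) : mU a b c * mU a' b' c' = mU (a + a') (b + b') (c + c' + a * b') := by
  ext i j
  rw [Matrix.mul_apply, Fin.sum_univ_three]
  fin_cases i <;> fin_cases j <;> simp [mU] <;> ring

lemma mr_sq : mr * mr = 1 := by decide
lemma mt_sq : mt * mt = 1 := by decide
lemma my_cube : my * my * my = 1 := by decide
lemma mry : mr * my = w • (my * my * mr) := by decide
lemma mty : mt * my = my * my * mt := by decide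
lemma mrU (b : F4) : mr * mU 0 b 0 = mU 0 0 b * mr := by revert b; decide
lemma mtU (a : F4) : mt * mU a 0 0 = mU 0 0 a * mt := by revert a; decide
lemma myU (a b c : F4) : my * mU a b c = mU (u * a) (u * b) (w * c) * my := by revert a b c; decide

end Cfsg.Agent.H906.T12
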