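import Cfsg.Agent.H906.T12Sys

/-!
# Generation and dimensions
-/

set_option autoImplicit false

namespace Cfsg.Agent.H906.T12

open F4

open Cfsg.Agent.LieClassical in
theorem gen_M3 (S : M3 → Prop) (hmul : ∀ x y, S x → S y → S (x * y)) (hU : ∀ b, S (mU 0 b 0)) (hr : S mr)
    (ht : S mt) (x : M3) (hx : x.det = 1) : S x := by
  have h12 := hU
  have h02 : ∀ b, S (mU 0 0 b) := by
    intro b
    have h1 : mr * mU 0 b 0 * mr = mU 0 0 b := by revert b; decide
    rw [← h1]
    exact hmul _ _ (hmul _ _ hr (hU b)) hr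
  have h01 : ∀ b, S (mU b 0 0) := by
    intro b
    have h1 : mt * mU 0 0 b * mt = mU b 0 0 := by revert b; decide
    rw [← h1]
    exact hmul _ _ (hmul _ _ ht (h02 b)) ht
  have h21 : ∀ b, S (mt * mU 0 b 0 * mt) := fun b => hmul _ _ (hmul _ _ ht (hU b)) ht
  have h10 : ∀ b, S (mr * mU b 0 0 * mr) := fun b => hmul _ _ (hmul _ _ hr (h01 b)) hr
  have h20 : ∀ b, S (mr * (mt * mU 0 b 0 * mt) * mr) := fun b => hmul _ _ (hmul _ _ hr (h21 b)) hr
  have e01 : ∀ c : F4, Matrix.transvection (0 : Fin 3) 1 c = mU c 0 0 := by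
    intro c
    ext i j
    fin_cases i <;> fin_cases j <;> simp [Matrix.transvection, mU, Matrix.single]
  have e02 : ∀ c : F4, Matrix.transvection (0 : Fin 3) 2 c = mU 0 0 c := by
    intro c
    ext i j
    fin_cases i <;> fin_cases j <;> simp [Matrix.transvection, mU, Matrix.single]
  have e12 : ∀ c : F4, Matrix.transvection (1 : Fin 3) 2 c = mU 0 c 0 := by
    intro c
    ext i j
    fin_cases i <;> fin_cases j <;> simp [Matrix.transvection, mU, Matrix.single]
  have e10 : ∀ c : F4, Matrix.transvection (1 : Fin 3) 0 c = mr * mU c 0 0 * mr := by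
    intro c
    have h1 : mr * mU c 0 0 * mr = !![1, 0, 0; c, 1, 0; 0, 0, 1] := by revert c; decide
    rw [h1]
    ext i j
    fin_cases i <;> fin_cases j <;> simp [Matrix.transvection, Matrix.single]
  have e21 : ∀ c : F4, Matrix.transvection (2 : Fin 3) 1 c = mt * mU 0 c 0 * mt := by
    intro c
    have h1 : mt * mU 0 c 0 * mt = !![1, 0, 0; 0, 1, 0; 0, c, 1] := by revert c; decide
    rw [h1]
    ext i j
    fin_cases i <;> fin_cases j <;> simp [Matrix.transvection, Matrix.single]
  have e20 : ∀ c : F4, Matrix.transvection (2 : Fin 3) 0 c = mr * (mt * mU 0 c 0 * mt) * mr := by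
    intro c
    have h1 : mr * (mt * mU 0 c 0 * mt) * mr = !![1, 0, 0; 0, 1, 0; c, 0, 1] := by revert c; decide
    rw [h1]
    ext i j
    fin_cases i <;> fin_cases j <;> simp [Matrix.transvection, Matrix.single]
  have key : ∀ X : Matrix.SpecialLinearGroup (Fin 3) F4, S X.1 := by
    intro X
    refine SLGen.transvection_induction (fun X => S X.1) ?_ ?_ X
    · intro i j hij c
      change S (Matrix.transvection i j c)
      fin_cases i <;> fin_cases j
      · exact absurd rfl hij
      · change S (Matrix.transvection (0 : Fin 3) 1 c)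
        rw [e01]; exact h01 c
      · change S (Matrix.transvection (0 : Fin 3) 2 c)
        rw [e02]; exact h02 c
      · change S (Matrix.transvection (1 : Fin 3) 0 c)
        rw [e10]; exact h10 c
      · exact absurd rfl hij
      · change S (Matrix.transvection (1 : Fin 3) 2 c)
        rw [e12]; exact h12 c
      · change S (Matrix.transvection (2 : Fin 3) 0 c)
        rw [e20]; exact h20 c
      · change S (Matrix.transvection (2 : Fin 3) 1 c)
        rw [e21]; exact h21 c
      · exact absurd rfl hij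
    · intro X Y h1 h2
      exact hmul _ _ h1 h2
  exact key ⟨x, hx⟩

variable {Ω V : Type*} [Field Ω] [AddCommGroup V] [Module Ω V]
variable {R : Module.End Ω V → M3 → Prop} (hR : PR R)

include hR in
/-- irreducibility in terms of generators -/
theorem PR.irr_gen {A : F4 → Module.End Ω V} {r t : Module.End Ω V} (RA : ∀ b, R (A b) (mU 0 b 0)) (Rr : R r mr)
    (Rt : R t mt) (W : Submodule Ω V) (hA : ∀ b, ∀ v ∈ W, A b v ∈ W) (hr : ∀ v ∈ W, r v ∈ W)
    (ht : ∀ v ∈ W, t v ∈ W) : W = ⊥ ∨ W = ⊤ := by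
  apply hR.irr
  intro g x hg
  have h1 : ∃ g', R g' x ∧ ∀ v ∈ W, g' v ∈ W := by
    refine gen_M3 (fun x => ∃ g', R g' x ∧ ∀ v ∈ W, g' v ∈ W) ?_ ?_ ?_ ?_ x (hR.det hg)
    · rintro x y ⟨g, hg, h⟩ ⟨g', hg', h'⟩
      exact ⟨g * g', hR.mul hg hg', fun v hv => h _ (h' v hv)⟩
    · exact fun b => ⟨A b, RA b, hA b⟩
    · exact ⟨r, Rr, hr⟩
    · exact ⟨t, Rt, ht⟩
  obtain ⟨g', hg', h⟩ := h1
  obtain ⟨c, -, rfl⟩ := hR.eq hg hg'
  intro v hv
  exact W.smul_mem c (h v hv)

end Cfsg.Agent.H906.T12
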