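import Cfsg.Agent.H906.T12B4

/-!
# Projective representations of `PSL_3(4)` of degree twelve
-/

set_option autoImplicit false
set_option linter.unusedSectionVars false

namespace Cfsg.Agent.H906.T12

open F4

variable {Ω V : Type*} [Field Ω] [AddCommGroup V] [Module Ω V]
variable {R : Module.End Ω V → M3 → Prop} {A B C : F4 → Module.End Ω V} {r t y : Module.End Ω V} {z i : Ω}

lemma pr_mem_at {C : F4 → Module.End Ω V} {v : V} (CC : ∀ b b', C b (C b' v) = C (b + b') v) (γ : F4) :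
    pr C γ v ∈ wt C γ := by
  intro d
  rw [pr_apply, map_smul, map_sum, smul_comm]
  congr 1
  rw [Finset.smul_sum]
  have h1 : ∀ c, C d ((ch (γ * c) : Ω) • C c v) = (ch (γ * d) : Ω) • (ch (γ * (d + c)) : Ω) • C (d + c) v := by
    intro c
    rw [map_smul, CC, smul_smul]
    congr 1
    rw [mul_add, ch_add, ← mul_assoc, ch_mul_self, one_mul]
  rw [Finset.sum_congr rfl fun c _ => h1 c]
  exact Fintype.sum_equiv (Equiv.addLeft d) _ _ fun c => rfl

/-- the dichotomy for the multiplicity space -/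
theorem HB.exists_U (h : HB R A B C r y z i) (h2 : (2 : Ω) ≠ 0) :
    (∀ v ∈ wt C 0, ∀ a, a ≠ 0 → B a v = i • A a v) ∨ ∃ e : Fin 3 → V, UB A B C y i e := by
  obtain ⟨T, hT⟩ : ∃ T : F4 → Module.End Ω V, T = fun a => if a = 0 then 1 else (-i) • (A a * B a) := ⟨_, rfl⟩
  have hT0 : ∀ v, T 0 v = v := by
    intro v
    rw [hT]
    change (if (0 : F4) = 0 then (1 : Module.End Ω V) else _) v = v
    rw [if_pos rfl]
    rfl
  have hTa : ∀ a v, a ≠ 0 → T a v = (-i) • A a (B a v) := by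
    intro a v ha
    rw [hT]
    change (if a = 0 then (1 : Module.End Ω V) else (-i) • (A a * B a)) v = _
    rw [if_neg ha]
    rfl
  have hBT : ∀ a v, a ≠ 0 → B a v = i • A a (T a v) := by
    intro a v ha
    rw [hTa a v ha, map_smul, h.H.AA, add_same, h.H.A0, smul_smul]
    have : i * -i = 1 := by linear_combination -h.hi
    rw [this, one_smul]
  have TV : ∀ v ∈ wt C 0, ∀ a, T a v ∈ wt C 0 := by
    intro v hv a
    by_cases ha : a = 0
    · rw [ha, hT0]; exact hv
    · rw [hTa a v ha]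
      apply Submodule.smul_mem
      intro c
      rw [h.CA, h.CB, hv, map_smul, map_smul, map_smul, smul_smul, smul_smul, ← ch_add, ← ch_add]
      congr 1
      exact ch_congr ((show ∀ a c : F4, sg (c * a + c * a + 0 * c) = sg (0 * c) by decide) a c)
  have TT : ∀ v ∈ wt C 0, ∀ a b, T a (T b v) = T (a + b) v := by
    intro v hv a b
    by_cases ha : a = 0
    · rw [ha, hT0, zero_add]
    by_cases hb : b = 0
    · rw [hb, hT0, add_zero]
    have e1 : A a (B a (A b (B b v))) = (zt i a b * ch (a * b * (a + b))) • A (a + b) (B (a + b) v) := by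
      rw [h.BA, map_smul, h.H.BB, h.CB, hv, zero_mul, ch_zero, one_smul, map_smul, map_smul, h.H.AA, smul_smul]
    rw [hTa a _ ha, hTa b v hb, map_smul, map_smul, smul_smul, e1, smul_smul]
    by_cases hab : a = b
    · subst hab
      rw [add_same, h.H.A0, h.H.B0, hT0, mul_zero, ch_zero]
      unfold zt
      rw [if_neg (by tauto), if_pos rfl]
      have : -i * -i * (-1 * 1) = 1 := by linear_combination -h.hi
      rw [this, one_smul]
    · have hne : a + b ≠ 0 := (show ∀ a b : F4, a ≠ b → a + b ≠ 0 by decide) a b hab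
      have h3 : a * b * (a + b) = 1 := (show ∀ a b : F4, a ≠ 0 → b ≠ 0 → a ≠ b → a * b * (a + b) = 1 by decide) a b ha hb hab
      rw [hTa _ _ hne, h3, ch_one]
      unfold zt
      rw [if_neg (by tauto), if_neg hab]
      congr 1
      linear_combination i * h.hi
  have Ty : ∀ a v, T a (y v) = y (T (w * a) v) := by
    intro a v
    by_cases ha : a = 0
    · rw [ha, mul_zero, hT0, hT0]
    · have hwa : w * a ≠ 0 := (show ∀ a : F4, a ≠ 0 → w * a ≠ 0 by decide) a ha
      rw [hTa a _ ha, hTa _ v hwa, map_smul, h.H.By, h.H.Ay]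
  by_cases hall : ∀ v ∈ wt C 0, ∀ δ : F4, δ ≠ 0 → pr T δ v = 0
  · left
    intro v hv a ha
    have h3 := sum_pr h2 hT0 v
    have h4 : ∑ γ, pr T γ v = pr T 0 v := Finset.sum_eq_single 0 (fun δ _ hδ => hall v hv δ hδ)
      (fun h0 => absurd (Finset.mem_univ _) h0)
    have h5 : v ∈ wt T 0 := by
      have h6 := pr_mem_at (TT v hv) 0
      rw [h4] at h3
      rwa [h3] at h6
    rw [hBT a v ha, h5, zero_mul, ch_zero, one_smul]
  · right
    push Not at hall
    obtain ⟨v, hv, δ, hδ, hne⟩ := hall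
    have h3 := pr_mem_at (TT v hv) δ
    have h4 : pr T δ v ∈ wt C 0 := by
      rw [pr_apply]
      exact Submodule.smul_mem _ _ (Submodule.sum_mem _ fun a _ => Submodule.smul_mem _ _ (TV v hv a))
    have hyC : ∀ x ∈ wt C 0, y x ∈ wt C 0 := by
      intro x hx c
      rw [h.H.Cy, hx, map_smul, zero_mul, zero_mul]
    have hyT : ∀ δ, ∀ x ∈ wt T δ, y x ∈ wt T (w * δ) := by
      intro δ x hx a
      rw [Ty, hx, map_smul]
      congr 1
      exact ch_congr ((show ∀ δ a : F4, sg (δ * (w * a)) = sg (w * δ * a) by decide) δ a)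
    obtain ⟨x, hx1, hx2, hx3⟩ : ∃ x, x ≠ 0 ∧ x ∈ wt C 0 ∧ x ∈ wt T 1 := by
      cases δ
      · exact absurd rfl hδ
      · exact ⟨_, hne, h4, h3⟩
      · exact ⟨y (y (pr T w v)), fun h0 => hne (h.H.y_inj (h.H.y_inj h0)), hyC _ (hyC _ h4), hyT _ _ (hyT _ _ h3)⟩
      · exact ⟨y (pr T u v), fun h0 => hne (h.H.y_inj h0), hyC _ h4, hyT _ _ h3⟩
    have hw : ∀ j : Fin 3, ![x, y x, y (y x)] j ∈ wt T (wj j) := by
      intro j
      fin_cases j
      · exact hx3
      · exact hyT _ _ hx3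
      · exact hyT _ _ (hyT _ _ hx3)
    refine ⟨![x, y x, y (y x)], ⟨?_, ?_, ?_, ?_⟩⟩
    · intro j
      fin_cases j
      · exact hx2
      · exact hyC _ hx2
      · exact hyC _ (hyC _ hx2)
    · intro j a ha
      rw [hBT a _ ha, hw j a, map_smul, smul_smul]
    · intro j
      fin_cases j
      · rfl
      · rfl
      · exact h.H.y3 x
    · intro j
      fin_cases j
      · exact hx1
      · exact fun h0 => hx1 (h.H.y_inj h0)
      · exact fun h0 => hx1 (h.H.y_inj (h.H.y_inj h0))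

theorem caseB [FiniteDimensional Ω V] (hR : PR R) (h2 : (2 : Ω) ≠ 0) (h12 : Module.finrank Ω V = 12)
    (h : HB R A B C r y 1 i) (h' : HB (fun g x => R g (T12.gam x)) B A C t y z (-i)) : (7 : Ω) = 0 ∧ z ≠ 1 := by
  rcases h.exists_U h2 with hT | ⟨e, U⟩
  · exact (caseB0 hR h2 h12 h h' hT).elim
  · exact caseB1 hR h2 h12 h h' U

/-- **Projective representations of `PSL_3(4)` of degree twelve.** -/
theorem PR.main [IsAlgClosed Ω] [FiniteDimensional Ω V] (hR : PR R) (h2 : (2 : Ω) ≠ 0)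
    (h12 : Module.finrank Ω V = 12) : (7 : Ω) = 0 ∧
      ∃ (r t y : Module.End Ω V) (z : Ω), R r mr ∧ R t mt ∧ R y my ∧ (∀ v, r (y v) = y (y (r v))) ∧
        (∀ v, t (y v) = z • y (y (t v))) ∧ (∀ v, y (y (y v)) = v) ∧ z ^ 3 = 1 ∧ z ≠ 1 := by
  have hnt : Nontrivial V := Module.nontrivial_of_finrank_pos (R := Ω) (by rw [h12]; norm_num)
  obtain ⟨A, B, C, r, t, y, z, H, H'⟩ := hR.exists_sys
  have key : (7 : Ω) = 0 ∧ z ≠ 1 := by
    obtain ⟨s, ζ, P⟩ := H.exists_pairing hR
    obtain ⟨S1, S1'⟩ := shift hR H H'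
    obtain ⟨S2, S2'⟩ := shift hR.del S1 S1'
    rcases sign_cases P.s1 P.sadd with hs | hs | hs | hs
    · exact (caseA hR h2 h12 H H' P hs).elim
    · obtain ⟨i, h⟩ := HB.of_pairing hR h2 h12 H P hs
      exact caseB hR h2 h12 h (h.swap H')
    · obtain ⟨i, h⟩ := HB.of_pairing hR.del h2 h12 S1 P.shift hs
      exact caseB hR.del h2 h12 h (h.swap S1')
    · obtain ⟨i, h⟩ := HB.of_pairing hR.del.del h2 h12 S2 P.shift.shift (fun x => by
        have e1 : w * (w * x) = u * x := (show ∀ x : F4, w * (w * x) = u * x by decide) x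
        rw [e1]
        exact hs x)
      exact caseB hR.del.del h2 h12 h (h.swap S2')
  refine ⟨key.1, r, t, y, z, H.Rr, ?_, H.Ry, ?_, H'.ry, H.y3, H'.z3, key.2⟩
  · rw [← gam_r]; exact H'.Rr
  · intro v
    rw [H.ry, one_smul]

end Cfsg.Agent.H906.T12
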