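import Cfsg.Agent.H906.T12Dim

/-!
# Commutators of the root groups
-/

set_option autoImplicit false

namespace Cfsg.Agent.H906.T12

open F4

variable {Ω V : Type*} [Field Ω] [AddCommGroup V] [Module Ω V]

/-- commutators -/
structure Pairing (A B C : F4 → Module.End Ω V) (s : F4 → Ω) (ζ : F4 → F4 → Ω) : Prop where
  s1 : ∀ x, s x = 1 ∨ s x = -1
  sadd : ∀ x x', s (x + x') = s x * s x'
  CA : ∀ c b v, C c (A b v) = s (c * b) • A b (C c v)
  CB : ∀ c a v, C c (B a v) = s (c * a * (c * a)) • B a (C c v)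
  BA : ∀ a b v, B a (A b v) = ζ a b • A b (C (a * b) (B a v))
  zinv : ∀ a b, ζ (u * a) (u * b) = ζ a b
  zadd : ∀ a b b', ζ a (b + b') = ζ a b * ζ a b' * s (a * b * b')
  zsq : ∀ a b, ζ a b * ζ a b * s (a * b * b) = 1

variable {R : Module.End Ω V → M3 → Prop}

lemma PR.cancelv (hR : PR R) [Nontrivial V] {g : Module.End Ω V} {x : M3} (h : R g x) {a b : Ω}
    (hab : ∀ v, a • g v = b • g v) : a = b :=
  hR.cancel h (LinearMap.ext hab)

theorem Half.exists_pairing (hR : PR R) [Nontrivial V] {A B C : F4 → Module.End Ω V} {r y : Module.End Ω V} {z : Ω}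
    (H : Half R A B C r y z) : ∃ (s : F4 → Ω) (ζ : F4 → F4 → Ω), Pairing A B C s ζ := by
  have self : ∀ c : F4, c + c = 0 := by decide
  have hCC : ∀ c, C c * C c = 1 := by
    intro c
    ext v
    change C c (C c v) = v
    rw [H.CC, self, H.C0]
  have hσ : ∀ c b, ∃ s : Ω, (s = 1 ∨ s = -1) ∧ C c * A b = s • (A b * C c) := fun c b =>
    hR.sign (H.RC c) (H.RA b) (by revert c b; decide) (hCC c)
  have hτ : ∀ c b, ∃ s : Ω, (s = 1 ∨ s = -1) ∧ C c * B b = s • (B b * C c) := fun c b =>
    hR.sign (H.RC c) (H.RB b) (by revert c b; decide) (hCC c)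
  have hζ : ∀ a b, ∃ c : Ω, c ≠ 0 ∧ B a * A b = c • (A b * C (a * b) * B a) := fun a b =>
    hR.rel1 (hR.mul (H.RB a) (H.RA b)) (hR.mul (hR.mul (H.RA b) (H.RC (a * b))) (H.RB a)) (by revert a b; decide)
  choose σ σ1 σ2 using hσ
  choose τ τ1 τ2 using hτ
  choose ζ ζ0 ζ2 using hζ
  have σv : ∀ c b v, C c (A b v) = σ c b • A b (C c v) := fun c b v => LinearMap.congr_fun (σ2 c b) v
  have τv : ∀ c b v, C c (B b v) = τ c b • B b (C c v) := fun c b v => LinearMap.congr_fun (τ2 c b) v
  have ζv : ∀ a b v, B a (A b v) = ζ a b • A b (C (a * b) (B a v)) := fun c b v => LinearMap.congr_fun (ζ2 c b) v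
  have σadd : ∀ c b b', σ c (b + b') = σ c b * σ c b' := by
    intro c b b'
    apply hR.cancelv (hR.mul (H.RA (b + b')) (H.RC c))
    intro v
    change σ c (b + b') • A (b + b') (C c v) = (σ c b * σ c b') • A (b + b') (C c v)
    rw [← σv, ← H.AA, σv, σv, map_smul, smul_smul, H.AA]
  have σadd' : ∀ c c' b, σ (c + c') b = σ c b * σ c' b := by
    intro c c' b
    apply hR.cancelv (hR.mul (H.RA b) (H.RC (c + c')))
    intro v
    change σ (c + c') b • A b (C (c + c') v) = (σ c b * σ c' b) • A b (C (c + c') v)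
    rw [← σv, ← H.CC, σv, map_smul, σv, smul_smul, H.CC, mul_comm]
  have σinv : ∀ c b, σ (w * c) (u * b) = σ c b := by
    intro c b
    apply hR.cancelv (hR.mul (hR.mul (H.RA (u * b)) (H.RC (w * c))) H.Ry)
    intro v
    change σ (w * c) (u * b) • A (u * b) (C (w * c) (y v)) = σ c b • A (u * b) (C (w * c) (y v))
    have h1 : y (C c (A b v)) = C (w * c) (A (u * b) (y v)) := by rw [H.yC, H.yA]
    have h2 : y (C c (A b v)) = σ c b • A (u * b) (C (w * c) (y v)) := by rw [σv, map_smul, H.yA, H.yC]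
    rw [← σv, ← h1, h2]
  have h0 : ∀ c, σ c 0 = 1 := by
    intro c
    have h1 := σadd c 0 0
    rw [add_zero] at h1
    rcases σ1 c 0 with h | h
    · exact h
    · rw [h] at h1 ⊢
      linear_combination h1
  have h0' : ∀ c, σ 0 c = 1 := by
    intro c
    have h1 := σadd' 0 0 c
    rw [add_zero] at h1
    rcases σ1 0 c with h | h
    · exact h
    · rw [h] at h1 ⊢
      linear_combination h1
  have σs : ∀ c b, σ c b = σ (c * b) 1 := by
    intro c b
    cases b
    · change σ c 0 = σ (c * 0) 1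
      rw [mul_zero, h0, h0']
    · change σ c 1 = σ (c * 1) 1
      rw [mul_one]
    · rw [← σinv c w]
      have e1 : w * c = c * w := mul_comm _ _
      rw [e1]; rfl
    · rw [← σinv c u, ← σinv (w * c) (u * u)]
      have e1 : w * (w * c) = c * u := by revert c; decide
      rw [e1]; rfl
  -- additivity
  have zinv : ∀ a b, ζ (u * a) (u * b) = ζ a b := by
    intro a b
    have e1 : u * a * (u * b) = w * (a * b) := by revert a b; decide
    apply hR.cancelv (hR.mul (hR.mul (hR.mul (H.RA (u * b)) (H.RC (w * (a * b)))) (H.RB (u * a))) H.Ry)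
    intro v
    change ζ (u * a) (u * b) • A (u * b) (C (w * (a * b)) (B (u * a) (y v))) =
      ζ a b • A (u * b) (C (w * (a * b)) (B (u * a) (y v)))
    have h1 : y (B a (A b v)) = B (u * a) (A (u * b) (y v)) := by rw [H.yB, H.yA]
    have h2 : y (B a (A b v)) = ζ a b • A (u * b) (C (w * (a * b)) (B (u * a) (y v))) := by
      rw [ζv, map_smul, H.yA, H.yC, H.yB]
    rw [← h2, h1, ζv, e1]
  have zadd : ∀ a b b', ζ a (b + b') = ζ a b * ζ a b' * σ (a * b * b') 1 := by
    intro a b b'
    apply hR.cancelv (hR.mul (hR.mul (H.RA (b + b')) (H.RC (a * (b + b')))) (H.RB a))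
    intro v
    change ζ a (b + b') • A (b + b') (C (a * (b + b')) (B a v)) =
      (ζ a b * ζ a b' * σ (a * b * b') 1) • A (b + b') (C (a * (b + b')) (B a v))
    rw [← ζv, ← H.AA, ζv, ζv, map_smul, map_smul, σv, map_smul, smul_smul, smul_smul, H.AA, H.CC, mul_add, ← σs,
      mul_assoc]
  have zsq : ∀ a b, ζ a b * ζ a b * σ (a * b * b) 1 = 1 := by
    intro a b
    apply hR.cancelv (H.RB a)
    intro v
    have h1 : B a (A b (A b v)) = (ζ a b * ζ a b * σ (a * b * b) 1) • B a v := by
      rw [ζv, ζv, map_smul, map_smul, σv, map_smul, smul_smul, smul_smul, H.AA, H.CC, self, self, H.A0, H.C0, ← σs,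
        mul_assoc]
    rw [← h1, H.AA, self, H.A0, one_smul]
  have zsq' : ∀ a b, ζ a b * ζ a b * τ (a * b) a = 1 := by
    intro a b
    apply hR.cancelv (H.RA b)
    intro v
    have h1 : B a (B a (A b v)) = (ζ a b * ζ a b * τ (a * b) a) • A b v := by
      rw [ζv, map_smul, ζv, τv (a * b) a (C (a * b) (B a v)), map_smul, smul_smul, smul_smul, H.CC, self, H.C0, H.BB,
        self, H.B0, mul_assoc]
    rw [← h1, H.BB, self, H.B0, one_smul]
  refine ⟨fun x => σ x 1, ζ, ⟨fun x => σ1 x 1, fun x x' => σadd' x x' 1, ?_, ?_, ζv, zinv, zadd, zsq⟩⟩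
  · intro c b v
    rw [← σs, σv]
  · intro c a v
    have h1 : τ c a = σ (c * a * (c * a)) 1 := by
      by_cases ha : a = 0
      · rw [ha, mul_zero, mul_zero, h0']
        apply hR.cancelv (H.RC c)
        intro v
        have h2 := τv c 0 v
        rw [H.B0, H.B0] at h2
        rw [← h2, one_smul]
      · have e1 : ∀ a c : F4, a ≠ 0 → a * (a * a * c) = c ∧ a * (a * a * c) * (a * a * c) = c * a * (c * a) := by
          decide
        obtain ⟨e2, e3⟩ := e1 a c ha
        have f1 := zsq a (a * a * c)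
        have f2 := zsq' a (a * a * c)
        rw [e2] at f2
        rw [e3] at f1
        have f3 : ζ a (a * a * c) * ζ a (a * a * c) ≠ 0 := mul_ne_zero (ζ0 _ _) (ζ0 _ _)
        exact mul_left_cancel₀ f3 (by rw [f1, f2])
    rw [τv, h1]

omit [AddCommGroup V] [Module Ω V] in
/-- sign characters -/
theorem sign_cases {s : F4 → Ω} (s1 : ∀ x, s x = 1 ∨ s x = -1) (sadd : ∀ x x', s (x + x') = s x * s x') :
    (∀ x, s x = 1) ∨ (∀ x, s x = ch x) ∨ (∀ x, s (w * x) = ch x) ∨ (∀ x, s (u * x) = ch x) := by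
  have h0 : s 0 = 1 := by
    have h1 := sadd 0 0
    rw [add_zero] at h1
    rcases s1 0 with h | h
    · exact h
    · rw [h] at h1 ⊢
      linear_combination h1
  have hu : s u = s 1 * s w := by
    have h1 := sadd 1 w
    exact h1
  rcases s1 1 with h1 | h1 <;> rcases s1 w with hw | hw
  · left
    intro x
    cases x
    · exact h0
    · exact h1
    · exact hw
    · change s u = 1
      rw [hu, h1, hw, one_mul]
  · right; left
    intro x
    cases x
    · exact h0.trans ch_zero.symm
    · exact h1.trans ch_one.symm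
    · exact hw.trans ch_w.symm
    · change s u = ch u
      rw [hu, h1, hw, one_mul, ch_u]
  · right; right; left
    intro x
    cases x
    · exact h0.trans ch_zero.symm
    · exact hw.trans ch_one.symm
    · change s u = ch w
      rw [hu, h1, hw, ch_w, mul_one]
    · exact h1.trans ch_u.symm
  · right; right; right
    intro x
    cases x
    · exact h0.trans ch_zero.symm
    · change s u = ch 1
      rw [hu, h1, hw, ch_one]; ring
    · exact h1.trans ch_w.symm
    · exact hw.trans ch_u.symm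

/-- shifted commutators -/
theorem Pairing.shift {A B C : F4 → Module.End Ω V} {s : F4 → Ω} {ζ : F4 → F4 → Ω} (h : Pairing A B C s ζ) :
    Pairing (fun b => A (u * b)) B (fun c => C (u * c)) (fun x => s (w * x)) (fun a b => ζ a (u * b)) where
  s1 := fun x => h.s1 _
  sadd := fun x x' => by rw [mul_add, h.sadd]
  CA := fun c b v => by
    rw [h.CA]
    congr 2
    revert c b
    decide
  CB := fun c a v => by
    rw [h.CB]
    congr 2
    revert c a
    decide
  BA := fun a b v => by
    rw [h.BA]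
    congr 4
    revert a b
    decide
  zinv := fun a b => h.zinv a (u * b)
  zadd := fun a b b' => by
    rw [mul_add, h.zadd]
    congr 2
    revert a b b'
    decide
  zsq := fun a b => by
    have h1 := h.zsq a (u * b)
    have e1 : a * (u * b) * (u * b) = w * (a * b * b) :=
      (show ∀ a b : F4, a * (u * b) * (u * b) = w * (a * b * b) by decide) a b
    rw [e1] at h1
    exact h1

end Cfsg.Agent.H906.T12
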