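import Cfsg.Agent.H906.T12F4

/-!
# Projective representations of `SL_3(4)`
-/

set_option autoImplicit false

namespace Cfsg.Agent.H906.T12

open F4

variable {Ω V : Type*} [Field Ω] [AddCommGroup V] [Module Ω V]

/-- projective representations: `R g x` says that `g` is a lift of `x` -/
structure PR (R : Module.End Ω V → M3 → Prop) : Prop where
  mul : ∀ {g g' x x'}, R g x → R g' x' → R (g * g') (x * x')
  ex : ∀ x : M3, x.det = 1 → ∃ g, R g x
  smul : ∀ {g x} {c : Ω}, c ≠ 0 → R g x → R (c • g) x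
  smulM : ∀ {g x} {s : F4}, s ≠ 0 → R g x → R g (s • x)
  eq : ∀ {g g' x}, R g x → R g' x → ∃ c : Ω, c ≠ 0 ∧ g = c • g'
  one : R 1 1
  det : ∀ {g x}, R g x → x.det = 1
  faith : ∀ {x}, R 1 x → ∃ s : F4, x = s • (1 : M3)
  irr : ∀ W : Submodule Ω V, (∀ g x, R g x → ∀ v ∈ W, g v ∈ W) → W = ⊥ ∨ W = ⊤

variable {R : Module.End Ω V → M3 → Prop} (hR : PR R)

include hR

lemma PR.rel {g g' : Module.End Ω V} {x x' : M3} (h : R g x) (h' : R g' x') {s : F4} (hs : s ≠ 0) (hx : x = s • x') :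
    ∃ c : Ω, c ≠ 0 ∧ g = c • g' := by
  subst hx
  exact hR.eq h (hR.smulM hs h')

lemma PR.rel1 {g g' : Module.End Ω V} {x x' : M3} (h : R g x) (h' : R g' x') (hx : x = x') :
    ∃ c : Ω, c ≠ 0 ∧ g = c • g' := by
  subst hx
  exact hR.eq h h'

lemma PR.inv {g : Module.End Ω V} {x : M3} (h : R g x) :
    ∃ g' x', R g' x' ∧ x * x' = 1 ∧ x' * x = 1 ∧ g * g' = 1 ∧ g' * g = 1 := by
  have h1 : x * x.adjugate = 1 := by rw [Matrix.mul_adjugate, hR.det h, one_smul]
  have h2 : x.adjugate * x = 1 := by rw [Matrix.adjugate_mul, hR.det h, one_smul]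
  have h3 : x.adjugate.det = 1 := by
    have := congrArg Matrix.det h1
    rwa [Matrix.det_mul, hR.det h, one_mul, Matrix.det_one] at this
  obtain ⟨k, hk⟩ := hR.ex x.adjugate h3
  obtain ⟨c, hc, e1⟩ := hR.rel1 (hR.mul h hk) hR.one h1
  obtain ⟨c', hc', e2⟩ := hR.rel1 (hR.mul hk h) hR.one h2
  have e3 : g * (c⁻¹ • k) = 1 := by rw [mul_smul_comm, e1, smul_smul, inv_mul_cancel₀ hc, one_smul]
  have e4 : (c'⁻¹ • k) * g = 1 := by rw [smul_mul_assoc, e2, smul_smul, inv_mul_cancel₀ hc', one_smul]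
  have e5 : c'⁻¹ • k = c⁻¹ • k := by
    calc c'⁻¹ • k = (c'⁻¹ • k) * (g * (c⁻¹ • k)) := by rw [e3, mul_one]
      _ = c⁻¹ • k := by rw [← mul_assoc, e4, one_mul]
  exact ⟨c⁻¹ • k, x.adjugate, hR.smul (inv_ne_zero hc) hk, h1, h2, e3, by rw [← e5, e4]⟩

lemma PR.ne_zero [Nontrivial V] {g : Module.End Ω V} {x : M3} (h : R g x) : g ≠ 0 := by
  obtain ⟨g', x', -, -, -, h1, -⟩ := hR.inv h
  rintro rfl
  rw [zero_mul] at h1
  exact zero_ne_one h1

lemma PR.cancel [Nontrivial V] {g : Module.End Ω V} {x : M3} (h : R g x) {a b : Ω} (hab : a • g = b • g) : a = b := by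
  have h1 : (a - b) • g = 0 := by rw [sub_smul, hab, sub_self]
  rcases smul_eq_zero.1 h1 with h2 | h2
  · exact sub_eq_zero.1 h2
  · exact absurd h2 (hR.ne_zero h)

lemma PR.sqrt [IsAlgClosed Ω] {x : M3} (hd : x.det = 1) {s : F4} (hs : s ≠ 0) (hx : x * x = s • (1 : M3)) :
    ∃ g, R g x ∧ g * g = 1 := by
  obtain ⟨g, hg⟩ := hR.ex x hd
  obtain ⟨c, hc, e1⟩ := hR.rel (hR.mul hg hg) hR.one hs hx
  obtain ⟨d, hd⟩ := IsAlgClosed.exists_pow_nat_eq c⁻¹ (n := 2) (by norm_num)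
  have hd0 : d ≠ 0 := by
    rintro rfl
    rw [zero_pow (by norm_num)] at hd
    exact inv_ne_zero hc hd.symm
  refine ⟨d • g, hR.smul hd0 hg, ?_⟩
  rw [smul_mul_smul_comm, e1, smul_smul, ← pow_two, hd, inv_mul_cancel₀ hc, one_smul]

lemma PR.cbrt [IsAlgClosed Ω] {x : M3} (hd : x.det = 1) {s : F4} (hs : s ≠ 0) (hx : x * x * x = s • (1 : M3)) :
    ∃ g, R g x ∧ g * g * g = 1 := by
  obtain ⟨g, hg⟩ := hR.ex x hd
  obtain ⟨c, hc, e1⟩ := hR.rel (hR.mul (hR.mul hg hg) hg) hR.one hs hx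
  obtain ⟨d, hd⟩ := IsAlgClosed.exists_pow_nat_eq c⁻¹ (n := 3) (by norm_num)
  have hd0 : d ≠ 0 := by
    rintro rfl
    rw [zero_pow (by norm_num)] at hd
    exact inv_ne_zero hc hd.symm
  refine ⟨d • g, hR.smul hd0 hg, ?_⟩
  rw [smul_mul_smul_comm, smul_mul_smul_comm, e1, smul_smul, ← pow_two, ← pow_succ, hd, inv_mul_cancel₀ hc, one_smul]

/-- lifts of commuting elements commute up to sign -/
lemma PR.sign [Nontrivial V] {g g' : Module.End Ω V} {x x' : M3} (h : R g x) (h' : R g' x') (hx : x * x' = x' * x)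
    (hg : g * g = 1) : ∃ s : Ω, (s = 1 ∨ s = -1) ∧ g * g' = s • (g' * g) := by
  obtain ⟨c, hc, e1⟩ := hR.rel1 (hR.mul h h') (hR.mul h' h) hx
  refine ⟨c, ?_, e1⟩
  have e2 : g' = (c * c) • g' := by
    calc g' = g * (g * g') := by rw [← mul_assoc, hg, one_mul]
      _ = (c * c) • g' := by
        rw [e1, mul_smul_comm, ← mul_assoc, e1, smul_mul_assoc, smul_smul, mul_assoc, hg, mul_one]
  have e3 : c * c = 1 := hR.cancel h' (by rw [one_smul]; exact e2.symm)
  exact mul_self_eq_one_iff.1 e3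

lemma PR.cube_one [Nontrivial V] {g k : Module.End Ω V} {c : Ω} (hg : g * g = 1) (hk : k * k * k = 1)
    (h : g * k = c • (k * k * g)) : c ^ 3 = 1 := by
  have e1 : g * k * g = c • (k * k) := by rw [h, smul_mul_assoc, mul_assoc, hg, mul_one]
  have e2 : (g * k * g) * (g * k * g) * (g * k * g) = 1 := by
    calc (g * k * g) * (g * k * g) * (g * k * g) = g * k * (g * g) * k * (g * g) * k * g := by noncomm_ring
      _ = g * (k * k * k) * g := by rw [hg]; noncomm_ring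
      _ = 1 := by rw [hk, mul_one, hg]
  rw [e1, smul_mul_smul_comm, smul_mul_smul_comm] at e2
  have e3 : k * k * (k * k) * (k * k) = 1 := by
    calc k * k * (k * k) * (k * k) = (k * k * k) * (k * k * k) := by noncomm_ring
      _ = 1 := by rw [hk, one_mul]
  rw [e3] at e2
  exact hR.cancel hR.one (by rw [one_smul, pow_succ, pow_two]; exact e2)

/-- traces of conjugate elements -/
lemma PR.tr0 {g g' h : Module.End Ω V} {x x' k : M3} (hg : R g x) (hg' : R g' x') (hh : R h k) {s : F4} (hs : s ≠ 0)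
    (hk : k * x = s • (x' * k)) (h0 : LinearMap.trace Ω V g = 0) : LinearMap.trace Ω V g' = 0 := by
  obtain ⟨c, hc, e1⟩ := hR.rel (hR.mul hh hg) (hR.mul hg' hh) hs hk
  obtain ⟨h', k', -, -, -, e2, -⟩ := hR.inv hh
  have e3 : h * g * h' = c • g' := by
    rw [e1, smul_mul_assoc, mul_assoc, e2, mul_one]
  have e4 := congrArg (LinearMap.trace Ω V) e3
  rw [LinearMap.trace_mul_comm, ← mul_assoc] at e4
  obtain ⟨h'', k'', -, -, -, e5, e6⟩ := hR.inv hh
  have e7 : h' * h = 1 := by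
    calc h' * h = (h'' * h) * (h' * h) := by rw [e6, one_mul]
      _ = h'' * (h * h') * h := by noncomm_ring
      _ = 1 := by rw [e2, mul_one, e6]
  rw [e7, one_mul, h0, map_smul, smul_eq_mul] at e4
  exact (mul_eq_zero.1 e4.symm).resolve_left hc

end Cfsg.Agent.H906.T12
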