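import Cfsg.Agent.H906.T12Tw

/-!
# Systems of lifts
-/

set_option autoImplicit false

namespace Cfsg.Agent.H906.T12

open F4

variable {Ω V : Type*} [Field Ω] [AddCommGroup V] [Module Ω V]

/-- normalised lifts for one parabolic subgroup -/
structure Half (R : Module.End Ω V → M3 → Prop) (A B C : F4 → Module.End Ω V) (r y : Module.End Ω V) (z : Ω) :
    Prop where
  RA : ∀ b, R (A b) (mU 0 b 0)
  RB : ∀ a, R (B a) (mU a 0 0)
  RC : ∀ c, R (C c) (mU 0 0 c)
  Rr : R r mr
  Ry : R y my
  A0 : ∀ v, A 0 v = v
  B0 : ∀ v, B 0 v = v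
  C0 : ∀ v, C 0 v = v
  AA : ∀ b b' v, A b (A b' v) = A (b + b') v
  BB : ∀ b b' v, B b (B b' v) = B (b + b') v
  CC : ∀ b b' v, C b (C b' v) = C (b + b') v
  yA : ∀ b v, y (A b v) = A (u * b) (y v)
  yB : ∀ b v, y (B b v) = B (u * b) (y v)
  yC : ∀ b v, y (C b v) = C (w * b) (y v)
  y3 : ∀ v, y (y (y v)) = v
  r2 : ∀ v, r (r v) = v
  rA : ∀ b v, r (A b v) = C b (r v)
  rC : ∀ b v, r (C b v) = A b (r v)
  ry : ∀ v, r (y v) = z • y (y (r v))
  z3 : z ^ 3 = 1

lemma klein {M : Type*} [Monoid M] {a b c : M} (ha : a * a = 1) (hb : b * b = 1) (hc : c * c = 1) (hab : a * b = b * a)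
    (habc : a * b * c = 1) : a * b = c ∧ b * a = c ∧ a * c = b ∧ c * a = b ∧ b * c = a ∧ c * b = a := by
  have h1 : a * b = c := by
    calc a * b = (a * b * c) * c := by rw [mul_assoc (a * b), hc, mul_one]
      _ = c := by rw [habc, one_mul]
  have h2 : b * a = c := by rw [← hab, h1]
  refine ⟨h1, h2, ?_, ?_, ?_, ?_⟩
  · rw [← h1, ← mul_assoc, ha, one_mul]
  · rw [← h2, mul_assoc, ha, mul_one]
  · rw [← h2, ← mul_assoc, hb, one_mul]
  · rw [← h1, mul_assoc, hb, mul_one]

variable {R : Module.End Ω V → M3 → Prop} (hR : PR R)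

include hR

/-- the normalised lifts of the root group of `A` -/
theorem PR.exists_A [IsAlgClosed Ω] [Nontrivial V] {r y : Module.End Ω V} (Rr : R r mr) (Ry : R y my)
    (r2 : r * r = 1) (y3 : y * y * y = 1) :
    ∃ A : F4 → Module.End Ω V, (∀ b, R (A b) (mU 0 b 0)) ∧ A 0 = 1 ∧ (∀ b b', A b * A b' = A (b + b')) ∧
      ∀ b, y * A b = A (u * b) * y := by
  have hdU : ∀ a b c : F4, (mU a b c).det = 1 := by
    intro a b c
    rw [Matrix.det_fin_three]
    revert a b c
    decide
  obtain ⟨a1, Ra1, ha1⟩ := hR.sqrt (hdU 0 1 0) (s := 1) (by decide) (by decide)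
  have y3' : y * (y * y) = 1 := by rw [← mul_assoc, y3]
  obtain ⟨aw, haw⟩ : ∃ aw, aw = y * y * a1 * y := ⟨_, rfl⟩
  obtain ⟨au, hau⟩ : ∃ au, au = y * a1 * (y * y) := ⟨_, rfl⟩
  have Raw : R aw (mU 0 w 0) := by
    have h1 := hR.mul (hR.mul (hR.mul Ry Ry) Ra1) Ry
    have h2 : my * my * mU 0 1 0 * my = mU 0 w 0 := by decide
    rw [h2] at h1
    rw [haw]; exact h1
  have Rau : R au (mU 0 u 0) := by
    have h1 := hR.mul (hR.mul Ry Ra1) (hR.mul Ry Ry)
    have h2 : my * mU 0 1 0 * (my * my) = mU 0 u 0 := by decide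
    rw [h2] at h1
    rw [hau]; exact h1
  have aw2 : aw * aw = 1 := by
    calc aw * aw = y * y * a1 * (y * y * y) * a1 * y := by rw [haw]; simp only [mul_assoc]
      _ = y * y * (a1 * a1) * y := by rw [y3, mul_one]; simp only [mul_assoc]
      _ = 1 := by rw [ha1, mul_one, y3]
  have au2 : au * au = 1 := by
    calc au * au = y * a1 * (y * y * y) * a1 * (y * y) := by rw [hau]; simp only [mul_assoc]
      _ = y * (a1 * a1) * (y * y) := by rw [y3, mul_one]; simp only [mul_assoc]
      _ = 1 := by rw [ha1, mul_one, y3']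
  have ya1 : y * a1 = au * y := by
    rw [hau]
    calc y * a1 = y * a1 * (y * y * y) := by rw [y3, mul_one]
      _ = _ := by simp only [mul_assoc]
  have yaw : y * aw = a1 * y := by
    rw [haw]
    calc y * (y * y * a1 * y) = (y * y * y) * a1 * y := by simp only [mul_assoc]
      _ = _ := by rw [y3, one_mul]
  have yau : y * au = aw * y := by
    rw [hau, haw]
    calc y * (y * a1 * (y * y)) = y * y * a1 * y * y := by simp only [mul_assoc]
      _ = _ := rfl
  obtain ⟨c1, hc1⟩ : ∃ c, c = r * a1 * r := ⟨_, rfl⟩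
  obtain ⟨cw, hcw⟩ : ∃ c, c = r * aw * r := ⟨_, rfl⟩
  have Rc1 : R c1 (mU 0 0 1) := by
    have h1 := hR.mul (hR.mul Rr Ra1) Rr
    have h2 : mr * mU 0 1 0 * mr = mU 0 0 1 := by decide
    rw [h2] at h1
    rw [hc1]; exact h1
  have Rcw : R cw (mU 0 0 w) := by
    have h1 := hR.mul (hR.mul Rr Raw) Rr
    have h2 : mr * mU 0 w 0 * mr = mU 0 0 w := by decide
    rw [h2] at h1
    rw [hcw]; exact h1
  obtain ⟨b1, Rb1⟩ := hR.ex _ (hdU 1 0 0)
  obtain ⟨s, hs, e1⟩ := hR.sign Ra1 Raw (by decide) ha1
  have hc1s : c1 * c1 = 1 := by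
    calc c1 * c1 = r * a1 * (r * r) * a1 * r := by rw [hc1]; simp only [mul_assoc]
      _ = r * (a1 * a1) * r := by rw [r2, mul_one]; simp only [mul_assoc]
      _ = 1 := by rw [ha1, mul_one, r2]
  obtain ⟨σ, hσ, e3⟩ := hR.sign Rc1 Raw (by decide) hc1s
  obtain ⟨k1, hk1, e5⟩ := hR.rel1 (hR.mul Rb1 Ra1) (hR.mul (hR.mul Ra1 Rc1) Rb1) (by decide)
  obtain ⟨k2, hk2, e6⟩ := hR.rel1 (hR.mul Rb1 Raw) (hR.mul (hR.mul Raw Rcw) Rb1) (by decide)
  have e2 : c1 * cw = s • (cw * c1) := by
    calc c1 * cw = r * a1 * (r * r) * aw * r := by rw [hc1, hcw]; simp only [mul_assoc]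
      _ = r * (a1 * aw) * r := by rw [r2, mul_one]; simp only [mul_assoc]
      _ = s • (r * aw * (1 * a1) * r) := by
        rw [e1, mul_smul_comm, smul_mul_assoc, one_mul]; simp only [mul_assoc]
      _ = _ := by rw [← r2, hc1, hcw]; simp only [mul_assoc]
  have e4 : a1 * cw = σ • (cw * a1) := by
    have f1 : r * c1 = a1 * r := by rw [hc1, ← mul_assoc, ← mul_assoc, r2, one_mul]
    have f2 : c1 * r = r * a1 := by rw [hc1, mul_assoc, r2, mul_one]
    calc a1 * cw = a1 * r * aw * r := by rw [hcw]; simp only [mul_assoc]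
      _ = r * (c1 * aw) * r := by rw [← f1]; simp only [mul_assoc]
      _ = σ • (r * aw * (c1 * r)) := by rw [e3, mul_smul_comm, smul_mul_assoc]; simp only [mul_assoc]
      _ = _ := by rw [f2, hcw]; simp only [mul_assoc]
  have hs2 : s * s = 1 := by rcases hs with h | h <;> rw [h] <;> ring
  have hσ2 : σ * σ = 1 := by rcases hσ with h | h <;> rw [h] <;> ring
  have hs1 : s = 1 := by
    have h1 : b1 * (a1 * aw) = b1 * (s • (aw * a1)) := by rw [e1]
    have v1 : ∀ v, a1 (aw v) = s • aw (a1 v) := fun v => LinearMap.congr_fun e1 v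
    have v2 : ∀ v, c1 (cw v) = s • cw (c1 v) := fun v => LinearMap.congr_fun e2 v
    have v3 : ∀ v, c1 (aw v) = σ • aw (c1 v) := fun v => LinearMap.congr_fun e3 v
    have v4 : ∀ v, a1 (cw v) = σ • cw (a1 v) := fun v => LinearMap.congr_fun e4 v
    have v5 : ∀ v, b1 (a1 v) = k1 • a1 (c1 (b1 v)) := fun v => LinearMap.congr_fun e5 v
    have v6 : ∀ v, b1 (aw v) = k2 • aw (cw (b1 v)) := fun v => LinearMap.congr_fun e6 v
    have h2 : (k1 * k2) • (aw * cw * a1 * c1 * b1) = (s * k1 * k2) • (aw * cw * a1 * c1 * b1) := by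
      ext v
      have h3 := LinearMap.congr_fun h1 v
      simp only [Module.End.mul_apply, LinearMap.smul_apply, v6, v5, map_smul, smul_smul] at h3 ⊢
      simp only [v4, v3, v2, v1, map_smul, smul_smul] at h3
      have e7 : k1 * k2 * (σ * s * (s * σ)) = k1 * k2 := by
        calc k1 * k2 * (σ * s * (s * σ)) = k1 * k2 * (s * s) * (σ * σ) := by ring
          _ = k1 * k2 := by rw [hs2, hσ2]; ring
      have e8 : s * (k2 * k1) = s * k1 * k2 := by ring
      rw [e7, e8] at h3
      exact h3
    have h3 := hR.cancel (hR.mul (hR.mul (hR.mul (hR.mul Raw Rcw) Ra1) Rc1) Rb1) h2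
    have h4 : k1 * k2 ≠ 0 := mul_ne_zero hk1 hk2
    have h5 : (s - 1) * (k1 * k2) = 0 := by linear_combination -h3
    exact sub_eq_zero.1 ((mul_eq_zero.1 h5).resolve_right h4)
  have c1w : a1 * aw = aw * a1 := by rw [e1, hs1, one_smul]
  have inj : ∀ p q : Module.End Ω V, y * p = y * q → p = q := by
    intro p q h
    calc p = y * y * (y * p) := by rw [← mul_assoc, y3, one_mul]
      _ = q := by rw [h, ← mul_assoc, y3, one_mul]
  have c1u : au * a1 = a1 * au := by
    have h1 : au * y * aw = a1 * au * y := by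
      calc au * y * aw = y * a1 * aw := by rw [ya1]
        _ = y * aw * a1 := by rw [mul_assoc, c1w, mul_assoc]
        _ = a1 * (y * a1) := by rw [yaw, mul_assoc]
        _ = _ := by rw [ya1, mul_assoc]
    rw [mul_assoc, yaw, ← mul_assoc] at h1
    calc au * a1 = au * a1 * y * (y * y) := by rw [mul_assoc _ y, y3', mul_one]
      _ = a1 * au := by rw [h1, mul_assoc _ y, y3', mul_one]
  have Rp := hR.mul (hR.mul Ra1 Raw) Rau
  obtain ⟨π, hπ, hp⟩ := hR.rel1 Rp hR.one (by decide)
  have hcom : a1 * aw * au = au * (a1 * aw) := by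
    have h1 : a1 * aw = π • au := by
      calc a1 * aw = (a1 * aw * au) * au := by rw [mul_assoc (a1 * aw), au2, mul_one]
        _ = π • au := by rw [hp, smul_mul_assoc, one_mul]
    rw [h1, smul_mul_assoc, mul_smul_comm]
  have hπ2 : π * π = 1 := by
    have h1 : (a1 * aw * au) * (a1 * aw * au) = 1 := by
      calc (a1 * aw * au) * (a1 * aw * au) = (a1 * aw * au) * (au * (a1 * aw)) := by rw [hcom, ← hcom]
        _ = a1 * aw * (au * au) * (aw * a1) := by rw [c1w]; simp only [mul_assoc]
        _ = a1 * (aw * aw) * a1 := by rw [au2, mul_one]; simp only [mul_assoc]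
        _ = 1 := by rw [aw2, mul_one, ha1]
    rw [hp, smul_mul_smul_comm, one_mul] at h1
    exact hR.cancel hR.one (by rw [h1, one_smul])
  have hA1 : (π • a1) * (π • a1) = 1 := by rw [smul_mul_smul_comm, hπ2, ha1, one_smul]
  have hAw : (π • aw) * (π • aw) = 1 := by rw [smul_mul_smul_comm, hπ2, aw2, one_smul]
  have hAu : (π • au) * (π • au) = 1 := by rw [smul_mul_smul_comm, hπ2, au2, one_smul]
  have hA1w : (π • a1) * (π • aw) = (π • aw) * (π • a1) := by rw [smul_mul_smul_comm, smul_mul_smul_comm, c1w]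
  have hA1wu : (π • a1) * (π • aw) * (π • au) = 1 := by
    rw [smul_mul_smul_comm, smul_mul_smul_comm, hp, smul_smul, hπ2, one_mul, hπ2, one_smul]
  obtain ⟨k1, k2, k3, k4, k5, k6⟩ := klein hA1 hAw hAu hA1w hA1wu
  refine ⟨fun b => match b with | .o => 1 | .i => π • a1 | .w => π • aw | .u => π • au, ?_, rfl, ?_, ?_⟩
  · intro b
    cases b
    · have h1 : mU 0 o 0 = (1 : M3) := by decide
      change R 1 (mU 0 o 0)
      rw [h1]
      exact hR.one
    · exact hR.smul hπ Ra1
    · exact hR.smul hπ Raw
    · exact hR.smul hπ Rau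
  · intro b b'
    cases b <;> cases b'
    · exact one_mul _
    · exact one_mul _
    · exact one_mul _
    · exact one_mul _
    · exact mul_one _
    · exact hA1
    · exact k1
    · exact k3
    · exact mul_one _
    · exact k2
    · exact hAw
    · exact k5
    · exact mul_one _
    · exact k4
    · exact k6
    · exact hAu
  · intro b
    cases b
    · exact (mul_one _).trans (one_mul _).symm
    · change y * (π • a1) = (π • au) * y
      rw [mul_smul_comm, smul_mul_assoc, ya1]
    · change y * (π • aw) = (π • a1) * y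
      rw [mul_smul_comm, smul_mul_assoc, yaw]
    · change y * (π • au) = (π • aw) * y
      rw [mul_smul_comm, smul_mul_assoc, yau]

/-- the two halves -/
theorem PR.exists_sys [IsAlgClosed Ω] [Nontrivial V] :
    ∃ (A B C : F4 → Module.End Ω V) (r t y : Module.End Ω V) (z : Ω), Half R A B C r y 1 ∧
      Half (fun g x => R g (T12.gam x)) B A C t y z := by
  have hdr : mr.det = 1 := by rw [Matrix.det_fin_three]; decide
  have hdt : mt.det = 1 := by rw [Matrix.det_fin_three]; decide
  have hdy : my.det = 1 := by rw [Matrix.det_fin_three]; decide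
  obtain ⟨r, Rr, r2⟩ := hR.sqrt hdr (s := 1) (by decide) (by decide)
  obtain ⟨t, Rt, t2⟩ := hR.sqrt hdt (s := 1) (by decide) (by decide)
  obtain ⟨y0, Ry0, y03⟩ := hR.cbrt hdy (s := 1) (by decide) (by decide)
  obtain ⟨κ, hκ0, hκ⟩ := hR.rel (hR.mul Rr Ry0) (hR.mul (hR.mul Ry0 Ry0) Rr) (s := w) (by decide) (by decide)
  have hκ3 := hR.cube_one r2 y03 hκ
  obtain ⟨y, hy⟩ : ∃ y, y = κ • y0 := ⟨_, rfl⟩
  have Ry : R y my := by rw [hy]; exact hR.smul hκ0 Ry0
  have y3 : y * y * y = 1 := by
    rw [hy, smul_mul_smul_comm, smul_mul_smul_comm, y03, ← pow_two, ← pow_succ, hκ3, one_smul]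
  have hry : r * y = y * y * r := by
    rw [hy, mul_smul_comm, hκ, smul_mul_smul_comm, smul_mul_assoc, smul_smul]
  obtain ⟨z, hz0, hz⟩ := hR.rel1 (hR.mul Rt Ry) (hR.mul (hR.mul Ry Ry) Rt) (by decide)
  have hz3 := hR.cube_one t2 y3 hz
  obtain ⟨A, RA, A0, AA, yA⟩ := hR.exists_A Rr Ry r2 y3
  have y3' : y * (y * y) = 1 := by rw [← mul_assoc, y3]
  have yr : y * r = r * (y * y) := by
    calc y * r = y * r * (y * y * y) := by rw [y3, mul_one]
      _ = y * (r * y) * (y * y) := by simp only [mul_assoc]
      _ = (y * y * y) * r * (y * y) := by rw [hry]; simp only [mul_assoc]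
      _ = _ := by rw [y3, one_mul]
  have yt : y * t = z • (t * (y * y)) := by
    calc y * t = y * t * (y * y * y) := by rw [y3, mul_one]
      _ = y * (t * y) * (y * y) := by simp only [mul_assoc]
      _ = z • ((y * y * y) * t * (y * y)) := by
        rw [hz, mul_smul_comm, smul_mul_assoc]; simp only [mul_assoc]
      _ = _ := by rw [y3, one_mul]
  have yyr : y * y * r = r * y := hry.symm
  have yyt : z • (y * y * t) = t * y := hz.symm
  obtain ⟨C, hC⟩ : ∃ C : F4 → Module.End Ω V, C = fun c => r * A c * r := ⟨_, rfl⟩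
  have hCc : ∀ c, C c = r * A c * r := fun c => by rw [hC]
  have RC : ∀ c, R (C c) (mU 0 0 c) := by
    intro c
    have h1 := hR.mul (hR.mul Rr (RA c)) Rr
    have h2 : mr * mU 0 c 0 * mr = mU 0 0 c := by clear h1; revert c; decide
    rw [h2] at h1
    rw [hCc]
    exact h1
  have CC : ∀ c c', C c * C c' = C (c + c') := by
    intro c c'
    rw [hCc, hCc, hCc, ← AA]
    calc r * A c * r * (r * A c' * r) = r * A c * (r * r) * A c' * r := by simp only [mul_assoc]
      _ = _ := by rw [r2, mul_one]; simp only [mul_assoc]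
  have C0 : C 0 = 1 := by rw [hCc, A0, mul_one, r2]
  have rA : ∀ b, r * A b = C b * r := by
    intro b
    rw [hCc, mul_assoc, r2, mul_one]
  have rC : ∀ b, r * C b = A b * r := by
    intro b
    rw [hCc, ← mul_assoc, ← mul_assoc, r2, one_mul]
  have yyA : ∀ b, y * y * A b = A (w * b) * (y * y) := by
    intro b
    rw [mul_assoc, yA, ← mul_assoc, yA, mul_assoc]
    congr 2
    revert b
    decide
  have yC : ∀ c, y * C c = C (w * c) * y := by
    intro c
    rw [hCc, hCc]
    calc y * (r * A c * r) = (y * r) * A c * r := by simp only [mul_assoc]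
      _ = r * (y * y * A c) * r := by rw [yr]; simp only [mul_assoc]
      _ = r * A (w * c) * (y * y * r) := by rw [yyA]; simp only [mul_assoc]
      _ = _ := by rw [yyr]; simp only [mul_assoc]
  have yyC : ∀ b, y * y * C b = C (u * b) * (y * y) := by
    intro b
    rw [mul_assoc, yC, ← mul_assoc, yC, mul_assoc]
    congr 2
    revert b
    decide
  obtain ⟨B, hB⟩ : ∃ B : F4 → Module.End Ω V, B = fun c => t * C c * t := ⟨_, rfl⟩
  have hBc : ∀ c, B c = t * C c * t := fun c => by rw [hB]
  have RB : ∀ c, R (B c) (mU c 0 0) := by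
    intro c
    have h1 := hR.mul (hR.mul Rt (RC c)) Rt
    have h2 : mt * mU 0 0 c * mt = mU c 0 0 := by clear h1; revert c; decide
    rw [h2] at h1
    rw [hBc]
    exact h1
  have BB : ∀ c c', B c * B c' = B (c + c') := by
    intro c c'
    rw [hBc, hBc, hBc, ← CC]
    calc t * C c * t * (t * C c' * t) = t * C c * (t * t) * C c' * t := by simp only [mul_assoc]
      _ = _ := by rw [t2, mul_one]; simp only [mul_assoc]
  have B0 : B 0 = 1 := by rw [hBc, C0, mul_one, t2]
  have tC : ∀ b, t * C b = B b * t := by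
    intro b
    rw [hBc, mul_assoc, t2, mul_one]
  have tB : ∀ b, t * B b = C b * t := by
    intro b
    rw [hBc, ← mul_assoc, ← mul_assoc, t2, one_mul]
  have yB : ∀ c, y * B c = B (u * c) * y := by
    intro c
    rw [hBc, hBc]
    calc y * (t * C c * t) = (y * t) * C c * t := by simp only [mul_assoc]
      _ = z • (t * (y * y * C c) * t) := by rw [yt, smul_mul_assoc, smul_mul_assoc]; simp only [mul_assoc]
      _ = t * C (u * c) * (z • (y * y * t)) := by rw [yyC, mul_smul_comm]; simp only [mul_assoc]
      _ = _ := by rw [yyt]; simp only [mul_assoc]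
  have vec : ∀ {f g : Module.End Ω V}, f = g → ∀ v, f v = g v := fun h v => by rw [h]
  have r1 : mr = T12.gam mt := gam_t.symm
  refine ⟨A, B, C, r, t, y, z, ?_, ?_⟩
  · exact
      { RA := RA, RB := RB, RC := RC, Rr := Rr, Ry := Ry
        A0 := vec A0, B0 := vec B0, C0 := vec C0
        AA := fun b b' v => vec (AA b b') v
        BB := fun b b' v => vec (BB b b') v
        CC := fun b b' v => vec (CC b b') v
        yA := fun b v => vec (yA b) v
        yB := fun b v => vec (yB b) v
        yC := fun b v => vec (yC b) v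
        y3 := vec y3
        r2 := vec r2
        rA := fun b v => vec (rA b) v
        rC := fun b v => vec (rC b) v
        ry := fun v => by rw [one_smul]; exact vec hry v
        z3 := one_pow 3 }
  · exact
      { RA := fun b => by
          rw [gam_U, zero_mul, add_zero]
          exact RB b
        RB := fun b => by
          rw [gam_U, mul_zero, add_zero]
          exact RA b
        RC := fun b => by
          rw [gam_U, zero_mul, zero_add]
          exact RC b
        Rr := by
          rw [gam_r]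
          exact Rt
        Ry := by
          rw [gam_y]
          exact hR.smulM (by decide) Ry
        A0 := vec B0, B0 := vec A0, C0 := vec C0
        AA := fun b b' v => vec (BB b b') v
        BB := fun b b' v => vec (AA b b') v
        CC := fun b b' v => vec (CC b b') v
        yA := fun b v => vec (yB b) v
        yB := fun b v => vec (yA b) v
        yC := fun b v => vec (yC b) v
        y3 := vec y3
        r2 := vec t2
        rA := fun b v => vec (tB b) v
        rC := fun b v => vec (tC b) v
        ry := vec hz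
        z3 := hz3 }

omit hR in
/-- shifting by the diagonal automorphism -/
theorem shift (hR : PR R) {A B C : F4 → Module.End Ω V} {r t y : Module.End Ω V} {z : Ω} (h1 : Half R A B C r y 1)
    (h2 : Half (fun g x => R g (T12.gam x)) B A C t y z) :
    Half (fun g x => R g (T12.del x)) (fun b => A (u * b)) B (fun c => C (u * c)) r y 1 ∧
      Half (fun g x => R g (T12.del (T12.gam x))) B (fun b => A (u * b)) (fun c => C (u * c)) (z • (t * y)) y z := by
  have hz0 : z ≠ 0 := by
    rintro rfl
    have := h2.z3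
    rw [zero_pow (by norm_num)] at this
    exact zero_ne_one this
  have Rt : R t mt := by rw [← gam_r]; exact h2.Rr
  have z3 : z * z * z = 1 := by rw [← h2.z3]; ring
  constructor
  · exact
      { RA := fun b => by
          rw [del_U, mul_zero]
          exact h1.RA _
        RB := fun b => by
          rw [del_U, mul_zero]
          exact h1.RB _
        RC := fun b => by
          rw [del_U, mul_zero]
          exact h1.RC _
        Rr := by
          rw [del_r]
          exact h1.Rr
        Ry := by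
          rw [del_y]
          exact h1.Ry
        A0 := fun v => by rw [mul_zero]; exact h1.A0 v
        B0 := h1.B0
        C0 := fun v => by rw [mul_zero]; exact h1.C0 v
        AA := fun b b' v => by rw [h1.AA, ← mul_add]
        BB := h1.BB
        CC := fun b b' v => by rw [h1.CC, ← mul_add]
        yA := fun b v => by rw [h1.yA, mul_left_comm]
        yB := h1.yB
        yC := fun b v => by rw [h1.yC, mul_left_comm]
        y3 := h1.y3
        r2 := h1.r2
        rA := fun b v => h1.rA _ v
        rC := fun b v => h1.rC _ v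
        ry := h1.ry
        z3 := one_pow 3 }
  · exact
      { RA := fun b => by
          rw [gam_U, zero_mul, add_zero, del_U, mul_zero]
          exact h1.RB _
        RB := fun b => by
          rw [gam_U, mul_zero, add_zero, del_U, mul_zero]
          exact h1.RA _
        RC := fun b => by
          rw [gam_U, zero_mul, zero_add, del_U, mul_zero]
          exact h1.RC _
        Rr := by
          rw [gam_r, del_t]
          exact hR.smul hz0 (hR.mul Rt h1.Ry)
        Ry := by
          rw [gam_y, del_smul, del_y]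
          exact hR.smulM (by decide) h1.Ry
        A0 := h1.B0
        B0 := fun v => by rw [mul_zero]; exact h1.A0 v
        C0 := fun v => by rw [mul_zero]; exact h1.C0 v
        AA := h1.BB
        BB := fun b b' v => by rw [h1.AA, ← mul_add]
        CC := fun b b' v => by rw [h1.CC, ← mul_add]
        yA := h1.yB
        yB := fun b v => by rw [h1.yA, mul_left_comm]
        yC := fun b v => by rw [h1.yC, mul_left_comm]
        y3 := h1.y3
        r2 := fun v => by
          simp only [LinearMap.smul_apply, Module.End.mul_apply, map_smul, h2.ry, h2.y3, h2.r2, smul_smul, z3, one_smul]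
        rA := fun b v => by
          simp only [LinearMap.smul_apply, Module.End.mul_apply, map_smul, h1.yB, h2.rA]
        rC := fun b v => by
          have e1 : w * (u * b) = b := by rw [← mul_assoc, show w * u = (1 : F4) from rfl, one_mul]
          simp only [LinearMap.smul_apply, Module.End.mul_apply, map_smul, h1.yC, h2.rC, e1]
        ry := fun v => by
          simp only [LinearMap.smul_apply, Module.End.mul_apply, map_smul, h2.ry]
        z3 := h2.z3 }

end Cfsg.Agent.H906.T12
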