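import Cfsg.Agent.H906.T12Pr

/-!
# Twisting by automorphisms
-/

set_option autoImplicit false

namespace Cfsg.Agent.H906.T12

open F4

/-- the antidiagonal matrix -/
def mJ : M3 := !![0, 0, 1; 0, 1, 0; 1, 0, 0]

lemma mJ_sq : mJ * mJ = 1 := by decide

/-- the graph automorphism -/
def gam (x : M3) : M3 := mJ * x.adjugate.transpose * mJ

lemma gam_mul (x y : M3) : gam (x * y) = gam x * gam y := by
  unfold gam
  rw [Matrix.adjugate_mul_distrib, Matrix.transpose_mul]
  calc mJ * (x.adjugate.transpose * y.adjugate.transpose) * mJ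
      = mJ * x.adjugate.transpose * 1 * y.adjugate.transpose * mJ := by rw [mul_one]; simp only [mul_assoc]
    _ = _ := by rw [← mJ_sq]; simp only [mul_assoc]

lemma gam_gam {x : M3} (hx : x.det = 1) : gam (gam x) = x := by
  have hJ : mJ.adjugate = mJ := by
    rw [Matrix.adjugate_fin_three]
    decide
  have hJt : mJ.transpose = mJ := by decide
  unfold gam
  rw [Matrix.adjugate_mul_distrib, Matrix.adjugate_mul_distrib, hJ, Matrix.adjugate_transpose,
    Matrix.adjugate_adjugate _ (by decide), Matrix.det_transpose, hx, one_pow, one_smul, Matrix.transpose_mul,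
    Matrix.transpose_mul, hJt, Matrix.transpose_transpose]
  calc mJ * (mJ * x * mJ) * mJ = (mJ * mJ) * x * (mJ * mJ) := by simp only [mul_assoc]
    _ = x := by rw [mJ_sq, one_mul, mul_one]

lemma gam_det {x : M3} (hx : x.det = 1) : (gam x).det = 1 := by
  have hJ : mJ.det = 1 := by
    rw [Matrix.det_fin_three]
    decide
  unfold gam
  rw [Matrix.det_mul, Matrix.det_mul, Matrix.det_transpose, Matrix.det_adjugate, hx, hJ, one_pow, one_mul, one_mul]

lemma gam_smul (s : F4) (x : M3) : gam (s • x) = (s * s) • gam x := by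
  unfold gam
  rw [Matrix.adjugate_smul]
  have : s ^ (Fintype.card (Fin 3) - 1) = s * s := by
    rw [Fintype.card_fin, pow_two]
  rw [this, Matrix.transpose_smul, mul_smul_comm, smul_mul_assoc]

lemma gam_one : gam 1 = 1 := by
  unfold gam
  rw [Matrix.adjugate_one, Matrix.transpose_one, mul_one, mJ_sq]

lemma gam_explicit (x y : M3) (hx : mJ * !![x 1 1 * x 2 2 - x 1 2 * x 2 1, -(x 0 1 * x 2 2) + x 0 2 * x 2 1,
      x 0 1 * x 1 2 - x 0 2 * x 1 1; -(x 1 0 * x 2 2) + x 1 2 * x 2 0, x 0 0 * x 2 2 - x 0 2 * x 2 0,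
      -(x 0 0 * x 1 2) + x 0 2 * x 1 0; x 1 0 * x 2 1 - x 1 1 * x 2 0, -(x 0 0 * x 2 1) + x 0 1 * x 2 0,
      x 0 0 * x 1 1 - x 0 1 * x 1 0].transpose * mJ = y) : gam x = y := by
  unfold gam
  rw [Matrix.adjugate_fin_three]
  exact hx

lemma gam_U (a b c : F4) : gam (mU a b c) = mU b a (a * b + c) := by
  apply gam_explicit
  revert a b c
  decide

lemma gam_r : gam mr = mt := by
  apply gam_explicit
  decide

lemma gam_t : gam mt = mr := by
  apply gam_explicit
  decide

lemma gam_y : gam my = w • my := by
  apply gam_explicit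
  decide

/-- the diagonal automorphism -/
def mD : M3 := !![1, 0, 0; 0, 1, 0; 0, 0, w]
def mD' : M3 := !![1, 0, 0; 0, 1, 0; 0, 0, u]
def del (x : M3) : M3 := mD * x * mD'

lemma mD'_mul : mD' * mD = 1 := by decide
lemma mD_mul : mD * mD' = 1 := by decide

lemma del_mul (x y : M3) : del (x * y) = del x * del y := by
  unfold del
  calc mD * (x * y) * mD' = mD * x * 1 * y * mD' := by rw [mul_one]; simp only [mul_assoc]
    _ = _ := by rw [← mD'_mul]; simp only [mul_assoc]

lemma del_det {x : M3} (hx : x.det = 1) : (del x).det = 1 := by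
  have h1 : mD.det * mD'.det = 1 := by rw [← Matrix.det_mul, mD_mul, Matrix.det_one]
  unfold del
  rw [Matrix.det_mul, Matrix.det_mul, hx, mul_one, h1]

lemma del_smul (s : F4) (x : M3) : del (s • x) = s • del x := by
  unfold del
  rw [mul_smul_comm, smul_mul_assoc]

lemma del_one : del 1 = 1 := by
  unfold del
  rw [mul_one, mD_mul]

lemma del_del (x : M3) : del (del (del x)) = x := by
  have h1 : mD * mD * mD = 1 := by decide
  have h2 : mD' * mD' * mD' = 1 := by decide
  unfold del
  calc mD * (mD * (mD * x * mD') * mD') * mD' = (mD * mD * mD) * x * (mD' * mD' * mD') := by simp only [mul_assoc]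
    _ = x := by rw [h1, h2, one_mul, mul_one]

lemma del_U (a b c : F4) : del (mU a b c) = mU a (u * b) (u * c) := by
  revert a b c
  decide

lemma del_r : del mr = mr := by decide
lemma del_y : del my = my := by decide
lemma del_t : del mt = mt * my := by decide

variable {Ω V : Type*} [Field Ω] [AddCommGroup V] [Module Ω V]
variable {R : Module.End Ω V → M3 → Prop} (hR : PR R)

include hR

lemma PR.gam : PR (fun g x => R g (gam x)) where
  mul := fun h h' => by rw [gam_mul]; exact hR.mul h h'
  ex := fun x hx => hR.ex _ (gam_det hx)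
  smul := fun hc h => hR.smul hc h
  smulM := fun {g x s} hs h => by
    rw [gam_smul]
    exact hR.smulM (mul_ne_zero hs hs) h
  eq := fun h h' => hR.eq h h'
  one := by rw [gam_one]; exact hR.one
  det := fun {g x} h => by
    have h1 := hR.det h
    unfold T12.gam at h1
    have hJ : mJ.det = 1 := by
      rw [Matrix.det_fin_three]
      decide
    rw [Matrix.det_mul, Matrix.det_mul, Matrix.det_transpose, Matrix.det_adjugate, hJ, one_mul, mul_one] at h1
    have h2 : ∀ a : F4, a ^ 2 = 1 → a = 1 := by decide
    exact h2 _ h1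
  faith := fun {x} h => by
    obtain ⟨s, hs⟩ := hR.faith h
    have h1 := hR.det h
    have hdx : x.det = 1 := by
      unfold T12.gam at h1
      have hJ : mJ.det = 1 := by
        rw [Matrix.det_fin_three]
        decide
      rw [Matrix.det_mul, Matrix.det_mul, Matrix.det_transpose, Matrix.det_adjugate, hJ, one_mul, mul_one] at h1
      have h2 : ∀ a : F4, a ^ 2 = 1 → a = 1 := by decide
      exact h2 _ h1
    refine ⟨s * s, ?_⟩
    have h3 := congrArg T12.gam hs
    rw [gam_gam hdx, gam_smul, gam_one] at h3
    exact h3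
  irr := fun W hW => hR.irr W fun g x hg => hW g (T12.gam x) (by rw [gam_gam (hR.det hg)]; exact hg)

lemma PR.del : PR (fun g x => R g (del x)) where
  mul := fun h h' => by rw [del_mul]; exact hR.mul h h'
  ex := fun x hx => hR.ex _ (del_det hx)
  smul := fun hc h => hR.smul hc h
  smulM := fun {g x s} hs h => by
    rw [del_smul]
    exact hR.smulM hs h
  eq := fun h h' => hR.eq h h'
  one := by rw [del_one]; exact hR.one
  det := fun {g x} h => by
    rw [← del_del x]
    exact del_det (del_det (hR.det h))
  faith := fun {x} h => by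
    obtain ⟨s, hs⟩ := hR.faith h
    refine ⟨s, ?_⟩
    have h3 : T12.del (T12.del (T12.del x)) = T12.del (T12.del (s • (1 : M3))) := by rw [hs]
    rw [del_del, del_smul, del_smul, del_one, del_one] at h3
    exact h3
  irr := fun W hW => hR.irr W fun g x hg => hW g (T12.del (T12.del x)) (by rw [del_del]; exact hg)

end Cfsg.Agent.H906.T12
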