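import Cfsg.Agent.H906.L34Main
import Cfsg.Agent.H906.ThreeByThree
import Cfsg.Agent.S0243

/-!
# Elements of `PSL_3(4)`

* `pow_cases` : `t ^ 3 = 1` or `t ^ 4 = 1` or `t ^ 5 = 1` or `t ^ 7 = 1`;
* `conj_invol` : involutions are conjugate;
* `two_elt` : an element with `t ^ 4 = 1` is conjugate to `π (uni 0 b c) * π (uni a 0 0)`;
* `inv_three`, `inv_five` : elements of order three and five are inverted by involutions;
* `seven` : elements of order seven are conjugate to their squares.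
-/

set_option autoImplicit false
set_option linter.unusedSectionVars false

namespace Cfsg.Agent.H906.T14

open Cfsg Cfsg.Geo SL3Par L34
open scoped MatrixGroups commutatorElement Matrix Pointwise

variable {K : Type*} [Field K]

lemma two_zero [Fintype K] (hK : Fintype.card K = 4) : (2 : K) = 0 := by
  have h4 : ((4 : ℕ) : K) = 0 := by rw [← hK]; exact Nat.cast_card_eq_zero K
  have h5 : (2 : K) * 2 = 0 := by rw [← h4]; norm_num
  rcases mul_eq_zero.1 h5 with h6 | h6 <;> exact h6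

lemma cube_one [Fintype K] (hK : Fintype.card K = 4) {a : K} (ha : a ≠ 0) : a ^ 3 = 1 := by
  have := FiniteField.pow_card_sub_one_eq_one a ha
  rwa [hK] at this

lemma add_self [Fintype K] (hK : Fintype.card K = 4) (a : K) : a + a = 0 := by
  linear_combination a * two_zero hK

/-- polynomial identities for matrices -/
lemma pow_of_rel [Fintype K] (hK : Fintype.card K = 4) {N : Matrix (Fin 3) (Fin 3) K} {a b : K}
    (h : N ^ 3 = a • N ^ 2 + b • N + 1) :
    (a = 0 → b = 0 → N ^ 3 = 1) ∧ (a = 1 → b = 1 → N ^ 4 = 1) ∧ (a = b → a ^ 2 + a + 1 = 0 → N ^ 5 = 1) ∧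
      (a = 0 → b = 1 → N ^ 7 = 1) ∧ (a = 1 → b = 0 → N ^ 7 = 1) := by
  have h2 := two_zero hK
  have dd : ∀ M : Matrix (Fin 3) (Fin 3) K, M + M = 0 := by
    intro M
    rw [← two_smul K M, h2, zero_smul]
  have e4 : N ^ 4 = (a ^ 2 + b) • N ^ 2 + (a * b + 1) • N + a • 1 := by
    calc N ^ 4 = N ^ 3 * N := by rw [← pow_succ]
      _ = a • N ^ 3 + b • N ^ 2 + N := by
        rw [h]
        simp only [add_mul, smul_mul_assoc, one_mul, ← pow_succ, ← pow_two]
        rw [h]
      _ = _ := by rw [h]; module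
  refine ⟨?_, ?_, ?_, ?_, ?_⟩
  · rintro rfl rfl
    rw [h]; simp
  · rintro rfl rfl
    rw [e4]
    have k1 : (1 ^ 2 + 1 : K) = 0 := by linear_combination h2
    have k2 : (1 * 1 + 1 : K) = 0 := by linear_combination h2
    rw [k1, k2]; simp
  · rintro rfl ha
    have k1 : a ^ 2 + a = 1 := by linear_combination ha - h2
    have k2 : a * a + 1 = a := by linear_combination ha - a * h2
    rw [k1, k2] at e4
    calc N ^ 5 = N ^ 4 * N := by rw [← pow_succ]
      _ = N ^ 3 + a • N ^ 2 + a • N := by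
        rw [e4]
        simp only [add_mul, smul_mul_assoc, one_mul, one_smul, ← pow_succ, ← pow_two]
      _ = (a • N ^ 2 + a • N ^ 2) + (a • N + a • N) + 1 := by rw [h]; abel
      _ = 1 := by rw [dd, dd]; simp
  · rintro rfl rfl
    have h' : N ^ 3 = N + 1 := by rw [h]; simp
    calc N ^ 7 = N ^ 3 * N ^ 3 * N := by rw [← pow_add, ← pow_succ]
      _ = (N + 1) * (N + 1) * N := by rw [h']
      _ = N ^ 3 + (N ^ 2 + N ^ 2) + N := by noncomm_ring
      _ = (N + N) + 1 := by rw [dd, h']; abel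
      _ = 1 := by rw [dd]; simp
  · rintro rfl rfl
    have h' : N ^ 3 = N ^ 2 + 1 := by rw [h]; simp
    calc N ^ 7 = N ^ 3 * N ^ 3 * N := by rw [← pow_add, ← pow_succ]
      _ = (N ^ 2 + 1) * (N ^ 2 + 1) * N := by rw [h']
      _ = N ^ 3 * N ^ 2 + (N ^ 3 + N ^ 3) + N := by noncomm_ring
      _ = (N ^ 2 + 1) * N ^ 2 + N := by rw [dd, h']; abel
      _ = N ^ 3 * N + N ^ 2 + N := by noncomm_ring
      _ = (N ^ 2 + 1) * N + N ^ 2 + N := by rw [h']
      _ = N ^ 3 + N ^ 2 + (N + N) := by noncomm_ring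
      _ = (N ^ 2 + N ^ 2) + 1 := by rw [dd, h']; abel
      _ = 1 := by rw [dd]; simp

lemma pj_eq_one_of_smul {g : X K} {c : K} (h : g.1 = c • (1 : Matrix (Fin 3) (Fin 3) K)) : pj K g = 1 := by
  rw [QuotientGroup.mk'_apply, QuotientGroup.eq_one_iff, Subgroup.mem_center_iff]
  intro x
  apply Subtype.ext
  change x.1 * g.1 = g.1 * x.1
  rw [h, mul_smul_comm, smul_mul_assoc, mul_one, one_mul]

/-- orders of elements -/
theorem pow_cases [Fintype K] (hK : Fintype.card K = 4) (t : Matrix.ProjectiveSpecialLinearGroup (Fin 3) K) :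
    t ^ 3 = 1 ∨ t ^ 4 = 1 ∨ t ^ 5 = 1 ∨ t ^ 7 = 1 := by
  obtain ⟨g, rfl⟩ : ∃ g : X K, pj K g = t := QuotientGroup.mk'_surjective _ t
  have h2 := two_zero hK
  have h0 := H906.cayley_three g.1
  have hdet : g.1.det = 1 := g.2
  set a := g.1.trace
  set b := g.1.adjugate.trace
  have h1 : g.1 ^ 3 = a • g.1 ^ 2 + b • g.1 + 1 := by
    rw [h0, hdet, one_smul]
    have : b • g.1 + b • g.1 = 0 := by rw [← add_smul, add_self hK, zero_smul]
    have h4 : - (b • g.1) = b • g.1 := neg_eq_of_add_eq_zero_left this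
    rw [sub_eq_add_neg, h4]
  -- scaling
  have scale : ∀ c : K, c ≠ 0 → (c • g.1) ^ 3 = (c * a) • (c • g.1) ^ 2 + (c ^ 2 * b) • (c • g.1) + 1 := by
    intro c hc
    have hc3 := cube_one hK hc
    rw [smul_pow, smul_pow, hc3, one_smul, h1, smul_smul, smul_smul]
    have e1 : c * a * c ^ 2 = a := by linear_combination a * hc3
    have e2 : c ^ 2 * b * c = b := by linear_combination b * hc3
    rw [e1, e2]
  have fin : ∀ (c : K) (m : ℕ), c ≠ 0 → (c • g.1) ^ m = 1 → pj K g ^ m = 1 := by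
    intro c m hc hm
    rw [← map_pow]
    apply pj_eq_one_of_smul (c := (c ^ m)⁻¹)
    have h5 : (g ^ m).1 = g.1 ^ m := rfl
    rw [h5, ← hm, smul_pow, smul_smul, inv_mul_cancel₀ (pow_ne_zero _ hc), one_smul]
  by_cases ha : a = 0
  · by_cases hb : b = 0
    · left
      apply fin 1 3 one_ne_zero
      exact (pow_of_rel hK (scale 1 one_ne_zero)).1 (by rw [ha, mul_zero]) (by rw [hb, mul_zero])
    · right; right; right
      apply fin b 7 hb
      exact (pow_of_rel hK (scale b hb)).2.2.2.1 (by rw [ha, mul_zero]) (by rw [← pow_succ, cube_one hK hb])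
  · by_cases hb : b = 0
    · right; right; right
      have ha2 : a ^ 2 ≠ 0 := pow_ne_zero _ ha
      apply fin (a ^ 2) 7 ha2
      exact (pow_of_rel hK (scale (a ^ 2) ha2)).2.2.2.2 (by rw [← pow_succ, cube_one hK ha]) (by rw [hb, mul_zero])
    · have ha3 := cube_one hK ha
      have hb3 := cube_one hK hb
      by_cases hab : a * b = 1
      · right; left
        have ha2 : a ^ 2 ≠ 0 := pow_ne_zero _ ha
        apply fin (a ^ 2) 4 ha2
        refine (pow_of_rel hK (scale (a ^ 2) ha2)).2.1 (by rw [← pow_succ, ha3]) ?_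
        linear_combination hab + (a * b) * ha3
      · right; right; left
        have hc : a * b ^ 2 ≠ 0 := mul_ne_zero ha (pow_ne_zero _ hb)
        apply fin (a * b ^ 2) 5 hc
        refine (pow_of_rel hK (scale (a * b ^ 2) hc)).2.2.1 ?_ ?_
        · linear_combination (-(a ^ 2 * b ^ 2)) * hb3
        · have hne : a * b - 1 ≠ 0 := sub_ne_zero.2 hab
          have h6 : (a * b ^ 2 * a) ^ 3 = 1 := by
            rw [mul_pow, mul_pow, ha3, ← pow_mul, mul_comm 2 3, pow_mul, hb3]; simp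
          have h7 : a * b ^ 2 * a ≠ 1 := by
            intro h8
            have h9 : (a * b - 1) * (a * b + 1) = 0 := by linear_combination h8
            rcases mul_eq_zero.1 h9 with h10 | h10
            · exact hne h10
            · apply hne
              linear_combination h10 - h2
          have h8 : (a * b ^ 2 * a - 1) * ((a * b ^ 2 * a) ^ 2 + (a * b ^ 2 * a) + 1) = 0 := by
            linear_combination h6
          exact (mul_eq_zero.1 h8).resolve_left (sub_ne_zero.2 h7)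

/-! ### Sylow subgroups -/

lemma card_T [Fintype K] (hK : Fintype.card K = 4) :
    Nat.card (Matrix.ProjectiveSpecialLinearGroup (Fin 3) K) = 20160 := by
  have h := Cfsg.Agent.S0243.result (F := K) hK 3 (by norm_num)
  rw [Fin.prod_univ_three] at h
  norm_num at h
  omega

/-- elements of a `p`-group are conjugate into a given subgroup of Sylow order -/
lemma conj_into {T : Type*} [Group T] [Finite T] (p : ℕ) [Fact p.Prime] (S : Subgroup T) {k m : ℕ}
    (hS : Nat.card S = p ^ k) (hT : Nat.card T = p ^ k * m) (hm : ¬ p ∣ m) {t : T} {j : ℕ} (ht : t ^ p ^ j = 1) :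
    ∃ g : T, g * t * g⁻¹ ∈ S := by
  have hSp : IsPGroup p S := IsPGroup.of_card hS
  have hidx : ¬ p ∣ S.index := by
    intro hd
    have h1 := Subgroup.card_mul_index S
    rw [hS, hT] at h1
    have h2 : S.index = m := Nat.eq_of_mul_eq_mul_left (pow_pos (Fact.out : p.Prime).pos k) h1
    rw [h2] at hd
    exact hm hd
  let Q : Sylow p T := hSp.toSylow hidx
  have htp : IsPGroup p (Subgroup.zpowers t) := by
    have : Nat.card (Subgroup.zpowers t) ∣ p ^ j := by
      rw [Nat.card_zpowers]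
      exact orderOf_dvd_of_pow_eq_one ht
    obtain ⟨i, -, hi⟩ := (Nat.dvd_prime_pow (Fact.out : p.Prime)).1 this
    exact IsPGroup.of_card hi
  obtain ⟨R, hR⟩ := htp.exists_le_sylow
  obtain ⟨g, hg⟩ := MulAction.exists_smul_eq T R Q
  refine ⟨g, ?_⟩
  have h3 : g * t * g⁻¹ ∈ (MulAut.conj g • (R : Subgroup T)) := by
    have := Subgroup.smul_mem_pointwise_smul t (MulAut.conj g) (R : Subgroup T) (hR (Subgroup.mem_zpowers t))
    exact this
  have h4 : MulAut.conj g • (R : Subgroup T) = S := by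
    have h5 : ((g • R : Sylow p T) : Subgroup T) = (Q : Subgroup T) := by rw [hg]
    exact h5
  rwa [h4] at h3

lemma fin_T [Finite K] : Finite (Matrix.ProjectiveSpecialLinearGroup (Fin 3) K) :=
  Finite.of_surjective _ (QuotientGroup.mk'_surjective (Subgroup.center (X K)))

lemma sl_pow_val (g : X K) (n : ℕ) : (g ^ n).1 = g.1 ^ n := rfl

/-! ### involutions and elements of order four -/

theorem two_elt [Fintype K] (hK : Fintype.card K = 4) {t : Matrix.ProjectiveSpecialLinearGroup (Fin 3) K}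
    (ht : t ^ 4 = 1) : ∃ g, ∃ a b c : K, g * t * g⁻¹ = pj K (uni a b c) := by
  have := fin_T (K := K)
  have hf : Fact (Nat.Prime 2) := ⟨Nat.prime_two⟩
  have hcard : Nat.card ((U K).map (pj K)) = 2 ^ 6 := by
    have h1 : Nat.card (K × K × K) = 2 ^ 6 := by
      rw [Nat.card_prod, Nat.card_prod, Nat.card_eq_fintype_card, hK]
      norm_num
    rw [← h1]
    symm
    refine Nat.card_congr (Equiv.ofBijective (fun x : K × K × K =>
      (⟨pj K (uni x.1 x.2.1 x.2.2), ⟨_, ⟨_, _, _, rfl⟩, rfl⟩⟩ : (U K).map (pj K))) ⟨?_, ?_⟩)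
    · rintro ⟨a, b, c⟩ ⟨a', b', c'⟩ hh
      have h6 := pj_uni_inj (congrArg Subtype.val hh)
      have h7 := congrFun (congrFun (congrArg Subtype.val h6) 1) 2
      have h8 := congrFun (congrFun (congrArg Subtype.val h6) 0) 2
      have h9 := congrFun (congrFun (congrArg Subtype.val h6) 0) 1
      simp [uni] at h7 h8 h9
      rw [h7, h8, h9]
    · rintro ⟨_, _, ⟨a, b, c, rfl⟩, rfl⟩
      exact ⟨(a, b, c), rfl⟩
  obtain ⟨g, hg⟩ := conj_into 2 ((U K).map (pj K)) hcard (m := 315) (by rw [card_T hK]; norm_num) (by norm_num)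
    (t := t) (j := 2) (by simpa using ht)
  obtain ⟨_, ⟨a, b, c, rfl⟩, h⟩ := hg
  exact ⟨g, a, b, c, h.symm⟩

lemma uni_split (a b c : K) : uni a b c = uni 0 b c * uni a 0 0 := by
  rw [uni_mul]
  congr 1 <;> ring

lemma conj_base [Fintype K] (hK : Fintype.card K = 4) {t : Matrix.ProjectiveSpecialLinearGroup (Fin 3) K}
    (ht : t ^ 2 = 1) (ht1 : t ≠ 1) : ∃ g, g * pj K (uni 0 0 1) * g⁻¹ = t := by
  obtain ⟨g, a, b, c, hg⟩ := two_elt hK (t := t) (by rw [show (4 : ℕ) = 2 * 2 by norm_num, pow_mul, ht, one_pow])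
  have h1 : pj K (uni a b c) ^ 2 = 1 := by rw [← hg, conj_pow, ht, mul_one, mul_inv_cancel]
  have h2 : pj K (uni 0 0 (a * b)) = pj K (uni 0 0 0) := by
    rw [uni_zero, map_one, ← h1, ← map_pow, pow_two, uni_mul, add_self hK, add_self hK, add_self hK, zero_add]
  have h3 := congrFun (congrFun (congrArg Subtype.val (pj_uni_inj h2)) 0) 2
  simp [uni] at h3
  have h4 : ∃ x : X K, pj K (x * uni 0 0 1 * x⁻¹) = pj K (uni a b c) := by
    have hne : uni a b c ≠ 1 := by
      intro h0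
      apply ht1
      rw [h0, map_one] at hg
      have : t = g⁻¹ * (g * t * g⁻¹) * g := by group
      rw [this, hg]; group
    rcases h3 with h3 | h3
    · subst h3
      obtain ⟨x, -, hx⟩ := trans_a hne
      exact ⟨x, by rw [hx]⟩
    · subst h3
      obtain ⟨x, -, hx⟩ := trans_b hne
      exact ⟨x, by rw [hx]⟩
  obtain ⟨x, hx⟩ := h4
  refine ⟨g⁻¹ * pj K x, ?_⟩
  rw [← hg, map_mul, map_mul, map_inv] at hx
  calc g⁻¹ * pj K x * pj K (uni 0 0 1) * (g⁻¹ * pj K x)⁻¹ = g⁻¹ * (pj K x * pj K (uni 0 0 1) * (pj K x)⁻¹) * g := by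
        group
    _ = g⁻¹ * (g * t * g⁻¹) * g := by rw [hx]
    _ = t := by group

theorem conj_invol [Fintype K] (hK : Fintype.card K = 4) {s t : Matrix.ProjectiveSpecialLinearGroup (Fin 3) K}
    (hs : s ^ 2 = 1) (hs1 : s ≠ 1) (ht : t ^ 2 = 1) (ht1 : t ≠ 1) : ∃ g, g * s * g⁻¹ = t := by
  obtain ⟨x, hx⟩ := conj_base hK hs hs1
  obtain ⟨y, hy⟩ := conj_base hK ht ht1
  refine ⟨y * x⁻¹, ?_⟩
  rw [← hx, ← hy]
  group

/-! ### elements of order three, five and seven -/

lemma cay [Fintype K] (hK : Fintype.card K = 4) (g : X K) :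
    g.1 ^ 3 = g.1.trace • g.1 ^ 2 + g.1.adjugate.trace • g.1 + 1 := by
  have h0 := H906.cayley_three g.1
  have hdet : g.1.det = 1 := g.2
  rw [h0, hdet, one_smul]
  have : g.1.adjugate.trace • g.1 + g.1.adjugate.trace • g.1 = 0 := by rw [← add_smul, add_self hK, zero_smul]
  have h4 : - (g.1.adjugate.trace • g.1) = g.1.adjugate.trace • g.1 := neg_eq_of_add_eq_zero_left this
  rw [sub_eq_add_neg, h4]

lemma exists_w [Fintype K] (hK : Fintype.card K = 4) : ∃ w : K, w ^ 2 + w + 1 = 0 := by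
  classical
  obtain ⟨a, ha0, ha1⟩ : ∃ a : K, a ≠ 0 ∧ a ≠ 1 := by
    by_contra hcon
    push Not at hcon
    have hsub : (Finset.univ : Finset K) ⊆ {0, 1} := by
      intro x _
      by_cases hx : x = 0
      · simp [hx]
      · simp [hcon x hx]
    have h6 := Finset.card_le_card hsub
    rw [Finset.card_univ, hK] at h6
    have h7 : ({0, 1} : Finset K).card ≤ 2 := Finset.card_le_two
    omega
  refine ⟨a, ?_⟩
  have h3 := cube_one hK ha0
  have h4 : (a - 1) * (a ^ 2 + a + 1) = 0 := by linear_combination h3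
  exact (mul_eq_zero.1 h4).resolve_left (sub_ne_zero.2 ha1)

/-- powers of an element inverted by `s` -/
lemma conj_pow_of {T : Type*} [Group T] {x s : T} {k : ℕ} (h : s * x * s⁻¹ = x ^ k) (j : ℤ) :
    s * (x ^ j) * s⁻¹ = (x ^ j) ^ k := by
  rw [← conj_zpow, h, ← zpow_natCast, ← zpow_mul, ← zpow_natCast, ← zpow_mul, mul_comm]

theorem inv_five [Fintype K] (hK : Fintype.card K = 4) {t : Matrix.ProjectiveSpecialLinearGroup (Fin 3) K}
    (ht : t ^ 5 = 1) : ∃ s, s ^ 2 = 1 ∧ s * t * s⁻¹ = t⁻¹ := by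
  have := fin_T (K := K)
  have hf : Fact (Nat.Prime 5) := ⟨Nat.prime_five⟩
  have k2 := two_zero hK
  obtain ⟨w, hw⟩ := exists_w hK
  obtain ⟨x, hx⟩ : ∃ x : X K, x.1 = !![0, 1, 0; 1, w, 0; 0, 0, 1] :=
    ⟨⟨!![0, 1, 0; 1, w, 0; 0, 0, 1], by
      rw [Matrix.det_fin_three]
      simp
      linear_combination -k2⟩, rfl⟩
  obtain ⟨τ, hτ⟩ : ∃ x : X K, x.1 = !![0, 1, 0; 1, 0, 0; 0, 0, 1] :=
    ⟨⟨!![0, 1, 0; 1, 0, 0; 0, 0, 1], by
      rw [Matrix.det_fin_three]
      simp
      linear_combination -k2⟩, rfl⟩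
  have h5 : x ^ 5 = 1 := by
    apply Subtype.ext
    rw [sl_pow_val]
    refine (pow_of_rel hK (cay hK x)).2.2.1 ?_ ?_
    · rw [hx, Matrix.adjugate_fin_three, Matrix.trace_fin_three, Matrix.trace_fin_three]
      simp
      linear_combination k2
    · rw [hx, Matrix.trace_fin_three]
      simp
      linear_combination hw + (w + 1) * k2
  have hττ : τ * τ = 1 := by
    apply ext'
    intro i j
    rw [mul_entry, hτ]
    fin_cases i <;> fin_cases j <;> simp
  have hτx : (τ * x) * (τ * x) = 1 := by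
    have h1 : (τ * x).1 = !![1, w, 0; 0, 1, 0; 0, 0, 1] := by
      ext i j
      rw [mul_entry, hτ, hx]
      fin_cases i <;> fin_cases j <;> simp
    apply ext'
    intro i j
    rw [mul_entry, h1]
    fin_cases i <;> fin_cases j <;> simp
    linear_combination w * k2
  have hinv : pj K τ * pj K x * (pj K τ)⁻¹ = pj K x ^ 4 := by
    have e1 : (pj K τ)⁻¹ = pj K τ := by
      rw [inv_eq_iff_mul_eq_one, ← map_mul, hττ, map_one]
    have e2 : pj K x ^ 4 = (pj K x)⁻¹ := by
      rw [eq_inv_iff_mul_eq_one, ← pow_succ, ← map_pow, h5, map_one]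
    rw [e1, e2, eq_inv_iff_mul_eq_one]
    have := congrArg (pj K) hτx
    rw [map_mul, map_mul, map_one] at this
    rw [← this]
    group
  have hx1 : pj K x ≠ 1 := by
    intro h0
    have h1 : x ∈ Subgroup.center (X K) := (QuotientGroup.eq_one_iff x).1 h0
    obtain ⟨r, -, hr⟩ := Matrix.SpecialLinearGroup.mem_center_iff.1 h1
    have := congrFun (congrFun hr 0) 1
    rw [hx] at this
    simp at this
  have hord : orderOf (pj K x) = 5 := orderOf_eq_prime (by rw [← map_pow, h5, map_one]) hx1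
  obtain ⟨g, hg⟩ := conj_into 5 (Subgroup.zpowers (pj K x)) (k := 1) (by rw [Nat.card_zpowers, hord, pow_one])
    (m := 4032) (by rw [card_T hK]; norm_num) (by norm_num) (t := t) (j := 1) (by simpa using ht)
  obtain ⟨j, hj⟩ := Subgroup.mem_zpowers_iff.1 hg
  refine ⟨g⁻¹ * pj K τ * g, ?_, ?_⟩
  · have e1 : pj K τ ^ 2 = 1 := by rw [pow_two, ← map_mul, hττ, map_one]
    calc (g⁻¹ * pj K τ * g) ^ 2 = g⁻¹ * pj K τ ^ 2 * g := by rw [pow_two, pow_two]; group
      _ = 1 := by rw [e1]; group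
  · have h6 := conj_pow_of hinv j
    rw [hj] at h6
    have h7 : (g * t * g⁻¹) ^ 4 = g * t⁻¹ * g⁻¹ := by
      rw [conj_pow]
      congr 2
      rw [eq_inv_iff_mul_eq_one, ← pow_succ, ht]
    rw [h7] at h6
    calc g⁻¹ * pj K τ * g * t * (g⁻¹ * pj K τ * g)⁻¹ = g⁻¹ * (pj K τ * (g * t * g⁻¹) * (pj K τ)⁻¹) * g := by group
      _ = g⁻¹ * (g * t⁻¹ * g⁻¹) * g := by rw [h6]
      _ = t⁻¹ := by group

theorem seven [Fintype K] (hK : Fintype.card K = 4) {t : Matrix.ProjectiveSpecialLinearGroup (Fin 3) K}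
    (ht : t ^ 7 = 1) : ∃ s, s * t * s⁻¹ = t ^ 2 := by
  have := fin_T (K := K)
  have hf : Fact (Nat.Prime 7) := ⟨by norm_num⟩
  have k2 := two_zero hK
  obtain ⟨x, hx⟩ : ∃ x : X K, x.1 = !![0, 0, 1; 1, 0, 1; 0, 1, 0] :=
    ⟨⟨!![0, 0, 1; 1, 0, 1; 0, 1, 0], by
      rw [Matrix.det_fin_three]
      simp⟩, rfl⟩
  obtain ⟨y, hy⟩ : ∃ x : X K, x.1 = !![1, 0, 0; 0, 0, 1; 0, 1, 1] :=
    ⟨⟨!![1, 0, 0; 0, 0, 1; 0, 1, 1], by
      rw [Matrix.det_fin_three]
      simp
      linear_combination -k2⟩, rfl⟩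
  have h7 : x ^ 7 = 1 := by
    apply Subtype.ext
    rw [sl_pow_val]
    refine (pow_of_rel hK (cay hK x)).2.2.2.1 ?_ ?_
    · rw [hx, Matrix.trace_fin_three]
      simp
    · rw [hx, Matrix.adjugate_fin_three, Matrix.trace_fin_three]
      simp
      linear_combination -k2
  have hyx : y * x = x * x * y := by
    have h1 : (x * x).1 = !![0, 1, 0; 0, 1, 1; 1, 0, 1] := by
      ext i j
      rw [mul_entry, hx]
      fin_cases i <;> fin_cases j <;> simp
    apply ext'
    intro i j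
    rw [mul_entry, mul_entry, h1, hx, hy]
    fin_cases i <;> fin_cases j <;> simp
    all_goals first | linear_combination k2 | linear_combination -k2
  have hinv : pj K y * pj K x * (pj K y)⁻¹ = pj K x ^ 2 := by
    rw [mul_inv_eq_iff_eq_mul, ← map_mul, hyx, map_mul, map_mul, pow_two]
  have hx1 : pj K x ≠ 1 := by
    intro h0
    have h1 : x ∈ Subgroup.center (X K) := (QuotientGroup.eq_one_iff x).1 h0
    obtain ⟨r, -, hr⟩ := Matrix.SpecialLinearGroup.mem_center_iff.1 h1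
    have := congrFun (congrFun hr 0) 2
    rw [hx] at this
    simp at this
  have hord : orderOf (pj K x) = 7 := orderOf_eq_prime (by rw [← map_pow, h7, map_one]) hx1
  obtain ⟨g, hg⟩ := conj_into 7 (Subgroup.zpowers (pj K x)) (k := 1) (by rw [Nat.card_zpowers, hord, pow_one])
    (m := 2880) (by rw [card_T hK]; norm_num) (by norm_num) (t := t) (j := 1) (by simpa using ht)
  obtain ⟨j, hj⟩ := Subgroup.mem_zpowers_iff.1 hg
  refine ⟨g⁻¹ * pj K y * g, ?_⟩
  have h6 := conj_pow_of hinv j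
  rw [hj] at h6
  rw [conj_pow] at h6
  calc g⁻¹ * pj K y * g * t * (g⁻¹ * pj K y * g)⁻¹ = g⁻¹ * (pj K y * (g * t * g⁻¹) * (pj K y)⁻¹) * g := by group
    _ = g⁻¹ * (g * t ^ 2 * g⁻¹) * g := by rw [h6]
    _ = t ^ 2 := by group

theorem inv_three [Fintype K] (hK : Fintype.card K = 4) {t : Matrix.ProjectiveSpecialLinearGroup (Fin 3) K}
    (ht : t ^ 3 = 1) : ∃ s, s ^ 2 = 1 ∧ s * t * s⁻¹ = t⁻¹ := by
  have := fin_T (K := K)
  have hf : Fact (Nat.Prime 3) := ⟨Nat.prime_three⟩
  have k2 := two_zero hK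
  obtain ⟨w, hw⟩ := exists_w hK
  have hw3 : w ^ 3 = 1 := by linear_combination (w - 1) * hw
  obtain ⟨d, hd⟩ : ∃ x : X K, x.1 = !![1, 0, 0; 0, w, 0; 0, 0, w ^ 2] :=
    ⟨⟨!![1, 0, 0; 0, w, 0; 0, 0, w ^ 2], by
      rw [Matrix.det_fin_three]
      simp
      linear_combination hw3⟩, rfl⟩
  obtain ⟨c, hc⟩ : ∃ x : X K, x.1 = !![0, 0, 1; 1, 0, 0; 0, 1, 0] :=
    ⟨⟨!![0, 0, 1; 1, 0, 0; 0, 1, 0], by
      rw [Matrix.det_fin_three]
      simp⟩, rfl⟩
  obtain ⟨τ, hτ⟩ : ∃ x : X K, x.1 = !![1, 0, 0; 0, 0, 1; 0, 1, 0] :=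
    ⟨⟨!![1, 0, 0; 0, 0, 1; 0, 1, 0], by
      rw [Matrix.det_fin_three]
      simp
      linear_combination -k2⟩, rfl⟩
  have hττ : τ * τ = 1 := by
    apply ext'
    intro i j
    rw [mul_entry, hτ]
    fin_cases i <;> fin_cases j <;> simp
  have hτd : (τ * d) * (τ * d) = 1 := by
    have h1 : (τ * d).1 = !![1, 0, 0; 0, 0, w ^ 2; 0, w, 0] := by
      ext i j
      rw [mul_entry, hτ, hd]
      fin_cases i <;> fin_cases j <;> simp
    apply ext'
    intro i j
    rw [mul_entry, h1]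
    fin_cases i <;> fin_cases j <;> simp
    all_goals linear_combination hw3
  have hτc : (τ * c) * (τ * c) = 1 := by
    have h1 : (τ * c).1 = !![0, 0, 1; 0, 1, 0; 1, 0, 0] := by
      ext i j
      rw [mul_entry, hτ, hc]
      fin_cases i <;> fin_cases j <;> simp
    apply ext'
    intro i j
    rw [mul_entry, h1]
    fin_cases i <;> fin_cases j <;> simp
  have hd3 : d * d * d = 1 := by
    have h1 : (d * d).1 = !![1, 0, 0; 0, w ^ 2, 0; 0, 0, w ^ 4] := by
      ext i j
      rw [mul_entry, hd]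
      fin_cases i <;> fin_cases j <;> simp <;> ring
    apply ext'
    intro i j
    rw [mul_entry, h1, hd]
    fin_cases i <;> fin_cases j <;> simp
    · linear_combination hw3
    · linear_combination (w ^ 3 + 1) * hw3
  have hc3 : c * c * c = 1 := by
    have h1 : (c * c).1 = !![0, 1, 0; 0, 0, 1; 1, 0, 0] := by
      ext i j
      rw [mul_entry, hc]
      fin_cases i <;> fin_cases j <;> simp
    apply ext'
    intro i j
    rw [mul_entry, h1, hc]
    fin_cases i <;> fin_cases j <;> simp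
  set D := pj K d with hD
  set C := pj K c with hC
  have hDC : C * D = D * C := by
    rw [hD, hC, ← map_mul, ← map_mul]
    have h1 : (c * d) = (scal w hw3)⁻¹ * (d * c) := by
      rw [eq_inv_mul_iff_mul_eq]
      apply ext'
      intro i j
      rw [mul_entry, mul_entry, mul_entry, mul_entry, mul_entry, hc, hd]
      simp only [scal_entry]
      fin_cases i <;> fin_cases j <;> simp
      · linear_combination hw3
      · ring
    rw [h1, map_mul, map_inv]
    have h2 : pj K (scal w hw3) = 1 := (QuotientGroup.eq_one_iff _).2 (scal_mem_center w hw3)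
    rw [h2, inv_one, one_mul]
  have hD3 : D ^ 3 = 1 := by rw [hD, ← map_pow, pow_succ, pow_two, hd3, map_one]
  have hC3 : C ^ 3 = 1 := by rw [hC, ← map_pow, pow_succ, pow_two, hc3, map_one]
  have w0 : w ≠ 0 := by
    rintro rfl
    norm_num at hw3
  have diag_ne : ∀ i : ℤ, C ≠ D ^ i := by
    intro i h0
    rw [hC, hD, ← map_zpow] at h0
    have h1 : c⁻¹ * d ^ i ∈ Subgroup.center (X K) := QuotientGroup.eq.1 h0
    obtain ⟨r, -, hr⟩ := Matrix.SpecialLinearGroup.mem_center_iff.1 h1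
    have h2 : (d ^ i).1 = c.1 * Matrix.scalar (Fin 3) r := by
      rw [hr]
      change (d ^ i).1 = (c * (c⁻¹ * d ^ i)).1
      rw [mul_inv_cancel_left]
    have h3 : ∀ i : ℤ, (d ^ i).1 1 0 = 0 ∧ (d ^ i).1 2 0 = 0 := fun i =>
      ⟨((Pb K).zpow_mem (show d ∈ Pb K by constructor <;> (rw [hd]; simp)) i).1,
        ((Pb K).zpow_mem (show d ∈ Pb K by constructor <;> (rw [hd]; simp)) i).2⟩
    have h4 := congrFun (congrFun h2 1) 0
    rw [(h3 i).1, hc, Matrix.mul_apply, Fin.sum_univ_three] at h4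
    simp at h4
    have h5 := congrArg Matrix.det h2
    rw [Matrix.det_mul, ← h4] at h5
    have h6 : (d ^ i).1.det = 1 := (d ^ i).2
    rw [h6] at h5
    simp at h5
  have hD1 : D ≠ 1 := by
    intro h0
    have h1 : d ∈ Subgroup.center (X K) := (QuotientGroup.eq_one_iff d).1 h0
    obtain ⟨r, -, hr⟩ := Matrix.SpecialLinearGroup.mem_center_iff.1 h1
    have e1 := congrFun (congrFun hr 0) 0
    have e2 := congrFun (congrFun hr 1) 1
    rw [hd] at e1 e2
    simp at e1 e2
    rw [e1] at e2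
    rw [← e2] at hw
    have : (1 : K) = 0 := by linear_combination hw - k2
    exact one_ne_zero this
  have hC1 : C ≠ 1 := by
    intro h0
    exact diag_ne 0 (by rw [h0, zpow_zero])
  have oD : orderOf D = 3 := orderOf_eq_prime hD3 hD1
  have oC : orderOf C = 3 := orderOf_eq_prime hC3 hC1
  let f : Subgroup.zpowers D × Subgroup.zpowers C →* Matrix.ProjectiveSpecialLinearGroup (Fin 3) K :=
    MonoidHom.noncommCoprod (Subgroup.zpowers D).subtype (Subgroup.zpowers C).subtype (by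
      rintro ⟨_, i, rfl⟩ ⟨_, j, rfl⟩
      exact (Commute.zpow_zpow (show Commute D C from hDC.symm) i j))
  have hfi : Function.Injective f := by
    rw [injective_iff_map_eq_one]
    rintro ⟨⟨_, i, rfl⟩, ⟨_, j, rfl⟩⟩ h0
    change D ^ i * C ^ j = 1 at h0
    have hj : (3 : ℤ) ∣ j := by
      by_contra hj
      have h1 : ∃ m n : ℤ, m * j + n * 3 = 1 := by
        have : IsCoprime j (3 : ℤ) := ((Int.prime_three.coprime_iff_not_dvd).2 hj).symm
        exact this
      obtain ⟨m, n, hmn⟩ := h1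
      apply diag_ne (-(i * m))
      have h2 : C ^ j = D ^ (-i) := by rw [zpow_neg, eq_inv_iff_mul_eq_one, ← (Commute.zpow_zpow (show Commute D C from hDC.symm) i j).eq, h0]
      calc C = C ^ (m * j + n * 3) := by rw [hmn, zpow_one]
        _ = (C ^ j) ^ m * (C ^ (3 : ℤ)) ^ n := by rw [zpow_add, mul_comm m j, zpow_mul, mul_comm n 3, zpow_mul]
        _ = D ^ (-(i * m)) := by
          have : C ^ (3 : ℤ) = 1 := by exact_mod_cast hC3
          rw [this, one_zpow, mul_one, h2, ← zpow_mul, neg_mul]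
    have h1 : C ^ j = 1 := by
      obtain ⟨m, rfl⟩ := hj
      have : C ^ (3 : ℤ) = 1 := by exact_mod_cast hC3
      rw [zpow_mul, this, one_zpow]
    rw [h1, mul_one] at h0
    ext
    · exact h0
    · exact h1
  have hcardS : Nat.card f.range = 3 ^ 2 := by
    rw [← Nat.card_congr (MonoidHom.ofInjective hfi).toEquiv, Nat.card_prod, Nat.card_zpowers, Nat.card_zpowers, oD, oC]
    norm_num
  obtain ⟨g, hg⟩ := conj_into 3 f.range hcardS (m := 2240) (by rw [card_T hK]; norm_num) (by norm_num) (t := t)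
    (j := 1) (by simpa using ht)
  obtain ⟨⟨⟨_, i, rfl⟩, ⟨_, j, rfl⟩⟩, hij⟩ := hg
  change D ^ i * C ^ j = g * t * g⁻¹ at hij
  have inv_of : ∀ x : X K, (τ * x) * (τ * x) = 1 → pj K τ * pj K x * (pj K τ)⁻¹ = (pj K x)⁻¹ := by
    intro x hx
    have e1 : (pj K τ)⁻¹ = pj K τ := by
      rw [inv_eq_iff_mul_eq_one, ← map_mul, hττ, map_one]
    rw [e1, eq_inv_iff_mul_eq_one]
    have := congrArg (pj K) hx
    rw [map_mul, map_mul, map_one] at this
    rw [← this]
    group
  have iD := inv_of d hτd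
  have iC := inv_of c hτc
  have iS : pj K τ * (D ^ i * C ^ j) * (pj K τ)⁻¹ = (D ^ i * C ^ j)⁻¹ := by
    have e1 : pj K τ * D ^ i * (pj K τ)⁻¹ = (D ^ i)⁻¹ := by rw [← conj_zpow, iD, inv_zpow]
    have e2 : pj K τ * C ^ j * (pj K τ)⁻¹ = (C ^ j)⁻¹ := by rw [← conj_zpow, iC, inv_zpow]
    calc pj K τ * (D ^ i * C ^ j) * (pj K τ)⁻¹ = (pj K τ * D ^ i * (pj K τ)⁻¹) * (pj K τ * C ^ j * (pj K τ)⁻¹) := by
          group
      _ = (D ^ i)⁻¹ * (C ^ j)⁻¹ := by rw [e1, e2]
      _ = (D ^ i * C ^ j)⁻¹ := by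
          rw [mul_inv_rev]
          exact (Commute.zpow_zpow (show Commute D C from hDC.symm) i j).inv_inv.eq
  refine ⟨g⁻¹ * pj K τ * g, ?_, ?_⟩
  · have e1 : pj K τ ^ 2 = 1 := by rw [pow_two, ← map_mul, hττ, map_one]
    calc (g⁻¹ * pj K τ * g) ^ 2 = g⁻¹ * pj K τ ^ 2 * g := by rw [pow_two, pow_two]; group
      _ = 1 := by rw [e1]; group
  · rw [hij] at iS
    calc g⁻¹ * pj K τ * g * t * (g⁻¹ * pj K τ * g)⁻¹ = g⁻¹ * (pj K τ * (g * t * g⁻¹) * (pj K τ)⁻¹) * g := by group
      _ = g⁻¹ * (g * t * g⁻¹)⁻¹ * g := by rw [iS]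
      _ = t⁻¹ := by group

end Cfsg.Agent.H906.T14
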