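import Cfsg.Agent.H906.Transf
import Cfsg.Agent.H906.E9C
import Cfsg.Agent.H915.LD

/-!
# Cores with socle `PSL_3(4)`
-/

set_option autoImplicit false
set_option linter.unusedSectionVars false

namespace Cfsg.Agent.H906.T14

open Cfsg Cfsg.Geo SL3Par L34 H915.LD
open scoped MatrixGroups commutatorElement Matrix

universe u v

variable {ι : Type} [Fintype ι] [DecidableEq ι] {F : Type u} [Field F] {P : Subgroup (GL ι F)}
  {K : Type v} [Field K] [Fintype K]

/-- the projection of the core -/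
abbrev ph (e : Soc P ≃* Matrix.ProjectiveSpecialLinearGroup (Fin 3) K) :
    P →* Matrix.ProjectiveSpecialLinearGroup (Fin 3) K := e.toMonoidHom.comp (toSoc P)

variable (e : Soc P ≃* Matrix.ProjectiveSpecialLinearGroup (Fin 3) K)

lemma ph_surj : Function.Surjective (ph e) := e.surjective.comp (toSoc_surjective P)

lemma ph_cen : (ph e).ker ≤ Subgroup.center P := by
  rw [ker_comp e]
  exact H915.LD.scalars_le_center (P := P)

lemma ph_scalar {z : P} (hz : z ∈ (ph e).ker) : ∃ c : F, c ≠ 0 ∧ ((z : GL ι F) : Matrix ι ι F) = c • 1 := by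
  rw [ker_comp e, Subgroup.mem_subgroupOf, mem_scalars_iff] at hz
  obtain ⟨c, hc⟩ := hz
  exact ⟨c, c.ne_zero, hc⟩

variable (hC : Core P)

include hC in
lemma ph_pow {z : P} (hz : z ∈ (ph e).ker) : z ^ Fintype.card ι = 1 := by
  rw [ker_comp e] at hz
  exact hC.pow_card hz

lemma smul_ext [Nonempty ι] {c d : F} (h : c • (1 : Matrix ι ι F) = d • 1) : c = d := by
  obtain ⟨i⟩ := ‹Nonempty ι›
  have := congrFun (congrFun h i) i
  simpa using this

include hC in
/-- degree `2 mod 4` -/
theorem two_of (hn : Fintype.card ι % 4 = 2) : Two (ph e) where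
  surj := ph_surj e
  cen := ph_cen e
  four := by
    intro z hz h4
    have h1 := ph_pow e hC hz
    have h2 : Fintype.card ι = 4 * (Fintype.card ι / 4) + 2 := by omega
    rw [h2, pow_add, pow_mul, h4, one_pow, one_mul] at h1
    exact h1
  uniq := by
    intro z hz z' hz' h2 h2' h1 h1'
    have hne := hC.nonempty
    have key : ∀ z : P, z ∈ (ph e).ker → z ^ 2 = 1 → z ≠ 1 → ((z : GL ι F) : Matrix ι ι F) = (-1 : F) • 1 := by
      intro z hz h2 h1
      obtain ⟨c, -, hc⟩ := ph_scalar e hz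
      have h3 : (((z ^ 2 : P) : GL ι F) : Matrix ι ι F) = (c ^ 2) • 1 := by
        rw [Subgroup.coe_pow, Units.val_pow_eq_pow_val, hc, smul_pow, one_pow]
      rw [h2] at h3
      have h4 : (c ^ 2 : F) = 1 := by
        apply smul_ext (ι := ι)
        rw [← h3, one_smul]
        rfl
      have h5 : (c - 1) * (c + 1) = 0 := by linear_combination h4
      rcases mul_eq_zero.1 h5 with h6 | h6
      · exfalso
        apply h1
        apply Subtype.ext
        apply Units.ext
        rw [hc, sub_eq_zero.1 h6, one_smul]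
        rfl
      · rw [hc, eq_neg_of_add_eq_zero_left h6]
    apply Subtype.ext
    apply Units.ext
    rw [key z hz h2 h1, key z' hz' h2' h1']

/-- elements with the same image -/
lemma tr_twist {x g : P} (h : ph e x = ph e g) : ∃ z ∈ (ph e).ker, ∃ c : F, c ≠ 0 ∧
    ((z : GL ι F) : Matrix ι ι F) = c • 1 ∧ tr (x : GL ι F) = c * tr (g : GL ι F) ∧
      tr (x⁻¹ : GL ι F) = c⁻¹ * tr (g⁻¹ : GL ι F) := by
  have hz : x * g⁻¹ ∈ (ph e).ker := by rw [MonoidHom.mem_ker, map_mul, map_inv, h, mul_inv_cancel]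
  obtain ⟨c, hc0, hc⟩ := ph_scalar e hz
  have h1 : ((x : GL ι F) : Matrix ι ι F) = c • ((g : GL ι F) : Matrix ι ι F) := by
    have h2 : ((x : GL ι F) : Matrix ι ι F) = (((x * g⁻¹ : P) : GL ι F) : Matrix ι ι F) * ((g : GL ι F) : Matrix ι ι F) := by
      rw [← Units.val_mul, ← Subgroup.coe_mul, inv_mul_cancel_right]
    rw [h2, hc, smul_mul_assoc, one_mul]
  have h3 : (((x : GL ι F)⁻¹ : GL ι F) : Matrix ι ι F) = c⁻¹ • (((g : GL ι F)⁻¹ : GL ι F) : Matrix ι ι F) := by
    have e1 : (x : GL ι F) * (c⁻¹ • (((g : GL ι F)⁻¹ : GL ι F) : Matrix ι ι F)) = 1 := by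
      rw [h1, smul_mul_smul_comm, ← Units.val_mul, mul_inv_cancel, mul_inv_cancel₀ hc0, Units.val_one, one_smul]
    calc (((x : GL ι F)⁻¹ : GL ι F) : Matrix ι ι F)
        = (((x : GL ι F)⁻¹ : GL ι F) : Matrix ι ι F) * ((x : GL ι F) * (c⁻¹ • (((g : GL ι F)⁻¹ : GL ι F) : Matrix ι ι F))) := by
          rw [e1, mul_one]
      _ = _ := by rw [← mul_assoc, ← Units.val_mul, inv_mul_cancel, Units.val_one, one_mul]
  exact ⟨_, hz, c, hc0, hc, tr_smul h1, tr_smul h3⟩

section rep

/-- the representation over the algebraic closure -/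
noncomputable def rep (P : Subgroup (GL ι F)) : P →* Module.End (AlgebraicClosure F) (ι → AlgebraicClosure F) :=
  ((Matrix.toLinAlgEquiv' (R := AlgebraicClosure F) (n := ι)).toAlgHom :
      Matrix ι ι (AlgebraicClosure F) →* Module.End (AlgebraicClosure F) (ι → AlgebraicClosure F)).comp
    ((Units.coeHom _).comp ((Matrix.GeneralLinearGroup.map (algebraMap F (AlgebraicClosure F))).comp P.subtype))

lemma rep_apply (g : P) : rep P g = Matrix.toLin' (((g : GL ι F) : Matrix ι ι F).map (algebraMap F (AlgebraicClosure F))) := rfl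

lemma rep_injective : Function.Injective (rep P) := by
  intro a b hab
  rw [rep_apply, rep_apply] at hab
  have h1 := Matrix.toLin'.injective hab
  apply Subtype.ext
  apply Units.ext
  ext k l
  exact (algebraMap F (AlgebraicClosure F)).injective (congrFun (congrFun h1 k) l)

lemma trace_rep (g : P) : LinearMap.trace _ _ (rep P g) = algebraMap F (AlgebraicClosure F) (tr (g : GL ι F)) := by
  rw [rep_apply, LinearMap.trace_eq_matrix_trace _ (Pi.basisFun _ _), LinearMap.toMatrix_eq_toMatrix',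
    LinearMap.toMatrix'_toLin']
  unfold tr Matrix.trace
  rw [map_sum]
  rfl

lemma rep_scalar {z : P} (hz : z ∈ (ph e).ker) : ∃ c : AlgebraicClosure F, rep P z = c • 1 := by
  obtain ⟨c, -, hc⟩ := ph_scalar e hz
  refine ⟨algebraMap F _ c, ?_⟩
  rw [rep_apply, hc]
  have h1 : (c • (1 : Matrix ι ι F)).map (algebraMap F (AlgebraicClosure F)) =
      algebraMap F (AlgebraicClosure F) c • (1 : Matrix ι ι (AlgebraicClosure F)) := by
    ext i j
    by_cases hij : i = j
    · subst hij; simp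
    · simp [hij]
  rw [h1, map_smul, Matrix.toLin'_one]
  rfl

lemma two_ne (p : ℕ) [hp : Fact p.Prime] [CharP F p] (hp2 : p ≠ 2) (R : Type*) [Field R] [Algebra F R] : (2 : R) ≠ 0 := by
  intro h0
  have h1 : (2 : F) = 0 := by
    apply (algebraMap F R).injective
    rw [map_zero, map_ofNat, h0]
  have h2 : ((2 : ℕ) : F) = 0 := by exact_mod_cast h1
  rw [CharP.cast_eq_zero_iff F p] at h2
  exact hp2 ((Nat.prime_dvd_prime_iff_eq hp.out Nat.prime_two).1 h2)

end rep

section traces

variable [Finite F] (p : ℕ) [hp : Fact p.Prime] [CharP F p]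

omit [Fintype K] in
/-- real elements of order dividing `m` when `p ≡ ±1 mod m` -/
lemma tr_real {g : P} {m : ℕ} (hm : g ^ m = 1) (hreal : IsConj g g⁻¹) (hpm : p % m = 1 ∨ p % m = m - 1) (hm1 : 1 < m) :
    tr (g : GL ι F) ^ p = tr (g : GL ι F) := by
  have h1 := tr_pow_char p (g : GL ι F) 1
  rw [pow_one] at h1
  rw [← h1]
  have h2 : g ^ p = g ^ (p % m) := by
    conv_lhs => rw [← Nat.div_add_mod p m, pow_add, pow_mul, hm, one_pow, one_mul]
  have h3 : ((g : GL ι F)) ^ p = ((g ^ p : P) : GL ι F) := rfl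
  rw [h3, h2]
  rcases hpm with h | h
  · rw [h, pow_one]
  · rw [h]
    have h4 : g ^ (m - 1) = g⁻¹ := by
      rw [eq_inv_iff_mul_eq_one, ← pow_succ, Nat.sub_add_cancel hm1.le, hm]
    rw [h4]
    exact (tr_of_isConj hreal).symm

lemma tr_inv_real {g : P} (hreal : IsConj g g⁻¹) : tr ((g : GL ι F)⁻¹) = tr (g : GL ι F) := by
  have := tr_of_isConj hreal
  exact this.symm

end traces

end Cfsg.Agent.H906.T14
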