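import Cfsg.Agent.H906.T14Odd
import Cfsg.Agent.H906.WtTrace

/-!
# The lifted subgroup `2⁴` and its weights
-/

set_option autoImplicit false
set_option linter.unusedSectionVars false

namespace Cfsg.Agent.H906.T14

open Cfsg Cfsg.Geo SL3Par L34 Wt
open scoped MatrixGroups commutatorElement Matrix

section explicit

variable {K : Type*} [Field K] [Fintype K]

/-- element of order five -/
lemma exists_x5 (hK : Fintype.card K = 4) {w : K} (hw : w ^ 2 + w + 1 = 0) :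
    ∃ x : X K, x ∈ Pa K ∧ pj K x ^ 5 = 1 ∧ pj K x ≠ 1 ∧ (∀ b c, x * uni 0 b c * x⁻¹ = uni 0 (c + w * b) b) ∧
      ∀ t : Matrix.ProjectiveSpecialLinearGroup (Fin 3) K, t ^ 5 = 1 → ∃ g, ∃ j : ℤ, pj K x ^ j = g * t * g⁻¹ := by
  have := fin_T (K := K)
  have hf : Fact (Nat.Prime 5) := ⟨Nat.prime_five⟩
  have k2 := two_zero hK
  obtain ⟨x, hx⟩ : ∃ x : X K, x.1 = !![0, 1, 0; 1, w, 0; 0, 0, 1] :=
    ⟨⟨!![0, 1, 0; 1, w, 0; 0, 0, 1], by
      rw [Matrix.det_fin_three]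
      simp
      linear_combination -k2⟩, rfl⟩
  have h5 : x ^ 5 = 1 := by
    apply Subtype.ext
    rw [sl_pow_val]
    refine (pow_of_rel hK (cay hK x)).2.2.1 ?_ ?_
    · rw [hx, Matrix.adjugate_fin_three, Matrix.trace_fin_three, Matrix.trace_fin_three]
      simp
      linear_combination k2
    · rw [hx, Matrix.trace_fin_three]
      simp
      linear_combination hw + (w + 1) * k2
  have hx1 : pj K x ≠ 1 := by
    intro h0
    have h1 : x ∈ Subgroup.center (X K) := (QuotientGroup.eq_one_iff x).1 h0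
    obtain ⟨r, -, hr⟩ := Matrix.SpecialLinearGroup.mem_center_iff.1 h1
    have := congrFun (congrFun hr 0) 1
    rw [hx] at this
    simp at this
  have hord : orderOf (pj K x) = 5 := orderOf_eq_prime (by rw [← map_pow, h5, map_one]) hx1
  refine ⟨x, ⟨by rw [hx]; simp, by rw [hx]; simp⟩, by rw [← map_pow, h5, map_one], hx1, ?_, ?_⟩
  · intro b c
    rw [mul_inv_eq_iff_eq_mul]
    apply ext'
    intro i j
    rw [mul_entry, mul_entry, hx]
    fin_cases i <;> fin_cases j <;> simp [uni]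
  · intro t ht
    obtain ⟨g, hg⟩ := conj_into 5 (Subgroup.zpowers (pj K x)) (k := 1) (by rw [Nat.card_zpowers, hord, pow_one])
      (m := 4032) (by rw [card_T hK]; norm_num) (by norm_num) (t := t) (j := 1) (by simpa using ht)
    obtain ⟨j, hj⟩ := Subgroup.mem_zpowers_iff.1 hg
    exact ⟨g, j, hj⟩

/-- element of order three normalising both radicals -/
lemma exists_y3 {w : K} (hw : w ^ 2 + w + 1 = 0) :
    ∃ y : X K, y ∈ Pa K ∧ y ∈ Pb K ∧ y ^ 3 = 1 ∧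
      (∀ a b c, y * uni a b c * y⁻¹ = uni (w ^ 2 * a) (w ^ 2 * b) (w * c)) := by
  have hw3 : w ^ 3 = 1 := by linear_combination (w - 1) * hw
  have hw4 : w ^ 4 = w := by linear_combination w * hw3
  obtain ⟨y, hy⟩ : ∃ x : X K, x.1 = !![1, 0, 0; 0, w, 0; 0, 0, w ^ 2] :=
    ⟨⟨!![1, 0, 0; 0, w, 0; 0, 0, w ^ 2], by
      rw [Matrix.det_fin_three]
      simp
      linear_combination hw3⟩, rfl⟩
  have h2 : (y * y).1 = !![1, 0, 0; 0, w ^ 2, 0; 0, 0, w] := by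
    ext k l
    rw [mul_entry, hy]
    fin_cases k <;> fin_cases l <;> simp
    · ring
    · linear_combination hw4
  refine ⟨y, ⟨by rw [hy]; simp, by rw [hy]; simp⟩, ⟨by rw [hy]; simp, by rw [hy]; simp⟩, ?_, ?_⟩
  · rw [pow_succ, pow_two]
    apply ext'
    intro i j
    rw [mul_entry, h2, hy]
    fin_cases i <;> fin_cases j <;> simp
    · linear_combination hw3
    · linear_combination hw3
  · intro a b c
    rw [mul_inv_eq_iff_eq_mul]
    apply ext'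
    intro i j
    rw [mul_entry, mul_entry, hy]
    fin_cases i <;> fin_cases j <;> simp [uni]
    · linear_combination (-a) * hw3
    · linear_combination (-c) * hw3
    · linear_combination (-b * w) * hw3

end explicit

section lifted

variable {K : Type*} [Field K] [Fintype K] {L : Type*} [Group L] [Finite L]
  {φ : L →* Matrix.ProjectiveSpecialLinearGroup (Fin 3) K}

/-- the lift of the radical of `Pa` -/
def Ah (h : Two φ) (hK : Fintype.card K = 4) : Subgroup L where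
  carrier := {g | φ g ∈ (Qa K).map (pj K) ∧ g ^ 2 = 1}
  mul_mem' := by
    rintro g k ⟨hg, hg2⟩ ⟨hk, hk2⟩
    refine ⟨by rw [map_mul]; exact Subgroup.mul_mem _ hg hk, ?_⟩
    have hcomm : φ g * φ k = φ k * φ g := by
      obtain ⟨_, ⟨b, c, rfl⟩, e1⟩ := hg
      obtain ⟨_, ⟨b', c', rfl⟩, e2⟩ := hk
      rw [← e1, ← e2, ← map_mul, ← map_mul, uni_mul, uni_mul]
      congr 2 <;> ring
    have h1 : Commute g k := h.comm_of hK hcomm hg2 hk2
    rw [h1.mul_pow, hg2, hk2, one_mul]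
  one_mem' := ⟨by rw [map_one]; exact Subgroup.one_mem _, one_pow 2⟩
  inv_mem' := by
    rintro g ⟨hg, hg2⟩
    exact ⟨by rw [map_inv]; exact Subgroup.inv_mem _ hg, by rw [inv_pow, hg2, inv_one]⟩

variable (h : Two φ) (hK : Fintype.card K = 4)

lemma mem_Ah {g : L} : g ∈ Ah h hK ↔ φ g ∈ (Qa K).map (pj K) ∧ g ^ 2 = 1 := Iff.rfl

lemma comm_Ah : ∀ a ∈ Ah h hK, ∀ b ∈ Ah h hK, a * b = b * a := by
  rintro g ⟨hg, hg2⟩ k ⟨hk, hk2⟩
  apply h.comm_of hK _ hg2 hk2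
  obtain ⟨_, ⟨b, c, rfl⟩, e1⟩ := hg
  obtain ⟨_, ⟨b', c', rfl⟩, e2⟩ := hk
  rw [← e1, ← e2, ← map_mul, ← map_mul, uni_mul, uni_mul]
  congr 2 <;> ring

lemma nor_Ah {g : L} {x : X K} (hx : x ∈ Pa K) (hg : φ g = pj K x) : Nor (Ah h hK) g := by
  have key : ∀ (g : L) (x : X K), x ∈ Pa K → φ g = pj K x → ∀ a ∈ Ah h hK, g * a * g⁻¹ ∈ Ah h hK := by
    rintro g x hx hg a ⟨⟨u, hu, e1⟩, ha2⟩
    refine ⟨⟨x * u * x⁻¹, ?_, ?_⟩, ?_⟩
    · have := Qa_normal x⁻¹ (inv_mem hx) u hu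
      rwa [inv_inv] at this
    · rw [map_mul, map_mul, map_mul, map_mul, map_inv, map_inv, hg, e1]
    · rw [conj_pow, ha2, mul_one, mul_inv_cancel]
  intro a
  constructor
  · exact key g x hx hg a
  · intro ha
    have := key g⁻¹ x⁻¹ (inv_mem hx) (by rw [map_inv, map_inv, hg]) _ ha
    have e1 : g⁻¹ * (g * a * g⁻¹) * g⁻¹⁻¹ = a := by group
    rwa [e1] at this

lemma lift_Ah (b c : K) : ∃ a ∈ Ah h hK, φ a = pj K (uni 0 b c) := by
  obtain ⟨a, ha, ha2⟩ := h.lift_two hK (pj K (uni 0 b c)) (by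
    rw [← map_pow, pow_two, uni_mul, add_self hK, add_self hK, add_self hK, zero_mul, add_zero, uni_zero, map_one])
  exact ⟨a, ⟨⟨uni 0 b c, ⟨b, c, rfl⟩, ha.symm⟩, ha2⟩, ha⟩

/-- surjectivity of commutation -/
lemma comm_surj {g : L} {x : X K} (hg : φ g = pj K x)
    (hs : ∀ b c : K, ∃ b' c' : K, x * uni 0 b' c' * x⁻¹ * (uni 0 b' c')⁻¹ = uni 0 b c) :
    ∀ a ∈ Ah h hK, ∃ z ∈ φ.ker, ∃ b ∈ Ah h hK, a = z * (g * b * g⁻¹ * b⁻¹) := by
  rintro a ⟨⟨_, ⟨b, c, rfl⟩, e1⟩, ha2⟩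
  obtain ⟨b', c', hbc⟩ := hs b c
  obtain ⟨u, hu, hu2⟩ := lift_Ah h hK b' c'
  refine ⟨a * (g * u * g⁻¹ * u⁻¹)⁻¹, ?_, u, hu, by group⟩
  rw [MonoidHom.mem_ker, map_mul, map_inv, map_mul, map_mul, map_mul, map_inv, map_inv, hu2, hg, ← e1, ← hbc,
    map_mul, map_mul, map_mul, map_inv, map_inv]
  group

lemma card_Ah {Ω : Type*} [Field Ω] (h2 : (2 : Ω) ≠ 0) : (Nat.card (Ah h hK) : Ω) ≠ 0 := by
  have hf : Fact (Nat.Prime 2) := ⟨Nat.prime_two⟩
  have hp : IsPGroup 2 (Ah h hK) := by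
    intro a
    refine ⟨1, ?_⟩
    rw [pow_one]
    exact Subtype.ext a.2.2
  obtain ⟨k, hk⟩ := hp.exists_card_eq
  rw [hk, Nat.cast_pow]
  exact pow_ne_zero _ (by exact_mod_cast h2)

variable {Ω V : Type*} [Field Ω] [AddCommGroup V] [Module Ω V] (ρ : L →* Module.End Ω V)

lemma not_scalar (hρ : Function.Injective ρ) : ¬ ∀ a ∈ Ah h hK, ∃ c : Ω, ρ a = c • 1 := by
  intro hall
  obtain ⟨w, hw⟩ := exists_w hK
  obtain ⟨y, -, -, -, hy⟩ := exists_y3 hw
  obtain ⟨a, ha, ha1⟩ := lift_Ah h hK 0 1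
  obtain ⟨c, hc⟩ := hall a ha
  obtain ⟨g, hg⟩ := h.surj (pj K y)
  have h1 : g * a = a * g := by
    apply hρ
    rw [map_mul, map_mul, hc, mul_smul_comm, smul_mul_assoc, mul_one, one_mul]
  have h2 : pj K (y * uni 0 0 1 * y⁻¹) = pj K (uni 0 0 1) := by
    rw [map_mul, map_mul, map_inv, ← hg, ← ha1, mul_inv_eq_iff_eq_mul, ← map_mul, ← map_mul, h1]
  rw [hy] at h2
  have h3 := congrFun (congrFun (congrArg Subtype.val (pj_uni_inj h2)) 0) 2
  simp [uni] at h3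
  subst h3
  have k2 := two_zero hK
  have : (1 : K) = 0 := by linear_combination hw - k2
  exact one_ne_zero this

end lifted

end Cfsg.Agent.H906.T14
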