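import Cfsg.Agent.H906.T14E

/-!
# Traces of elements of order five
-/

set_option autoImplicit false
set_option linter.unusedSectionVars false

namespace Cfsg.Agent.H906.T14

open Cfsg Cfsg.Geo SL3Par L34 Wt
open scoped MatrixGroups commutatorElement Matrix

section lifted

variable {K : Type*} [Field K] [Fintype K] {L : Type*} [Group L] [Finite L]
  {φ : L →* Matrix.ProjectiveSpecialLinearGroup (Fin 3) K} (h : Two φ) (hK : Fintype.card K = 4)
  {Ω V : Type*} [Field Ω] [IsAlgClosed Ω] [AddCommGroup V] [Module Ω V] [FiniteDimensional Ω V]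
  (ρ : L →* Module.End Ω V)

lemma finrank_ne_top (hρ : Function.Injective ρ) (χ : Ah h hK →* Ωˣ) :
    Module.finrank Ω (W (rs ρ (Ah h hK)) χ) ≠ Module.finrank Ω V := by
  intro h0
  have h1 := Submodule.eq_top_of_finrank_eq h0
  apply not_scalar h hK ρ hρ
  intro a ha
  refine ⟨χ ⟨a, ha⟩, LinearMap.ext fun v => ?_⟩
  have hv : v ∈ W (rs ρ (Ah h hK)) χ := by rw [h1]; trivial
  exact mem_W.1 hv ⟨a, ha⟩

/-- data for the element of order five -/
lemma five_fixed (hZ : ∀ z ∈ φ.ker, ∃ c : Ω, ρ z = c • 1) (h2 : (2 : Ω) ≠ 0)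
    {w : K} (hw : w ^ 2 + w + 1 = 0) {x : X K} (hxP : x ∈ Pa K) (hx5 : pj K x ^ 5 = 1)
    (hx : ∀ b c, x * uni 0 b c * x⁻¹ = uni 0 (c + w * b) b) {g : L} (hg : φ g = pj K x) :
    ∃ χ₀ : Ah h hK →* Ωˣ, sg Ω (nor_Ah h hK hxP hg) χ₀ = χ₀ ∧
      (∀ χ, sg Ω (nor_Ah h hK hxP hg) χ = χ → χ ≠ χ₀ → W (rs ρ (Ah h hK)) χ = ⊥) ∧
      ∃ k : ℕ, Module.finrank Ω V = Module.finrank Ω (W (rs ρ (Ah h hK)) χ₀) + 5 * k := by
  apply Wt.exists_fixed ρ (comm_Ah h hK) (card_Ah h hK h2) hZ (nor_Ah h hK hxP hg) _ Nat.prime_five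
  · intro a _
    exact (h.comm (z := g ^ 5) (by rw [MonoidHom.mem_ker, map_pow, hg, hx5]) a)
  · apply comm_surj h hK hg
    intro b c
    have k2 := two_zero hK
    -- `c' (w) = b - (w+1) c`, `b' = c' + c`
    have hw0 : w ≠ 0 := by
      rintro rfl
      norm_num at hw
    obtain ⟨u, hu⟩ : ∃ u, w * u = b - (w + 1) * c := ⟨(b - (w + 1) * c) / w, by field_simp⟩
    refine ⟨u + c, u, ?_⟩
    rw [hx, uni_inv, uni_mul]
    congr 1
    · ring
    · linear_combination hu - c * k2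
    · ring

lemma three_fixed (hZ : ∀ z ∈ φ.ker, ∃ c : Ω, ρ z = c • 1) (h2 : (2 : Ω) ≠ 0)
    {w : K} (hw : w ^ 2 + w + 1 = 0) {y : X K} (hyP : y ∈ Pa K) (hy3 : y ^ 3 = 1)
    (hy : ∀ a b c, y * uni a b c * y⁻¹ = uni (w ^ 2 * a) (w ^ 2 * b) (w * c)) {g : L} (hg : φ g = pj K y) :
    ∃ χ₀ : Ah h hK →* Ωˣ, sg Ω (nor_Ah h hK hyP hg) χ₀ = χ₀ ∧
      (∀ χ, sg Ω (nor_Ah h hK hyP hg) χ = χ → χ ≠ χ₀ → W (rs ρ (Ah h hK)) χ = ⊥) ∧
      ∃ k : ℕ, Module.finrank Ω V = Module.finrank Ω (W (rs ρ (Ah h hK)) χ₀) + 3 * k := by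
  apply Wt.exists_fixed ρ (comm_Ah h hK) (card_Ah h hK h2) hZ (nor_Ah h hK hyP hg) _ Nat.prime_three
  · intro a _
    exact (h.comm (z := g ^ 3) (by rw [MonoidHom.mem_ker, map_pow, hg, ← map_pow, hy3, map_one]) a)
  · apply comm_surj h hK hg
    intro b c
    have k2 := two_zero hK
    refine ⟨w ^ 2 * b, w * c, ?_⟩
    rw [hy, uni_inv, uni_mul]
    have hw3 : w ^ 3 = 1 := by linear_combination (w - 1) * hw
    congr 1
    · ring
    · linear_combination (b * w) * hw3 + b * hw - (b * w ^ 2) * k2 - b * k2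
    · linear_combination c * hw - c * w * k2 - c * k2

lemma sum_le (h2 : (2 : Ω) ≠ 0) (S : Finset (Ah h hK →* Ωˣ)) :
    ∑ χ ∈ S, Module.finrank Ω (W (rs ρ (Ah h hK)) χ) ≤ Module.finrank Ω V := by
  classical
  have hcomm' : ∀ a b : Ah h hK, rs ρ (Ah h hK) a * rs ρ (Ah h hK) b = rs ρ (Ah h hK) b * rs ρ (Ah h hK) a := by
    intro a b
    change ρ a.1 * ρ b.1 = ρ b.1 * ρ a.1
    rw [← map_mul, comm_Ah h hK a.1 a.2 b.1 b.2, map_mul]
  have hfin := finite_chars (K := Ω) (Ah h hK)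
  have : Fintype (Ah h hK →* Ωˣ) := Fintype.ofFinite _
  rw [← sum_finrank hcomm' (card_Ah h hK h2)]
  exact Finset.sum_le_sum_of_subset (Finset.subset_univ S)

lemma perm_fix {X : Type*} (σ : Equiv.Perm X) {r : ℕ} (hr : σ ^ r = 1) {k m : ℕ} (hkm : k * m % r = 1 % r) {x : X}
    (hx : (σ ^ k) x = x) : σ x = x := by
  have h1 : (σ ^ (k * m)) x = x := by
    rw [pow_mul]
    clear hkm
    induction m with
    | zero => simp
    | succ m ih => rw [pow_succ, Equiv.Perm.mul_apply, hx, ih]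
  have h2 : σ ^ (k * m) = σ ^ 1 := by
    rw [← Nat.div_add_mod (k * m) r, pow_add, pow_mul, hr, one_pow, one_mul, hkm]
    conv_rhs => rw [← Nat.div_add_mod 1 r, pow_add, pow_mul, hr, one_pow, one_mul]
  rw [h2, pow_one] at h1
  exact h1

/-- degree ten: the element of order five has no fixed weight -/
lemma ten_fixed (hρ : Function.Injective ρ) (hZ : ∀ z ∈ φ.ker, ∃ c : Ω, ρ z = c • 1) (h2 : (2 : Ω) ≠ 0)
    (hd : Module.finrank Ω V = 10)
    {w : K} (hw : w ^ 2 + w + 1 = 0) {x : X K} (hxP : x ∈ Pa K) (hx5 : pj K x ^ 5 = 1)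
    (hx : ∀ b c, x * uni 0 b c * x⁻¹ = uni 0 (c + w * b) b) {g : L} (hg : φ g = pj K x)
    {χ : Ah h hK →* Ωˣ} (hχ : sg Ω (nor_Ah h hK hxP hg) χ = χ) : W (rs ρ (Ah h hK)) χ = ⊥ := by
  classical
  obtain ⟨χ₀, h1, h3, k, hk⟩ := five_fixed h hK ρ hZ h2 hw hxP hx5 hx hg
  obtain ⟨y, hyP, -, hy3, hy⟩ := exists_y3 (K := K) hw
  obtain ⟨g', hg'⟩ := h.surj (pj K y)
  obtain ⟨ψ₀, q1, q3, l, hl⟩ := three_fixed h hK ρ hZ h2 hw hyP hy3 hy hg'
  by_cases hne : χ = χ₀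
  swap
  · exact h3 χ hχ hne
  subst hne
  by_contra hW
  have hpos : Module.finrank Ω (W (rs ρ (Ah h hK)) χ) ≠ 0 := fun h0 => hW (Submodule.finrank_eq_zero.1 h0)
  have hne := finrank_ne_top h hK ρ hρ χ
  have h5 : Module.finrank Ω (W (rs ρ (Ah h hK)) χ) = 5 := by
    rw [hd] at hk hne
    omega
  set τ := sg Ω (nor_Ah h hK hyP hg') with hτ
  have hτ3 : τ ^ 3 = 1 := by
    rw [hτ, ← sg_pow _ 3 ((nor_Ah h hK hyP hg').pow 3)]
    exact sg_eq_one _ (fun a _ => h.comm (z := g' ^ 3) (by rw [MonoidHom.mem_ker, map_pow, hg', ← map_pow, hy3, map_one]) a)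
  by_cases hfix : τ χ = χ
  · have h6 : χ = ψ₀ := by
      by_contra h0
      exact hW (q3 χ hfix h0)
    rw [← h6, h5, hd] at hl
    omega
  · have d2 : τ (τ χ) ≠ χ := by
      intro h0
      apply hfix
      exact perm_fix τ hτ3 (k := 2) (m := 2) (by norm_num) (by rw [pow_two, Equiv.Perm.mul_apply, h0])
    have d3 : τ (τ χ) ≠ τ χ := fun h0 => hfix (τ.injective h0)
    have h6 := sum_le h hK ρ h2 {χ, τ χ, τ (τ χ)}
    rw [Finset.sum_insert (by simp [Ne.symm hfix, d2.symm]), Finset.sum_insert (by simp [d3.symm]),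
      Finset.sum_singleton, hτ, finrank_sg, finrank_sg, finrank_sg, h5, hd] at h6
    omega

/-- degree six: the element of order five has one fixed weight of multiplicity one -/
lemma six_fixed (hρ : Function.Injective ρ) (hZ : ∀ z ∈ φ.ker, ∃ c : Ω, ρ z = c • 1) (h2 : (2 : Ω) ≠ 0)
    (hd : Module.finrank Ω V = 6)
    {w : K} (hw : w ^ 2 + w + 1 = 0) {x : X K} (hxP : x ∈ Pa K) (hx5 : pj K x ^ 5 = 1)
    (hx : ∀ b c, x * uni 0 b c * x⁻¹ = uni 0 (c + w * b) b) {g : L} (hg : φ g = pj K x) :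
    ∃ χ₀ : Ah h hK →* Ωˣ, sg Ω (nor_Ah h hK hxP hg) χ₀ = χ₀ ∧
      (∀ χ, sg Ω (nor_Ah h hK hxP hg) χ = χ → χ ≠ χ₀ → W (rs ρ (Ah h hK)) χ = ⊥) ∧
      Module.finrank Ω (W (rs ρ (Ah h hK)) χ₀) = 1 := by
  obtain ⟨χ₀, h1, h3, k, hk⟩ := five_fixed h hK ρ hZ h2 hw hxP hx5 hx hg
  refine ⟨χ₀, h1, h3, ?_⟩
  have hne := finrank_ne_top h hK ρ hρ χ₀
  rw [hd] at hk hne
  omega

end lifted

section traces

variable {K : Type*} [Field K] [Fintype K] {L : Type*} [Group L] [Finite L]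
  {φ : L →* Matrix.ProjectiveSpecialLinearGroup (Fin 3) K} (h : Two φ) (hK : Fintype.card K = 4)
  {Ω V : Type*} [Field Ω] [IsAlgClosed Ω] [AddCommGroup V] [Module Ω V] [FiniteDimensional Ω V]
  (ρ : L →* Module.End Ω V)

include h hK

lemma trace_conj' (s g : L) : LinearMap.trace Ω V (ρ (s * g * s⁻¹)) = LinearMap.trace Ω V (ρ g) := by
  rw [map_mul, LinearMap.trace_mul_comm, ← map_mul]
  congr 2
  group

/-- reduction to the powers of one element -/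
lemma five_reduce (hcop : (Nat.card φ.ker).Coprime 5) {x : X K} (hx5 : pj K x ^ 5 = 1)
    (hx1 : ∀ t : Matrix.ProjectiveSpecialLinearGroup (Fin 3) K, t ^ 5 = 1 → ∃ g, ∃ j : ℤ, pj K x ^ j = g * t * g⁻¹)
    {y : L} (hy : φ y = pj K x) (hy5 : y ^ 5 = 1) {g : L} (hg5 : g ^ 5 = 1) (hg1 : φ g ≠ 1) :
    ∃ k : ℕ, (k = 1 ∨ k = 2 ∨ k = 3 ∨ k = 4) ∧ LinearMap.trace Ω V (ρ g) = LinearMap.trace Ω V (ρ (y ^ k)) := by
  obtain ⟨s, j, hj⟩ := hx1 (φ g) (by rw [← map_pow, hg5, map_one])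
  obtain ⟨s, rfl⟩ := h.surj s
  have c5 : ∀ x : L, x ^ 5 = 1 → (Nat.card φ.ker).Coprime (orderOf x) := fun x hx =>
    Nat.Coprime.coprime_dvd_right (orderOf_dvd_of_pow_eq_one hx) hcop
  have hjk : pj K x ^ (j % 5).toNat = pj K x ^ j := by
    have h0 : 0 ≤ j % 5 := Int.emod_nonneg _ (by norm_num)
    rw [← zpow_natCast, Int.toNat_of_nonneg h0]
    conv_rhs => rw [← Int.emod_add_mul_ediv j 5, zpow_add, zpow_mul]
    have h1 : pj K x ^ (5 : ℤ) = 1 := by exact_mod_cast hx5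
    rw [h1, one_zpow, mul_one]
  have hlt : (j % 5).toNat < 5 := by
    have := Int.emod_lt_of_pos j (b := 5) (by norm_num)
    omega
  set k := (j % 5).toNat with hk
  have heq : s * g * s⁻¹ = y ^ k := by
    apply H908.conj_lift h.cen _ (c5 g hg5) (c5 _ (by rw [← pow_mul, mul_comm, pow_mul, hy5, one_pow]))
    rw [map_mul, map_mul, map_inv, map_pow, hy, hjk, hj]
  refine ⟨k, ?_, ?_⟩
  · have h0 : k ≠ 0 := by
      intro h0
      rw [h0, pow_zero] at heq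
      apply hg1
      have : g = s⁻¹ * (s * g * s⁻¹) * s := by group
      rw [this, heq, mul_one, inv_mul_cancel, map_one]
    omega
  · rw [← heq, trace_conj' h hK]

theorem five_trace_ten (hρ : Function.Injective ρ) (hZ : ∀ z ∈ φ.ker, ∃ c : Ω, ρ z = c • 1) (h2 : (2 : Ω) ≠ 0)
    (hcop : (Nat.card φ.ker).Coprime 5) (hd : Module.finrank Ω V = 10) {g : L} (hg5 : g ^ 5 = 1) (hg1 : φ g ≠ 1) :
    LinearMap.trace Ω V (ρ g) = 0 := by
  obtain ⟨w, hw⟩ := exists_w hK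
  obtain ⟨x, hxP, hx5, hx1, hx, hconj⟩ := exists_x5 hK hw
  obtain ⟨y, hy, hy5, -⟩ := five_part h.surj h.cen hcop hK (pj K x) hx5
  obtain ⟨k, hk, htr⟩ := five_reduce h hK ρ hcop hx5 hconj hy hy5 hg5 hg1
  rw [htr]
  have hn := nor_Ah h hK hxP hy
  apply trace_sg_zero ρ (comm_Ah h hK) (card_Ah h hK h2) (hn.pow k)
  intro χ hχ
  have h5 : sg Ω hn ^ 5 = 1 := by
    rw [← sg_pow hn 5 (hn.pow 5)]
    exact sg_eq_one _ (fun a _ => by rw [hy5, one_mul, mul_one])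
  rw [sg_pow hn k] at hχ
  have hfix : sg Ω hn χ = χ := by
    rcases hk with rfl | rfl | rfl | rfl
    · exact perm_fix _ h5 (k := 1) (m := 1) (by norm_num) hχ
    · exact perm_fix _ h5 (k := 2) (m := 3) (by norm_num) hχ
    · exact perm_fix _ h5 (k := 3) (m := 2) (by norm_num) hχ
    · exact perm_fix _ h5 (k := 4) (m := 4) (by norm_num) hχ
  exact ten_fixed h hK ρ hρ hZ h2 hd hw hxP hx5 hx hy hfix

theorem five_trace_six (hρ : Function.Injective ρ) (hZ : ∀ z ∈ φ.ker, ∃ c : Ω, ρ z = c • 1) (h2 : (2 : Ω) ≠ 0)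
    (hcop : (Nat.card φ.ker).Coprime 5) (hd : Module.finrank Ω V = 6) {g : L} (hg5 : g ^ 5 = 1) (hg1 : φ g ≠ 1) :
    LinearMap.trace Ω V (ρ g) = 1 := by
  obtain ⟨w, hw⟩ := exists_w hK
  obtain ⟨x, hxP, hx5, hx1, hx, hconj⟩ := exists_x5 hK hw
  obtain ⟨y, hy, hy5, hyc⟩ := five_part h.surj h.cen hcop hK (pj K x) hx5
  have hn := nor_Ah h hK hxP hy
  obtain ⟨χ₀, h1, h3, h4⟩ := six_fixed h hK ρ hρ hZ h2 hd hw hxP hx5 hx hy
  have h5 : sg Ω hn ^ 5 = 1 := by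
    rw [← sg_pow hn 5 (hn.pow 5)]
    exact sg_eq_one _ (fun a _ => by rw [hy5, one_mul, mul_one])
  obtain ⟨v, hv, hv0⟩ := (Submodule.ne_bot_iff _).1 (show W (rs ρ (Ah h hK)) χ₀ ≠ ⊥ by
    intro h0
    rw [h0, finrank_bot] at h4
    exact zero_ne_one h4)
  -- the eigenvalue
  obtain ⟨c, hc, -⟩ := trace_sg_one ρ (comm_Ah h hK) (card_Ah h hK h2) hn h1 h3 h4
  have hcv : ∀ k : ℕ, ρ (y ^ k) v = c ^ k • v := by
    intro k
    induction k with
    | zero => simp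
    | succ k ih =>
      rw [pow_succ, map_mul, Module.End.mul_apply, hc v hv, map_smul, ih, smul_smul]
      congr 1
      ring
  have hc5 : c ^ 5 = 1 := by
    have e1 := hcv 5
    rw [hy5, map_one, Module.End.one_apply] at e1
    have e2 : (c ^ 5 - 1) • v = 0 := by rw [sub_smul, one_smul, ← e1, sub_self]
    exact sub_eq_zero.1 ((smul_eq_zero.1 e2).resolve_right hv0)
  have key : ∀ k : ℕ, (k = 1 ∨ k = 2 ∨ k = 3 ∨ k = 4) → LinearMap.trace Ω V (ρ (y ^ k)) = c ^ k := by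
    intro k hk
    have hs : sg Ω (hn.pow k) χ₀ = χ₀ := by
      rw [sg_pow hn k]
      clear hk
      induction k with
      | zero => simp
      | succ k ih => rw [pow_succ, Equiv.Perm.mul_apply, h1, ih]
    have hfix : ∀ χ, sg Ω (hn.pow k) χ = χ → sg Ω hn χ = χ := by
      intro χ hχ
      rw [sg_pow hn k] at hχ
      rcases hk with rfl | rfl | rfl | rfl
      · exact perm_fix _ h5 (k := 1) (m := 1) (by norm_num) hχ
      · exact perm_fix _ h5 (k := 2) (m := 3) (by norm_num) hχ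
      · exact perm_fix _ h5 (k := 3) (m := 2) (by norm_num) hχ
      · exact perm_fix _ h5 (k := 4) (m := 4) (by norm_num) hχ
    obtain ⟨d, hd1, hd2⟩ := trace_sg_one ρ (comm_Ah h hK) (card_Ah h hK h2) (hn.pow k) hs
      (fun χ hχ hne => h3 χ (hfix χ hχ) hne) h4
    rw [hd2]
    have e1 := hd1 v hv
    rw [hcv k] at e1
    have e2 : (d - c ^ k) • v = 0 := by rw [sub_smul, ← e1, sub_self]
    exact sub_eq_zero.1 ((smul_eq_zero.1 e2).resolve_right hv0)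
  have hc1 : c = 1 := by
    obtain ⟨s, hs⟩ := isConj_iff.1 hyc
    have e1 := key 1 (by simp)
    have e2 := key 4 (by simp)
    rw [pow_one, pow_one] at e1
    have e3 : y ^ 4 = y⁻¹ := by rw [eq_inv_iff_mul_eq_one, ← pow_succ, hy5]
    rw [e3, ← hs, trace_conj' h hK, e1] at e2
    have hc0 : c ≠ 0 := by
      rintro rfl
      norm_num at hc5
    have e4 : c * (c ^ 3 - 1) = 0 := by linear_combination -e2
    have e5 : c ^ 3 = 1 := sub_eq_zero.1 ((mul_eq_zero.1 e4).resolve_left hc0)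
    linear_combination (c ^ 3 + 1) * e5 - c * hc5
  obtain ⟨k, hk, htr⟩ := five_reduce h hK ρ hcop hx5 hconj hy hy5 hg5 hg1
  rw [htr, key k hk, hc1, one_pow]

end traces

end Cfsg.Agent.H906.T14
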