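import Cfsg.Agent.H906.T14F

/-!
# The Borel subgroup of a cover of `PSL_3(4)` is irreducible in degree six
-/

set_option autoImplicit false
set_option linter.unusedSectionVars false

namespace Cfsg.Agent.H906.T14

open Cfsg Cfsg.Geo SL3Par L34 Wt
open scoped MatrixGroups commutatorElement Matrix

/-- a permutation of a three-element set -/
lemma three_cycle {X : Type*} (y s : Equiv.Perm X) (hs2 : s * s = 1) (hcomm : s * (y * s * y⁻¹) = (y * s * y⁻¹) * s)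
    {c0 c1 c2 : X} (h0 : y c0 = c1) (h1 : y c1 = c2) (h2 : y c2 = c0) (h01 : c0 ≠ c1) (h02 : c0 ≠ c2) (h12 : c1 ≠ c2)
    (s0 : s c0 = c0 ∨ s c0 = c1 ∨ s c0 = c2) (s1 : s c1 = c0 ∨ s c1 = c1 ∨ s c1 = c2)
    (s2 : s c2 = c0 ∨ s c2 = c1 ∨ s c2 = c2) : s c0 = c0 ∧ s c1 = c1 ∧ s c2 = c2 := by
  have i0 : y⁻¹ c1 = c0 := by rw [← h0]; simp
  have i1 : y⁻¹ c2 = c1 := by rw [← h1]; simp
  have i2 : y⁻¹ c0 = c2 := by rw [← h2]; simp
  have sq : ∀ x, s (s x) = x := fun x => by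
    have := congrArg (fun f : Equiv.Perm X => f x) hs2
    exact this
  have cm : ∀ x, s (y (s (y⁻¹ x))) = y (s (y⁻¹ (s x))) := fun x => by
    have := congrArg (fun f : Equiv.Perm X => f x) hcomm
    exact this
  have cm0 := cm c0
  rw [i2] at cm0
  rcases s0 with s0 | s0 | s0
  · rcases s1 with s1 | s1 | s1
    · exfalso
      apply h01
      exact s.injective (by rw [s0, s1])
    · refine ⟨s0, s1, ?_⟩
      rcases s2 with s2 | s2 | s2
      · exact absurd (s.injective (by rw [s0, s2])) h02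
      · exact absurd (s.injective (by rw [s1, s2])) h12
      · exact s2
    · exfalso
      have s2' : s c2 = c1 := by rw [← s1, sq]
      rw [s2', h1, s2', s0, i2, s2', h1] at cm0
      exact h12 cm0
  · exfalso
    have s1' : s c1 = c0 := by rw [← s0, sq]
    have s2' : s c2 = c2 := by
      rcases s2 with s2 | s2 | s2
      · exact absurd (s.injective (by rw [s1', s2])) h12
      · exact absurd (s.injective (by rw [s0, s2])) h02
      · exact s2
    rw [s2', h2, s0, i0, s0, h1] at cm0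
    exact h12 cm0
  · exfalso
    have s2' : s c2 = c0 := by rw [← s0, sq]
    have s1' : s c1 = c1 := by
      rcases s1 with s1 | s1 | s1
      · exact absurd (s.injective (by rw [s2', s1])) h12
      · exact s1
      · exact absurd (s.injective (by rw [s0, s1])) h01
    rw [s2', h0, s1', s0, i1, s1', h1] at cm0
    exact h12 cm0

section lifted

variable {K : Type*} [Field K] [Fintype K] {L : Type*} [Group L] [Finite L]
  {φ : L →* Matrix.ProjectiveSpecialLinearGroup (Fin 3) K} (h : Two φ) (hK : Fintype.card K = 4)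
  {Ω V : Type*} [Field Ω] [IsAlgClosed Ω] [AddCommGroup V] [Module Ω V] [FiniteDimensional Ω V]
  (ρ : L →* Module.End Ω V)

lemma six_le_one (hρ : Function.Injective ρ) (hZ : ∀ z ∈ φ.ker, ∃ c : Ω, ρ z = c • 1) (h2 : (2 : Ω) ≠ 0)
    (hd : Module.finrank Ω V = 6) (χ : Ah h hK →* Ωˣ) : Module.finrank Ω (W (rs ρ (Ah h hK)) χ) ≤ 1 := by
  classical
  obtain ⟨w, hw⟩ := exists_w hK
  obtain ⟨x, hxP, hx5, hx1, hx, -⟩ := exists_x5 hK hw
  obtain ⟨g, hg⟩ := h.surj (pj K x)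
  obtain ⟨χ₀, h1, h3, h4⟩ := six_fixed h hK ρ hρ hZ h2 hd hw hxP hx5 hx hg
  set σ := sg Ω (nor_Ah h hK hxP hg) with hσ
  have h5 : σ ^ 5 = 1 := by
    rw [hσ, ← sg_pow _ 5 ((nor_Ah h hK hxP hg).pow 5)]
    exact sg_eq_one _ (fun a _ => h.comm (z := g ^ 5) (by rw [MonoidHom.mem_ker, map_pow, hg, hx5]) a)
  by_cases hfix : σ χ = χ
  · by_cases hne : χ = χ₀
    · rw [hne, h4]
    · rw [h3 χ hfix hne, finrank_bot]
      exact Nat.zero_le _
  · have hfr : ∀ i : ℕ, Module.finrank Ω (W (rs ρ (Ah h hK)) ((σ ^ i) χ)) = Module.finrank Ω (W (rs ρ (Ah h hK)) χ) := by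
      intro i
      induction i with
      | zero => rfl
      | succ i ih => rw [pow_succ', Equiv.Perm.mul_apply, hσ, finrank_sg, ← hσ, ih]
    have hinj : Set.InjOn (fun i : ℕ => (σ ^ i) χ) (Finset.range 5) := by
      have aux : ∀ i j : ℕ, i < j → j < 5 → (σ ^ i) χ ≠ (σ ^ j) χ := by
        intro i j hij hj h0
        apply hfix
        have h6 : (σ ^ (j - i)) χ = χ := by
          apply (σ ^ i).injective
          rw [← Equiv.Perm.mul_apply, ← pow_add, Nat.add_sub_cancel' hij.le, h0]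
        have h7 : j - i = 1 ∨ j - i = 2 ∨ j - i = 3 ∨ j - i = 4 := by omega
        rcases h7 with h7 | h7 | h7 | h7 <;> rw [h7] at h6
        · exact perm_fix _ h5 (k := 1) (m := 1) (by norm_num) h6
        · exact perm_fix _ h5 (k := 2) (m := 3) (by norm_num) h6
        · exact perm_fix _ h5 (k := 3) (m := 2) (by norm_num) h6
        · exact perm_fix _ h5 (k := 4) (m := 4) (by norm_num) h6
      intro i hi j hj hij
      rw [Finset.coe_range, Set.mem_Iio] at hi hj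
      rcases lt_trichotomy i j with h8 | h8 | h8
      · exact absurd hij (aux i j h8 hj)
      · exact h8
      · exact absurd hij.symm (aux j i h8 hi)
    have h6 := sum_le h hK ρ h2 (insert χ₀ (Finset.image (fun i : ℕ => (σ ^ i) χ) (Finset.range 5)))
    have hnot : χ₀ ∉ Finset.image (fun i : ℕ => (σ ^ i) χ) (Finset.range 5) := by
      intro h0
      obtain ⟨i, -, hi⟩ := Finset.mem_image.1 h0
      apply hfix
      apply (σ ^ i).injective
      rw [← Equiv.Perm.mul_apply, ← pow_succ, pow_succ', Equiv.Perm.mul_apply, hi, h1]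
    rw [Finset.sum_insert hnot, Finset.sum_image hinj, Finset.sum_congr rfl (fun i _ => hfr i), Finset.sum_const,
      Finset.card_range, h4, hd, smul_eq_mul] at h6
    omega

/-- a non-zero invariant subspace contains a weight vector -/
lemma exists_weight (h2 : (2 : Ω) ≠ 0) {W' : Submodule Ω V} (hW' : ∀ a ∈ Ah h hK, ∀ v ∈ W', ρ a v ∈ W') (hne : W' ≠ ⊥) :
    ∃ χ : Ah h hK →* Ωˣ, ∃ v ∈ W (rs ρ (Ah h hK)) χ, v ∈ W' ∧ v ≠ 0 := by
  let ρ' : Ah h hK →* Module.End Ω W' :=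
    { toFun := fun a => (ρ a.1).restrict (hW' a.1 a.2)
      map_one' := by
        ext v
        change ρ 1 v.1 = v.1
        rw [map_one, Module.End.one_apply]
      map_mul' := fun a b => by
        ext v
        change ρ (a.1 * b.1) v.1 = ρ a.1 (ρ b.1 v.1)
        rw [map_mul, Module.End.mul_apply] }
  have hcomm' : ∀ a b : Ah h hK, ρ' a * ρ' b = ρ' b * ρ' a := by
    intro a b
    have e1 : a * b = b * a := Subtype.ext (comm_Ah h hK a.1 a.2 b.1 b.2)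
    rw [← map_mul, ← map_mul, e1]
  have hsup := iSup_W hcomm' (card_Ah h hK h2)
  by_contra hcon
  push Not at hcon
  have hbot : ∀ χ : Ah h hK →* Ωˣ, W ρ' χ = ⊥ := by
    intro χ
    rw [Submodule.eq_bot_iff]
    intro v hv
    refine Subtype.ext (hcon χ v.1 ?_ v.2)
    rw [mem_W] at hv ⊢
    intro a
    exact congrArg Subtype.val (hv a)
  rw [iSup_congr hbot, iSup_bot] at hsup
  apply hne
  rw [Submodule.eq_bot_iff]
  intro v hv
  have h3 : (⟨v, hv⟩ : W') ∈ (⊥ : Submodule Ω W') := by rw [hsup]; trivial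
  exact congrArg Subtype.val ((Submodule.mem_bot Ω).1 h3)

lemma le_of_inter {W₁ W' : Submodule Ω V} (h1 : Module.finrank Ω W₁ ≤ 1) {v : V} (hv : v ∈ W₁) (hv' : v ∈ W') (hv0 : v ≠ 0) :
    W₁ ≤ W' := by
  intro u hu
  have h2 : Module.finrank Ω W₁ = 1 := by
    apply le_antisymm h1
    rw [Nat.one_le_iff_ne_zero]
    intro h0
    rw [Submodule.finrank_eq_zero] at h0
    rw [h0, Submodule.mem_bot] at hv
    exact hv0 hv
  obtain ⟨c, hc⟩ := (finrank_eq_one_iff_of_nonzero' (K := Ω) (V := W₁) ⟨v, hv⟩ (by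
    intro h0
    exact hv0 (congrArg Subtype.val h0))).1 h2 ⟨u, hu⟩
  have h3 : c • v = u := congrArg Subtype.val hc
  rw [← h3]
  exact W'.smul_mem c hv'

include h hK in
/-- the Borel subgroup is irreducible in degree six -/
theorem six_irred (hρ : Function.Injective ρ) (hZ : ∀ z ∈ φ.ker, ∃ c : Ω, ρ z = c • 1) (h2 : (2 : Ω) ≠ 0)
    (hd : Module.finrank Ω V = 6) (W' : Submodule Ω V)
    (hW' : ∀ g : L, φ g ∈ (Pa K ⊓ Pb K).map (pj K) → ∀ v ∈ W', ρ g v ∈ W') : W' = ⊥ ∨ W' = ⊤ := by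
  classical
  obtain ⟨w, hw⟩ := exists_w hK
  have k2 := two_zero hK
  obtain ⟨y, hyP, hyP', hy3, hy⟩ := exists_y3 (K := K) hw
  obtain ⟨g, hg⟩ := h.surj (pj K y)
  have hgB : φ g ∈ (Pa K ⊓ Pb K).map (pj K) := ⟨y, ⟨hyP, hyP'⟩, hg.symm⟩
  -- the involution
  have hUa : ∀ a b c : K, uni a b c ∈ Pa K := fun a b c => by constructor <;> simp [uni]
  have hUb : ∀ a b c : K, uni a b c ∈ Pb K := fun a b c => by constructor <;> simp [uni]
  have sq0 : ∀ a : K, pj K (uni a 0 0) ^ 2 = 1 := by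
    intro a
    rw [← map_pow, pow_two, uni_mul, add_self hK, add_self hK, mul_zero, add_zero, uni_zero, map_one]
  obtain ⟨s, hs, hs2⟩ := h.lift_two hK (pj K (uni 1 0 0)) (sq0 1)
  have hsB : φ s ∈ (Pa K ⊓ Pb K).map (pj K) := ⟨uni 1 0 0, ⟨hUa _ _ _, hUb _ _ _⟩, hs.symm⟩
  have ns := nor_Ah h hK (hUa 1 0 0) hs
  have ng := nor_Ah h hK hyP hg
  set σ := sg Ω ns with hσ
  set τ := sg Ω ng with hτ
  have hτ3 : τ ^ 3 = 1 := by
    rw [hτ, ← sg_pow _ 3 (ng.pow 3)]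
    exact sg_eq_one _ (fun a _ => h.comm (z := g ^ 3) (by rw [MonoidHom.mem_ker, map_pow, hg, ← map_pow, hy3, map_one]) a)
  have hσ2 : σ * σ = 1 := by
    rw [← pow_two, hσ, ← sg_pow _ 2 (ns.pow 2)]
    exact sg_eq_one _ (fun a _ => by rw [hs2, one_mul, mul_one])
  have hσc : σ * (τ * σ * τ⁻¹) = (τ * σ * τ⁻¹) * σ := by
    have n1 : Nor (Ah h hK) (g * s * g⁻¹) := (ng.mul ns).mul ng.inv
    have e1 : τ * σ * τ⁻¹ = sg Ω n1 := by
      ext χ a
      have e2 : sg Ω n1 χ = sg Ω ng (sg Ω ns (sg Ω ng.inv χ)) := by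
        rw [sg_mul (ng.mul ns) ng.inv n1, sg_mul ng ns (ng.mul ns)]
      have e3 : sg Ω ng.inv χ = τ⁻¹ χ := by
        have n0 : Nor (Ah h hK) (g * g⁻¹) := ng.mul ng.inv
        apply τ.injective
        have q0 : τ (τ⁻¹ χ) = χ := by simp
        rw [q0, hτ, ← sg_mul ng ng.inv n0]
        have : sg Ω n0 = 1 := sg_eq_one _ (fun a _ => by rw [mul_inv_cancel, one_mul, mul_one])
        rw [this]; rfl
      rw [e2, e3]
      rfl
    have hc : s * (g * s * g⁻¹) = (g * s * g⁻¹) * s := by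
      have q1 : φ (g * s * g⁻¹) = pj K (uni (w ^ 2) 0 0) := by
        rw [map_mul, map_mul, map_inv, hg, hs, ← map_inv, ← map_mul, ← map_mul, hy]
        simp
      apply h.comm_of hK _ hs2
      · rw [conj_pow, hs2, mul_one, mul_inv_cancel]
      · rw [q1, hs, ← map_mul, ← map_mul, uni_mul, uni_mul]
        congr 2 <;> ring
    have n2 : Nor (Ah h hK) (s * (g * s * g⁻¹)) := ns.mul n1
    have n3 : Nor (Ah h hK) ((g * s * g⁻¹) * s) := n1.mul ns
    rw [e1]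
    ext χ a
    have e4 : sg Ω n2 χ = sg Ω n3 χ := by
      ext b
      rw [sg_apply, sg_apply]
      congr 2
      apply Subtype.ext
      change (s * (g * s * g⁻¹))⁻¹ * b.1 * (s * (g * s * g⁻¹)) = _
      rw [hc]
    rw [sg_mul ns n1 n2, sg_mul n1 ns n3] at e4
    exact congrArg Units.val (DFunLike.congr_fun e4 a)
  -- multiplicities
  have hle := six_le_one h hK ρ hρ hZ h2 hd
  obtain ⟨ψ₀, q1, q3, l, hl⟩ := three_fixed h hK ρ hZ h2 hw hyP hy3 hy hg
  have hyfix : ∀ χ, τ χ = χ → W (rs ρ (Ah h hK)) χ = ⊥ := by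
    intro χ hχ
    by_cases hne : χ = ψ₀
    · have h5 := hle ψ₀
      rw [hd] at hl
      have h6 : Module.finrank Ω (W (rs ρ (Ah h hK)) ψ₀) = 0 := by omega
      rw [hne]
      exact Submodule.finrank_eq_zero.1 h6
    · exact q3 χ hχ hne
  -- invariance of the set of weights in `W'`
  have hA : ∀ a ∈ Ah h hK, ∀ v ∈ W', ρ a v ∈ W' := by
    rintro a ⟨⟨_, ⟨b, c, rfl⟩, ha⟩, -⟩ v hv
    exact hW' a ⟨uni 0 b c, ⟨hUa _ _ _, hUb _ _ _⟩, ha⟩ v hv
  by_cases hbot : W' = ⊥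
  · exact Or.inl hbot
  right
  obtain ⟨χ, v, hv, hvW, hv0⟩ := exists_weight h hK ρ h2 hA hbot
  by_contra htop
  have hcomm' : ∀ a b : Ah h hK, rs ρ (Ah h hK) a * rs ρ (Ah h hK) b = rs ρ (Ah h hK) b * rs ρ (Ah h hK) a := by
    intro a b
    change ρ a.1 * ρ b.1 = ρ b.1 * ρ a.1
    rw [← map_mul, comm_Ah h hK a.1 a.2 b.1 b.2, map_mul]
  have hsup := iSup_W hcomm' (card_Ah h hK h2)
  obtain ⟨ψ, hψ⟩ : ∃ ψ, ¬ W (rs ρ (Ah h hK)) ψ ≤ W' := by
    by_contra hcon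
    push Not at hcon
    apply htop
    rw [eq_top_iff, ← hsup]
    exact iSup_le hcon
  -- moving weights
  have move : ∀ (k : L) (nk : Nor (Ah h hK) k), φ k ∈ (Pa K ⊓ Pb K).map (pj K) → ∀ θ : Ah h hK →* Ωˣ,
      W (rs ρ (Ah h hK)) θ ≠ ⊥ → (W (rs ρ (Ah h hK)) θ ≤ W' ↔ W (rs ρ (Ah h hK)) (sg Ω nk θ) ≤ W') := by
    intro k nk hk θ hθ
    obtain ⟨u, hu, hu0⟩ := (Submodule.ne_bot_iff _).1 hθ
    have hku := map_W ρ nk θ hu
    have hback : ρ k⁻¹ (ρ k u) = u := by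
      rw [← Module.End.mul_apply, ← map_mul, inv_mul_cancel, map_one, Module.End.one_apply]
    constructor
    · intro hle'
      apply le_of_inter (hle _) hku (hW' k hk u (hle' hu))
      intro h0
      apply hu0
      rw [← hback, h0, map_zero]
    · intro hle'
      have h6 := hW' k⁻¹ (by rw [map_inv]; exact Subgroup.inv_mem _ hk) _ (hle' hku)
      rw [hback] at h6
      exact le_of_inter (hle _) hu h6 hu0
  have nebot : ∀ (k : L) (nk : Nor (Ah h hK) k) (θ : Ah h hK →* Ωˣ), W (rs ρ (Ah h hK)) θ ≠ ⊥ →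
      W (rs ρ (Ah h hK)) (sg Ω nk θ) ≠ ⊥ := by
    intro k nk θ hθ h0
    apply hθ
    rw [← Submodule.finrank_eq_zero] at h0 ⊢
    rwa [finrank_sg] at h0
  have hχne : W (rs ρ (Ah h hK)) χ ≠ ⊥ := (Submodule.ne_bot_iff _).2 ⟨v, hv, hv0⟩
  have hψne : W (rs ρ (Ah h hK)) ψ ≠ ⊥ := by
    intro h0
    apply hψ
    rw [h0]; exact bot_le
  have hχle : W (rs ρ (Ah h hK)) χ ≤ W' := le_of_inter (hle _) hv hvW hv0
  -- orbits of length three
  have orb : ∀ θ : Ah h hK →* Ωˣ, W (rs ρ (Ah h hK)) θ ≠ ⊥ → θ ≠ τ θ ∧ θ ≠ τ (τ θ) ∧ τ θ ≠ τ (τ θ) ∧ τ (τ (τ θ)) = θ := by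
    intro θ hθ
    have a1 : τ θ ≠ θ := fun h0 => hθ (hyfix θ h0)
    have a3 : τ (τ (τ θ)) = θ := by
      have := congrArg (fun f : Equiv.Perm (Ah h hK →* Ωˣ) => f θ) hτ3
      exact this
    refine ⟨a1.symm, ?_, ?_, a3⟩
    · intro h0
      apply a1
      rw [← h0] at a3
      exact a3
    · intro h0
      exact a1 (τ.injective h0.symm)
  obtain ⟨c01, c02, c12, c3⟩ := orb χ hχne
  obtain ⟨d01, d02, d12, d3⟩ := orb ψ hψne
  have fr1 : ∀ θ : Ah h hK →* Ωˣ, W (rs ρ (Ah h hK)) θ ≠ ⊥ → Module.finrank Ω (W (rs ρ (Ah h hK)) θ) = 1 := by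
    intro θ hθ
    apply le_antisymm (hle θ)
    rw [Nat.one_le_iff_ne_zero]
    intro h0
    exact hθ (Submodule.finrank_eq_zero.1 h0)
  have inχ : ∀ θ ∈ ({χ, τ χ, τ (τ χ)} : Finset (Ah h hK →* Ωˣ)), W (rs ρ (Ah h hK)) θ ≠ ⊥ ∧ W (rs ρ (Ah h hK)) θ ≤ W' := by
    intro θ hθ
    simp only [Finset.mem_insert, Finset.mem_singleton] at hθ
    have e1 : W (rs ρ (Ah h hK)) (τ χ) ≠ ⊥ ∧ W (rs ρ (Ah h hK)) (τ χ) ≤ W' :=
      ⟨nebot g ng χ hχne, (move g ng hgB χ hχne).1 hχle⟩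
    rcases hθ with rfl | rfl | rfl
    · exact ⟨hχne, hχle⟩
    · exact e1
    · exact ⟨nebot g ng _ e1.1, (move g ng hgB _ e1.1).1 e1.2⟩
  have inψ : ∀ θ ∈ ({ψ, τ ψ, τ (τ ψ)} : Finset (Ah h hK →* Ωˣ)), W (rs ρ (Ah h hK)) θ ≠ ⊥ ∧ ¬ W (rs ρ (Ah h hK)) θ ≤ W' := by
    intro θ hθ
    simp only [Finset.mem_insert, Finset.mem_singleton] at hθ
    have e1 : W (rs ρ (Ah h hK)) (τ ψ) ≠ ⊥ ∧ ¬ W (rs ρ (Ah h hK)) (τ ψ) ≤ W' :=
      ⟨nebot g ng ψ hψne, fun h0 => hψ ((move g ng hgB ψ hψne).2 h0)⟩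
    rcases hθ with rfl | rfl | rfl
    · exact ⟨hψne, hψ⟩
    · exact e1
    · exact ⟨nebot g ng _ e1.1, fun h0 => e1.2 ((move g ng hgB _ e1.1).2 h0)⟩
  have card3 : ∀ a b c : Ah h hK →* Ωˣ, a ≠ b → a ≠ c → b ≠ c → ({a, b, c} : Finset (Ah h hK →* Ωˣ)).card = 3 := by
    intro a b c hab hac hbc
    exact Finset.card_eq_three.2 ⟨a, b, c, hab, hac, hbc, rfl⟩
  have hdisj : Disjoint ({χ, τ χ, τ (τ χ)} : Finset (Ah h hK →* Ωˣ)) {ψ, τ ψ, τ (τ ψ)} := by
    rw [Finset.disjoint_left]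
    intro θ h1 h3
    exact (inψ θ h3).2 (inχ θ h1).2
  have all : ∀ θ : Ah h hK →* Ωˣ, W (rs ρ (Ah h hK)) θ ≠ ⊥ →
      θ ∈ ({χ, τ χ, τ (τ χ)} : Finset (Ah h hK →* Ωˣ)) ∪ {ψ, τ ψ, τ (τ ψ)} := by
    intro θ hθ
    by_contra hnot
    have h6 := sum_le h hK ρ h2 (insert θ (({χ, τ χ, τ (τ χ)} : Finset (Ah h hK →* Ωˣ)) ∪ {ψ, τ ψ, τ (τ ψ)}))
    rw [Finset.sum_congr rfl (fun θ' hθ' => fr1 θ' (by
      rw [Finset.mem_insert, Finset.mem_union] at hθ'
      rcases hθ' with rfl | h7 | h7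
      · exact hθ
      · exact (inχ _ h7).1
      · exact (inψ _ h7).1)), Finset.sum_const, Finset.card_insert_of_notMem hnot, Finset.card_union_of_disjoint hdisj,
      card3 _ _ _ c01 c02 c12, card3 _ _ _ d01 d02 d12, hd, smul_eq_mul] at h6
    omega
  -- `σ` fixes every weight
  have hσχ : ∀ θ ∈ ({χ, τ χ, τ (τ χ)} : Finset (Ah h hK →* Ωˣ)), σ θ ∈ ({χ, τ χ, τ (τ χ)} : Finset (Ah h hK →* Ωˣ)) := by
    intro θ hθ
    have e1 := inχ θ hθ
    have e2 := all (σ θ) (nebot s ns θ e1.1)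
    rw [Finset.mem_union] at e2
    rcases e2 with e2 | e2
    · exact e2
    · exact absurd ((move s ns hsB θ e1.1).1 e1.2) (inψ _ e2).2
  have hσψ : ∀ θ ∈ ({ψ, τ ψ, τ (τ ψ)} : Finset (Ah h hK →* Ωˣ)), σ θ ∈ ({ψ, τ ψ, τ (τ ψ)} : Finset (Ah h hK →* Ωˣ)) := by
    intro θ hθ
    have e1 := inψ θ hθ
    have e2 := all (σ θ) (nebot s ns θ e1.1)
    rw [Finset.mem_union] at e2
    rcases e2 with e2 | e2
    · exact absurd ((move s ns hsB θ e1.1).2 (inχ _ e2).2) e1.2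
    · exact e2
  have r1 := three_cycle τ σ hσ2 hσc (c0 := χ) rfl rfl c3 c01 c02 c12 (by simpa using hσχ χ (by simp))
    (by simpa using hσχ (τ χ) (by simp)) (by simpa using hσχ (τ (τ χ)) (by simp))
  have r2 := three_cycle τ σ hσ2 hσc (c0 := ψ) rfl rfl d3 d01 d02 d12 (by simpa using hσψ ψ (by simp))
    (by simpa using hσψ (τ ψ) (by simp)) (by simpa using hσψ (τ (τ ψ)) (by simp))
  have hfixall : ∀ θ : Ah h hK →* Ωˣ, W (rs ρ (Ah h hK)) θ ≠ ⊥ → σ θ = θ := by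
    intro θ hθ
    have e1 := all θ hθ
    simp only [Finset.mem_union, Finset.mem_insert, Finset.mem_singleton] at e1
    rcases e1 with (rfl | rfl | rfl) | (rfl | rfl | rfl)
    · exact r1.1
    · exact r1.2.1
    · exact r1.2.2
    · exact r2.1
    · exact r2.2.1
    · exact r2.2.2
  -- hence `s` centralises the lift
  obtain ⟨a, ha, ha1⟩ := lift_Ah h hK 1 0
  have hsa : s * a * s⁻¹ = a := by
    apply hρ
    apply LinearMap.ext
    intro u
    have hu : u ∈ ⨆ χ : Ah h hK →* Ωˣ, W (rs ρ (Ah h hK)) χ := by rw [hsup]; trivial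
    induction hu using Submodule.iSup_induction' with
    | mem θ u hu =>
      by_cases hθ : W (rs ρ (Ah h hK)) θ = ⊥
      · rw [hθ, Submodule.mem_bot] at hu
        rw [hu, map_zero, map_zero]
      · have e1 := (sg_eq_self ns).1 (hfixall θ hθ) ⟨a, ha⟩
        have e2 := mem_W.1 hu ⟨s * a * s⁻¹, (ns a).1 ha⟩
        have e3 := mem_W.1 hu ⟨a, ha⟩
        change ρ (s * a * s⁻¹) u = _ at e2
        change ρ a u = _ at e3
        rw [e2, e3, e1]
    | zero => rw [map_zero, map_zero]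
    | add u u' _ _ h1 h3 => rw [map_add, map_add, h1, h3]
  have h7 : pj K (uni 1 0 0 * uni 0 1 0 * (uni 1 0 0)⁻¹) = pj K (uni 0 1 0) := by
    rw [map_mul, map_mul, map_inv, ← hs, ← ha1, ← map_mul, ← map_inv, ← map_mul, hsa]
  rw [uni_inv, uni_mul, uni_mul] at h7
  have h8 := congrFun (congrFun (congrArg Subtype.val (pj_uni_inj h7)) 0) 2
  simp [uni] at h8

end lifted

end Cfsg.Agent.H906.T14
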