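import Cfsg.Agent.H906.T14Cls
import Cfsg.Agent.H908.Lift

/-!
# Lifts of elements of `PSL_3(4)` to central extensions

`Two φ` : `φ : L →* T` surjective with central kernel; elements of four-power order of the kernel have order at most two,
and there is at most one involution in the kernel.
-/

set_option autoImplicit false
set_option linter.unusedSectionVars false

namespace Cfsg.Agent.H906.T14

open Cfsg Cfsg.Geo SL3Par L34
open scoped MatrixGroups commutatorElement Matrix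

section abstractL

variable {L T : Type*} [Group L] [Group T]

/-- small centre at the prime two -/
structure Two (φ : L →* T) : Prop where
  surj : Function.Surjective φ
  cen : φ.ker ≤ Subgroup.center L
  four : ∀ z ∈ φ.ker, z ^ 4 = 1 → z ^ 2 = 1
  uniq : ∀ z ∈ φ.ker, ∀ z' ∈ φ.ker, z ^ 2 = 1 → z' ^ 2 = 1 → z ≠ 1 → z' ≠ 1 → z = z'

variable {φ : L →* T}

lemma Two.comm (h : Two φ) {z : L} (hz : z ∈ φ.ker) (g : L) : z * g = g * z :=
  (Subgroup.mem_center_iff.1 (h.cen hz) g).symm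

lemma Two.pow (h : Two φ) {z : L} (hz : z ∈ φ.ker) : ∀ k : ℕ, z ^ 2 ^ k = 1 → z ^ 2 = 1
  | 0, hk => by rw [pow_zero, pow_one] at hk; rw [hk, one_pow]
  | 1, hk => by rwa [pow_one] at hk
  | k + 2, hk => by
    apply h.pow hz (k + 1)
    have h1 := h.four (z ^ 2 ^ k) (φ.ker.pow_mem hz _) (by rw [← pow_mul, ← hk]; congr 1; ring)
    rw [← h1, ← pow_mul, pow_succ]

/-- an element of two-power order over every element of two-power order -/
lemma exists_two_lift [Finite L] (hs : Function.Surjective φ) {t : T} {k : ℕ} (ht : t ^ 2 ^ k = 1) :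
    ∃ g : L, φ g = t ∧ ∃ j : ℕ, g ^ 2 ^ j = 1 := by
  obtain ⟨g, rfl⟩ := hs t
  obtain ⟨j, m, hm, hjm⟩ := Nat.exists_eq_two_pow_mul_odd (n := orderOf g) (orderOf_pos g).ne'
  -- `m` is odd; choose `r` with `r m ≡ 1 mod 2^k`
  have hcop : Nat.Coprime m (2 ^ k) := Nat.Coprime.pow_right k hm.coprime_two_right
  obtain ⟨a, ha1, ha2⟩ := Nat.chineseRemainder hcop 0 1
  refine ⟨g ^ a, ?_, j, ?_⟩
  · rw [map_pow]
    have h1 : φ g ^ a = φ g ^ 1 := pow_eq_pow_iff_modEq.2 (ha2.of_dvd (orderOf_dvd_of_pow_eq_one ht))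
    rw [h1, pow_one]
  · obtain ⟨c, hc⟩ := (Nat.modEq_zero_iff_dvd).1 ha1
    rw [hc, ← pow_mul, ← orderOf_dvd_iff_pow_eq_one, hjm]
    exact ⟨c, by ring⟩

/-- lifts of involutions are conjugate up to kernel elements; squares agree -/
lemma Two.sq_eq (h : Two φ) {g g' : L} (hg : φ g = φ g') (h4 : g ^ 4 = 1) (h4' : g' ^ 4 = 1) : g ^ 2 = g' ^ 2 := by
  set z := g * g'⁻¹ with hz
  have hzk : z ∈ φ.ker := by rw [MonoidHom.mem_ker, hz, map_mul, map_inv, hg, mul_inv_cancel]
  have hgz : g = z * g' := by rw [hz]; group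
  have hc : Commute z g' := h.comm hzk g'
  have h1 : z ^ 4 = 1 := by
    have := hc.mul_pow 4
    rw [← hgz, h4, h4', mul_one] at this
    exact this.symm
  rw [hgz, hc.mul_pow, h.four z hzk h1, one_mul]

lemma Two.comm_sq (h : Two φ) {a b : L} (hab : φ a * φ b = φ b * φ a) (ha : a ^ 2 ∈ φ.ker) :
    ∃ c ∈ φ.ker, a * b = c * (b * a) ∧ c ^ 2 = 1 := by
  refine ⟨a * b * a⁻¹ * b⁻¹, ?_, by group, ?_⟩
  · rw [MonoidHom.mem_ker, map_mul, map_mul, map_mul, map_inv, map_inv, hab]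
    group
  · set c := a * b * a⁻¹ * b⁻¹ with hc
    have hck : c ∈ φ.ker := by
      rw [MonoidHom.mem_ker, hc, map_mul, map_mul, map_mul, map_inv, map_inv, hab]
      group
    have h1 : a * b = c * (b * a) := by rw [hc]; group
    have h2 : a ^ 2 * b = b * a ^ 2 := h.comm ha b
    have h3 : a ^ 2 * b = c ^ 2 * (b * a ^ 2) := by
      have e1 : a * c = c * a := (h.comm hck a).symm
      calc a ^ 2 * b = a * (a * b) := by rw [pow_two, mul_assoc]
        _ = a * c * (b * a) := by rw [h1, ← mul_assoc]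
        _ = c * (a * b) * a := by rw [e1]; simp only [mul_assoc]
        _ = c ^ 2 * (b * a ^ 2) := by rw [h1, pow_two, pow_two]; simp only [mul_assoc]
    rw [h2] at h3
    have h4 : c ^ 2 * (b * a ^ 2) = 1 * (b * a ^ 2) := by rw [← h3, one_mul]
    exact mul_right_cancel h4

end abstractL

section psl

variable {K : Type*} [Field K] [Fintype K] {L : Type*} [Group L] {φ : L →* Matrix.ProjectiveSpecialLinearGroup (Fin 3) K}

local notation "T" => Matrix.ProjectiveSpecialLinearGroup (Fin 3) K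

/-- lifts of involutions have order two -/
theorem Two.sq_one [Finite L] (h : Two φ) (hK : Fintype.card K = 4) {g : L} (hg : φ g ^ 2 = 1) (h4 : g ^ 4 = 1) :
    g ^ 2 = 1 := by
  by_cases hg1 : φ g = 1
  · exact h.four g hg1 h4
  by_contra hζ
  set ζ := g ^ 2 with hζd
  have hζk : ζ ∈ φ.ker := by rw [MonoidHom.mem_ker, hζd, map_pow, hg]
  have hζ2 : ζ ^ 2 = 1 := by rw [hζd, ← pow_mul]; exact h4
  have all : ∀ y : L, φ y ^ 2 = 1 → φ y ≠ 1 → y ^ 4 = 1 → y ^ 2 = ζ := by
    intro y hy hy1 hy4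
    obtain ⟨t, ht⟩ := conj_invol hK hg hg1 hy hy1
    obtain ⟨x, rfl⟩ := h.surj t
    have h1 : φ (x * g * x⁻¹) = φ y := by rw [map_mul, map_mul, map_inv, ht]
    have h2 := h.sq_eq h1 (by rw [conj_pow, h4, mul_one, mul_inv_cancel]) hy4
    rw [← h2, conj_pow, ← hζd, (h.comm hζk x).symm, mul_inv_cancel_right]
  have anti : ∀ a b : L, φ a * φ b = φ b * φ a → φ a ^ 2 = 1 → φ b ^ 2 = 1 → a ^ 2 = ζ → b ^ 2 = ζ →
      φ a * φ b ≠ 1 → a * b = ζ * (b * a) ∧ (a * b) ^ 2 = ζ := by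
    intro a b hab ha hb ha2 hb2 hne
    obtain ⟨c, hck, hc, hc2⟩ := h.comm_sq hab (by rw [ha2]; exact hζk)
    have h1 : (a * b) ^ 2 = c := by
      have e1 : a * ζ = ζ * a := (h.comm hζk a).symm
      calc (a * b) ^ 2 = (a * b) * (a * b) := by rw [pow_two]
        _ = c * (b * a) * (a * b) := by rw [← hc]
        _ = c * (b * (a * a) * b) := by simp only [mul_assoc]
        _ = c * (ζ * (b * b)) := by rw [← pow_two a, ha2, ← h.comm hζk b, mul_assoc]
        _ = c * (ζ * ζ) := by rw [← pow_two b, hb2]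
        _ = c := by rw [← pow_two, hζ2, mul_one]
    have h2 : φ (a * b) ^ 2 = 1 := by
      rw [map_mul]
      have hcm : Commute (φ a) (φ b) := hab
      rw [hcm.mul_pow, ha, hb, mul_one]
    have h3 : (a * b) ^ 4 = 1 := by
      rw [show (4 : ℕ) = 2 * 2 by norm_num, pow_mul, h1, hc2]
    have h4' := all (a * b) h2 (by rw [map_mul]; exact hne) h3
    rw [h4'] at h1
    exact ⟨by rw [h1]; exact hc, h4'⟩
  obtain ⟨w, hw⟩ := exists_w hK
  have k2 := two_zero hK
  -- three commuting involutions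
  have lift : ∀ b c : K, uni 0 b c ≠ 1 → ∃ y : L, φ y = pj K (uni 0 b c) ∧ φ y ^ 2 = 1 ∧ y ^ 2 = ζ := by
    intro b c hne
    have e1 : pj K (uni 0 b c) ^ 2 = 1 := by
      rw [← map_pow, pow_two, uni_mul, add_self hK, add_self hK, add_self hK]
      have : uni (0 : K) 0 (0 + 0 * b) = 1 := by rw [← uni_zero]; congr 1; ring
      rw [this, map_one]
    have e2 : pj K (uni 0 b c) ≠ 1 := by
      intro h0
      apply hne
      have h0' : pj K (uni 0 b c) = pj K (uni 0 0 0) := by rw [h0, uni_zero, map_one]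
      rw [pj_uni_inj h0', uni_zero]
    obtain ⟨y, hy, j, hj⟩ := exists_two_lift h.surj (t := pj K (uni 0 b c)) (k := 1) (by rw [pow_one]; exact e1)
    have hy2 : y ^ 2 ∈ φ.ker := by rw [MonoidHom.mem_ker, map_pow, hy, e1]
    have hy4 : y ^ 4 = 1 := by
      have := h.pow hy2 j (by rw [← pow_mul, mul_comm, pow_mul, hj, one_pow])
      rw [← this, ← pow_mul]
    exact ⟨y, hy, by rw [hy, e1], all y (by rw [hy, e1]) (by rw [hy]; exact e2) hy4⟩
  have une : ∀ b c : K, b ≠ 0 ∨ c ≠ 0 → uni 0 b c ≠ 1 := by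
    intro b c hbc h0
    rw [← uni_zero] at h0
    have e1 := congrFun (congrFun (congrArg Subtype.val h0) 1) 2
    have e2 := congrFun (congrFun (congrArg Subtype.val h0) 0) 2
    simp [uni] at e1 e2
    rcases hbc with h1 | h1
    · exact h1 e1
    · exact h1 e2
  have pne : ∀ b c : K, b ≠ 0 ∨ c ≠ 0 → pj K (uni 0 b c) ≠ 1 := by
    intro b c hbc h0
    apply une b c hbc
    have h0' : pj K (uni 0 b c) = pj K (uni 0 0 0) := by rw [h0, uni_zero, map_one]
    rw [pj_uni_inj h0', uni_zero]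
  have pmul : ∀ b c b' c' : K, pj K (uni 0 b c) * pj K (uni 0 b' c') = pj K (uni 0 (b + b') (c + c')) := by
    intro b c b' c'
    rw [← map_mul, uni_mul]
    congr 2 <;> ring
  have hw0 : w ≠ 0 := by
    rintro rfl
    norm_num at hw
  have hw1 : w + 1 ≠ 0 := by
    intro h0
    have : w ^ 2 = 0 := by linear_combination hw - h0
    exact hw0 (pow_eq_zero_iff (two_ne_zero) |>.1 this)
  obtain ⟨a, fa, fa2, ha⟩ := lift 0 1 (une 0 1 (Or.inr one_ne_zero))
  obtain ⟨b, fb, fb2, hb⟩ := lift 1 0 (une 1 0 (Or.inl one_ne_zero))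
  obtain ⟨d, fd, fd2, hd⟩ := lift 0 w (une 0 w (Or.inr hw0))
  have hcomm : ∀ b c b' c' : K, pj K (uni 0 b c) * pj K (uni 0 b' c') = pj K (uni 0 b' c') * pj K (uni 0 b c) := by
    intro b c b' c'
    rw [pmul, pmul, add_comm b, add_comm c]
  obtain ⟨-, q1⟩ := anti a b (by rw [fa, fb, hcomm]) fa2 fb2 ha hb (by rw [fa, fb, pmul]; exact pne _ _ (Or.inl (by simp)))
  obtain ⟨q2, -⟩ := anti d a (by rw [fa, fd, hcomm]) fd2 fa2 hd ha (by
    rw [fa, fd, pmul]; exact pne _ _ (Or.inr hw1))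
  obtain ⟨q3, -⟩ := anti d b (by rw [fb, fd, hcomm]) fd2 fb2 hd hb (by
    rw [fb, fd, pmul]; exact pne _ _ (Or.inl (by simp)))
  obtain ⟨q4, -⟩ := anti d (a * b) (by rw [map_mul, fa, fb, fd, pmul, hcomm]) fd2 (by
    rw [map_mul, fa, fb, pmul, ← map_pow, pow_two, uni_mul, add_self hK, add_self hK, add_self hK]
    rw [zero_mul, add_zero, uni_zero, map_one]) hd q1 (by
    rw [map_mul, fa, fb, fd, pmul, pmul]
    exact pne _ _ (Or.inl (by simp)))
  apply hζ
  have e2 : d * (a * b) = a * b * d := by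
    calc d * (a * b) = d * a * b := by rw [mul_assoc]
      _ = ζ * (a * (d * b)) := by rw [q2]; simp only [mul_assoc]
      _ = ζ * (a * ζ) * (b * d) := by rw [q3]; simp only [mul_assoc]
      _ = (ζ * ζ) * (a * (b * d)) := by rw [← h.comm hζk a]; simp only [mul_assoc]
      _ = a * b * d := by rw [← pow_two, hζ2, one_mul, mul_assoc]
  rw [e2] at q4
  have e3 : 1 * (a * b * d) = ζ * (a * b * d) := by rw [one_mul]; exact q4
  exact (mul_right_cancel e3).symm

/-- lifts of order two of commuting involutions commute -/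
theorem Two.comm_of [Finite L] (h : Two φ) (hK : Fintype.card K = 4) {a b : L} (hab : φ a * φ b = φ b * φ a)
    (ha : a ^ 2 = 1) (hb : b ^ 2 = 1) : a * b = b * a := by
  obtain ⟨c, hck, hc, hc2⟩ := h.comm_sq hab (by rw [ha]; exact φ.ker.one_mem)
  have h1 : (a * b) ^ 2 = c := by
    calc (a * b) ^ 2 = (a * b) * (a * b) := by rw [pow_two]
      _ = c * (b * a) * (a * b) := by rw [← hc]
      _ = c * (b * (a * a) * b) := by simp only [mul_assoc]
      _ = c := by rw [← pow_two a, ha, mul_one, ← pow_two b, hb, mul_one]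
  have h2 : (a * b) ^ 2 = 1 := by
    apply h.sq_one hK
    · rw [map_mul]
      have hcm : Commute (φ a) (φ b) := hab
      rw [hcm.mul_pow, ← map_pow, ← map_pow, ha, hb, map_one, mul_one]
    · rw [show (4 : ℕ) = 2 * 2 by norm_num, pow_mul, h1, hc2]
  rw [h1] at h2
  rw [hc, h2, one_mul]

/-- involutions lift to elements with square one -/
theorem Two.lift_two [Finite L] (h : Two φ) (hK : Fintype.card K = 4) (t : T) (ht : t ^ 2 = 1) :
    ∃ g : L, φ g = t ∧ g ^ 2 = 1 := by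
  obtain ⟨y, hy, j, hj⟩ := exists_two_lift h.surj (t := t) (k := 1) (by rw [pow_one]; exact ht)
  have hy2 : y ^ 2 ∈ φ.ker := by rw [MonoidHom.mem_ker, map_pow, hy, ht]
  have hy4 : y ^ 4 = 1 := by
    have := h.pow hy2 j (by rw [← pow_mul, mul_comm, pow_mul, hj, one_pow])
    rw [← this, ← pow_mul]
  exact ⟨y, hy, h.sq_one hK (by rw [hy, ht]) hy4⟩

/-- elements of four-power order -/
theorem Two.two_part [Finite L] (h : Two φ) (hK : Fintype.card K = 4) (t : T) (ht : t ^ 4 = 1) :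
    ∃ g : L, φ g = t ∧ g ^ 4 = 1 ∧ IsConj g g⁻¹ := by
  obtain ⟨x, a, b, c, hx⟩ := two_elt hK ht
  obtain ⟨x', rfl⟩ := h.surj x
  have sq : ∀ a b c : K, a * b = 0 → pj K (uni a b c) ^ 2 = 1 := by
    intro a b c hab
    rw [← map_pow, pow_two, uni_mul, add_self hK, add_self hK, add_self hK, hab, add_zero, uni_zero, map_one]
  obtain ⟨u, hu, hu2⟩ := h.lift_two hK (pj K (uni 0 b c)) (sq _ _ _ (zero_mul _))
  obtain ⟨v, hv, hv2⟩ := h.lift_two hK (pj K (uni a 0 0)) (sq _ _ _ (mul_zero _))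
  have hg : φ (u * v) = φ x' * t * (φ x')⁻¹ := by rw [map_mul, hu, hv, ← map_mul, ← uni_split, hx]
  have hinv : u * (u * v) * u⁻¹ = (u * v)⁻¹ := by
    have e1 : u⁻¹ = u := by rw [inv_eq_iff_mul_eq_one, ← pow_two, hu2]
    have e2 : v⁻¹ = v := by rw [inv_eq_iff_mul_eq_one, ← pow_two, hv2]
    rw [mul_inv_rev, e1, e2, ← mul_assoc, ← pow_two, hu2, one_mul]
  have h4 : (u * v) ^ 4 = 1 := by
    -- `(u v)^2` lifts an element of order two and is a two-element
    have e0 : φ (u * v) ^ 4 = 1 := by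
      rw [hg, conj_pow, ht, mul_one, mul_inv_cancel]
    have k1 : (u * v) ^ 4 ∈ φ.ker := by rw [MonoidHom.mem_ker, map_pow, e0]
    -- inverted by `u` and central
    have k2 : ((u * v) ^ 4) ^ 2 = 1 := by
      have e1 : u * (u * v) ^ 4 * u⁻¹ = ((u * v) ^ 4)⁻¹ := by rw [← conj_pow, hinv, inv_pow]
      rw [← h.comm k1 u, mul_inv_cancel_right] at e1
      rw [pow_two]
      nth_rewrite 1 [e1]
      rw [inv_mul_cancel]
    have k3 := h.sq_one hK (g := (u * v) ^ 2) (by rw [← map_pow, ← pow_mul, map_pow, e0]) (by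
      rw [← pow_mul, ← k2, ← pow_mul])
    rw [← k3, ← pow_mul]
  refine ⟨x'⁻¹ * (u * v) * x', ?_, ?_, ?_⟩
  · rw [map_mul, map_mul, map_inv, hg]; group
  · have := conj_pow (i := 4) (a := x'⁻¹) (b := u * v)
    rw [inv_inv] at this
    rw [this, h4]; group
  · have c1 : IsConj (u * v) (u * v)⁻¹ := isConj_iff.2 ⟨u, hinv⟩
    have c2 : IsConj (x'⁻¹ * (u * v) * x') (u * v) := isConj_iff.2 ⟨x', by group⟩
    have c3 : IsConj (u * v)⁻¹ (x'⁻¹ * (u * v) * x')⁻¹ := isConj_iff.2 ⟨x'⁻¹, by group⟩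
    exact c2.trans (c1.trans c3)

end psl

end Cfsg.Agent.H906.T14
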