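import Cfsg.Agent.H906.T14Lift

/-!
# Lifts of elements of odd order of `PSL_3(4)`
-/

set_option autoImplicit false
set_option linter.unusedSectionVars false

namespace Cfsg.Agent.H906.T14

open Cfsg Cfsg.Geo SL3Par L34
open scoped MatrixGroups commutatorElement Matrix

/-- an element of `r`-power order over every element of `r`-power order -/
lemma exists_prime_lift {L T : Type*} [Group L] [Group T] {φ : L →* T} [Finite L] (hs : Function.Surjective φ)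
    {r : ℕ} (hr : r.Prime) {t : T} {k : ℕ} (ht : t ^ r ^ k = 1) :
    ∃ g : L, φ g = t ∧ ∃ j : ℕ, g ^ r ^ j = 1 := by
  obtain ⟨g, rfl⟩ := hs t
  obtain ⟨j, m, hm, hjm⟩ := Nat.exists_eq_pow_mul_and_not_dvd (orderOf_pos g).ne' r hr.ne_one
  have hcop : Nat.Coprime m (r ^ k) := Nat.Coprime.pow_right k ((Nat.Prime.coprime_iff_not_dvd hr).2 hm).symm
  obtain ⟨a, ha1, ha2⟩ := Nat.chineseRemainder hcop 0 1
  refine ⟨g ^ a, ?_, j, ?_⟩
  · rw [map_pow]
    have h1 : φ g ^ a = φ g ^ 1 := pow_eq_pow_iff_modEq.2 (ha2.of_dvd (orderOf_dvd_of_pow_eq_one ht))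
    rw [h1, pow_one]
  · obtain ⟨c, hc⟩ := (Nat.modEq_zero_iff_dvd).1 ha1
    rw [hc, ← pow_mul, ← orderOf_dvd_iff_pow_eq_one, hjm]
    exact ⟨c, by ring⟩

section psl

variable {K : Type*} [Field K] [Fintype K] {L : Type*} [Group L] {φ : L →* Matrix.ProjectiveSpecialLinearGroup (Fin 3) K}

local notation "T" => Matrix.ProjectiveSpecialLinearGroup (Fin 3) K

theorem three_part [Finite L] (hs : Function.Surjective φ) (hc : φ.ker ≤ Subgroup.center L)
    (hnine : ∀ z ∈ φ.ker, z ^ 9 = 1 → z ^ 3 = 1) (hK : Fintype.card K = 4) (t : T) (ht : t ^ 3 = 1) :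
    ∃ g : L, φ g = t ∧ g ^ 3 = 1 ∧ IsConj g g⁻¹ := by
  have comm : ∀ {z : L}, z ∈ φ.ker → ∀ g, z * g = g * z := fun hz g => (Subgroup.mem_center_iff.1 (hc hz) g).symm
  have cube : ∀ k : ℕ, ∀ z ∈ φ.ker, z ^ 3 ^ k = 1 → z ^ 3 = 1 := by
    intro k
    induction k using Nat.strong_induction_on with
    | _ k ih =>
      intro z hz hk
      match k, ih, hk with
      | 0, _, hk => rw [pow_zero, pow_one] at hk; rw [hk, one_pow]
      | 1, _, hk => rwa [pow_one] at hk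
      | k + 2, ih, hk =>
        apply ih (k + 1) (by omega) z hz
        have h1 := hnine (z ^ 3 ^ k) (φ.ker.pow_mem hz _) (by rw [← pow_mul, ← hk]; congr 1; ring)
        rw [← h1, ← pow_mul, pow_succ]
  obtain ⟨y, rfl, j, hj⟩ := exists_prime_lift hs Nat.prime_three (t := t) (k := 1) (by rw [pow_one]; exact ht)
  have hy3 : y ^ 3 ∈ φ.ker := by rw [MonoidHom.mem_ker, map_pow, ht]
  obtain ⟨s, -, hs1⟩ := inv_three hK ht
  obtain ⟨s, rfl⟩ := hs s
  set z := s * y * s⁻¹ * y with hz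
  have hzk : z ∈ φ.ker := by
    rw [MonoidHom.mem_ker, hz, map_mul, map_mul, map_mul, map_inv, hs1, inv_mul_cancel]
  have hconj : s * y * s⁻¹ = z * y⁻¹ := by rw [hz]; group
  have hzp : z ^ 3 ^ j = 1 := by
    have h1 : (z * y⁻¹) ^ 3 ^ j = 1 := by rw [← hconj, conj_pow, hj]; group
    have h2 : Commute z y⁻¹ := comm hzk _
    rw [h2.mul_pow, inv_pow, hj, inv_one, mul_one] at h1
    exact h1
  have hz3 := cube j z hzk hzp
  have hcube : y ^ 3 = 1 := by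
    have h1 : s * y ^ 3 * s⁻¹ = (y ^ 3)⁻¹ := by
      have h2 : Commute z y⁻¹ := comm hzk _
      rw [← conj_pow, hconj, h2.mul_pow, hz3, one_mul, inv_pow]
    rw [← comm hy3 s, mul_inv_cancel_right] at h1
    have h2 : (y ^ 3) ^ 2 = 1 := by
      rw [pow_two]
      nth_rewrite 1 [h1]
      rw [inv_mul_cancel]
    have h3 : (y ^ 3) ^ 3 = 1 := by
      apply cube j _ hy3
      rw [← pow_mul, mul_comm, pow_mul, hj, one_pow]
    calc y ^ 3 = (y ^ 3) ^ 3 * ((y ^ 3) ^ 2)⁻¹ := by group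
      _ = 1 := by rw [h2, h3]; group
  refine ⟨z * y, ?_, ?_, ?_⟩
  · rw [map_mul, (MonoidHom.mem_ker).1 hzk, one_mul]
  · have h2 : Commute z y := comm hzk _
    rw [h2.mul_pow, hz3, hcube, one_mul]
  · rw [isConj_iff]
    refine ⟨s, ?_⟩
    have h1 : s * (z * y) * s⁻¹ = z * (s * y * s⁻¹) := by
      rw [← mul_assoc s z y, ← comm hzk s]; group
    have h2 : z * z = z⁻¹ := by rw [eq_inv_iff_mul_eq_one, ← pow_two, ← pow_succ, hz3]
    have h3 := comm ((φ.ker).inv_mem hzk) y⁻¹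
    clear_value z
    rw [h1, hconj, ← mul_assoc, h2, h3, mul_inv_rev]

theorem five_part [Finite L] (hs : Function.Surjective φ) (hc : φ.ker ≤ Subgroup.center L)
    (hcop : (Nat.card φ.ker).Coprime 5) (hK : Fintype.card K = 4) (t : T) (ht : t ^ 5 = 1) :
    ∃ g : L, φ g = t ∧ g ^ 5 = 1 ∧ IsConj g g⁻¹ := by
  obtain ⟨g, hg, og⟩ := H908.exists_lift hs t (Nat.Coprime.coprime_dvd_right (orderOf_dvd_of_pow_eq_one ht) hcop)
  have hg5 : g ^ 5 = 1 := by
    rw [← orderOf_dvd_iff_pow_eq_one, og, orderOf_dvd_iff_pow_eq_one, ht]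
  obtain ⟨s, -, hs1⟩ := inv_five hK ht
  obtain ⟨s, rfl⟩ := hs s
  refine ⟨g, hg, hg5, isConj_iff.2 ⟨s, ?_⟩⟩
  have c5 : ∀ x : L, x ^ 5 = 1 → (Nat.card φ.ker).Coprime (orderOf x) := fun x hx =>
    Nat.Coprime.coprime_dvd_right (orderOf_dvd_of_pow_eq_one hx) hcop
  apply H908.conj_lift hc _ (c5 g hg5) (c5 _ (by rw [inv_pow, hg5, inv_one]))
  rw [map_mul, map_mul, map_inv, map_inv, hg, hs1]

theorem seven_part [Finite L] (hs : Function.Surjective φ) (hc : φ.ker ≤ Subgroup.center L)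
    (hcop : (Nat.card φ.ker).Coprime 7) (hK : Fintype.card K = 4) (t : T) (ht : t ^ 7 = 1) :
    ∃ g : L, φ g = t ∧ g ^ 7 = 1 ∧ IsConj g (g ^ 2) := by
  obtain ⟨g, hg, og⟩ := H908.exists_lift hs t (Nat.Coprime.coprime_dvd_right (orderOf_dvd_of_pow_eq_one ht) hcop)
  have hg7 : g ^ 7 = 1 := by
    rw [← orderOf_dvd_iff_pow_eq_one, og, orderOf_dvd_iff_pow_eq_one, ht]
  obtain ⟨s, hs1⟩ := seven hK ht
  obtain ⟨s, rfl⟩ := hs s
  refine ⟨g, hg, hg7, isConj_iff.2 ⟨s, ?_⟩⟩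
  have c7 : ∀ x : L, x ^ 7 = 1 → (Nat.card φ.ker).Coprime (orderOf x) := fun x hx =>
    Nat.Coprime.coprime_dvd_right (orderOf_dvd_of_pow_eq_one hx) hcop
  apply H908.conj_lift hc _ (c7 g hg7) (c7 _ (by rw [← pow_mul, mul_comm, pow_mul, hg7, one_pow]))
  rw [map_mul, map_mul, map_inv, map_pow, hg, hs1]

end psl

end Cfsg.Agent.H906.T14
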