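import Cfsg.Agent.H906.T14Ten

/-!
# Cores with socle `PSL_3(4)` in degree six
-/

set_option autoImplicit false
set_option linter.unusedSectionVars false

namespace Cfsg.Agent.H906.T14

open Cfsg Cfsg.Geo SL3Par L34 H915.LD Wt
open scoped MatrixGroups commutatorElement Matrix

universe u v

section par

variable {K : Type v} [Field K] [Fintype K]

/-- parabolic elements have order three, four or five -/
theorem pow_cases_par (hK : Fintype.card K = 4) (g : X K) {s : K} (hs : s ≠ 0)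
    (hab : g.1.adjugate.trace = s * g.1.trace) : pj K g ^ 3 = 1 ∨ pj K g ^ 4 = 1 ∨ pj K g ^ 5 = 1 := by
  have h2 := two_zero hK
  have h0 := H906.cayley_three g.1
  have hdet : g.1.det = 1 := g.2
  set a := g.1.trace
  set b := g.1.adjugate.trace
  have h1 : g.1 ^ 3 = a • g.1 ^ 2 + b • g.1 + 1 := by
    rw [h0, hdet, one_smul]
    have : b • g.1 + b • g.1 = 0 := by rw [← add_smul, add_self hK, zero_smul]
    have h4 : - (b • g.1) = b • g.1 := neg_eq_of_add_eq_zero_left this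
    rw [sub_eq_add_neg, h4]
  -- scaling
  have scale : ∀ c : K, c ≠ 0 → (c • g.1) ^ 3 = (c * a) • (c • g.1) ^ 2 + (c ^ 2 * b) • (c • g.1) + 1 := by
    intro c hc
    have hc3 := cube_one hK hc
    rw [smul_pow, smul_pow, hc3, one_smul, h1, smul_smul, smul_smul]
    have e1 : c * a * c ^ 2 = a := by linear_combination a * hc3
    have e2 : c ^ 2 * b * c = b := by linear_combination b * hc3
    rw [e1, e2]
  have fin : ∀ (c : K) (m : ℕ), c ≠ 0 → (c • g.1) ^ m = 1 → pj K g ^ m = 1 := by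
    intro c m hc hm
    rw [← map_pow]
    apply pj_eq_one_of_smul (c := (c ^ m)⁻¹)
    have h5 : (g ^ m).1 = g.1 ^ m := rfl
    rw [h5, ← hm, smul_pow, smul_smul, inv_mul_cancel₀ (pow_ne_zero _ hc), one_smul]
  by_cases ha : a = 0
  · have hb : b = 0 := by rw [hab, ha, mul_zero]
    left
    apply fin 1 3 one_ne_zero
    exact (pow_of_rel hK (scale 1 one_ne_zero)).1 (by rw [ha, mul_zero]) (by rw [hb, mul_zero])
  · have hb : b ≠ 0 := by rw [hab]; exact mul_ne_zero hs ha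
    have ha3 := cube_one hK ha
    have hb3 := cube_one hK hb
    by_cases hab : a * b = 1
    · right; left
      have ha2 : a ^ 2 ≠ 0 := pow_ne_zero _ ha
      apply fin (a ^ 2) 4 ha2
      refine (pow_of_rel hK (scale (a ^ 2) ha2)).2.1 (by rw [← pow_succ, ha3]) ?_
      linear_combination hab + (a * b) * ha3
    · right; right
      have hc : a * b ^ 2 ≠ 0 := mul_ne_zero ha (pow_ne_zero _ hb)
      apply fin (a * b ^ 2) 5 hc
      refine (pow_of_rel hK (scale (a * b ^ 2) hc)).2.2.1 ?_ ?_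
      · linear_combination (-(a ^ 2 * b ^ 2)) * hb3
      · have hne : a * b - 1 ≠ 0 := sub_ne_zero.2 hab
        have h6 : (a * b ^ 2 * a) ^ 3 = 1 := by
          rw [mul_pow, mul_pow, ha3, ← pow_mul, mul_comm 2 3, pow_mul, hb3]; simp
        have h7 : a * b ^ 2 * a ≠ 1 := by
          intro h8
          have h9 : (a * b - 1) * (a * b + 1) = 0 := by linear_combination h8
          rcases mul_eq_zero.1 h9 with h10 | h10
          · exact hne h10
          · apply hne
            linear_combination h10 - h2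
        have h8 : (a * b ^ 2 * a - 1) * ((a * b ^ 2 * a) ^ 2 + (a * b ^ 2 * a) + 1) = 0 := by
          linear_combination h6
        exact (mul_eq_zero.1 h8).resolve_left (sub_ne_zero.2 h7)

theorem pow_cases_Pa (hK : Fintype.card K = 4) {g : X K} (hg : g ∈ Pa K) :
    pj K g ^ 3 = 1 ∨ pj K g ^ 4 = 1 ∨ pj K g ^ 5 = 1 := by
  obtain ⟨h1, h2⟩ := hg
  have hd := det_eq g
  have ht : g.1 2 2 ≠ 0 := by
    intro h0
    apply zero_ne_one (α := K)
    linear_combination hd + (-(g.1 0 0 * g.1 1 1) + g.1 0 1 * g.1 1 0) * h0 + (g.1 0 0 * g.1 1 2 - g.1 0 2 * g.1 1 0) * h2 +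
      (g.1 0 2 * g.1 1 1 - g.1 0 1 * g.1 1 2) * h1
  have ht3 := cube_one hK ht
  have k2 := two_zero hK
  apply pow_cases_par hK g ht
  rw [Matrix.adjugate_fin_three, Matrix.trace_fin_three, Matrix.trace_fin_three]
  simp
  have hd' : g.1 2 2 * (g.1 0 0 * g.1 1 1 - g.1 0 1 * g.1 1 0) = 1 := by
    linear_combination hd + (g.1 0 0 * g.1 1 2 - g.1 0 2 * g.1 1 0) * h2 + (g.1 0 2 * g.1 1 1 - g.1 0 1 * g.1 1 2) * h1
  have hd2 : g.1 0 0 * g.1 1 1 - g.1 0 1 * g.1 1 0 = g.1 2 2 ^ 2 := by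
    linear_combination g.1 2 2 ^ 2 * hd' - (g.1 0 0 * g.1 1 1 - g.1 0 1 * g.1 1 0) * ht3
  linear_combination hd2 - g.1 1 2 * h2 - g.1 0 2 * h1

theorem pow_cases_Pb (hK : Fintype.card K = 4) {g : X K} (hg : g ∈ Pb K) :
    pj K g ^ 3 = 1 ∨ pj K g ^ 4 = 1 ∨ pj K g ^ 5 = 1 := by
  obtain ⟨h1, h2⟩ := hg
  have hd := det_eq g
  have ht : g.1 0 0 ≠ 0 := by
    intro h0
    apply zero_ne_one (α := K)
    linear_combination hd + (-(g.1 2 2 * g.1 1 1) + g.1 1 2 * g.1 2 1) * h0 + (g.1 0 1 * g.1 2 2 - g.1 0 2 * g.1 2 1) * h1 +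
      (g.1 0 2 * g.1 1 1 - g.1 0 1 * g.1 1 2) * h2
  have ht3 := cube_one hK ht
  have k2 := two_zero hK
  apply pow_cases_par hK g ht
  rw [Matrix.adjugate_fin_three, Matrix.trace_fin_three, Matrix.trace_fin_three]
  simp
  have hd' : g.1 0 0 * (g.1 1 1 * g.1 2 2 - g.1 1 2 * g.1 2 1) = 1 := by
    linear_combination hd + (g.1 0 1 * g.1 2 2 - g.1 0 2 * g.1 2 1) * h1 + (g.1 0 2 * g.1 1 1 - g.1 0 1 * g.1 1 2) * h2
  have hd2 : g.1 1 1 * g.1 2 2 - g.1 1 2 * g.1 2 1 = g.1 0 0 ^ 2 := by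
    linear_combination g.1 0 0 ^ 2 * hd' - (g.1 1 1 * g.1 2 2 - g.1 1 2 * g.1 2 1) * ht3
  linear_combination hd2 - g.1 0 1 * h1 - g.1 0 2 * h2

lemma comm_le {G : Type*} [Group G] (H : Subgroup G) : ⁅H, H⁆ ≤ H :=
  Subgroup.commutator_le.2 fun _ ha _ hb =>
    H.mul_mem (H.mul_mem (H.mul_mem ha hb) (H.inv_mem ha)) (H.inv_mem hb)

theorem par_sup (hK : Fintype.card K = 4) : (Pa K).map (pj K) ⊔ (Pb K).map (pj K) = ⊤ := by
  obtain ⟨w, hw⟩ := exists_w hK
  have k2 := two_zero hK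
  have hw0 : w ≠ 0 := by
    rintro rfl
    norm_num at hw
  have hw1 : w * w ≠ 1 := by
    intro h0
    apply hw0
    linear_combination hw - h0 - k2
  obtain ⟨-, h2⟩ := gen_parabolics hw0 hw1
  rw [← Subgroup.map_sup, eq_top_iff, ← Subgroup.map_top_of_surjective (pj K) (QuotientGroup.mk'_surjective _)]
  apply Subgroup.map_mono
  rw [← h2]
  apply sup_le_sup
  · apply sup_le
    · rintro _ ⟨b, c, rfl⟩
      constructor <;> simp [uni]
    · exact comm_le _
  · apply sup_le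
    · rintro _ ⟨b, c, rfl⟩
      constructor <;> simp [uni]
    · exact comm_le _

end par

end Cfsg.Agent.H906.T14
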