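import Cfsg.Agent.H906.T14Six
import Cfsg.Agent.H906.T14Irr
import Cfsg.Agent.H906.MatCoef

/-!
# Cores with socle `PSL_3(4)` in degree six: glueing
-/

set_option autoImplicit false
set_option linter.unusedSectionVars false

namespace Cfsg.Agent.H906.T14

open Cfsg Cfsg.Geo SL3Par L34 H915.LD Wt
open scoped MatrixGroups commutatorElement Matrix

universe u v

variable {ι : Type} [Fintype ι] [DecidableEq ι] {F : Type u} [Field F] {P : Subgroup (GL ι F)}
  {K : Type v} [Field K] [Fintype K]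

/-- the matrix representation over the algebraic closure -/
noncomputable def mrep (P : Subgroup (GL ι F)) : P →* Matrix ι ι (AlgebraicClosure F) :=
  (Units.coeHom _).comp ((Matrix.GeneralLinearGroup.map (algebraMap F (AlgebraicClosure F))).comp P.subtype)

lemma mrep_apply (g : P) : mrep P g = ((g : GL ι F) : Matrix ι ι F).map (algebraMap F (AlgebraicClosure F)) := rfl

lemma rep_eq (g : P) : rep P g = Matrix.toLin' (mrep P g) := rfl

lemma trace_mrep (g : P) : (mrep P g).trace = algebraMap F (AlgebraicClosure F) (tr (g : GL ι F)) := by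
  rw [mrep_apply]
  unfold tr Matrix.trace
  rw [map_sum]
  rfl

variable (e : Soc P ≃* Matrix.ProjectiveSpecialLinearGroup (Fin 3) K)

/-- the Borel subgroup, the parabolic subgroups -/
def Bh : Subgroup P := ((Pa K ⊓ Pb K).map (pj K)).comap (ph e)

def Ma : Subgroup P := ((Pa K).map (pj K)).comap (ph e)

def Mb : Subgroup P := ((Pb K).map (pj K)).comap (ph e)

lemma Bh_le_Ma : Bh e ≤ Ma e := Subgroup.comap_mono (Subgroup.map_mono inf_le_left)

lemma Bh_le_Mb : Bh e ≤ Mb e := Subgroup.comap_mono (Subgroup.map_mono inf_le_right)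

lemma Ma_sup_Mb (hK : Fintype.card K = 4) : Ma e ⊔ Mb e = ⊤ := by
  have h1 := par_sup hK
  have hs := ph_surj e
  rw [eq_top_iff]
  intro g _
  have h2 : (Ma e ⊔ Mb e).map (ph e) = ⊤ := by
    rw [Subgroup.map_sup]
    unfold Ma Mb
    rw [Subgroup.map_comap_eq_self_of_surjective hs, Subgroup.map_comap_eq_self_of_surjective hs, h1]
  have h3 : ph e g ∈ (Ma e ⊔ Mb e).map (ph e) := by rw [h2]; trivial
  obtain ⟨k, hk, hkg⟩ := h3
  have h4 : (ph e).ker ≤ Ma e := fun z hz => by
    change ph e z ∈ (Pa K).map (pj K)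
    rw [(MonoidHom.mem_ker).1 hz]
    exact Subgroup.one_mem _
  have h5 : k⁻¹ * g ∈ Ma e ⊔ Mb e := by
    apply le_sup_left (a := Ma e)
    apply h4
    rw [MonoidHom.mem_ker, map_mul, map_inv, hkg, inv_mul_cancel]
  have h6 : g = k * (k⁻¹ * g) := by group
  rw [h6]
  exact Subgroup.mul_mem _ hk h5

theorem span_Bh [Finite P] (h : Two (ph e)) (hK : Fintype.card K = 4) (h2 : (2 : AlgebraicClosure F) ≠ 0)
    (hn : Fintype.card ι = 6) : Submodule.span (AlgebraicClosure F) (mrep P '' (Bh e : Set P)) = ⊤ := by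
  have hne : Nonempty ι := by
    rw [← Fintype.card_pos_iff, hn]; norm_num
  have hd : Module.finrank (AlgebraicClosure F) (ι → AlgebraicClosure F) = 6 := by
    rw [Module.finrank_fintype_fun_eq_card, hn]
  let RB : Subgroup (GL ι (AlgebraicClosure F)) :=
    (Bh e).map ((Matrix.GeneralLinearGroup.map (algebraMap F (AlgebraicClosure F))).comp P.subtype)
  have hset : matrixSet RB = mrep P '' (Bh e : Set P) := by
    ext M
    constructor
    · rintro ⟨_, ⟨g, hg, rfl⟩, rfl⟩
      exact ⟨g, hg, rfl⟩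
    · rintro ⟨g, hg, rfl⟩
      exact ⟨_, ⟨g, hg, rfl⟩, rfl⟩
  have hirr : ∀ W' : Submodule (AlgebraicClosure F) (ι → AlgebraicClosure F),
      (∀ g ∈ Bh e, ∀ v ∈ W', rep P g v ∈ W') → W' = ⊥ ∨ W' = ⊤ := fun W' hW' =>
    six_irred h hK (rep P) rep_injective (fun z hz => rep_scalar e hz) h2 hd W' hW'
  rw [← hset]
  apply Cfsg.Agent.H920.span_eq_top
  constructor
  · intro W' hW'
    apply hirr W'
    intro g hg v hv
    have h1 := hW' (mrep P g) (by rw [hset]; exact ⟨g, hg, rfl⟩)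
    exact h1 ⟨v, hv, rfl⟩
  · intro M hM
    have hnt : Nontrivial (ι → AlgebraicClosure F) := inferInstance
    obtain ⟨c, hc⟩ := Module.End.exists_eigenvalue (Matrix.toLin' M)
    refine ⟨c, ?_⟩
    have h1 := hirr (Module.End.eigenspace (Matrix.toLin' M) c) (by
      intro g hg v hv
      rw [Module.End.mem_eigenspace_iff] at hv ⊢
      have h3 := hM (mrep P g) (by rw [hset]; exact ⟨g, hg, rfl⟩)
      have h4 := congrArg Matrix.toLin' h3
      rw [Matrix.toLin'_mul, Matrix.toLin'_mul] at h4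
      have h5 := congrArg (fun f : (ι → AlgebraicClosure F) →ₗ[AlgebraicClosure F] (ι → AlgebraicClosure F) => f v) h4
      change Matrix.toLin' M (rep P g v) = rep P g (Matrix.toLin' M v) at h5
      rw [h5, hv, map_smul])
    have h3 : Module.End.eigenspace (Matrix.toLin' M) c = ⊤ := by
      rcases h1 with h1 | h1
      · exact absurd h1 hc
      · exact h1
    have h4 : Matrix.toLin' M = Matrix.toLin' (c • (1 : Matrix ι ι (AlgebraicClosure F))) := by
      ext1 v
      rw [map_smul, Matrix.toLin'_one]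
      have h5 : (LinearMap.single (AlgebraicClosure F) (fun _ : ι => AlgebraicClosure F) v 1) ∈
        Module.End.eigenspace (Matrix.toLin' M) c := by rw [h3]; trivial
      rw [Module.End.mem_eigenspace_iff] at h5
      apply LinearMap.ext_ring
      exact h5
    exact Matrix.toLin'.injective h4

/-- glueing along the Borel subgroup -/
theorem glue (hK : Fintype.card K = 4) [Nonempty ι] {ρ₁ ρ₂ : P →* Matrix ι ι (AlgebraicClosure F)}
    (s₁ : Submodule.span (AlgebraicClosure F) (ρ₁ '' (Bh e : Set P)) = ⊤)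
    (s₂ : Submodule.span (AlgebraicClosure F) (ρ₂ '' (Bh e : Set P)) = ⊤)
    (ta : ∀ g ∈ Ma e, (ρ₁ g).trace = (ρ₂ g).trace) (tb : ∀ g ∈ Mb e, (ρ₁ g).trace = (ρ₂ g).trace) (g : P) :
    (ρ₁ g).trace = (ρ₂ g).trace := by
  have mono : ∀ (ρ : P →* Matrix ι ι (AlgebraicClosure F)) (Q : Subgroup P), Bh e ≤ Q →
      Submodule.span (AlgebraicClosure F) (ρ '' (Bh e : Set P)) = ⊤ →
      Submodule.span (AlgebraicClosure F) (ρ '' (Q : Set P)) = ⊤ := by
    intro ρ Q hQ hs
    rw [eq_top_iff, ← hs]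
    exact Submodule.span_mono (Set.image_mono hQ)
  obtain ⟨B₁, hB₁⟩ := L34.exists_agree ρ₁ ρ₂ (Ma e) (mono _ _ (Bh_le_Ma e) s₁) (mono _ _ (Bh_le_Ma e) s₂) ta
  obtain ⟨B₂, hB₂⟩ := L34.exists_agree ρ₁ ρ₂ (Mb e) (mono _ _ (Bh_le_Mb e) s₁) (mono _ _ (Bh_le_Mb e) s₂) tb
  have h1 := L34.agree_eq s₁ ((Bh_le_Ma e).trans hB₁) ((Bh_le_Mb e).trans hB₂)
  have h2 : (⊤ : Subgroup P) ≤ L34.agree ρ₁ ρ₂ B₁ := by
    rw [← Ma_sup_Mb e hK]
    exact sup_le hB₁ (by rw [h1]; exact hB₂)
  have h3 : L34.cjB B₁ ρ₁ g = ρ₂ g := h2 (Subgroup.mem_top g)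
  rw [← h3, L34.cjB_apply, Matrix.trace_mul_comm, ← mul_assoc, ← Units.val_mul, inv_mul_cancel, Units.val_one, one_mul]

end Cfsg.Agent.H906.T14
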