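import Cfsg.Agent.H906.ThreeByThree

/-!
# `A₆ = L₂(9)` in dimension three, characteristic different from three (helper906)
-/

set_option autoImplicit false
set_option linter.unusedSectionVars false

namespace Cfsg.Agent.H906

open Cfsg Cfsg.Geo
open scoped MatrixGroups Matrix

variable {F : Type*} [Field F] {P : Subgroup (GL (Fin 3) F)}

section Gen

variable {Γ : Type*} [Group Γ] {Φ : (P ⧸ (scalars (Fin 3) F).subgroupOf P) ≃* Γ}

/-- Only the identity commutes, on the level of lifts, with a Heisenberg pair. -/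
theorem heis_one {e f z : Γ} {c : Fˣ} (h : Br Φ e f c) (hc : c ≠ 1) (h1 : Br Φ z e 1) (h2 : Br Φ z f 1) :
    z = 1 := by
  obtain ⟨x, hx⟩ := pr_surjective Φ e
  obtain ⟨y, hy⟩ := pr_surjective Φ f
  obtain ⟨w, hw⟩ := pr_surjective Φ z
  have hcF : (c : F) ^ 3 = 1 := by rw [← Units.val_pow_eq_pow_val, h.pow_three, Units.val_one]
  have hcF1 : (c : F) ≠ 1 := fun h => hc (Units.ext (by rw [h, Units.val_one]))
  obtain ⟨s, hs⟩ := heis_scalar hcF hcF1 (x := (x : GL (Fin 3) F)) (y := (y : GL (Fin 3) F)) (z := (w : GL (Fin 3) F))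
    (by
      have := h x y hx hy
      rwa [Units.val_mul, Units.val_mul] at this)
    (h1.comm_of_one hw hx) (h2.comm_of_one hw hy)
  have hs0 : s ≠ 0 := by
    rintro rfl
    rw [zero_smul] at hs
    exact (Units.ne_zero (w : GL (Fin 3) F)) hs
  rw [← hw]
  exact (pr_eq_one Φ).2 ((mem_scalars_iff _).2 ⟨Units.mk0 s hs0, hs⟩)

/-- An element with a non-trivial commutator scalar has trace zero. -/
theorem trace_eq_zero_of_br {e f : Γ} {c : Fˣ} (h : Br Φ e f c) (hc : c ≠ 1) {a : P} (ha : pr Φ a = e) :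
    ((a : GL (Fin 3) F) : Matrix (Fin 3) (Fin 3) F).trace = 0 := by
  obtain ⟨b, hb⟩ := pr_surjective Φ f
  have h1 := h a b ha hb
  have h2 : ((a : GL (Fin 3) F) : Matrix (Fin 3) (Fin 3) F) =
      (c : F) • (((b : GL (Fin 3) F) * a * (b : GL (Fin 3) F)⁻¹ : GL (Fin 3) F) : Matrix (Fin 3) (Fin 3) F) := by
    rw [Units.val_mul, ← Matrix.smul_mul, ← h1, ← Units.val_mul]
    congr 1
    group
  have h3 := congrArg Matrix.trace h2
  rw [Matrix.trace_smul, trace_conj, smul_eq_mul] at h3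
  have h4 : ((c : F) - 1) * ((a : GL (Fin 3) F) : Matrix (Fin 3) (Fin 3) F).trace = 0 := by
    rw [sub_mul, one_mul, ← h3, sub_self]
  refine (mul_eq_zero.1 h4).resolve_left fun h5 => hc (Units.ext ?_)
  rw [Units.val_one]
  exact sub_eq_zero.1 h5

/-- Trace of a lift of a conjugate. -/
lemma trace_zero_of_conj {e : Γ} (h : ∀ a : P, pr Φ a = e → ((a : GL (Fin 3) F) : Matrix (Fin 3) (Fin 3) F).trace = 0)
    {x y : Γ} (hy : y * x * y⁻¹ = e) {a : P} (ha : pr Φ a = x) :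
    ((a : GL (Fin 3) F) : Matrix (Fin 3) (Fin 3) F).trace = 0 := by
  obtain ⟨b, hb⟩ := pr_surjective Φ y
  have h1 := h (b * a * b⁻¹) (by rw [map_mul, map_mul, map_inv, ha, hb, hy])
  rw [← h1]
  exact (trace_conj (b : GL (Fin 3) F) (a : GL (Fin 3) F)).symm

/-- Lifts of the same exponent prime to three of conjugate elements are conjugate. -/
theorem trace_eq_of_pow (hdet : P ≤ specialLinear (Fin 3) F) {n : ℕ} (hn : n.Coprime 3) {a b : P}
    (ha : a ^ n = 1) (hb : b ^ n = 1) (h : ∃ y : Γ, y * pr Φ a * y⁻¹ = pr Φ b) :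
    ((a : GL (Fin 3) F) : Matrix (Fin 3) (Fin 3) F).trace = ((b : GL (Fin 3) F) : Matrix (Fin 3) (Fin 3) F).trace := by
  obtain ⟨y, hy⟩ := h
  obtain ⟨c, rfl⟩ := pr_surjective Φ y
  -- `w` is the scalar difference
  set w : P := (c * a * c⁻¹) * b⁻¹ with hw
  have hw1 : (w : GL (Fin 3) F) ∈ scalars (Fin 3) F := by
    rw [← pr_eq_one Φ, hw, map_mul, map_mul, map_mul, map_inv, map_inv, hy, mul_inv_cancel]
  have hwc : ∀ g : P, w * g = g * w := by
    intro g
    have := scalars_le_center (P := P) (F := F) (Subgroup.mem_subgroupOf.2 hw1)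
    rw [Subgroup.mem_center_iff] at this
    exact (this g).symm
  have h3 : w ^ 3 = 1 := Subtype.ext (scalar_pow_three hdet w.2 hw1)
  have hn1 : w ^ n = 1 := by
    have e1 : c * a * c⁻¹ = w * b := by rw [hw]; group
    have e2 : (c * a * c⁻¹) ^ n = 1 := by rw [conj_pow, ha]; group
    rw [e1, (show Commute w b from hwc b).mul_pow, hb, mul_one] at e2
    exact e2
  have hw0 : w = 1 := by
    have h4 : orderOf w ∣ Nat.gcd n 3 := Nat.dvd_gcd (orderOf_dvd_of_pow_eq_one hn1) (orderOf_dvd_of_pow_eq_one h3)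
    rw [hn] at h4
    exact orderOf_eq_one_iff.1 (Nat.dvd_one.1 h4)
  have h5 : c * a * c⁻¹ = b := by
    rw [hw] at hw0
    exact mul_inv_eq_one.1 hw0
  rw [← h5]
  exact (trace_conj (c : GL (Fin 3) F) (a : GL (Fin 3) F)).symm

/-- Splitting off a scalar. -/
theorem exists_split (hdet : P ≤ specialLinear (Fin 3) F) {n j : ℕ} (hj : 3 ∣ 1 + j * n) (g : P)
    (hg : pr Φ g ^ n = 1) :
    ∃ (ζ : F) (g₀ : P), ζ ^ 3 = 1 ∧ g₀ ^ n = 1 ∧ pr Φ g₀ = pr Φ g ∧ (∃ k : ℕ, g₀ = g ^ k) ∧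
      ((g : GL (Fin 3) F) : Matrix (Fin 3) (Fin 3) F) = ζ • ((g₀ : GL (Fin 3) F) : Matrix (Fin 3) (Fin 3) F) := by
  have hs : ((g ^ n : P) : GL (Fin 3) F) ∈ scalars (Fin 3) F := by rw [← pr_eq_one Φ, map_pow, hg]
  have h3 : (g ^ n) ^ 3 = 1 := Subtype.ext (scalar_pow_three hdet (g ^ n).2 hs)
  have hsj : (((g ^ n) ^ j : P) : GL (Fin 3) F) ∈ scalars (Fin 3) F := by
    rw [Subgroup.coe_pow]; exact Subgroup.pow_mem _ hs j
  -- `g₀ = g ^ (1 + j n)`
  refine ?_
  have hsj' : ((((g ^ n) ^ j)⁻¹ : P) : GL (Fin 3) F) ∈ scalars (Fin 3) F := by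
    rw [Subgroup.coe_inv]; exact Subgroup.inv_mem _ hsj
  obtain ⟨ζ, hζ⟩ := (mem_scalars_iff _).1 hsj'
  have hζ3 : (((g ^ n) ^ j)⁻¹ : P) ^ 3 = 1 := by
    rw [inv_pow, ← pow_mul, mul_comm, pow_mul, h3, one_pow, inv_one]
  refine ⟨ζ, g ^ (1 + j * n), ?_, ?_, ?_, ⟨_, rfl⟩, ?_⟩
  · have h4 := congrArg (fun z : P => ((z : GL (Fin 3) F) : Matrix (Fin 3) (Fin 3) F)) hζ3
    simp only [Subgroup.coe_pow, Units.val_pow_eq_pow_val, hζ] at h4
    rw [_root_.smul_pow, one_pow] at h4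
    have h5 := congrFun (congrFun h4 0) 0
    simpa using h5
  · obtain ⟨m, hm⟩ := hj
    rw [hm, ← pow_mul, mul_assoc, mul_comm m n, ← mul_assoc, mul_comm 3 n, pow_mul, pow_mul, h3, one_pow]
  · rw [pow_add, pow_one, mul_comm j n, pow_mul, map_mul, map_pow, map_pow, hg, one_pow, mul_one]
  · have h6 : g = (((g ^ n) ^ j)⁻¹ : P) * g ^ (1 + j * n) := by
      rw [pow_add, pow_one, mul_comm j n, pow_mul]
      have hc : Commute g ((g ^ n) ^ j) := (Commute.refl g).pow_right n |>.pow_right j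
      rw [hc.eq]; group
    conv_lhs => rw [h6]
    rw [Subgroup.coe_mul, Units.val_mul, hζ, Matrix.smul_mul, Matrix.one_mul]

end Gen

/-- The elements of `PSL₂(9)`. -/
lemma L2_nine_elements {K : Type*} [Field K] [Finite K] [CharP K 3] (hK : Nat.card K = 9)
    (x : Matrix.ProjectiveSpecialLinearGroup (Fin 2) K) :
    (∃ y, ∃ b : K, y * x * y⁻¹ = unP K (Multiplicative.ofAdd b)) ∨
    ((∃ y, y * x * y⁻¹ = x⁻¹) ∧ (x ^ 4 = 1 ∨ x ^ 5 = 1)) := by
  have h3p : Fact (Nat.Prime 3) := ⟨by norm_num⟩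
  have h30 : (3 : K) = 0 := by exact_mod_cast CharP.cast_eq_zero K 3
  obtain ⟨s, rfl⟩ := QuotientGroup.mk_surjective x
  by_cases ht : (s.1 0 0 + s.1 1 1) ^ 2 - 4 = 0
  · exact Or.inl (mk_conj_un s ht 3)
  · right
    constructor
    · obtain ⟨h, hh⟩ := SL2_conj_inv s ht
      refine ⟨QuotientGroup.mk h, ?_⟩
      rw [← QuotientGroup.mk_inv, ← QuotientGroup.mk_mul, ← QuotientGroup.mk_mul, hh, QuotientGroup.mk_inv]
    · set t := s.1 0 0 + s.1 1 1 with htdef
      have hpow : t ^ 9 = t := by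
        have := Fintype.ofFinite K
        have h1 := FiniteField.pow_card t
        rwa [← Nat.card_eq_fintype_card, hK] at h1
      have hprod : t * ((t ^ 2 - 4) * ((t ^ 2 + 1) * (t ^ 4 + 1))) = 0 := by
        linear_combination hpow - (t ^ 7 + t ^ 5 + t ^ 3 + t) * h30
      rcases mul_eq_zero.1 hprod with h | h
      · left
        apply mk_pow_eq_one s 4 1 (one_pow 2)
        rw [SL2_four, ← htdef, h]
        simp
      · rcases (mul_eq_zero.1 h).resolve_left ht |> mul_eq_zero.1 with h | h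
        · left
          apply mk_pow_eq_one s 4 (-1) (by ring)
          rw [SL2_four, ← htdef]
          have e1 : t ^ 3 - 2 * t = 0 := by linear_combination t * h - t * h30
          have e2 : t ^ 2 - 1 = 1 := by linear_combination h - h30
          rw [e1, e2, zero_smul, zero_sub, neg_smul]
        · right
          apply mk_pow_eq_one s 5 (-(t ^ 3 - 2 * t)) (by
            linear_combination (t ^ 2 - 4) * h + (t ^ 2 + 1) * h30)
          rw [SL2_five, ← htdef]
          have e1 : t ^ 4 - 3 * t ^ 2 + 1 = 0 := by linear_combination h - t ^ 2 * h30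
          rw [e1, zero_smul, zero_sub, neg_smul]

end Cfsg.Agent.H906
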