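import Cfsg.Agent.H906.TrA6

/-!
# `A₆ = L₂(9)` in dimension three, characteristic different from three: conclusion (helper906)
-/

set_option autoImplicit false
set_option linter.unusedSectionVars false

namespace Cfsg.Agent.H906

open Cfsg Cfsg.Geo
open scoped MatrixGroups Matrix

variable {F : Type*} [Field F] {P : Subgroup (GL (Fin 3) F)}

lemma card_cases [Finite F] (p : ℕ) [hp : Fact p.Prime] [CharP F p] (h : ∀ x : F, x ^ p ^ 2 = x) :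
    Nat.card F = p ∨ Nat.card F = p ^ 2 := by
  have := Fintype.ofFinite F
  obtain ⟨e, he0, he⟩ := FiniteField.card F p
  rw [← Nat.card_eq_fintype_card] at he
  have h11 : 1 < p ^ 2 := by have := hp.out.two_le; nlinarith
  have h6 := card_le_of_pow_eq (m := p ^ 2) h11 h
  have h7 : Nat.card F ≤ p ^ 2 := by
    have h8 : 0 < p ^ 2 - 1 := by omega
    have h9 := Nat.le_of_dvd h8 h6
    have h10 : 0 < Nat.card F := Nat.card_pos
    omega
  rw [he] at h7 ⊢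
  have h8 : (e : ℕ) ≤ 2 := (Nat.pow_le_pow_iff_right hp.out.one_lt).1 h7
  have h10 : 0 < (e : ℕ) := e.pos
  have h12 : (e : ℕ) = 1 ∨ (e : ℕ) = 2 := by omega
  rcases h12 with h | h
  · left; rw [h, pow_one]
  · right; rw [h]

lemma card_of_pow_prime [Finite F] (p : ℕ) [hp : Fact p.Prime] [CharP F p] (h : ∀ x : F, x ^ p = x) :
    Nat.card F = p := by
  have := Fintype.ofFinite F
  obtain ⟨e, he0, he⟩ := FiniteField.card F p
  rw [← Nat.card_eq_fintype_card] at he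
  have h6 := card_le_of_pow_eq hp.out.two_le h
  have h7 : Nat.card F - 1 ≤ p - 1 := Nat.le_of_dvd (by have := hp.out.two_le; omega) h6
  have h8 : p ≤ Nat.card F := by
    rw [he]
    calc p = p ^ 1 := (pow_one p).symm
      _ ≤ p ^ (e : ℕ) := Nat.pow_le_pow_right hp.out.pos e.2
  have := hp.out.two_le
  omega

/-- Splitting of the elements of `3.A₆`. -/
theorem L2_nine_split [Finite F] (hperf : ⁅P, P⁆ = P) {K : Type*} [Field K] [Finite K] (hK : Nat.card K = 9)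
    (h3F : (3 : F) ≠ 0)
    (Φ : (P ⧸ (scalars (Fin 3) F).subgroupOf P) ≃* Matrix.ProjectiveSpecialLinearGroup (Fin 2) K) (g : P) :
    (((g : GL (Fin 3) F) : Matrix (Fin 3) (Fin 3) F).trace = 0 ∧
      (((g : GL (Fin 3) F)⁻¹ : GL (Fin 3) F) : Matrix (Fin 3) (Fin 3) F).trace = 0) ∨
    ∃ (ζ : F) (g₀ : P), ζ ^ 3 = 1 ∧ (g₀ ^ 4 = 1 ∨ g₀ ^ 5 = 1) ∧ (∃ k : ℕ, g₀ = g ^ k) ∧
      ((g : GL (Fin 3) F) : Matrix (Fin 3) (Fin 3) F).trace = ζ * ((g₀ : GL (Fin 3) F) : Matrix (Fin 3) (Fin 3) F).trace ∧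
      (((g : GL (Fin 3) F)⁻¹ : GL (Fin 3) F) : Matrix (Fin 3) (Fin 3) F).trace =
        ζ ^ 2 * ((g₀ : GL (Fin 3) F) : Matrix (Fin 3) (Fin 3) F).trace ∧
      (((g₀ : GL (Fin 3) F)⁻¹ : GL (Fin 3) F) : Matrix (Fin 3) (Fin 3) F).trace =
        ((g₀ : GL (Fin 3) F) : Matrix (Fin 3) (Fin 3) F).trace ∧ pr Φ g₀ = pr Φ g := by
  have h3p : Fact (Nat.Prime 3) := ⟨by norm_num⟩
  have := Fintype.ofFinite K
  have hchar : CharP K 3 := by
    obtain ⟨q, hq⟩ := CharP.exists K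
    obtain ⟨n, hqp, hn⟩ := FiniteField.card K q
    rw [← Nat.card_eq_fintype_card, hK] at hn
    have h1 : q ∣ 3 ^ 2 := by
      rw [show (3 ^ 2 : ℕ) = 9 by norm_num, hn]; exact dvd_pow_self q n.2.ne'
    have h2 := hqp.dvd_of_dvd_pow h1
    rwa [(Nat.prime_dvd_prime_iff_eq hqp h3p.out).1 h2] at hq
  have h30 : (3 : K) = 0 := by exact_mod_cast CharP.cast_eq_zero K 3
  have h20 : (2 : K) ≠ 0 := by
    intro h
    have : (1 : K) = 0 := by linear_combination h30 - h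
    exact one_ne_zero this
  have hdet := le_specialLinear hperf
  -- the Heisenberg pair
  have hpair : ∃ s ∈ EP K, ∃ t ∈ EP K, ∃ c : Fˣ, c ≠ 1 ∧ Br Φ s t c := by
    rcases crossL2 hdet 3 (by exact_mod_cast h3F) h20 Φ with ⟨-, h⟩ | ⟨-, -, h⟩
    · exfalso; rw [hK] at h; omega
    · exact h
  obtain ⟨s, hs, t, ht, c, hc, hst⟩ := hpair
  have hzero : ∀ e ∈ EP K, e ≠ 1 → ∀ a : P, pr Φ a = e →
      ((a : GL (Fin 3) F) : Matrix (Fin 3) (Fin 3) F).trace = 0 := by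
    intro e he he1 a ha
    obtain ⟨k, hk⟩ := Br.exists_of_comm (Φ := Φ) (EP_comm e he s hs)
    obtain ⟨l, hl⟩ := Br.exists_of_comm (Φ := Φ) (EP_comm e he t ht)
    by_cases hk1 : k = 1
    · by_cases hl1 : l = 1
      · exfalso
        rw [hk1] at hk
        rw [hl1] at hl
        exact he1 (heis_one hst hc hk hl)
      · exact trace_eq_zero_of_br hl hl1 ha
    · exact trace_eq_zero_of_br hk hk1 ha
  have hunip : ∀ a : P, (∃ y, ∃ b : K, y * pr Φ a * y⁻¹ = unP K (Multiplicative.ofAdd b)) → pr Φ a ≠ 1 →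
      ((a : GL (Fin 3) F) : Matrix (Fin 3) (Fin 3) F).trace = 0 := by
    rintro a ⟨y, b, hy⟩ ha1
    refine trace_zero_of_conj (hzero _ ⟨_, rfl⟩ ?_) hy rfl
    rw [← hy]
    intro h
    apply ha1
    calc pr Φ a = y⁻¹ * (y * pr Φ a * y⁻¹) * y := by group
      _ = 1 := by rw [h]; group
  -- the split case
  have hsplit : ((∃ y, y * pr Φ g * y⁻¹ = (pr Φ g)⁻¹) ∧ (pr Φ g ^ 4 = 1 ∨ pr Φ g ^ 5 = 1)) →
      ∃ (ζ : F) (g₀ : P), ζ ^ 3 = 1 ∧ (g₀ ^ 4 = 1 ∨ g₀ ^ 5 = 1) ∧ (∃ k : ℕ, g₀ = g ^ k) ∧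
      ((g : GL (Fin 3) F) : Matrix (Fin 3) (Fin 3) F).trace = ζ * ((g₀ : GL (Fin 3) F) : Matrix (Fin 3) (Fin 3) F).trace ∧
      (((g : GL (Fin 3) F)⁻¹ : GL (Fin 3) F) : Matrix (Fin 3) (Fin 3) F).trace =
        ζ ^ 2 * ((g₀ : GL (Fin 3) F) : Matrix (Fin 3) (Fin 3) F).trace ∧
      (((g₀ : GL (Fin 3) F)⁻¹ : GL (Fin 3) F) : Matrix (Fin 3) (Fin 3) F).trace =
        ((g₀ : GL (Fin 3) F) : Matrix (Fin 3) (Fin 3) F).trace ∧ pr Φ g₀ = pr Φ g := by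
    rintro ⟨⟨y, hy⟩, hn⟩
    obtain ⟨n, j, hnj, hn3, hn45, hgn⟩ : ∃ n j : ℕ, 3 ∣ 1 + j * n ∧ n.Coprime 3 ∧ (n = 4 ∨ n = 5) ∧ pr Φ g ^ n = 1 := by
      rcases hn with h | h
      · exact ⟨4, 2, by norm_num, by norm_num, Or.inl rfl, h⟩
      · exact ⟨5, 1, by norm_num, by norm_num, Or.inr rfl, h⟩
    obtain ⟨ζ, g₀, hζ, hg₀, hpr, hk, hval⟩ := exists_split (Φ := Φ) hdet hnj g hgn
    have hreal : (((g₀ : GL (Fin 3) F)⁻¹ : GL (Fin 3) F) : Matrix (Fin 3) (Fin 3) F).trace =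
        ((g₀ : GL (Fin 3) F) : Matrix (Fin 3) (Fin 3) F).trace := by
      have h1 := trace_eq_of_pow (Φ := Φ) hdet hn3 (a := g₀) (b := g₀⁻¹) hg₀ (by rw [inv_pow, hg₀, inv_one])
        ⟨y, by rw [map_inv, hpr]; exact hy⟩
      exact h1.symm
    have hinv : (((g : GL (Fin 3) F)⁻¹ : GL (Fin 3) F) : Matrix (Fin 3) (Fin 3) F) =
        ζ ^ 2 • (((g₀ : GL (Fin 3) F)⁻¹ : GL (Fin 3) F) : Matrix (Fin 3) (Fin 3) F) := by
      have h1 : ((g : GL (Fin 3) F) : Matrix (Fin 3) (Fin 3) F) *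
          (ζ ^ 2 • (((g₀ : GL (Fin 3) F)⁻¹ : GL (Fin 3) F) : Matrix (Fin 3) (Fin 3) F)) = 1 := by
        rw [hval, Matrix.smul_mul, Matrix.mul_smul, smul_smul, ← Units.val_mul, mul_inv_cancel, Units.val_one,
          ← pow_succ', hζ, one_smul]
      calc (((g : GL (Fin 3) F)⁻¹ : GL (Fin 3) F) : Matrix (Fin 3) (Fin 3) F)
          = (((g : GL (Fin 3) F)⁻¹ : GL (Fin 3) F) : Matrix (Fin 3) (Fin 3) F) *
            (((g : GL (Fin 3) F) : Matrix (Fin 3) (Fin 3) F) *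
              (ζ ^ 2 • (((g₀ : GL (Fin 3) F)⁻¹ : GL (Fin 3) F) : Matrix (Fin 3) (Fin 3) F))) := by rw [h1, mul_one]
        _ = _ := by rw [← mul_assoc, ← Units.val_mul, inv_mul_cancel, Units.val_one, one_mul]
    refine ⟨ζ, g₀, hζ, ?_, hk, ?_, ?_, hreal, hpr⟩
    · rcases hn45 with h | h
      · left; rw [← h]; exact hg₀
      · right; rw [← h]; exact hg₀
    · rw [hval, Matrix.trace_smul, smul_eq_mul]
    · rw [hinv, Matrix.trace_smul, smul_eq_mul, hreal]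
  rcases L2_nine_elements hK (pr Φ g) with h | h
  · by_cases h1 : pr Φ g = 1
    · right
      apply hsplit
      rw [h1]
      exact ⟨⟨1, by simp⟩, Or.inl (one_pow 4)⟩
    · left
      refine ⟨hunip g h h1, ?_⟩
      obtain ⟨y, b, hy⟩ := h
      refine hunip g⁻¹ ⟨y, -b, ?_⟩ (by rw [map_inv]; exact inv_ne_one.2 h1)
      rw [map_inv]
      have h4 : y * (pr Φ g)⁻¹ * y⁻¹ = (y * pr Φ g * y⁻¹)⁻¹ := by group
      rw [h4, hy, ← map_inv]
      rfl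
  · exact Or.inr (hsplit h)

end Cfsg.Agent.H906
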