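import Cfsg.Agent.H906.TrA6b

/-!
# `A₆ = L₂(9)` in dimension three: conclusion (helper906)
-/

set_option autoImplicit false
set_option linter.unusedSectionVars false

namespace Cfsg.Agent.H906

open Cfsg Cfsg.Geo
open scoped MatrixGroups Matrix

variable {F : Type*} [Field F] {P : Subgroup (GL (Fin 3) F)}

lemma fixed_pow [Finite F] (p : ℕ) [hp : Fact p.Prime] (hF : Nat.card F = p ^ 2) (σ : F ≃+* F)
    (hσ : σ ≠ RingEquiv.refl F) {x : F} (hx : σ x = x) : x ^ p = x := by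
  classical
  have := Fintype.ofFinite F
  let S : Subfield F := (σ : F →+* F).eqLocusField (RingHom.id F)
  have hxS : x ∈ S := hx
  have h1 : Nat.card F = Nat.card S ^ Module.finrank S F := Module.natCard_eq_pow_finrank
  have h2 : Nat.card S ∣ p ^ 2 := by
    rw [← hF, h1]
    refine dvd_pow_self _ ?_
    have : 0 < Module.finrank S F := Module.finrank_pos
    omega
  obtain ⟨j, hj, hcard⟩ := (Nat.dvd_prime_pow hp.out).1 h2
  have h3 : 1 < Nat.card S := Finite.one_lt_card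
  have hj0 : j ≠ 0 := by rintro rfl; rw [hcard, pow_zero] at h3; omega
  have hj2 : j ≠ 2 := by
    rintro rfl
    apply hσ
    have h4 : (S : Set F) = Set.univ := by
      apply Set.eq_of_subset_of_ncard_le (Set.subset_univ _) _ (Set.toFinite _)
      rw [Set.ncard_univ, hF, ← hcard]
      exact le_of_eq rfl
    ext y
    have h5 : y ∈ (S : Set F) := by rw [h4]; exact Set.mem_univ y
    exact h5
  have hj1 : j = 1 := by omega
  rw [hj1, pow_one] at hcard
  have h6 := FiniteField.pow_card (⟨x, hxS⟩ : S)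
  rw [← Nat.card_eq_fintype_card, hcard] at h6
  exact congrArg Subtype.val h6

/-- Elements of order five of `PSL₂(9)`. -/
lemma exists_five_nine {K : Type*} [Field K] [Finite K] [CharP K 3] (hK : Nat.card K = 9) :
    ∃ x : Matrix.ProjectiveSpecialLinearGroup (Fin 2) K, x ^ 5 = 1 ∧ x ≠ 1 ∧ ∃ y, y * x * y⁻¹ = x⁻¹ := by
  have h30 : (3 : K) = 0 := by exact_mod_cast CharP.cast_eq_zero K 3
  obtain ⟨u, hu⟩ := IsCyclic.exists_generator (α := Kˣ)
  have hord : orderOf u = 8 := by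
    rw [orderOf_eq_card_of_forall_mem_zpowers hu, Nat.card_units, hK]
  set t : K := (u : K) with ht
  have ht4 : t ^ 4 + 1 = 0 := by
    have h1 : (t ^ 4 - 1) * (t ^ 4 + 1) = 0 := by
      have h2 : t ^ 8 = 1 := by
        rw [ht, ← Units.val_pow_eq_pow_val, ← hord, pow_orderOf_eq_one, Units.val_one]
      linear_combination h2
    refine (mul_eq_zero.1 h1).resolve_left fun h2 => ?_
    have h3 : u ^ 4 = 1 := Units.ext (by rw [Units.val_pow_eq_pow_val, Units.val_one]; exact sub_eq_zero.1 h2)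
    have h4 := orderOf_dvd_of_pow_eq_one h3
    rw [hord] at h4
    norm_num at h4
  obtain ⟨s, hs⟩ : ∃ s : SL(2, K), s.1 = !![t, -1; 1, 0] :=
    ⟨⟨!![t, -1; 1, 0], by rw [Matrix.det_fin_two]; simp⟩, rfl⟩
  have htr : s.1 0 0 + s.1 1 1 = t := by rw [hs]; simp
  have h5 : (QuotientGroup.mk s : Matrix.ProjectiveSpecialLinearGroup (Fin 2) K) ^ 5 = 1 := by
    apply mk_pow_eq_one s 5 (-(t ^ 3 - 2 * t)) (by
      linear_combination (t ^ 2 - 4) * ht4 + (t ^ 2 + 1) * h30)
    rw [SL2_five, htr]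
    have e1 : t ^ 4 - 3 * t ^ 2 + 1 = 0 := by linear_combination ht4 - t ^ 2 * h30
    rw [e1, zero_smul, zero_sub, neg_smul]
  have h1 : (QuotientGroup.mk s : Matrix.ProjectiveSpecialLinearGroup (Fin 2) K) ≠ 1 := by
    intro h
    have h2 := (QuotientGroup.eq_one_iff s).1 h
    rw [Matrix.SpecialLinearGroup.mem_center_iff] at h2
    obtain ⟨r, -, hr⟩ := h2
    have h3 := congrFun (congrFun hr 1) 0
    rw [hs] at h3
    simp at h3
  refine ⟨QuotientGroup.mk s, h5, h1, ?_⟩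
  rcases L2_nine_elements hK (QuotientGroup.mk s) with ⟨y, b, hy⟩ | ⟨h, -⟩
  · exfalso
    apply h1
    have h3 : (QuotientGroup.mk s : Matrix.ProjectiveSpecialLinearGroup (Fin 2) K) ^ 3 = 1 := by
      have h4 : (unP K (Multiplicative.ofAdd b)) ^ 3 = 1 := EP_pow 3 _ ⟨_, rfl⟩
      rw [← hy, conj_pow] at h4
      calc _ = y⁻¹ * (y * (QuotientGroup.mk s : Matrix.ProjectiveSpecialLinearGroup (Fin 2) K) ^ 3 * y⁻¹) * y := by group
        _ = 1 := by rw [h4]; group
    have h4 : orderOf (QuotientGroup.mk s : Matrix.ProjectiveSpecialLinearGroup (Fin 2) K) ∣ Nat.gcd 3 5 :=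
      Nat.dvd_gcd (orderOf_dvd_of_pow_eq_one h3) (orderOf_dvd_of_pow_eq_one h5)
    exact orderOf_eq_one_iff.1 (Nat.dvd_one.1 h4)
  · exact h

/-- **`A₆ = L₂(9)`**, characteristic different from three. -/
theorem L2_nine [Finite F] (hP : ActsAbsolutelyIrreducibly (matrixSet P)) (hperf : ⁅P, P⁆ = P)
    (hns : ∀ F₀ : Subfield F, F₀ ≠ ⊤ → ¬ RealisableOver F₀ (matrixSet P))
    {K : Type*} [Field K] [Finite K] [CharP K 3] (hK : Nat.card K = 9) (p : ℕ) [hp : Fact p.Prime] [CharP F p]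
    (hp3 : p ≠ 3)
    (Φ : (P ⧸ (scalars (Fin 3) F).subgroupOf P) ≃* Matrix.ProjectiveSpecialLinearGroup (Fin 2) K) :
    ((2 : F) ≠ 0 ∧
      ∃ Q : (Fin 3 → F) → F, IsNondegenerateQuadraticForm Q ∧ FixesQuadForm (matrixSet P) Q) ∨
    (Nat.card F = p ∧ (p % 15 = 1 ∨ p % 15 = 4)) ∨
    (Nat.card F = p ^ 2 ∧ (p % 15 = 11 ∨ p % 15 = 14 ∨ p = 5) ∧
      ∃ (σ : F ≃+* F) (f : (Fin 3 → F) → (Fin 3 → F) → F),
        (∀ x, σ x = x ^ p) ∧ IsUnitaryForm σ f ∧ FixesForm (matrixSet P) f) ∨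
    (Nat.card F = p ^ 2 ∧ (p % 5 = 2 ∨ p % 5 = 3) ∧
      ¬ ∃ (σ : F ≃+* F) (f : (Fin 3 → F) → (Fin 3 → F) → F), IsUnitaryForm σ f ∧ FixesForm (matrixSet P) f) := by
  have hdet := le_specialLinear hperf
  have h3F : (3 : F) ≠ 0 := charP_three_ne' p hp3
  have hsplit := L2_nine_split hperf hK h3F Φ
  have hpmod3 : p % 3 ≠ 0 := by
    intro h
    exact hp3 ((Nat.prime_dvd_prime_iff_eq Nat.prime_three hp.out).1 (Nat.dvd_of_mod_eq_zero h)).symm
  -- powers of the cube roots of one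
  have hzeta : ∀ ζ : F, ζ ^ 3 = 1 → ∀ n k : ℕ, n % 3 = k → ζ ^ n = ζ ^ k := by
    intro ζ hζ n k hk
    conv_lhs => rw [← Nat.mod_add_div n 3, pow_add, pow_mul, hζ, one_pow, mul_one, hk]
  have hpow5 : ∀ g₀ : P, g₀ ^ 5 = 1 → ∀ n k : ℕ, n % 5 = k → g₀ ^ n = g₀ ^ k := by
    intro g₀ h n k hk
    conv_lhs => rw [← Nat.mod_add_div n 5, pow_add, pow_mul, h, one_pow, mul_one, hk]
  -- traces of `p`-th powers
  have hfour : ∀ g₀ : P, g₀ ^ 4 = 1 → (orderOf g₀).Coprime p →
      (((g₀ : GL (Fin 3) F)⁻¹ : GL (Fin 3) F) : Matrix (Fin 3) (Fin 3) F).trace =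
        ((g₀ : GL (Fin 3) F) : Matrix (Fin 3) (Fin 3) F).trace →
      ((g₀ : GL (Fin 3) F) : Matrix (Fin 3) (Fin 3) F).trace ^ p =
        ((g₀ : GL (Fin 3) F) : Matrix (Fin 3) (Fin 3) F).trace := by
    intro g₀ h4 hcop hr
    rw [trace_pow_GL]
    rcases pow_prime_small (Or.inr rfl) h4 p hcop with h | h
    · have h1 : (g₀ : GL (Fin 3) F) ^ p = g₀ := by rw [← Subgroup.coe_pow, h]
      rw [h1]
    · have h1 : (g₀ : GL (Fin 3) F) ^ p = (g₀ : GL (Fin 3) F)⁻¹ := by rw [← Subgroup.coe_pow, h, Subgroup.coe_inv]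
      rw [h1, hr]
  have hcopk : ∀ (g g₀ : P), (orderOf (g : GL (Fin 3) F)).Coprime p → (∃ k : ℕ, g₀ = g ^ k) → (orderOf g₀).Coprime p := by
    rintro g g₀ hcop ⟨k, rfl⟩
    have h1 : orderOf (g ^ k) ∣ orderOf g := orderOf_pow_dvd k
    rw [← Subgroup.orderOf_coe g] at h1
    exact Nat.Coprime.of_dvd_left h1 hcop
  by_cases hc : p % 5 = 2 ∨ p % 5 = 3
  · right; right; right
    have hp5 : p ≠ 5 := by rintro rfl; omega
    have hp2mod5 : p ^ 2 % 5 = 4 := by
      rw [Nat.pow_mod]; rcases hc with h | h <;> rw [h]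
    have hp2mod3 : p ^ 2 % 3 = 1 := by
      rw [Nat.pow_mod]
      have : p % 3 = 1 ∨ p % 3 = 2 := by omega
      rcases this with h | h <;> rw [h]
    -- the traces lie in the field with `p²` elements
    have htr : ∀ g ∈ P, (g : Matrix (Fin 3) (Fin 3) F).trace ^ p ^ 2 = (g : Matrix (Fin 3) (Fin 3) F).trace := by
      intro g hg
      refine trace_of_reg' p (p ^ 2) (fun s hs hcop => ?_) g hg
      rcases hsplit ⟨s, hs⟩ with ⟨h, -⟩ | ⟨ζ, g₀, hζ, ho, hk, htr, -, hr, -⟩
      · have h1 : (s : Matrix (Fin 3) (Fin 3) F).trace = 0 := h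
        rw [h1, zero_pow (pow_ne_zero 2 hp.out.ne_zero)]
      · have h1 : (s : Matrix (Fin 3) (Fin 3) F).trace = ζ * ((g₀ : GL (Fin 3) F) : Matrix (Fin 3) (Fin 3) F).trace := htr
        rw [h1, mul_pow, hzeta ζ hζ _ 1 hp2mod3, pow_one]
        congr 1
        have hcop' := hcopk ⟨s, hs⟩ g₀ hcop hk
        rw [sq, pow_mul]
        rcases ho with h4 | h5
        · rw [hfour g₀ h4 hcop' hr, hfour g₀ h4 hcop' hr]
        · rw [trace_pow_GL, trace_pow_GL, ← pow_mul, ← sq]
          have h6 := hpow5 g₀ h5 _ 4 hp2mod5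
          have h7 : (g₀ : GL (Fin 3) F) ^ p ^ 2 = (g₀ : GL (Fin 3) F)⁻¹ := by
            rw [← Subgroup.coe_pow, h6, ← Subgroup.coe_inv]
            congr 1
            exact eq_inv_of_mul_eq_one_left (by rw [← pow_succ, h5])
          rw [h7, hr]
    have hall := pow_eq_of_no_subfield hP hns p 2 htr
    -- an element of order five
    obtain ⟨x, hx5, hx1, y, hy⟩ := exists_five_nine hK
    obtain ⟨g, rfl⟩ := pr_surjective Φ x
    obtain ⟨ζ, g₀, hζ, hg₀, hpr, hk, hval⟩ := exists_split (Φ := Φ) hdet (n := 5) (j := 1) (by norm_num) g hx5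
    have hg1 : (g₀ : GL (Fin 3) F) ≠ 1 := by
      intro h
      have h1 : g₀ = 1 := Subtype.ext h
      rw [h1, map_one] at hpr
      exact hx1 hpr.symm
    have hreal : ∀ a : P, a ^ 5 = 1 → (∃ y, y * pr Φ a * y⁻¹ = (pr Φ a)⁻¹) →
        (((a : GL (Fin 3) F)⁻¹ : GL (Fin 3) F) : Matrix (Fin 3) (Fin 3) F).trace =
          ((a : GL (Fin 3) F) : Matrix (Fin 3) (Fin 3) F).trace := by
      intro a ha hy
      have h1 := trace_eq_of_pow (Φ := Φ) hdet (n := 5) (by norm_num) (a := a) (b := a⁻¹) ha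
        (by rw [inv_pow, ha, inv_one]) (by rw [map_inv]; exact hy)
      exact h1.symm
    have hr := hreal g₀ hg₀ ⟨y, by rw [hpr]; exact hy⟩
    have hr2 := hreal (g₀ ^ 2) (by rw [← pow_mul, mul_comm, pow_mul, hg₀, one_pow])
      ⟨y, by rw [map_pow, hpr, ← conj_pow, hy, inv_pow]⟩
    have hg05 : (g₀ : GL (Fin 3) F) ^ 5 = 1 := by rw [← Subgroup.coe_pow, hg₀, Subgroup.coe_one]
    have hne := trace_sq_ne p hp5 (hdet g₀.2) hg05 hg1 hr
    have hpne : ((g₀ : GL (Fin 3) F) : Matrix (Fin 3) (Fin 3) F).trace ^ p ≠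
        ((g₀ : GL (Fin 3) F) : Matrix (Fin 3) (Fin 3) F).trace := by
      rw [trace_pow_GL]
      rcases hc with h | h
      · have h6 := hpow5 g₀ hg₀ _ 2 h
        have h7 : (g₀ : GL (Fin 3) F) ^ p = (g₀ : GL (Fin 3) F) ^ 2 := by
          rw [← Subgroup.coe_pow, h6, Subgroup.coe_pow]
        rw [h7]
        exact hne
      · have h6 := hpow5 g₀ hg₀ _ 3 h
        have h7 : (g₀ : GL (Fin 3) F) ^ p = ((g₀ ^ 2 : P) : GL (Fin 3) F)⁻¹ := by
          rw [← Subgroup.coe_pow, h6, ← Subgroup.coe_inv]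
          congr 1
          exact eq_inv_of_mul_eq_one_left (by rw [← pow_add, hg₀])
        rw [h7, hr2, Subgroup.coe_pow]
        exact hne
    have hcard : Nat.card F = p ^ 2 := by
      rcases card_cases p hall with h | h
      · exfalso
        apply hpne
        have := Fintype.ofFinite F
        have h8 := FiniteField.pow_card (((g₀ : GL (Fin 3) F) : Matrix (Fin 3) (Fin 3) F).trace)
        rwa [← Nat.card_eq_fintype_card, h] at h8
      · exact h
    refine ⟨hcard, hc, ?_⟩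
    rintro ⟨σ, f, hf, hfix⟩
    apply hpne
    apply fixed_pow p hcard σ hf.ne_refl
    rw [trace_of_unitary hf (fun u v => hfix _ ⟨g₀, g₀.2, rfl⟩ u v), hr]
  · have hc' : p % 5 = 0 ∨ p % 5 = 1 ∨ p % 5 = 4 := by omega
    have hp5 : p % 5 = 0 → p = 5 := fun h =>
      ((Nat.prime_dvd_prime_iff_eq (by norm_num) hp.out).1 (Nat.dvd_of_mod_eq_zero h)).symm
    -- traces of `p`-th powers of elements of order five
    have hfive : ∀ g₀ : P, g₀ ^ 5 = 1 → (orderOf g₀).Coprime p →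
        (((g₀ : GL (Fin 3) F)⁻¹ : GL (Fin 3) F) : Matrix (Fin 3) (Fin 3) F).trace =
          ((g₀ : GL (Fin 3) F) : Matrix (Fin 3) (Fin 3) F).trace →
        ((g₀ : GL (Fin 3) F) : Matrix (Fin 3) (Fin 3) F).trace ^ p =
          ((g₀ : GL (Fin 3) F) : Matrix (Fin 3) (Fin 3) F).trace := by
      intro g₀ h5 hcop hr
      rw [trace_pow_GL]
      rcases hc' with h | h | h
      · have h1 := hp5 h
        have h2 : orderOf g₀ ∣ Nat.gcd p p := by
          rw [Nat.gcd_self]
          have := orderOf_dvd_of_pow_eq_one h5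
          rwa [← h1] at this
        rw [Nat.gcd_self] at h2
        have h3 : orderOf g₀ = 1 := Nat.eq_one_of_dvd_coprimes hcop (dvd_refl _) h2
        rw [orderOf_eq_one_iff.1 h3, Subgroup.coe_one, one_pow]
      · have h6 := hpow5 g₀ h5 _ 1 h
        have h7 : (g₀ : GL (Fin 3) F) ^ p = (g₀ : GL (Fin 3) F) := by
          rw [← Subgroup.coe_pow, h6, pow_one]
        rw [h7]
      · have h6 := hpow5 g₀ h5 _ 4 h
        have h7 : (g₀ : GL (Fin 3) F) ^ p = (g₀ : GL (Fin 3) F)⁻¹ := by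
          rw [← Subgroup.coe_pow, h6, ← Subgroup.coe_inv]
          congr 1
          exact eq_inv_of_mul_eq_one_left (by rw [← pow_succ, h5])
        rw [h7, hr]
    have hpmod : p % 3 = 1 ∨ p % 3 = 2 := by omega
    rcases hpmod with h31 | h32
    · right; left
      have htr : ∀ g ∈ P, (g : Matrix (Fin 3) (Fin 3) F).trace ^ p ^ 1 = (g : Matrix (Fin 3) (Fin 3) F).trace := by
        intro g hg
        rw [pow_one]
        refine trace_of_reg' p p (fun s hs hcop => ?_) g hg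
        rcases hsplit ⟨s, hs⟩ with ⟨h, -⟩ | ⟨ζ, g₀, hζ, ho, hk, htr, -, hr, -⟩
        · have h1 : (s : Matrix (Fin 3) (Fin 3) F).trace = 0 := h
          rw [h1, zero_pow hp.out.ne_zero]
        · have h1 : (s : Matrix (Fin 3) (Fin 3) F).trace = ζ * ((g₀ : GL (Fin 3) F) : Matrix (Fin 3) (Fin 3) F).trace := htr
          rw [h1, mul_pow, hzeta ζ hζ _ 1 h31, pow_one]
          congr 1
          have hcop' := hcopk ⟨s, hs⟩ g₀ hcop hk
          rcases ho with h4 | h5
          · exact hfour g₀ h4 hcop' hr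
          · exact hfive g₀ h5 hcop' hr
      have hall := pow_eq_of_no_subfield hP hns p 1 htr
      rw [pow_one] at hall
      refine ⟨card_of_pow_prime p hall, ?_⟩
      have h0 : p % 5 ≠ 0 := by
        intro h
        have := hp5 h
        omega
      omega
    · have htr : ∀ g ∈ P, (g : Matrix (Fin 3) (Fin 3) F).trace ^ p ^ 1 =
          ((g⁻¹ : GL (Fin 3) F) : Matrix (Fin 3) (Fin 3) F).trace := by
        intro g hg
        rw [pow_one]
        refine trace_of_reg p p (fun s hs hcop => ?_) g hg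
        rcases hsplit ⟨s, hs⟩ with ⟨h, h'⟩ | ⟨ζ, g₀, hζ, ho, hk, htr, htr', hr, -⟩
        · have h1 : (s : Matrix (Fin 3) (Fin 3) F).trace = 0 := h
          have h2 : ((s⁻¹ : GL (Fin 3) F) : Matrix (Fin 3) (Fin 3) F).trace = 0 := h'
          rw [h1, h2, zero_pow hp.out.ne_zero]
        · have h1 : (s : Matrix (Fin 3) (Fin 3) F).trace = ζ * ((g₀ : GL (Fin 3) F) : Matrix (Fin 3) (Fin 3) F).trace := htr
          have h2 : ((s⁻¹ : GL (Fin 3) F) : Matrix (Fin 3) (Fin 3) F).trace =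
            ζ ^ 2 * ((g₀ : GL (Fin 3) F) : Matrix (Fin 3) (Fin 3) F).trace := htr'
          rw [h1, h2, mul_pow, hzeta ζ hζ _ 2 h32]
          congr 1
          have hcop' := hcopk ⟨s, hs⟩ g₀ hcop hk
          rcases ho with h4 | h5
          · exact hfour g₀ h4 hcop' hr
          · exact hfive g₀ h5 hcop' hr
      obtain ⟨hpp, h | ⟨⟨x, hx⟩, h⟩⟩ := form_of_trace hP p 1 hns htr
      · exact Or.inl ⟨h.1, h.2.2⟩
      · right; right; left
        rw [pow_one] at hpp hx h
        refine ⟨?_, ?_, h⟩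
        · rcases card_cases p (fun x => by rw [sq]; exact hpp x) with h8 | h8
          · exfalso
            apply hx
            have := Fintype.ofFinite F
            have h9 := FiniteField.pow_card x
            rwa [← Nat.card_eq_fintype_card, h8] at h9
          · exact h8
        · rcases hc' with h | h | h
          · exact Or.inr (Or.inr (hp5 h))
          · left; omega
          · right; left; omega

end Cfsg.Agent.H906
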