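import Cfsg.Agent.H906.TrTools
import Cfsg.Agent.H906.L3Fin

/-!
# `L₂(5)` and `L₂(7)` in dimension three, cross characteristic (helper906)
-/

set_option autoImplicit false
set_option linter.unusedSectionVars false

namespace Cfsg.Agent.H906

open Cfsg Cfsg.Geo
open scoped MatrixGroups Matrix

lemma charP_of_card {K : Type*} [Field K] [Finite K] (r : ℕ) [hr : Fact r.Prime] (hK : Nat.card K = r) : CharP K r := by
  have := Fintype.ofFinite K
  obtain ⟨q, hq⟩ := CharP.exists K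
  obtain ⟨n, hqp, hn⟩ := FiniteField.card K q
  rw [← Nat.card_eq_fintype_card, hK] at hn
  have h1 : q ∣ r := by rw [hn]; exact dvd_pow_self q n.2.ne'
  rwa [(Nat.prime_dvd_prime_iff_eq hqp hr.out).1 h1] at hq

lemma charP_three_ne' {K : Type*} [Field K] (p : ℕ) [hp : Fact p.Prime] [CharP K p] (h : p ≠ 3) : (3 : K) ≠ 0 := by
  intro h3
  have h4 : ((3 : ℕ) : K) = 0 := by exact_mod_cast h3
  have h5 := (CharP.cast_eq_zero_iff K p 3).1 h4
  exact h ((Nat.prime_dvd_prime_iff_eq hp.out Nat.prime_three).1 h5)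

variable {F : Type*} [Field F] {P : Subgroup (GL (Fin 3) F)}

/-- Conjugacy in `Γ` gives equal traces when there are no scalars. -/
lemma trace_eq_of_pr (hZ : ∀ g ∈ P, g ∈ scalars (Fin 3) F → g = 1) {Γ : Type*} [Group Γ]
    (Φ : (P ⧸ (scalars (Fin 3) F).subgroupOf P) ≃* Γ) {a b : P} (h : ∃ y : Γ, y * pr Φ a * y⁻¹ = pr Φ b) :
    ((a : GL (Fin 3) F) : Matrix (Fin 3) (Fin 3) F).trace = ((b : GL (Fin 3) F) : Matrix (Fin 3) (Fin 3) F).trace := by
  obtain ⟨y, hy⟩ := h
  obtain ⟨c, -, hc⟩ := conj_of_quot hZ Φ (y := y) hy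
  rw [← hc, trace_conj]

/-- **`L₂(5)`**, characteristic different from five. -/
theorem L2_five [Finite F] (hP : ActsAbsolutelyIrreducibly (matrixSet P)) (hperf : ⁅P, P⁆ = P)
    {K : Type*} [Field K] [Finite K] (hK : Nat.card K = 5)
    (Φ : (P ⧸ (scalars (Fin 3) F).subgroupOf P) ≃* Matrix.ProjectiveSpecialLinearGroup (Fin 2) K) :
    (2 : F) ≠ 0 ∧
    ∃ Q : (Fin 3 → F) → F, IsNondegenerateQuadraticForm Q ∧ FixesQuadForm (matrixSet P) Q := by
  have h5p : Fact (Nat.Prime 5) := ⟨by norm_num⟩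
  have hchar : CharP K 5 := charP_of_card 5 hK
  have h50 : (5 : K) = 0 := by exact_mod_cast CharP.cast_eq_zero K 5
  have h3 : (3 : K) ≠ 0 := charP_three_ne' 5 (by norm_num)
  have hZ := L2_no_scalars hperf Φ (Or.inr h3)
  refine quad_of_real hP fun g hg => ?_
  have key : ∃ y, y * pr Φ ⟨g, hg⟩ * y⁻¹ = pr Φ ⟨g, hg⟩⁻¹ := by
    rw [map_inv]
    obtain ⟨s, hs⟩ := QuotientGroup.mk_surjective (pr Φ ⟨g, hg⟩)
    by_cases ht : (s.1 0 0 + s.1 1 1) ^ 2 - 4 = 0
    · have h1 := mk_conj_un s ht 5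
      have h20 : (2 : K) ≠ 0 := by
        intro h
        have : (1 : K) = 0 := by linear_combination h50 - 2 * h
        exact one_ne_zero this
      obtain ⟨z, hz⟩ := unip_inv_conj h1 (n := 1) (t := Units.mk0 2 h20)
        (by rw [Units.val_mk0, Nat.cast_one]; linear_combination h50)
      rw [pow_one] at hz
      exact ⟨z, by rw [← hs]; exact hz⟩
    · obtain ⟨h, hh⟩ := SL2_conj_inv s ht
      refine ⟨QuotientGroup.mk h, ?_⟩
      rw [← hs, ← QuotientGroup.mk_inv, ← QuotientGroup.mk_mul, ← QuotientGroup.mk_mul, hh, QuotientGroup.mk_inv]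
  exact (trace_eq_of_pr hZ Φ key).symm

/-- The elements of `PSL₂(7)`. -/
lemma L2_seven_elements {K : Type*} [Field K] [Finite K] (hK : Nat.card K = 7)
    (x : Matrix.ProjectiveSpecialLinearGroup (Fin 2) K) :
    (∃ y, ∃ b : K, y * x * y⁻¹ = unP K (Multiplicative.ofAdd b)) ∨
    ((∃ y, y * x * y⁻¹ = x⁻¹) ∧ (x ^ 3 = 1 ∨ x ^ 4 = 1)) := by
  have h7p : Fact (Nat.Prime 7) := ⟨by norm_num⟩
  have hchar : CharP K 7 := charP_of_card 7 hK
  have h70 : (7 : K) = 0 := by exact_mod_cast CharP.cast_eq_zero K 7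
  obtain ⟨s, rfl⟩ := QuotientGroup.mk_surjective x
  by_cases ht : (s.1 0 0 + s.1 1 1) ^ 2 - 4 = 0
  · exact Or.inl (mk_conj_un s ht 7)
  · right
    constructor
    · obtain ⟨h, hh⟩ := SL2_conj_inv s ht
      refine ⟨QuotientGroup.mk h, ?_⟩
      rw [← QuotientGroup.mk_inv, ← QuotientGroup.mk_mul, ← QuotientGroup.mk_mul, hh, QuotientGroup.mk_inv]
    · set t := s.1 0 0 + s.1 1 1 with htdef
      have hpow : t ^ 7 = t := by
        have := Fintype.ofFinite K
        have h1 := FiniteField.pow_card t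
        rwa [← Nat.card_eq_fintype_card, hK] at h1
      have hprod : t * ((t ^ 2 - 4) * ((t ^ 2 - 1) * (t ^ 2 - 2))) = 0 := by
        linear_combination hpow - (t ^ 5 - 2 * t ^ 3 + t) * h70
      rcases mul_eq_zero.1 hprod with h | h
      · right
        apply mk_pow_eq_one s 4 1 (one_pow 2)
        rw [SL2_four, ← htdef, h]
        simp
      · rcases (mul_eq_zero.1 h).resolve_left ht |> mul_eq_zero.1 with h | h
        · left
          apply mk_pow_eq_one s 3 (-t) (by linear_combination h)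
          rw [SL2_cube, ← htdef, h, zero_smul, zero_sub, neg_smul]
        · right
          apply mk_pow_eq_one s 4 (-1) (by ring)
          rw [SL2_four, ← htdef]
          have e1 : t ^ 3 - 2 * t = 0 := by linear_combination t * h
          have e2 : t ^ 2 - 1 = 1 := by linear_combination h
          rw [e1, e2, zero_smul, zero_sub, neg_smul]

/-- **`L₂(7)`**, characteristic different from seven. -/
theorem L2_seven [Finite F] (hP : ActsAbsolutelyIrreducibly (matrixSet P)) (hperf : ⁅P, P⁆ = P)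
    (hns : ∀ F₀ : Subfield F, F₀ ≠ ⊤ → ¬ RealisableOver F₀ (matrixSet P))
    {K : Type*} [Field K] [Finite K] (hK : Nat.card K = 7) (p : ℕ) [hp : Fact p.Prime] [CharP F p]
    (hp7 : p ≠ 7)
    (Φ : (P ⧸ (scalars (Fin 3) F).subgroupOf P) ≃* Matrix.ProjectiveSpecialLinearGroup (Fin 2) K) :
    ((2 : F) ≠ 0 ∧
      ∃ Q : (Fin 3 → F) → F, IsNondegenerateQuadraticForm Q ∧ FixesQuadForm (matrixSet P) Q) ∨
    (Nat.card F = p ∧ (p % 7 = 1 ∨ p % 7 = 2 ∨ p % 7 = 4)) ∨
    (Nat.card F = p ^ 2 ∧ (p % 7 = 3 ∨ p % 7 = 5 ∨ p % 7 = 6) ∧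
      ∃ (σ : F ≃+* F) (f : (Fin 3 → F) → (Fin 3 → F) → F),
        (∀ x, σ x = x ^ p) ∧ IsUnitaryForm σ f ∧ FixesForm (matrixSet P) f) := by
  have h7p : Fact (Nat.Prime 7) := ⟨by norm_num⟩
  have hchar : CharP K 7 := charP_of_card 7 hK
  have h70 : (7 : K) = 0 := by exact_mod_cast CharP.cast_eq_zero K 7
  have h3 : (3 : K) ≠ 0 := charP_three_ne' 7 (by norm_num)
  have hZ := L2_no_scalars hperf Φ (Or.inr h3)
  have h20 : (2 : K) ≠ 0 := by
    intro h
    have : (1 : K) = 0 := by linear_combination h70 - 3 * h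
    exact one_ne_zero this
  -- real elements
  have hreal : ∀ g : P, (∃ y, y * pr Φ g * y⁻¹ = (pr Φ g)⁻¹) → (pr Φ g ^ 3 = 1 ∨ pr Φ g ^ 4 = 1) →
      (orderOf (g : GL (Fin 3) F)).Coprime p →
      ((g : GL (Fin 3) F) : Matrix (Fin 3) (Fin 3) F).trace ^ p = ((g : GL (Fin 3) F) : Matrix (Fin 3) (Fin 3) F).trace ∧
      ((g : GL (Fin 3) F) : Matrix (Fin 3) (Fin 3) F).trace ^ p =
        ((g⁻¹ : GL (Fin 3) F) : Matrix (Fin 3) (Fin 3) F).trace := by
    intro g hy ho hcop
    have h1 : ((g : GL (Fin 3) F) : Matrix (Fin 3) (Fin 3) F).trace =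
        ((g⁻¹ : GL (Fin 3) F) : Matrix (Fin 3) (Fin 3) F).trace :=
      trace_eq_of_pr hZ Φ (a := g) (b := g⁻¹) (by rw [map_inv]; exact hy)
    have h2 : (g : GL (Fin 3) F) ^ 3 = 1 ∨ (g : GL (Fin 3) F) ^ 4 = 1 := by
      rcases ho with h | h
      · left
        rw [← map_pow] at h
        exact eq_one_of_quot hZ Φ h
      · right
        rw [← map_pow] at h
        exact eq_one_of_quot hZ Φ h
    have h3 : (g : GL (Fin 3) F) ^ p = g ∨ (g : GL (Fin 3) F) ^ p = (g : GL (Fin 3) F)⁻¹ := by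
      rcases h2 with h | h
      · exact pow_prime_small (Or.inl rfl) h p hcop
      · exact pow_prime_small (Or.inr rfl) h p hcop
    rw [trace_pow_GL]
    rcases h3 with h | h
    · rw [h]; exact ⟨rfl, h1⟩
    · rw [h]; exact ⟨h1.symm, rfl⟩
  -- residues
  have hpcast : ∀ k : ℕ, p % 7 = k → (p : K) = k := by
    intro k hk
    have h1 : ((p % 7 + 7 * (p / 7) : ℕ) : K) = p := by rw [Nat.mod_add_div]
    rw [← h1, hk]
    push_cast
    rw [h70]; ring
  have hpmod : p % 7 ≠ 0 := by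
    intro h
    have h1 := Nat.dvd_of_mod_eq_zero h
    exact hp7 ((Nat.prime_dvd_prime_iff_eq h7p.out hp.out).1 h1).symm
  have hcases : (p % 7 = 1 ∨ p % 7 = 2 ∨ p % 7 = 4) ∨ (p % 7 = 3 ∨ p % 7 = 5 ∨ p % 7 = 6) := by omega
  rcases hcases with hc | hc
  · right; left
    refine ⟨?_, hc⟩
    obtain ⟨t, ht⟩ : ∃ t : Kˣ, (t : K) ^ 2 = p := by
      rcases hc with h | h | h
      · exact ⟨1, by rw [hpcast 1 h]; simp⟩
      · refine ⟨Units.mk0 3 h3, ?_⟩
        rw [hpcast 2 h, Units.val_mk0]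
        push_cast
        linear_combination h70
      · refine ⟨Units.mk0 2 h20, ?_⟩
        rw [hpcast 4 h, Units.val_mk0]
        push_cast
        ring
    have htr : ∀ g ∈ P, (g : Matrix (Fin 3) (Fin 3) F).trace ^ p = (g : Matrix (Fin 3) (Fin 3) F).trace := by
      intro g hg
      refine trace_of_reg' p p (fun s hs hcop => ?_) g hg
      rcases L2_seven_elements hK (pr Φ ⟨s, hs⟩) with h | ⟨h1, h2⟩
      · obtain ⟨z, hz⟩ := unip_pow_conj h ht
        rw [← map_pow] at hz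
        have h4 := trace_eq_of_pr hZ Φ ⟨z, hz⟩
        rw [trace_pow_GL]
        exact h4.symm
      · exact (hreal ⟨s, hs⟩ h1 h2 hcop).1
    have h5 := pow_eq_of_no_subfield hP hns p 1 (by simpa using htr)
    rw [pow_one] at h5
    have h6 := card_le_of_pow_eq hp.out.two_le h5
    have := Fintype.ofFinite F
    obtain ⟨e, he0, he⟩ := FiniteField.card F p
    rw [← Nat.card_eq_fintype_card] at he
    have h7 : Nat.card F - 1 ≤ p - 1 := Nat.le_of_dvd (by have := hp.out.two_le; omega) h6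
    have h8 : p ≤ Nat.card F := by
      rw [he]
      calc p = p ^ 1 := (pow_one p).symm
        _ ≤ p ^ (e : ℕ) := Nat.pow_le_pow_right hp.out.pos e.2
    have := hp.out.two_le
    omega
  · obtain ⟨t, ht⟩ : ∃ t : Kˣ, (t : K) ^ 2 = -p := by
      rcases hc with h | h | h
      · refine ⟨Units.mk0 2 h20, ?_⟩
        rw [hpcast 3 h, Units.val_mk0]
        push_cast
        linear_combination h70
      · refine ⟨Units.mk0 3 h3, ?_⟩
        rw [hpcast 5 h, Units.val_mk0]
        push_cast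
        linear_combination 2 * h70
      · refine ⟨1, ?_⟩
        rw [hpcast 6 h]
        push_cast
        linear_combination h70
    have htr : ∀ g ∈ P, (g : Matrix (Fin 3) (Fin 3) F).trace ^ p ^ 1 =
        ((g⁻¹ : GL (Fin 3) F) : Matrix (Fin 3) (Fin 3) F).trace := by
      intro g hg
      rw [pow_one]
      refine trace_of_reg p p (fun s hs hcop => ?_) g hg
      rcases L2_seven_elements hK (pr Φ ⟨s, hs⟩) with h | ⟨h1, h2⟩
      · obtain ⟨z, hz⟩ := unip_inv_conj h ht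
        rw [← map_pow, ← map_inv] at hz
        have h5 : z⁻¹ * pr Φ ((⟨s, hs⟩ : P) ^ p) * z⁻¹⁻¹ = pr Φ (⟨s, hs⟩ : P)⁻¹ := by
          rw [map_inv] at hz ⊢
          have h6 : pr Φ ((⟨s, hs⟩ : P) ^ p) = (z * pr Φ ⟨s, hs⟩ * z⁻¹)⁻¹ := by rw [hz, inv_inv]
          rw [h6]; group
        have h7 := trace_eq_of_pr hZ Φ ⟨z⁻¹, h5⟩
        rw [trace_pow_GL]
        exact h7
      · exact (hreal ⟨s, hs⟩ h1 h2 hcop).2
    obtain ⟨hpp, h | ⟨⟨x, hx⟩, h⟩⟩ := form_of_trace hP p 1 hns htr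
    · exact Or.inl ⟨h.1, h.2.2⟩
    · right; right
      rw [pow_one] at hpp hx h
      refine ⟨?_, hc, h⟩
      have h6 := card_le_of_pow_eq (m := p * p) (by have := hp.out.two_le; nlinarith) hpp
      have := Fintype.ofFinite F
      obtain ⟨e, he0, he⟩ := FiniteField.card F p
      rw [← Nat.card_eq_fintype_card] at he
      have h7 : Nat.card F ≤ p ^ 2 := by
        have h11 : 1 < p * p := by have := hp.out.two_le; nlinarith
        have h8 : 0 < p * p - 1 := by omega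
        have h9 := Nat.le_of_dvd h8 h6
        have h10 : 0 < Nat.card F := Nat.card_pos
        rw [sq]; omega
      rw [he] at h7 ⊢
      have h8 : (e : ℕ) ≤ 2 := (Nat.pow_le_pow_iff_right hp.out.one_lt).1 h7
      have h9 : (e : ℕ) ≠ 1 := by
        intro h1
        apply hx
        have h10 := FiniteField.pow_card x
        rwa [← Nat.card_eq_fintype_card, he, h1, pow_one] at h10
      have h10 : 0 < (e : ℕ) := e.pos
      have h12 : (e : ℕ) = 2 := by omega
      rw [h12]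

end Cfsg.Agent.H906
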