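import Cfsg.Agent.H906.TracePow
import Cfsg.Agent.H906.SL2Unip
import Cfsg.Agent.H906.Forms3
import Cfsg.Agent.H906.Reg

/-!
# Tools for the explicit traces (helper906)
-/

set_option autoImplicit false
set_option linter.unusedSectionVars false

namespace Cfsg.Agent.H906

open Cfsg Cfsg.Geo
open scoped MatrixGroups Matrix

lemma trace_pow_GL {F : Type*} [Field F] (p : ℕ) [hp : Fact p.Prime] [CharP F p] (g : GL (Fin 3) F) :
    (g : Matrix (Fin 3) (Fin 3) F).trace ^ p = ((g ^ p : GL (Fin 3) F) : Matrix (Fin 3) (Fin 3) F).trace := by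
  rw [Units.val_pow_eq_pow_val, trace_pow_char]

/-- A prime power of an element of order `1, 2, 3, 4, 6` prime to `p`. -/
lemma pow_prime_small {G : Type*} [Group G] {g : G} {n : ℕ} (hn : n = 3 ∨ n = 4) (h : g ^ n = 1)
    (p : ℕ) [hp : Fact p.Prime] (hcop : (orderOf g).Coprime p) : g ^ p = g ∨ g ^ p = g⁻¹ := by
  have h1 := orderOf_dvd_of_pow_eq_one h
  have h2 : orderOf g = 1 ∨ orderOf g = 2 ∨ orderOf g = 3 ∨ orderOf g = 4 := by
    have h3 : orderOf g ≤ n := Nat.le_of_dvd (by rcases hn with h | h <;> omega) h1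
    have h4 : 0 < orderOf g := Nat.pos_of_dvd_of_pos h1 (by rcases hn with h | h <;> omega)
    rcases hn with h | h <;> subst h <;> omega
  have key : ∀ k : ℕ, orderOf g = k → g ^ p = g ^ (p % k) := fun k hk => by
    rw [← hk, pow_mod_orderOf]
  rcases h2 with h2 | h2 | h2 | h2
  · left
    rw [orderOf_eq_one_iff.1 h2, one_pow]
  · have h5 := key 2 h2
    rw [h2] at hcop
    have : p % 2 = 1 := by
      rcases hp.out.eq_two_or_odd with h | h
      · subst h; norm_num at hcop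
      · exact h
    rw [this, pow_one] at h5
    exact Or.inl h5
  · have h5 := key 3 h2
    have h6 : g ^ 3 = 1 := by rw [← h2, pow_orderOf_eq_one]
    have h7 : p % 3 ≠ 0 := by
      intro h
      rw [h2] at hcop
      have := Nat.dvd_of_mod_eq_zero h
      have h8 := Nat.eq_one_of_dvd_coprimes hcop (dvd_refl 3) this
      omega
    have h8 : p % 3 = 1 ∨ p % 3 = 2 := by omega
    rcases h8 with h8 | h8
    · rw [h8, pow_one] at h5; exact Or.inl h5
    · rw [h8] at h5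
      right
      rw [h5]
      exact eq_inv_of_mul_eq_one_left (by rw [← pow_succ, h6])
  · have h5 := key 4 h2
    have h6 : g ^ 4 = 1 := by rw [← h2, pow_orderOf_eq_one]
    have h7 : p % 2 = 1 := by
      rcases hp.out.eq_two_or_odd with h | h
      · subst h; rw [h2] at hcop; norm_num at hcop
      · exact h
    have h8 : p % 4 = 1 ∨ p % 4 = 3 := by omega
    rcases h8 with h8 | h8
    · rw [h8, pow_one] at h5; exact Or.inl h5
    · rw [h8] at h5
      right
      rw [h5]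
      exact eq_inv_of_mul_eq_one_left (by rw [← pow_succ, h6])

section SL2

variable {K : Type*} [Field K]

lemma mk_pow_eq_one (g : SL(2, K)) (n : ℕ) (c : K) (hc : c ^ 2 = 1)
    (h : g.1 ^ n = c • (1 : Matrix (Fin 2) (Fin 2) K)) :
    (QuotientGroup.mk g : Matrix.ProjectiveSpecialLinearGroup (Fin 2) K) ^ n = 1 := by
  rw [← QuotientGroup.mk_pow, QuotientGroup.eq_one_iff, Matrix.SpecialLinearGroup.mem_center_iff]
  refine ⟨c, by rw [Fintype.card_fin, hc], ?_⟩
  rw [Matrix.SpecialLinearGroup.coe_pow]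
  change _ = g.1 ^ n
  rw [h]
  ext i j
  fin_cases i <;> fin_cases j <;> simp

/-- Cayley–Hamilton. -/
lemma SL2_sq (g : SL(2, K)) : g.1 ^ 2 = (g.1 0 0 + g.1 1 1) • g.1 - (1 : Matrix (Fin 2) (Fin 2) K) := by
  have hdet := g.2
  rw [Matrix.det_fin_two] at hdet
  rw [sq]
  ext i j
  rw [Matrix.mul_apply, Fin.sum_univ_two]
  fin_cases i <;> fin_cases j <;> simp
  · linear_combination -hdet
  · ring
  · ring
  · linear_combination -hdet

lemma SL2_cube (g : SL(2, K)) : g.1 ^ 3 = ((g.1 0 0 + g.1 1 1) ^ 2 - 1) • g.1 -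
    (g.1 0 0 + g.1 1 1) • (1 : Matrix (Fin 2) (Fin 2) K) := by
  rw [pow_succ, SL2_sq, sub_mul, Matrix.smul_mul, ← sq, SL2_sq, one_mul, smul_sub, smul_smul, sub_smul,
    ← sq, one_smul]
  abel

lemma SL2_four (g : SL(2, K)) : g.1 ^ 4 = ((g.1 0 0 + g.1 1 1) ^ 3 - 2 * (g.1 0 0 + g.1 1 1)) • g.1 -
    ((g.1 0 0 + g.1 1 1) ^ 2 - 1) • (1 : Matrix (Fin 2) (Fin 2) K) := by
  rw [pow_succ, SL2_cube, sub_mul, Matrix.smul_mul, ← sq, SL2_sq, Matrix.smul_mul, one_mul, smul_sub, smul_smul]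
  module

lemma SL2_five (g : SL(2, K)) : g.1 ^ 5 = ((g.1 0 0 + g.1 1 1) ^ 4 - 3 * (g.1 0 0 + g.1 1 1) ^ 2 + 1) • g.1 -
    ((g.1 0 0 + g.1 1 1) ^ 3 - 2 * (g.1 0 0 + g.1 1 1)) • (1 : Matrix (Fin 2) (Fin 2) K) := by
  rw [pow_succ, SL2_four, sub_mul, Matrix.smul_mul, ← sq, SL2_sq, Matrix.smul_mul, one_mul, smul_sub, smul_smul]
  module

end SL2

end Cfsg.Agent.H906
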