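import Cfsg.Agent.H906.T14F

/-!
# Kernels of perfect central extensions at primes with cyclic Sylow subgroups
-/

set_option autoImplicit false
set_option linter.unusedSectionVars false

namespace Cfsg.Agent.H906.T14

open Cfsg Cfsg.Geo SL3Par L34
open scoped MatrixGroups commutatorElement Matrix

/-- transfer into an abelian subgroup -/
theorem pow_index_eq_one {L : Type*} [Group L] [Finite L] (hperf : commutator L = ⊤) (H : Subgroup L)
    (hH : ∀ a ∈ H, ∀ b ∈ H, a * b = b * a) {z : L} (hz : z ∈ Subgroup.center L) : z ^ H.index = 1 := by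
  let i1 : CommGroup H := { (inferInstance : Group H) with
    mul_comm := fun a b => Subtype.ext (hH a.1 a.2 b.1 b.2) }
  have key : ∀ (k : ℕ) (g₀ : L), g₀⁻¹ * z ^ k * g₀ ∈ H → g₀⁻¹ * z ^ k * g₀ = z ^ k := by
    intro k g₀ _
    have h1 : z ^ k ∈ Subgroup.center L := Subgroup.pow_mem _ hz k
    rw [mul_assoc, ← Subgroup.mem_center_iff.1 h1 g₀, inv_mul_cancel_left]
  have h1 := MonoidHom.transfer_eq_pow (MonoidHom.id H) z key
  have h2 : z ∈ (MonoidHom.transfer (MonoidHom.id H)).ker := by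
    have h3 : commutator L ≤ (MonoidHom.transfer (MonoidHom.id H)).ker := Abelianization.commutator_subset_ker _
    apply h3
    rw [hperf]; trivial
  rw [MonoidHom.mem_ker, h1] at h2
  exact congrArg Subtype.val h2

/-- primes with a cyclic Sylow subgroup do not divide the kernel -/
theorem coprime_ker {L T : Type*} [Group L] [Group T] [Finite L] {φ : L →* T} (hs : Function.Surjective φ)
    (hc : φ.ker ≤ Subgroup.center L) (hperf : commutator L = ⊤) {r : ℕ} (hr : r.Prime) {t : T} (ht : orderOf t = r)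
    {m : ℕ} (hT : Nat.card T = r * m) (hm : ¬ r ∣ m) : (Nat.card φ.ker).Coprime r := by
  rw [Nat.coprime_comm, Nat.Prime.coprime_iff_not_dvd hr]
  intro hd
  have : Fact r.Prime := ⟨hr⟩
  have hfT : Finite T := Finite.of_surjective _ hs
  obtain ⟨z, hz⟩ := exists_prime_orderOf_dvd_card' (G := φ.ker) r hd
  let H : Subgroup L := (Subgroup.zpowers t).comap φ
  have hab : ∀ a ∈ H, ∀ b ∈ H, a * b = b * a := by
    intro a ha b hb
    obtain ⟨i, hi⟩ := Subgroup.mem_zpowers_iff.1 (Subgroup.mem_comap.1 ha)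
    obtain ⟨g, hg⟩ := hs t
    obtain ⟨j, hj⟩ := Subgroup.mem_zpowers_iff.1 (Subgroup.mem_comap.1 hb)
    have k1 : a * (g ^ i)⁻¹ ∈ φ.ker := by rw [MonoidHom.mem_ker, map_mul, map_inv, map_zpow, hg, hi, mul_inv_cancel]
    have k2 : b * (g ^ j)⁻¹ ∈ φ.ker := by rw [MonoidHom.mem_ker, map_mul, map_inv, map_zpow, hg, hj, mul_inv_cancel]
    have c1 : ∀ y, y * (a * (g ^ i)⁻¹) = (a * (g ^ i)⁻¹) * y := Subgroup.mem_center_iff.1 (hc k1)
    have c2 : ∀ y, y * (b * (g ^ j)⁻¹) = (b * (g ^ j)⁻¹) * y := Subgroup.mem_center_iff.1 (hc k2)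
    set u := a * (g ^ i)⁻¹ with hu
    set v := b * (g ^ j)⁻¹ with hv
    have ha' : a = u * g ^ i := by rw [hu]; group
    have hb' : b = v * g ^ j := by rw [hv]; group
    rw [ha', hb']
    calc u * g ^ i * (v * g ^ j) = u * (g ^ i * v) * g ^ j := by simp only [mul_assoc]
      _ = (u * v) * (g ^ i * g ^ j) := by rw [c2]; simp only [mul_assoc]
      _ = (v * u) * (g ^ j * g ^ i) := by rw [c1 v, ← zpow_add, ← zpow_add, add_comm]
      _ = v * (u * g ^ j) * g ^ i := by simp only [mul_assoc]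
      _ = v * (g ^ j * u) * g ^ i := by rw [c1]
      _ = v * g ^ j * (u * g ^ i) := by simp only [mul_assoc]
  have h1 := pow_index_eq_one hperf H hab (hc z.2)
  have hidx : H.index = m := by
    rw [Subgroup.index_comap_of_surjective _ hs]
    have h2 := Subgroup.card_mul_index (Subgroup.zpowers t)
    rw [Nat.card_zpowers, ht, hT] at h2
    exact Nat.eq_of_mul_eq_mul_left hr.pos h2
  rw [hidx] at h1
  apply hm
  rw [← hz, orderOf_dvd_iff_pow_eq_one]
  exact Subtype.ext h1

theorem coprime_ker_five {K : Type*} [Field K] [Fintype K] (hK : Fintype.card K = 4) {L : Type*} [Group L] [Finite L]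
    {φ : L →* Matrix.ProjectiveSpecialLinearGroup (Fin 3) K} (hs : Function.Surjective φ)
    (hc : φ.ker ≤ Subgroup.center L) (hperf : commutator L = ⊤) : (Nat.card φ.ker).Coprime 5 := by
  have hf : Fact (Nat.Prime 5) := ⟨Nat.prime_five⟩
  have := fin_T (K := K)
  obtain ⟨t, ht⟩ := exists_prime_orderOf_dvd_card' (G := Matrix.ProjectiveSpecialLinearGroup (Fin 3) K) 5
    (by rw [card_T hK]; norm_num)
  exact coprime_ker hs hc hperf Nat.prime_five ht (m := 4032) (by rw [card_T hK]) (by norm_num)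

theorem coprime_ker_seven {K : Type*} [Field K] [Fintype K] (hK : Fintype.card K = 4) {L : Type*} [Group L] [Finite L]
    {φ : L →* Matrix.ProjectiveSpecialLinearGroup (Fin 3) K} (hs : Function.Surjective φ)
    (hc : φ.ker ≤ Subgroup.center L) (hperf : commutator L = ⊤) : (Nat.card φ.ker).Coprime 7 := by
  have hf : Fact (Nat.Prime 7) := ⟨by norm_num⟩
  have := fin_T (K := K)
  obtain ⟨t, ht⟩ := exists_prime_orderOf_dvd_card' (G := Matrix.ProjectiveSpecialLinearGroup (Fin 3) K) 7
    (by rw [card_T hK]; norm_num)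
  exact coprime_ker hs hc hperf (by norm_num) ht (m := 2880) (by rw [card_T hK]) (by norm_num)

end Cfsg.Agent.H906.T14
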