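import Mathlib

/-!
# An element of order three which is a commutator of elements commuting with it

In dimension four such an element is `w + (1 - w) E` with `E` of rank one and `w` a primitive cube root of unity.
-/

set_option autoImplicit false

namespace Cfsg.Agent.H906.U42

open Matrix Module

section Eigen

variable {K V : Type*} [Field K] [AddCommGroup V] [Module K V] [FiniteDimensional K V]

lemma pow_finrank (X A B : Module.End K V) (hA : Function.Injective A) (hB : Function.Injective B)
    (hXA : X * A = A * X) (hXB : X * B = B * X) (hAB : A * B = X * (B * A)) (l : K) :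
    l ^ finrank K (Module.End.eigenspace X l) = 1 := by
  set W := Module.End.eigenspace X l with hW
  have mA : ∀ w ∈ W, A w ∈ W := by
    intro w hw
    rw [hW, Module.End.mem_eigenspace_iff] at hw ⊢
    rw [← Module.End.mul_apply, hXA, Module.End.mul_apply, hw, map_smul]
  have mB : ∀ w ∈ W, B w ∈ W := by
    intro w hw
    rw [hW, Module.End.mem_eigenspace_iff] at hw ⊢
    rw [← Module.End.mul_apply, hXB, Module.End.mul_apply, hw, map_smul]
  let A' : W →ₗ[K] W := A.restrict mA
  let B' : W →ₗ[K] W := B.restrict mB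
  have h1 : A' ∘ₗ B' = l • (B' ∘ₗ A') := by
    apply LinearMap.ext
    intro w
    apply Subtype.ext
    have h2 : A (B w.1) = X (B (A w.1)) := by
      have := congrArg (fun f : Module.End K V => f w.1) hAB
      simpa only [Module.End.mul_apply] using this
    have h3 : X (B (A w.1)) = l • B (A w.1) := Module.End.mem_eigenspace_iff.1 (mB _ (mA _ w.2))
    change A (B w.1) = l • B (A w.1)
    rw [h2, h3]
  have h4 := congrArg LinearMap.det h1
  rw [LinearMap.det_smul, LinearMap.det_comp, LinearMap.det_comp] at h4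
  have dA : LinearMap.det A' ≠ 0 := by
    intro h0
    rw [LinearMap.det_eq_zero_iff_ker_ne_bot] at h0
    apply h0
    rw [LinearMap.ker_eq_bot]
    intro x y hxy
    apply Subtype.ext
    apply hA
    exact congrArg Subtype.val hxy
  have dB : LinearMap.det B' ≠ 0 := by
    intro h0
    rw [LinearMap.det_eq_zero_iff_ker_ne_bot] at h0
    apply h0
    rw [LinearMap.ker_eq_bot]
    intro x y hxy
    apply Subtype.ext
    apply hB
    exact congrArg Subtype.val hxy
  have h5 : (1 - l ^ finrank K W) * (LinearMap.det A' * LinearMap.det B') = 0 := by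
    linear_combination h4
  rcases mul_eq_zero.1 h5 with h6 | h6
  · exact (sub_eq_zero.1 h6).symm
  · exact absurd h6 (mul_ne_zero dA dB)

/-- the trace when the `w²`-eigenspace vanishes -/
lemma trace_aux {w : K} (hw : w ^ 2 + w + 1 = 0) (h3 : (3 : K) ≠ 0) (X : Module.End K V) (hX3 : X ^ 3 = 1)
    (hX1 : X ≠ 1) (h2 : Module.End.eigenspace X (w ^ 2) = ⊥) (hd : finrank K V = 4)
    (hd0 : finrank K (Module.End.eigenspace X w) = 0 ∨ finrank K (Module.End.eigenspace X w) = 3) :
    (X - 1) * (X - w • 1) = 0 ∧ LinearMap.trace K V X = 1 + 3 * w := by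
  have hw1 : 1 - w ≠ 0 := by
    intro h
    have : w = 1 := (sub_eq_zero.1 h).symm
    rw [this] at hw
    apply h3
    linear_combination hw
  have hw3 : w ^ 3 = 1 := by linear_combination (w - 1) * hw
  have key : (X - w ^ 2 • 1) * ((X - 1) * (X - w • 1)) = 0 := by
    have : (X - w ^ 2 • 1) * ((X - 1) * (X - w • 1)) =
        X ^ 3 - (w ^ 2 + w + 1) • X ^ 2 + (w ^ 3 + w ^ 2 + w) • X - w ^ 3 • (1 : Module.End K V) := by
      simp only [sub_mul, mul_sub, smul_mul_assoc, mul_smul_comm, one_mul, mul_one, add_smul, one_smul, pow_succ, pow_zero,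
        smul_smul, smul_sub]
      module
    rw [this, hw, hX3, hw3, zero_smul, sub_zero]
    have h4 : w ^ 2 + w = -1 := by linear_combination hw
    rw [add_assoc, h4]
    simp
  have h1 : (X - 1) * (X - w • 1) = 0 := by
    apply LinearMap.ext
    intro v
    have h5 : ((X - 1) * (X - w • 1)) v ∈ Module.End.eigenspace X (w ^ 2) := by
      rw [Module.End.mem_eigenspace_iff]
      have h6 := congrArg (fun f : Module.End K V => f v) key
      have h7 : X (((X - 1) * (X - w • 1)) v) - w ^ 2 • ((X - 1) * (X - w • 1)) v = 0 := by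
        simpa using h6
      exact sub_eq_zero.1 h7
    rw [h2] at h5
    simpa using h5
  refine ⟨h1, ?_⟩
  have hfr : finrank K (Module.End.eigenspace X w) = 3 := by
    rcases hd0 with h | h
    · exfalso
      rw [Submodule.finrank_eq_zero] at h
      apply hX1
      have hcomm : (X - w • 1) * (X - 1) = 0 := by
        rw [← h1]
        simp only [sub_mul, mul_sub, smul_mul_assoc, mul_smul_comm, one_mul, mul_one]
        module
      have : X - 1 = 0 := by
        apply LinearMap.ext
        intro v
        have h5 : (X - 1) v ∈ Module.End.eigenspace X w := by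
          rw [Module.End.mem_eigenspace_iff]
          have h6 := congrArg (fun f : Module.End K V => f v) hcomm
          have h7 : X ((X - 1) v) - w • (X - 1) v = 0 := by
            simpa using h6
          exact sub_eq_zero.1 h7
        rw [h] at h5
        simpa using h5
      exact sub_eq_zero.1 this
    · exact h
  set E : Module.End K V := (1 - w)⁻¹ • (X - w • 1) with hE
  have hXE : X = w • 1 + (1 - w) • E := by
    rw [hE, smul_smul, mul_inv_cancel₀ hw1, one_smul]
    abel
  have hEE : E * E = E := by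
    have h5 : (X - w • 1) * (X - w • 1) = (1 - w) • (X - w • 1) := by
      have h6 : (X - w • 1) * (X - w • 1) - (1 - w) • (X - w • 1) = (X - 1) * (X - w • 1) := by
        simp only [sub_mul, mul_sub, smul_mul_assoc, mul_smul_comm, one_mul, mul_one, sub_smul, smul_sub, one_smul]
        module
      rw [h1] at h6
      exact sub_eq_zero.1 h6
    rw [hE, smul_mul_assoc, mul_smul_comm, h5, smul_smul, smul_smul]
    congr 1
    field_simp
  have hker : LinearMap.ker E = Module.End.eigenspace X w := by
    ext v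
    rw [LinearMap.mem_ker, Module.End.mem_eigenspace_iff, hE]
    simp only [LinearMap.smul_apply, LinearMap.sub_apply, Module.End.one_apply, smul_eq_zero, inv_eq_zero, hw1, false_or]
    exact sub_eq_zero
  have hrk : finrank K (LinearMap.range E) = 1 := by
    have := LinearMap.finrank_range_add_finrank_ker E
    rw [hker, hfr, hd] at this
    omega
  have htr : LinearMap.trace K V E = 1 := by
    have hp : LinearMap.IsProj (LinearMap.range E) E := LinearMap.IsIdempotentElem.isProj_range _ hEE
    rw [hp.trace, hrk, Nat.cast_one]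
  rw [hXE, map_add, map_smul, map_smul, htr, LinearMap.trace_one, hd]
  simp only [smul_eq_mul]
  push_cast
  ring

theorem exists_root [IsAlgClosed K] (p : ℕ) [CharP K p] (hp5 : 5 ≤ p) (X A B : Module.End K V)
    (hX3 : X ^ 3 = 1) (hX1 : X ≠ 1) (hA : Function.Injective A) (hB : Function.Injective B)
    (hXA : X * A = A * X) (hXB : X * B = B * X) (hAB : A * B = X * (B * A)) (hd : finrank K V = 4) :
    ∃ w : K, w ^ 2 + w + 1 = 0 ∧ (X - 1) * (X - w • 1) = 0 ∧ LinearMap.trace K V X = 1 + 3 * w := by
  have h3 : (3 : K) ≠ 0 := by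
    have : ((3 : ℕ) : K) ≠ 0 := by
      rw [Ne, CharP.cast_eq_zero_iff K p]
      intro h
      have := Nat.le_of_dvd (by norm_num) h
      omega
    exact_mod_cast this
  obtain ⟨w, hw⟩ : ∃ w : K, w ^ 2 + w + 1 = 0 := by
    have h1 : (Polynomial.X ^ 2 + Polynomial.X + 1 : Polynomial K).degree ≠ 0 := by
      have : (Polynomial.X ^ 2 + Polynomial.X + 1 : Polynomial K).degree = 2 := by compute_degree!
      rw [this]; norm_num
    obtain ⟨w, hw⟩ := IsAlgClosed.exists_root _ h1
    refine ⟨w, ?_⟩
    simpa [Polynomial.IsRoot] using hw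
  have hw3 : w ^ 3 = 1 := by linear_combination (w - 1) * hw
  have hw1 : w ≠ 1 := by
    intro h
    rw [h] at hw
    apply h3
    linear_combination hw
  have hord : ∀ {u : K}, u ^ 3 = 1 → u ≠ 1 → ∀ n : ℕ, u ^ n = 1 → 3 ∣ n := by
    intro u hu3 hu1 n hn
    have : orderOf u = 3 := by
      have hf : Fact (Nat.Prime 3) := ⟨Nat.prime_three⟩
      exact orderOf_eq_prime hu3 hu1
    rw [← this]
    exact orderOf_dvd_of_pow_eq_one hn
  have hw2 : w ^ 2 ≠ 1 := by
    intro h
    apply hw1
    calc w = w ^ 3 := by rw [pow_succ, h, one_mul]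
      _ = 1 := hw3
  have d1 : 3 ∣ finrank K (Module.End.eigenspace X w) :=
    hord hw3 hw1 _ (pow_finrank X A B hA hB hXA hXB hAB w)
  have d2 : 3 ∣ finrank K (Module.End.eigenspace X (w ^ 2)) :=
    hord (by rw [← pow_mul, mul_comm, pow_mul, hw3, one_pow]) hw2 _ (pow_finrank X A B hA hB hXA hXB hAB (w ^ 2))
  have hww : w ≠ w ^ 2 := by
    intro h
    have h0 : w ≠ 0 := by rintro rfl; norm_num at hw3
    apply hw1
    have : w * (w - 1) = 0 := by linear_combination -h
    exact sub_eq_zero.1 ((mul_eq_zero.1 this).resolve_left h0)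
  have hdis : Disjoint (Module.End.eigenspace X w) (Module.End.eigenspace X (w ^ 2)) := by
    rw [Submodule.disjoint_def]
    intro v h1 h2
    rw [Module.End.mem_eigenspace_iff] at h1 h2
    rw [h1] at h2
    have h3 : (w - w ^ 2) • v = 0 := by rw [sub_smul, h2, sub_self]
    exact (smul_eq_zero.1 h3).resolve_left (sub_ne_zero.2 hww)
  have hsum := Submodule.finrank_add_finrank_le_of_disjoint hdis
  rw [hd] at hsum
  obtain ⟨a, ha⟩ := d1
  obtain ⟨b, hb⟩ := d2
  have hcase : finrank K (Module.End.eigenspace X w) = 0 ∨ finrank K (Module.End.eigenspace X (w ^ 2)) = 0 := by omega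
  rcases hcase with h | h
  · refine ⟨w ^ 2, by linear_combination (w ^ 2 - w + 1) * hw, ?_⟩
    refine trace_aux (by linear_combination (w ^ 2 - w + 1) * hw) h3 X hX3 hX1 ?_ hd (by omega)
    have : (w ^ 2) ^ 2 = w := by linear_combination w * hw3
    rw [this]
    exact Submodule.finrank_eq_zero.1 h
  · refine ⟨w, hw, ?_⟩
    exact trace_aux hw h3 X hX3 hX1 (Submodule.finrank_eq_zero.1 h) hd (by omega)

end Eigen

section Mat

variable {F : Type*} [Field F]

/-- An idempotent 4×4 matrix of trace one in characteristic at least five has rank one. -/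
lemma rank_one_of_trace (p : ℕ) [CharP F p] (hp5 : 5 ≤ p) (E : Matrix (Fin 4) (Fin 4) F)
    (hEE : E * E = E) (htr : E.trace = 1) : ∃ a f : Fin 4 → F, f ⬝ᵥ a = 1 ∧ E = vecMulVec a f := by
  set L : Module.End F (Fin 4 → F) := Matrix.toLin' E with hL
  have hLL : IsIdempotentElem L := by
    change L * L = L
    rw [hL, Module.End.mul_eq_comp, ← Matrix.toLin'_mul, hEE]
  have hp : LinearMap.IsProj (LinearMap.range L) L := LinearMap.IsIdempotentElem.isProj_range _ hLL
  have h1 : ((finrank F (LinearMap.range L) : ℕ) : F) = 1 := by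
    rw [← hp.trace, hL, Matrix.trace_toLin'_eq, htr]
  have h2 : finrank F (LinearMap.range L) ≤ 4 := by
    have := Submodule.finrank_le (LinearMap.range L)
    simpa using this
  have h3 : finrank F (LinearMap.range L) = 1 := by
    have h4 : ((finrank F (LinearMap.range L) : ℤ) : F) = ((1 : ℤ) : F) := by push_cast; exact h1
    rw [CharP.intCast_eq_intCast F p] at h4
    have h5 := Int.ModEq.dvd h4
    obtain ⟨c, hc⟩ := h5
    have h6 : (p : ℤ) ≥ 5 := by exact_mod_cast hp5
    have h7 : (finrank F (LinearMap.range L) : ℤ) ≤ 4 := by exact_mod_cast h2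
    have h8 : (0 : ℤ) ≤ (finrank F (LinearMap.range L) : ℤ) := by positivity
    have h9 : c = 0 := by
      by_contra hc0
      rcases lt_or_gt_of_ne hc0 with hlt | hgt
      · nlinarith
      · nlinarith
    rw [h9, mul_zero] at hc
    omega
  obtain ⟨a, ha, hall⟩ := finrank_eq_one_iff'.1 h3
  have h4 : ∀ j : Fin 4, ∃ c : F, c • (a : Fin 4 → F) = E *ᵥ Pi.single j 1 := by
    intro j
    obtain ⟨c, hc⟩ := hall ⟨L (Pi.single j 1), LinearMap.mem_range_self L _⟩
    refine ⟨c, ?_⟩
    have := congrArg Subtype.val hc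
    simpa [hL] using this
  choose f hf using h4
  have hE : E = vecMulVec (a : Fin 4 → F) f := by
    ext i j
    have := congrFun (hf j) i
    rw [Matrix.mulVec_single_one] at this
    rw [vecMulVec_apply, mul_comm]
    simpa using this.symm
  refine ⟨a, f, ?_, hE⟩
  rw [hE, Matrix.trace_vecMulVec, dotProduct_comm] at htr
  exact htr

/-- the shape of the element of order three -/
def Sh (w : F) (X : Matrix (Fin 4) (Fin 4) F) : Prop :=
  ∃ a f : Fin 4 → F, f ⬝ᵥ a = 1 ∧ X = w • 1 + (1 - w) • vecMulVec a f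

theorem exists_shape (p : ℕ) [CharP F p] (hp5 : 5 ≤ p) (X A B : Matrix (Fin 4) (Fin 4) F)
    (hX3 : X ^ 3 = 1) (hX1 : X ≠ 1) (hA : A.det ≠ 0) (hB : B.det ≠ 0)
    (hXA : X * A = A * X) (hXB : X * B = B * X) (hAB : A * B = X * (B * A)) :
    ∃ w : F, w ^ 2 + w + 1 = 0 ∧ Sh w X := by
  classical
  let Ω := AlgebraicClosure F
  have : CharP Ω p := charP_of_injective_algebraMap (algebraMap F Ω).injective p
  let ι := algebraMap F Ω
  have hι : Function.Injective ι := ι.injective
  let T : Matrix (Fin 4) (Fin 4) F → Module.End Ω (Fin 4 → Ω) := fun M => Matrix.toLin' (M.map ι)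
  have Tmul : ∀ M N, T (M * N) = T M * T N := by
    intro M N
    change Matrix.toLin' ((M * N).map ι) = _
    rw [Matrix.map_mul, Matrix.toLin'_mul]
    rfl
  have Tone : T 1 = 1 := by
    change Matrix.toLin' ((1 : Matrix (Fin 4) (Fin 4) F).map ι) = _
    rw [Matrix.map_one ι (map_zero ι) (map_one ι), Matrix.toLin'_one]
    rfl
  have Tinj : Function.Injective T := by
    intro M N h
    have h1 := Matrix.toLin'.injective h
    ext i j
    have := congrFun (congrFun h1 i) j
    exact hι this
  have Tdet : ∀ M : Matrix (Fin 4) (Fin 4) F, M.det ≠ 0 → Function.Injective (T M) := by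
    intro M hM
    change Function.Injective (Matrix.toLin' (M.map ι))
    have h1 : (M.map ι).det ≠ 0 := by
      have : (M.map ι).det = ι M.det := (RingHom.map_det ι M).symm
      rw [this]
      intro h0
      exact hM ((map_eq_zero ι).1 h0)
    rw [← LinearMap.ker_eq_bot]
    by_contra hne
    apply h1
    rw [← LinearMap.det_toLin', LinearMap.det_eq_zero_iff_ker_ne_bot]
    exact hne
  obtain ⟨w, hw, h1, h2⟩ := exists_root (K := Ω) (V := Fin 4 → Ω) p hp5 (T X) (T A) (T B)
    (by rw [pow_succ, pow_two, ← Tmul, ← Tmul, ← pow_two, ← pow_succ, hX3, Tone])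
    (by rw [← Tone]; exact fun h => hX1 (Tinj h)) (Tdet A hA) (Tdet B hB)
    (by rw [← Tmul, ← Tmul, hXA]) (by rw [← Tmul, ← Tmul, hXB]) (by rw [← Tmul, ← Tmul, ← Tmul, hAB]) (by simp)
  have h3 : (3 : F) ≠ 0 := by
    have : ((3 : ℕ) : F) ≠ 0 := by
      rw [Ne, CharP.cast_eq_zero_iff F p]
      intro h
      have := Nat.le_of_dvd (by norm_num) h
      omega
    exact_mod_cast this
  have h3' : (3 : Ω) ≠ 0 := by
    intro h
    apply h3
    apply hι
    rw [map_zero, ← h]
    exact map_ofNat ι 3
  set w₀ : F := (X.trace - 1) / 3 with hw₀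
  have h4 : ι w₀ = w := by
    have h5 : LinearMap.trace Ω _ (T X) = ι X.trace := by
      change LinearMap.trace Ω _ (Matrix.toLin' (X.map ι)) = _
      rw [Matrix.trace_toLin'_eq]
      exact (AddMonoidHom.map_trace ι.toAddMonoidHom X).symm
    rw [h5] at h2
    rw [hw₀, map_div₀, map_sub, map_one, h2]
    have : ι (3 : F) = 3 := map_ofNat ι 3
    rw [this, add_sub_cancel_left, mul_comm]
    exact mul_div_cancel_right₀ w h3'
  have hw0 : w₀ ^ 2 + w₀ + 1 = 0 := by
    apply hι
    rw [map_add, map_add, map_pow, map_one, map_zero, h4, hw]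
  have hX : (X - 1) * (X - w₀ • 1) = 0 := by
    apply Tinj
    have Tsub : ∀ M N, T (M - N) = T M - T N := by
      intro M N
      change Matrix.toLin' ((M - N).map ι) = _
      rw [Matrix.map_sub ι (map_sub ι), map_sub]
    have Tsmul : ∀ (c : F) M, T (c • M) = ι c • T M := by
      intro c M
      change Matrix.toLin' ((c • M).map ι) = _
      rw [Matrix.map_smul' ι c M (map_mul ι), map_smul]
    rw [Tmul, Tsub, Tsub, Tsmul, Tone, h4, h1]
    change _ = Matrix.toLin' ((0 : Matrix (Fin 4) (Fin 4) F).map ι)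
    rw [Matrix.map_zero ι (map_zero ι), map_zero]
  have hw1 : 1 - w₀ ≠ 0 := by
    intro h
    have : w₀ = 1 := (sub_eq_zero.1 h).symm
    rw [this] at hw0
    apply h3
    linear_combination hw0
  set E : Matrix (Fin 4) (Fin 4) F := (1 - w₀)⁻¹ • (X - w₀ • 1) with hE
  have hXE : X = w₀ • 1 + (1 - w₀) • E := by
    rw [hE, smul_smul, mul_inv_cancel₀ hw1, one_smul]
    abel
  have hEE : E * E = E := by
    have h5 : (X - w₀ • 1) * (X - w₀ • 1) = (1 - w₀) • (X - w₀ • 1) := by
      have h6 : (X - w₀ • 1) * (X - w₀ • 1) - (1 - w₀) • (X - w₀ • 1) = (X - 1) * (X - w₀ • 1) := by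
        simp only [sub_mul, mul_sub, smul_mul_assoc, mul_smul_comm, one_mul, mul_one, sub_smul, smul_sub, one_smul]
        module
      rw [hX] at h6
      exact sub_eq_zero.1 h6
    rw [hE, smul_mul_assoc, mul_smul_comm, h5, smul_smul, smul_smul]
    congr 1
    field_simp
  have htr : E.trace = 1 := by
    rw [hE, trace_smul, trace_sub, trace_smul, trace_one, Fintype.card_fin]
    have : X.trace = 1 + 3 * w₀ := by
      rw [hw₀]
      field_simp
      ring
    rw [this, smul_eq_mul, smul_eq_mul]
    push_cast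
    field_simp
    ring
  obtain ⟨a, f, haf, hEa⟩ := rank_one_of_trace p hp5 E hEE htr
  exact ⟨w₀, hw0, a, f, haf, by rw [← hEa]; exact hXE⟩

/-- the shape is invariant under conjugation -/
lemma Sh.conj {w : F} {X : Matrix (Fin 4) (Fin 4) F} (h : Sh w X) {Y Y' : Matrix (Fin 4) (Fin 4) F}
    (hY : Y * Y' = 1) : Sh w (Y * X * Y') := by
  obtain ⟨a, f, haf, hX⟩ := h
  refine ⟨Y *ᵥ a, f ᵥ* Y', ?_, ?_⟩
  · rw [← Matrix.dotProduct_mulVec, Matrix.mulVec_mulVec, mul_eq_one_comm.1 hY, Matrix.one_mulVec, haf]
  · rw [hX, mul_add, add_mul, mul_smul_comm, mul_one, smul_mul_assoc, hY, mul_smul_comm, smul_mul_assoc]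
    congr 2
    rw [Matrix.mul_vecMulVec, Matrix.vecMulVec_mul]

end Mat

end Cfsg.Agent.H906.U42
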