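import Cfsg.Agent.S0822

/-!
# Generators of `Sp_4(3)` satisfying the braid relations
-/

set_option autoImplicit false

namespace Cfsg.Agent.H906.U42

open Matrix Cfsg
open Cfsg.Agent.S0822 (gen Sp P vec3 tree gen_rel tr_smul exists_point ss pg pp)
open Cfsg.Agent.Lib.FieldThree (F3)

theorem trP_mem {L : Subgroup Sp} (hL : ∀ k, gen k ∈ L) (i : Fin 40) : S0822.tr (P i) 1 ∈ L := by
  induction i using WellFoundedLT.induction with
  | ind i ih =>
    by_cases hi : i = 0
    · subst hi
      exact hL 0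
    · obtain ⟨h1, h2⟩ := tree i hi
      have h3 := gen_rel (pg i) (pp i)
      rw [h2] at h3
      obtain ⟨c, hc, h4⟩ := h3
      have h5 := ih (pp i) h1
      have h6 : S0822.tr (P i) 1 = gen (pg i) * S0822.tr (P (pp i)) 1 * (gen (pg i))⁻¹ := by
        rw [eq_mul_inv_iff_mul_eq]
        apply Subtype.ext
        have h7 := Cfsg.Agent.ClassicalGeometry.SympBasic.mul_sympTransvection (gen (pg i)).2 (P (pp i)) 1
        rw [h4] at h7
        have h8 := congrArg Subtype.val (tr_smul hc (P i) 1)
        rw [Cfsg.Agent.ClassicalGeometry.SympBasic.coe_transv,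
          Cfsg.Agent.ClassicalGeometry.SympBasic.coe_transv] at h8
        rw [h8] at h7
        exact h7.symm
      rw [h6]
      exact L.mul_mem (L.mul_mem (hL _) h5) (L.inv_mem (hL _))

theorem tr_mem' {L : Subgroup Sp} (hL : ∀ k, gen k ∈ L) (v : Fin 2 ⊕ Fin 2 → F3) (c : F3) : S0822.tr v c ∈ L := by
  have h1 : S0822.tr v 1 ∈ L := by
    rcases exists_point v with rfl | ⟨i, k, hk, rfl⟩
    · have : S0822.tr (0 : Fin 2 ⊕ Fin 2 → F3) 1 = 1 := by
        apply Subtype.ext
        rw [Cfsg.Agent.ClassicalGeometry.SympBasic.coe_transv]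
        change sympTransvection 2 (0 : Fin 2 ⊕ Fin 2 → F3) 1 = 1
        rw [Cfsg.Agent.ClassicalGeometry.SympBasic.sympTransvection_def, Matrix.mulVec_zero]
        simp
      rw [this]
      exact L.one_mem
    · rw [tr_smul hk]
      exact trP_mem hL i
  have hadd : ∀ c d : F3, S0822.tr v c * S0822.tr v d = S0822.tr v (c + d) := fun c d =>
    Subtype.ext (Cfsg.Agent.ClassicalGeometry.SympBasic.sympTransvection_mul v c d)
  cases c with
  | o =>
    have h3 : S0822.tr v .o = 1 := Subtype.ext (Cfsg.Agent.ClassicalGeometry.SympBasic.sympTransvection_zero v)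
    rw [h3]
    exact L.one_mem
  | i => exact h1
  | m =>
    have h2 := hadd 1 1
    have h3 : (1 : F3) + 1 = .m := rfl
    rw [h3] at h2
    rw [← h2]
    exact L.mul_mem h1 h1

theorem eq_top_of_gen {L : Subgroup Sp} (hL : ∀ k, gen k ∈ L) : L = ⊤ := by
  rw [eq_top_iff, ← Cfsg.Agent.S0765.result (F := F3) 2, Subgroup.closure_le]
  rintro B ⟨w, c, hB⟩
  have : B = S0822.tr w c := Subtype.ext hB
  rw [this]
  exact tr_mem' hL w c

theorem g01 : gen 0 * gen 1 * gen 0 = gen 1 * gen 0 * gen 1 := Subtype.ext (by decide +kernel)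
theorem g12 : gen 1 * gen 2 * gen 1 = gen 2 * gen 1 * gen 2 := Subtype.ext (by decide +kernel)
theorem g23 : gen 2 * gen 3 * gen 2 = gen 3 * gen 2 * gen 3 := Subtype.ext (by decide +kernel)
theorem g02 : gen 0 * gen 2 = gen 2 * gen 0 := Subtype.ext (by decide +kernel)
theorem g03 : gen 0 * gen 3 = gen 3 * gen 0 := Subtype.ext (by decide +kernel)
theorem g13 : gen 1 * gen 3 = gen 3 * gen 1 := Subtype.ext (by decide +kernel)

/-- two elements of order three whose commutator is the first generator -/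
def ea : Sp := S0822.tr (vec3 .i .i .o .o) 1 * S0822.tr (vec3 .o .i .o .o) .m
/-- two elements of order three whose commutator is the first generator -/
def eb : Sp := S0822.tr (vec3 .i .o .o .i) 1 * S0822.tr (vec3 .o .o .o .i) .m

theorem ea3 : ea * ea * ea = 1 := Subtype.ext (by decide +kernel)
theorem eb3 : eb * eb * eb = 1 := Subtype.ext (by decide +kernel)
theorem gena : gen 0 * ea = ea * gen 0 := Subtype.ext (by decide +kernel)
theorem genb : gen 0 * eb = eb * gen 0 := Subtype.ext (by decide +kernel)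
theorem genab : eb * ea = gen 0 * (ea * eb) := Subtype.ext (by decide +kernel)
theorem gen3 (k : Fin 4) : gen k * gen k * gen k = 1 := by
  fin_cases k <;> exact Subtype.ext (by decide +kernel)

theorem gne : ∀ i j : Fin 4, i ≠ j → ∃ k, gen i * gen i * gen j * gen k ≠ gen k * (gen i * gen i * gen j) := by
  decide +kernel

theorem gnc : gen 0 * gen 1 ≠ gen 1 * gen 0 := by decide +kernel

theorem gen_ne_mod {i j : Fin 4} (h : i ≠ j) : ¬ ((gen i)⁻¹ * gen j ∈ Subgroup.center Sp) := by
  intro hc
  obtain ⟨k, hk⟩ := gne i j h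
  apply hk
  have h1 : (gen i)⁻¹ = gen i * gen i := inv_eq_of_mul_eq_one_left (gen3 i)
  rw [h1] at hc
  exact (Subgroup.mem_center_iff.1 hc (gen k)).symm

theorem gen_zero_not_center : ¬ (gen 0 ∈ Subgroup.center Sp) := fun hc =>
  gnc (Subgroup.mem_center_iff.1 hc (gen 1)).symm

end Cfsg.Agent.H906.U42
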