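import Cfsg.Agent.H906.Weights

/-!
# Descent of the weight lemmas to an arbitrary field (helper906)
-/

set_option autoImplicit false
set_option linter.unusedSectionVars false

namespace Cfsg.Agent.H906

open Module Module.End
open scoped MatrixGroups Matrix

section

variable {F : Type*} [Field F]

/-- Extension of scalars to the algebraic closure. -/
noncomputable def ac (F : Type*) [Field F] : GL (Fin 3) F →* GL (Fin 3) (AlgebraicClosure F) :=
  Matrix.GeneralLinearGroup.map (algebraMap F (AlgebraicClosure F))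

lemma ac_val (g : GL (Fin 3) F) : (ac F g : Matrix (Fin 3) (Fin 3) (AlgebraicClosure F)) =
    (g : Matrix (Fin 3) (Fin 3) F).map (algebraMap F (AlgebraicClosure F)) := rfl

lemma ac_injective : Function.Injective (ac F) := by
  intro g h hgh
  apply Units.ext
  ext i j
  have h1 := congrArg (fun z : GL (Fin 3) (AlgebraicClosure F) =>
    (z : Matrix (Fin 3) (Fin 3) (AlgebraicClosure F)) i j) hgh
  simp only [ac_val, Matrix.map_apply] at h1
  exact (algebraMap F (AlgebraicClosure F)).injective h1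

lemma scalar_of_ac {g : GL (Fin 3) F}
    (h : ∃ c : AlgebraicClosure F, (ac F g : Matrix (Fin 3) (Fin 3) (AlgebraicClosure F)) = c • 1) :
    ∃ c : F, (g : Matrix (Fin 3) (Fin 3) F) = c • 1 := by
  obtain ⟨c, hc⟩ := h
  refine ⟨(g : Matrix (Fin 3) (Fin 3) F) 0 0, ?_⟩
  have h1 : ∀ i j, algebraMap F (AlgebraicClosure F) ((g : Matrix (Fin 3) (Fin 3) F) i j) =
      (c • (1 : Matrix (Fin 3) (Fin 3) (AlgebraicClosure F))) i j := by
    intro i j
    rw [← hc, ac_val, Matrix.map_apply]
  have h0 := h1 0 0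
  rw [Matrix.smul_apply, Matrix.one_apply_eq, smul_eq_mul, mul_one] at h0
  ext i j
  apply (algebraMap F (AlgebraicClosure F)).injective
  rw [h1, Matrix.smul_apply, Matrix.smul_apply]
  by_cases hij : i = j
  · subst hij
    rw [Matrix.one_apply_eq, Matrix.one_apply_eq, smul_eq_mul, smul_eq_mul, mul_one, mul_one, h0]
  · rw [Matrix.one_apply_ne hij, Matrix.one_apply_ne hij, smul_zero, smul_zero, map_zero]

lemma ac_ne_zero {n : ℕ} (h : (n : F) ≠ 0) : (n : AlgebraicClosure F) ≠ 0 := by
  intro h1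
  apply h
  apply (algebraMap F (AlgebraicClosure F)).injective
  rw [map_natCast, map_zero, h1]

section Desc

variable {A : Subgroup (GL (Fin 3) F)} (hcomm : ∀ a ∈ A, ∀ b ∈ A, a * b = b * a)
  (hss : ∀ a ∈ A, ∃ n : ℕ, (n : F) ≠ 0 ∧ a ^ n = 1)

include hcomm hss

lemma hcomm_ac : ∀ a ∈ A.map (ac F), ∀ b ∈ A.map (ac F), a * b = b * a := by
  rintro _ ⟨a, ha, rfl⟩ _ ⟨b, hb, rfl⟩
  rw [← map_mul, hcomm a ha b hb, map_mul]

lemma hss_ac : ∀ a ∈ A.map (ac F), ∃ n : ℕ, (n : AlgebraicClosure F) ≠ 0 ∧ a ^ n = 1 := by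
  rintro _ ⟨a, ha, rfl⟩
  obtain ⟨n, hn, h⟩ := hss a ha
  exact ⟨n, ac_ne_zero hn, by rw [← map_pow, h, map_one]⟩

/-- **Normalisers of diagonalisable abelian groups**, over any field. -/
theorem sq_or_cube {g : GL (Fin 3) F} (hg : ∀ a ∈ A, g * a * g⁻¹ ∈ A)
    (hg' : ∀ a ∈ A, g⁻¹ * a * g ∈ A) :
    (∀ a ∈ A, g ^ 2 * a = a * g ^ 2) ∨ (∀ a ∈ A, g ^ 3 * a = a * g ^ 3) := by
  rcases sq_or_cube_of_normalizes (hcomm_ac hcomm hss) (hss_ac hcomm hss) (g := ac F g)
    (by
      rintro _ ⟨a, ha, rfl⟩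
      exact ⟨g * a * g⁻¹, hg a ha, by simp⟩)
    (by
      rintro _ ⟨a, ha, rfl⟩
      exact ⟨g⁻¹ * a * g, hg' a ha, by simp⟩) with h | h
  · left
    intro a ha
    apply ac_injective
    simp only [map_mul, map_pow]
    exact h _ ⟨a, ha, rfl⟩
  · right
    intro a ha
    apply ac_injective
    simp only [map_mul, map_pow]
    exact h _ ⟨a, ha, rfl⟩

/-- A commutator in `A` of elements centralising `A`: its square is one or it is scalar. -/
theorem sq_eq_one_or_scalar' {x y v : GL (Fin 3) F} (hv : v ∈ A) (hxy : x * y = v * (y * x))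
    (hx : ∀ a ∈ A, x * a = a * x) (hy : ∀ a ∈ A, y * a = a * y) :
    v ^ 2 = 1 ∨ ∃ c : F, (v : Matrix (Fin 3) (Fin 3) F) = c • 1 := by
  rcases sq_eq_one_or_scalar (hcomm_ac hcomm hss) (hss_ac hcomm hss) (v := ac F v) (x := ac F x)
    (y := ac F y) ⟨v, hv, rfl⟩ (by rw [← map_mul, hxy, map_mul, map_mul])
    (by
      rintro _ ⟨a, ha, rfl⟩
      rw [← map_mul, hx a ha, map_mul])
    (by
      rintro _ ⟨a, ha, rfl⟩
      rw [← map_mul, hy a ha, map_mul]) with h | h
  · left
    apply ac_injective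
    rw [map_pow, h, map_one]
  · exact Or.inr (scalar_of_ac h)

theorem eq_of_two_commutators' {x y v x' y' v' : GL (Fin 3) F} (hv : v ∈ A) (hxy : x * y = v * (y * x))
    (hx : ∀ a ∈ A, x * a = a * x) (hy : ∀ a ∈ A, y * a = a * y)
    (hv' : v' ∈ A) (hxy' : x' * y' = v' * (y' * x'))
    (hx' : ∀ a ∈ A, x' * a = a * x') (hy' : ∀ a ∈ A, y' * a = a * y')
    (hns : ¬ ∃ c : F, (v : Matrix (Fin 3) (Fin 3) F) = c • 1)
    (hns' : ¬ ∃ c : F, (v' : Matrix (Fin 3) (Fin 3) F) = c • 1) : v = v' := by
  apply ac_injective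
  have hmap : ∀ z : GL (Fin 3) F, (∀ a ∈ A, z * a = a * z) →
      ∀ a ∈ A.map (ac F), ac F z * a = a * ac F z := by
    rintro z hz _ ⟨a, ha, rfl⟩
    rw [← map_mul, hz a ha, map_mul]
  exact eq_of_two_commutators (hcomm_ac hcomm hss) (hss_ac hcomm hss) ⟨v, hv, rfl⟩
    (by rw [← map_mul, hxy, map_mul, map_mul]) (hmap x hx) (hmap y hy) ⟨v', hv', rfl⟩
    (by rw [← map_mul, hxy', map_mul, map_mul]) (hmap x' hx') (hmap y' hy')
    (fun h => hns (scalar_of_ac h)) (fun h => hns' (scalar_of_ac h))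

end Desc

/-! ### Heisenberg pairs -/

/-- Over an algebraically closed field: if `x y = ω y x` with `ω` of order three then only scalars
commute with `x` and `y`. -/
theorem heis_scalar_ac {K : Type*} [Field K] [IsAlgClosed K] {x y z : GL (Fin 3) K} {ω : K}
    (hω : ω ^ 3 = 1) (hω1 : ω ≠ 1)
    (hxy : (x : Matrix (Fin 3) (Fin 3) K) * y = ω • ((y : Matrix (Fin 3) (Fin 3) K) * x))
    (hzx : z * x = x * z) (hzy : z * y = y * z) :
    ∃ c : K, (z : Matrix (Fin 3) (Fin 3) K) = c • 1 := by
  classical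
  obtain ⟨μ, hμ⟩ := Module.End.exists_eigenvalue (en x)
  obtain ⟨v, hv⟩ := hμ.exists_hasEigenvector
  have hv0 : v ≠ 0 := hv.2
  have hxv : en x v = μ • v := mem_eigenspace_iff.1 hv.1
  have hμ0 : μ ≠ 0 := by
    rintro rfl
    rw [zero_smul] at hxv
    apply hv0
    rw [← en_inv_mul x v, hxv, map_zero]
  have hen : ∀ u, en x (en y u) = ω • en y (en x u) := by
    intro u
    have h1 := congrArg (fun M : Matrix (Fin 3) (Fin 3) K => Matrix.toLin' M u) hxy
    simp only [Matrix.toLin'_mul, map_smul] at h1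
    exact h1
  have hstep : ∀ (ν : K) (u : Fin 3 → K), en x u = ν • u → en x (en y u) = (ω * ν) • en y u := by
    intro ν u hu
    rw [hen, hu, map_smul, smul_smul]
  have h1 := hstep μ v hxv
  have h2 := hstep _ _ h1
  -- a family of eigenvectors for distinct eigenvalues
  have hω2 : ω ^ 2 ≠ 1 := by
    intro h
    apply hω1
    have : ω ^ 3 = ω := by rw [pow_succ, h, one_mul]
    rw [← this, hω]
  have hne : ∀ u : Fin 3 → K, u ≠ 0 → en y u ≠ 0 := by
    intro u hu h
    apply hu
    rw [← en_inv_mul y u, h, map_zero]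
  let b : Fin 3 → (Fin 3 → K) := ![v, en y v, en y (en y v)]
  let ev : Fin 3 → K := ![μ, ω * μ, ω * (ω * μ)]
  have hω0 : ω ≠ 0 := by
    rintro rfl
    simp at hω
  have e01 : ω * μ ≠ μ := by
    intro h
    exact hω1 (mul_right_cancel₀ hμ0 (by rw [h, one_mul]))
  have e02 : ω * (ω * μ) ≠ μ := by
    intro h
    apply hω2
    apply mul_right_cancel₀ hμ0
    rw [one_mul, pow_two, mul_assoc, h]
  have e12 : ω * (ω * μ) ≠ ω * μ := fun h => e01 (mul_left_cancel₀ hω0 h)
  have hev : Function.Injective ev := by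
    intro i j hij
    fin_cases i <;> fin_cases j <;> first
      | rfl
      | exact absurd hij e01
      | exact absurd hij.symm e01
      | exact absurd hij e02
      | exact absurd hij.symm e02
      | exact absurd hij e12
      | exact absurd hij.symm e12
  have hbv : ∀ i, (en x).HasEigenvector (ev i) (b i) := by
    intro i
    refine ⟨mem_eigenspace_iff.2 ?_, ?_⟩
    · fin_cases i
      · exact hxv
      · exact h1
      · exact h2
    · fin_cases i
      · exact hv0
      · exact hne _ hv0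
      · exact hne _ (hne _ hv0)
  have hli : LinearIndependent K b := Module.End.eigenvectors_linearIndependent' (en x) ev hev b hbv
  let B : Module.Basis (Fin 3) K (Fin 3 → K) := basisOfLinearIndependentOfCardEqFinrank hli (by simp)
  have hB : ∀ i, B i = b i := fun i => by simp [B]
  have hxB : ∀ i, en x (B i) = ev i • B i := by
    intro i
    rw [hB]
    exact mem_eigenspace_iff.1 (hbv i).1
  have hzxv : en x (en z v) = μ • en z v := by
    have h := congrArg (fun M : GL (Fin 3) K => en M v) hzx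
    simp only [en_mul, Module.End.mul_apply] at h
    rw [← h, hxv, map_smul]
  set a := B.repr (en z v) with ha
  have hsum : en z v = ∑ i, a i • B i := (B.sum_repr _).symm
  have hcoef : ∀ i, a i * (ev i - μ) = 0 := by
    intro i
    have h : B.repr (en x (en z v)) i = μ * a i := by
      rw [hzxv, map_smul, Finsupp.smul_apply, smul_eq_mul]
    have h' : B.repr (en x (en z v)) i = ev i * a i := by
      conv_lhs => rw [hsum]
      rw [map_sum]
      simp only [map_smul, hxB]
      rw [map_sum, Finsupp.finsetSum_apply]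
      simp only [map_smul, Module.Basis.repr_self, Finsupp.smul_apply, Finsupp.single_apply, smul_eq_mul,
        mul_ite, mul_one, mul_zero]
      rw [Finset.sum_eq_single i]
      · simp [mul_comm]
      · intro j _ hj
        simp [hj]
      · simp
    rw [h] at h'
    linear_combination -h'
  have ha1 : a 1 = 0 := by
    rcases mul_eq_zero.1 (hcoef 1) with h | h
    · exact h
    · exact absurd (sub_eq_zero.1 h) e01
  have ha2 : a 2 = 0 := by
    rcases mul_eq_zero.1 (hcoef 2) with h | h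
    · exact h
    · exact absurd (sub_eq_zero.1 h) e02
  have hzv : en z v = a 0 • v := by
    rw [hsum, Fin.sum_univ_three, ha1, ha2, hB]
    simp [b]
  have hzyu : ∀ u, en z u = a 0 • u → en z (en y u) = a 0 • en y u := by
    intro u hu
    have h := congrArg (fun M : GL (Fin 3) K => en M u) hzy
    simp only [en_mul, Module.End.mul_apply] at h
    rw [h, hu, map_smul]
  have hzB : ∀ i, en z (B i) = a 0 • B i := by
    intro i
    rw [hB]
    fin_cases i
    · exact hzv
    · exact hzyu _ hzv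
    · exact hzyu _ (hzyu _ hzv)
  refine ⟨a 0, ?_⟩
  have hzz : en z = a 0 • LinearMap.id := by
    apply B.ext
    intro i
    rw [hzB]
    rfl
  have h3 := congrArg LinearMap.toMatrix' hzz
  rw [map_smul, LinearMap.toMatrix'_id] at h3
  rw [← h3]
  exact (LinearMap.toMatrix'_toLin' _).symm

/-- **Heisenberg pairs**, any field. -/
theorem heis_scalar {x y z : GL (Fin 3) F} {ω : F} (hω : ω ^ 3 = 1) (hω1 : ω ≠ 1)
    (hxy : (x : Matrix (Fin 3) (Fin 3) F) * y = ω • ((y : Matrix (Fin 3) (Fin 3) F) * x))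
    (hzx : z * x = x * z) (hzy : z * y = y * z) :
    ∃ c : F, (z : Matrix (Fin 3) (Fin 3) F) = c • 1 := by
  apply scalar_of_ac
  refine heis_scalar_ac (x := ac F x) (y := ac F y) (ω := algebraMap F (AlgebraicClosure F) ω) ?_ ?_ ?_ ?_ ?_
  · rw [← map_pow, hω, map_one]
  · intro h
    apply hω1
    apply (algebraMap F (AlgebraicClosure F)).injective
    rw [h, map_one]
  · have h := congrArg (fun M : Matrix (Fin 3) (Fin 3) F => M.map (algebraMap F (AlgebraicClosure F))) hxy
    simp only [Matrix.map_mul] at h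
    rw [ac_val, ac_val, h]
    ext i j
    simp [Matrix.map_apply, Matrix.smul_apply, Matrix.mul_apply]
  · rw [← map_mul, hzx, map_mul]
  · rw [← map_mul, hzy, map_mul]

end

end Cfsg.Agent.H906
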