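import Mathlib

/-!
# Weights of finite abelian groups acting diagonalisably

`A` finite, `ρ : A →* End V` with commuting image, `|A|` invertible in the algebraically closed field `K`.
-/

set_option autoImplicit false
set_option linter.unusedSectionVars false

namespace Cfsg.Agent.H906.Wt

open Module Module.End

section

variable {K V A : Type*} [Field K] [AddCommGroup V] [Module K V] [Group A]

/-- weight space -/
def W (ρ : A →* Module.End K V) (χ : A →* Kˣ) : Submodule K V := ⨅ a, (ρ a).eigenspace (χ a : K)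

lemma mem_W {ρ : A →* Module.End K V} {χ : A →* Kˣ} {v : V} : v ∈ W ρ χ ↔ ∀ a, ρ a v = (χ a : K) • v := by
  unfold W
  rw [Submodule.mem_iInf]
  exact forall_congr' fun a => mem_eigenspace_iff

variable [FiniteDimensional K V] [Finite A] [IsAlgClosed K]

section basic

variable {ρ : A →* Module.End K V} (hcomm : ∀ a b, ρ a * ρ b = ρ b * ρ a) (hcard : (Nat.card A : K) ≠ 0)

include hcomm hcard

/-- weight spaces of functions -/
lemma wtF_eq (f : A → K) : ⨅ a, (ρ a).eigenspace (f a) = ⨅ a, (ρ a).maxGenEigenspace (f a) := by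
  congr 1
  funext a
  have hss : (ρ a).IsSemisimple := by
    apply isSemisimple_of_squarefree_aeval_eq_zero (p := Polynomial.X ^ Nat.card A - 1)
    · apply Polynomial.Separable.squarefree
      have := Polynomial.separable_X_pow_sub_C (1 : K) hcard one_ne_zero
      rwa [Polynomial.C_1] at this
    · rw [map_sub, map_pow, Polynomial.aeval_X, map_one, ← map_pow, pow_card_eq_one', map_one, sub_self]
  exact (hss.isFinitelySemisimple.maxGenEigenspace_eq_eigenspace _).symm

lemma iSup_wtF : ⨆ f : A → K, ⨅ a, (ρ a).eigenspace (f a) = ⊤ := by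
  simp only [wtF_eq hcomm hcard]
  apply iSup_iInf_maxGenEigenspace_eq_top_of_iSup_maxGenEigenspace_eq_top_of_commute
  · intro a b _
    exact hcomm a b
  · intro a
    exact iSup_maxGenEigenspace_eq_top _

lemma indep_wtF : iSupIndep (fun f : A → K => ⨅ a, (ρ a).eigenspace (f a)) := by
  simp only [wtF_eq hcomm hcard]
  apply independent_iInf_maxGenEigenspace_of_forall_mapsTo
  intro a b φ
  apply mapsTo_maxGenEigenspace_of_comm
  exact hcomm b a

theorem iSup_W : ⨆ χ : A →* Kˣ, W ρ χ = ⊤ := by
  rw [eq_top_iff, ← iSup_wtF hcomm hcard, iSup_le_iff]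
  intro f
  by_cases hf : (⨅ a, (ρ a).eigenspace (f a)) = ⊥
  · rw [hf]; exact bot_le
  obtain ⟨v, hv, hv0⟩ := (Submodule.ne_bot_iff _).1 hf
  have hv' : ∀ a, ρ a v = f a • v := by
    intro a
    rw [Submodule.mem_iInf] at hv
    exact mem_eigenspace_iff.1 (hv a)
  have hmul : ∀ a b, f (a * b) = f a * f b := by
    intro a b
    have h1 : (f (a * b) - f a * f b) • v = 0 := by
      rw [sub_smul, ← hv' (a * b), map_mul, Module.End.mul_apply, hv' b, map_smul, hv' a, smul_smul, mul_comm (f b),
        sub_self]
    exact sub_eq_zero.1 ((smul_eq_zero.1 h1).resolve_right hv0)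
  have hone : f 1 = 1 := by
    have h1 : (f 1 - 1) • v = 0 := by
      rw [sub_smul, ← hv' 1, map_one, one_smul, Module.End.one_apply, sub_self]
    exact sub_eq_zero.1 ((smul_eq_zero.1 h1).resolve_right hv0)
  let χ : A →* Kˣ :=
    { toFun := fun a => ⟨f a, f a⁻¹, by rw [← hmul, mul_inv_cancel, hone], by rw [← hmul, inv_mul_cancel, hone]⟩
      map_one' := Units.ext hone
      map_mul' := fun a b => Units.ext (hmul a b) }
  exact le_iSup (fun χ : A →* Kˣ => W ρ χ) χ

theorem indep_W : iSupIndep (fun χ : A →* Kˣ => W ρ χ) := by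
  have h1 : Function.Injective (fun (χ : A →* Kˣ) (a : A) => (χ a : K)) := by
    intro χ ψ h
    ext a
    exact congrFun h a
  exact (indep_wtF hcomm hcard).comp h1

theorem sum_finrank [Fintype (A →* Kˣ)] : ∑ χ : A →* Kˣ, finrank K (W ρ χ) = finrank K V := by
  classical
  have h1 : DirectSum.IsInternal (fun χ : A →* Kˣ => W ρ χ) :=
    DirectSum.isInternal_submodule_of_iSupIndep_of_iSup_eq_top (indep_W hcomm hcard) (iSup_W hcomm hcard)
  let e := LinearEquiv.ofBijective (DirectSum.coeLinearMap (fun χ : A →* Kˣ => W ρ χ)) h1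
  rw [← e.finrank_eq, finrank_directSum]

end basic

/-- normalising elements permute the weight spaces -/
theorem finrank_tw {ρ : A →* Module.End K V} {g g' : Module.End K V} (h1 : g * g' = 1) (h2 : g' * g = 1)
    {α : A ≃* A} (h : ∀ a, g * ρ a = ρ (α a) * g) (χ : A →* Kˣ) :
    finrank K (W ρ (χ.comp α.symm.toMonoidHom)) = finrank K (W ρ χ) := by
  symm
  have hg : ∀ v, g (g' v) = v := fun v => by
    rw [← Module.End.mul_apply, h1, Module.End.one_apply]
  have hg' : ∀ v, g' (g v) = v := fun v => by
    rw [← Module.End.mul_apply, h2, Module.End.one_apply]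
  refine LinearEquiv.finrank_eq
    { toFun := fun v => ⟨g v.1, ?_⟩
      map_add' := fun v w => Subtype.ext (map_add g _ _)
      map_smul' := fun c v => Subtype.ext (map_smul g _ _)
      invFun := fun v => ⟨g' v.1, ?_⟩
      left_inv := fun v => Subtype.ext (hg' _)
      right_inv := fun v => Subtype.ext (hg _) }
  · rw [mem_W]
    intro a
    have h3 := h (α.symm a)
    rw [α.apply_symm_apply] at h3
    have h4 := mem_W.1 v.2 (α.symm a)
    rw [← Module.End.mul_apply, ← h3, Module.End.mul_apply, h4, map_smul]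
    rfl
  · rw [mem_W]
    intro a
    have h4 := mem_W.1 v.2 (α a)
    have h5 : g' * ρ (α a) = ρ a * g' := by
      calc g' * ρ (α a) = g' * (ρ (α a) * g) * g' := by rw [mul_assoc, mul_assoc, h1, mul_one]
        _ = g' * (g * ρ a) * g' := by rw [h]
        _ = ρ a * g' := by rw [← mul_assoc, h2, one_mul]
    rw [← Module.End.mul_apply, ← h5, Module.End.mul_apply, h4, map_smul]
    change (χ (α.symm (α a)) : K) • _ = _
    rw [α.symm_apply_apply]

end

/-- counting modulo a prime -/
theorem dvd_sum_nonfixed {X : Type*} [Fintype X] [DecidableEq X] (r : ℕ) [Fact r.Prime] (σ : Equiv.Perm X)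
    (hσ : σ ^ r = 1) (m : X → ℕ) (hm : ∀ x, m (σ x) = m x) :
    r ∣ ∑ x ∈ Finset.univ.filter (fun x => σ x ≠ x), m x := by
  classical
  have key : ∀ S : Finset X, (∀ x, x ∈ S ↔ σ x ∈ S) → (∀ x ∈ S, σ x ≠ x) → r ∣ S.card := by
    intro S hS hne
    let τ : Equiv.Perm {x // x ∈ S} := σ.subtypePerm (fun x => (hS x).symm)
    have hτ : τ ^ r ^ 1 = 1 := by
      rw [pow_one]
      ext x
      rw [Equiv.Perm.subtypePerm_pow]
      simp [hσ]
    let f : Function.End {x // x ∈ S} := ⇑τ
    have hpow : ∀ n : ℕ, ∀ x, (f ^ n) x = (τ ^ n) x := by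
      intro n
      induction n with
      | zero => intro x; rfl
      | succ n ih =>
        intro x
        rw [pow_succ, pow_succ]
        exact ih (τ x)
    have h1 := Equiv.Perm.card_fixedPoints_modEq (f := f) (p := r) (n := 1) (by
      funext x
      rw [hpow, hτ]
      rfl)
    have h2 : Fintype.card (Function.fixedPoints f) = 0 := by
      rw [Fintype.card_eq_zero_iff]
      constructor
      rintro ⟨x, hx⟩
      exact hne x.1 x.2 (congrArg Subtype.val hx)
    rw [h2, Fintype.card_coe] at h1
    exact (Nat.modEq_zero_iff_dvd).1 h1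
  obtain ⟨N, hN⟩ : ∃ N, ∀ x, m x < N := by
    refine ⟨∑ x, m x + 1, fun x => ?_⟩
    have := Finset.single_le_sum (f := m) (fun i _ => Nat.zero_le _) (Finset.mem_univ x)
    omega
  have h1 : ∑ x ∈ Finset.univ.filter (fun x => σ x ≠ x), m x =
      ∑ k ∈ Finset.range N, (Finset.univ.filter (fun x => σ x ≠ x ∧ k < m x)).card := by
    have h2 : ∀ x, m x = ∑ k ∈ Finset.range N, if k < m x then 1 else 0 := by
      intro x
      rw [← Finset.sum_filter, Finset.sum_const, smul_eq_mul, mul_one]
      have : (Finset.range N).filter (fun k => k < m x) = Finset.range (m x) := by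
        ext k
        rw [Finset.mem_filter, Finset.mem_range, Finset.mem_range]
        have := hN x
        omega
      rw [this, Finset.card_range]
    rw [Finset.sum_congr rfl fun x _ => h2 x, Finset.sum_comm]
    apply Finset.sum_congr rfl
    intro k _
    rw [Finset.card_filter, Finset.sum_filter]
    apply Finset.sum_congr rfl
    intro x _
    by_cases h3 : σ x ≠ x <;> by_cases h4 : k < m x <;> simp [h3, h4]
  rw [h1]
  apply Finset.dvd_sum
  intro k _
  apply key
  · intro x
    rw [Finset.mem_filter, Finset.mem_filter, hm]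
    simp
  · intro x hx
    exact (Finset.mem_filter.1 hx).2.1

end Cfsg.Agent.H906.Wt
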