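import Cfsg.Agent.H906.Wt

/-!
# Normalising elements and weights

`A ≤ L`, `ρ : L →* End V`, `m χ = finrank (W χ)`; elements normalising `A` permute the weights.
-/

set_option autoImplicit false
set_option linter.unusedSectionVars false

namespace Cfsg.Agent.H906.Wt

open Module Module.End

section perm

variable {L : Type*} [Group L] (A : Subgroup L)

/-- `g` normalises `A` -/
def Nor (g : L) : Prop := ∀ a, a ∈ A ↔ g * a * g⁻¹ ∈ A

variable {A}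

lemma Nor.inv_mem {g : L} (h : Nor A g) {a : L} (ha : a ∈ A) : g⁻¹ * a * g ∈ A := by
  rw [h]
  have : g * (g⁻¹ * a * g) * g⁻¹ = a := by group
  rwa [this]

lemma Nor.inv {g : L} (h : Nor A g) : Nor A g⁻¹ := by
  intro a
  rw [inv_inv, h (g⁻¹ * a * g)]
  have : g * (g⁻¹ * a * g) * g⁻¹ = a := by group
  rw [this]

lemma Nor.mul {g k : L} (h : Nor A g) (h' : Nor A k) : Nor A (g * k) := by
  intro a
  rw [h' a, h]
  have : g * (k * a * k⁻¹) * g⁻¹ = g * k * a * (g * k)⁻¹ := by group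
  rw [this]

lemma Nor.pow {g : L} (h : Nor A g) : ∀ k : ℕ, Nor A (g ^ k)
  | 0 => fun a => by simp
  | k + 1 => by rw [pow_succ]; exact (h.pow k).mul h

/-- the automorphism of `A` -/
def cj {g : L} (h : Nor A g) : A ≃* A where
  toFun a := ⟨g * a * g⁻¹, (h a).1 a.2⟩
  invFun a := ⟨g⁻¹ * a * g, h.inv_mem a.2⟩
  left_inv a := Subtype.ext (by simp [mul_assoc])
  right_inv a := Subtype.ext (by simp [mul_assoc])
  map_mul' a b := Subtype.ext (by simp [mul_assoc])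

variable {K V : Type*} [Field K] [AddCommGroup V] [Module K V]

/-- the permutation of the characters -/
def sg (K : Type*) [Field K] {g : L} (h : Nor A g) : Equiv.Perm (A →* Kˣ) where
  toFun χ := χ.comp (cj h).symm.toMonoidHom
  invFun χ := χ.comp (cj h).toMonoidHom
  left_inv χ := by
    ext a
    simp
  right_inv χ := by
    ext a
    simp

lemma sg_apply {g : L} (h : Nor A g) (χ : A →* Kˣ) (a : A) :
    sg K h χ a = χ ⟨g⁻¹ * a * g, h.inv_mem a.2⟩ := rfl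

lemma sg_apply' {g : L} (h : Nor A g) (χ : A →* Kˣ) (a : A) :
    sg K h χ ⟨g * a * g⁻¹, (h a).1 a.2⟩ = χ a := by
  rw [sg_apply]
  congr 1
  exact Subtype.ext (by simp [mul_assoc])

lemma sg_mul {g k : L} (h : Nor A g) (h' : Nor A k) (h'' : Nor A (g * k)) (χ : A →* Kˣ) :
    sg K h'' χ = sg K h (sg K h' χ) := by
  ext a
  rw [sg_apply, sg_apply, sg_apply]
  congr 2
  exact Subtype.ext (by simp [mul_assoc])

lemma sg_pow {g : L} (h : Nor A g) (k : ℕ) (h'' : Nor A (g ^ k)) : sg K h'' = (sg K h) ^ k := by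
  induction k with
  | zero =>
    ext χ a
    rw [sg_apply]
    simp
  | succ k ih =>
    have e : (sg K h) ^ (k + 1) = (sg K h) ^ k * sg K h := pow_succ _ _
    rw [e]
    ext χ a
    have h1 : Nor A (g ^ k * g) := by rw [← pow_succ]; exact h''
    have h2 : sg K h'' χ a = sg K h1 χ a := by
      rw [sg_apply, sg_apply]
      refine congrArg χ (Subtype.ext ?_)
      change (g ^ (k + 1))⁻¹ * a.1 * g ^ (k + 1) = (g ^ k * g)⁻¹ * a.1 * (g ^ k * g)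
      rw [pow_succ]
    rw [h2, sg_mul (h.pow k) h h1, ih (h.pow k)]
    rfl

lemma sg_eq_one {g : L} (h : Nor A g) (hc : ∀ a ∈ A, g * a = a * g) : sg K h = 1 := by
  ext χ a
  rw [sg_apply]
  simp only [Equiv.Perm.coe_one, id_eq]
  congr 2
  apply Subtype.ext
  change g⁻¹ * a.1 * g = a.1
  rw [mul_assoc, ← hc a.1 a.2, inv_mul_cancel_left]

lemma sg_eq_self {g : L} (h : Nor A g) {χ : A →* Kˣ} : sg K h χ = χ ↔ ∀ a : A, χ ⟨g * a * g⁻¹, (h a).1 a.2⟩ = χ a := by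
  constructor
  · intro h1 a
    have := sg_apply' h χ a
    rwa [h1] at this
  · intro h1
    ext a
    have h2 := h1 ⟨g⁻¹ * a * g, h.inv_mem a.2⟩
    rw [sg_apply, ← h2]
    congr 2
    apply Subtype.ext
    simp [mul_assoc]

variable (ρ : L →* Module.End K V)

/-- the restriction to `A` -/
abbrev rs (A : Subgroup L) : A →* Module.End K V := ρ.comp A.subtype

lemma map_W {g : L} (h : Nor A g) (χ : A →* Kˣ) {v : V} (hv : v ∈ W (rs ρ A) χ) :
    ρ g v ∈ W (rs ρ A) (sg K h χ) := by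
  rw [mem_W] at hv ⊢
  intro a
  have h1 := hv ⟨g⁻¹ * a * g, h.inv_mem a.2⟩
  change ρ a.1 (ρ g v) = _
  rw [← Module.End.mul_apply, ← map_mul]
  have h2 : a.1 * g = g * (g⁻¹ * a.1 * g) := by group
  rw [h2, map_mul, Module.End.mul_apply]
  change ρ g (ρ (g⁻¹ * a.1 * g) v) = _
  have h3 : ρ (g⁻¹ * a.1 * g) v = (χ ⟨g⁻¹ * a * g, h.inv_mem a.2⟩ : K) • v := h1
  rw [h3, map_smul, sg_apply]

variable [FiniteDimensional K V] [Finite A] [IsAlgClosed K]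

lemma finrank_sg {g : L} (h : Nor A g) (χ : A →* Kˣ) :
    finrank K (W (rs ρ A) (sg K h χ)) = finrank K (W (rs ρ A) χ) := by
  apply finrank_tw (g := ρ g) (g' := ρ g⁻¹)
  · rw [← map_mul, mul_inv_cancel, map_one]
  · rw [← map_mul, inv_mul_cancel, map_one]
  · intro a
    change ρ g * ρ a.1 = ρ (g * a.1 * g⁻¹) * ρ g
    rw [← map_mul, ← map_mul, inv_mul_cancel_right]

lemma finite_chars (A : Type*) [Group A] [Finite A] : Finite (A →* Kˣ) := by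
  have h1 : ∀ χ : A →* Kˣ, ∀ a : A, χ a ∈ rootsOfUnity (Nat.card A) K := by
    intro χ a
    rw [mem_rootsOfUnity, ← map_pow, pow_card_eq_one', map_one]
  have hne : NeZero (Nat.card A) := ⟨Nat.card_pos.ne'⟩
  let f : (A →* Kˣ) → (A → rootsOfUnity (Nat.card A) K) := fun χ a => ⟨χ a, h1 χ a⟩
  apply Finite.of_injective f
  intro χ ψ h
  ext a
  have := congrFun h a
  have h2 := congrArg Subtype.val this
  exact congrArg Units.val h2

/-- counting -/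
theorem unique_fixed
    {Z : Subgroup L} (hZ : ∀ z ∈ Z, ∃ c : K, ρ z = c • 1)
    {g : L} (h : Nor A g) (hg : ∀ a ∈ A, ∃ z ∈ Z, ∃ b ∈ A, a = z * (g * b * g⁻¹ * b⁻¹))
    {χ ψ : A →* Kˣ} (hχ : sg K h χ = χ) (hψ : sg K h ψ = ψ) (hχ0 : W (rs ρ A) χ ≠ ⊥) (hψ0 : W (rs ρ A) ψ ≠ ⊥) :
    χ = ψ := by
  rw [sg_eq_self] at hχ hψ
  ext a
  obtain ⟨z, hz, b, hb, hab⟩ := hg a.1 a.2
  have hzA : z ∈ A := by
    have : z = a.1 * (g * b * g⁻¹ * b⁻¹)⁻¹ := by rw [hab]; group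
    rw [this]
    exact A.mul_mem a.2 (A.inv_mem (A.mul_mem ((h b).1 hb) (A.inv_mem hb)))
  have key : ∀ θ : A →* Kˣ, (∀ a : A, θ ⟨g * a * g⁻¹, (h a).1 a.2⟩ = θ a) → θ a = θ ⟨z, hzA⟩ := by
    intro θ hθ
    have e1 : a = ⟨z, hzA⟩ * (⟨g * b * g⁻¹, (h b).1 hb⟩ * (⟨b, hb⟩ : A)⁻¹) := Subtype.ext hab
    rw [e1, map_mul, map_mul, map_inv]
    have := hθ ⟨b, hb⟩
    change θ ⟨g * b * g⁻¹, (h b).1 hb⟩ = _ at this
    rw [this, mul_inv_cancel, mul_one]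
  obtain ⟨c, hc⟩ := hZ z hz
  have sc : ∀ θ : A →* Kˣ, W (rs ρ A) θ ≠ ⊥ → (θ ⟨z, hzA⟩ : K) = c := by
    intro θ hθ
    obtain ⟨v, hv, hv0⟩ := (Submodule.ne_bot_iff _).1 hθ
    have h1 := mem_W.1 hv ⟨z, hzA⟩
    change ρ z v = _ at h1
    rw [hc, LinearMap.smul_apply, Module.End.one_apply] at h1
    have h2 : (c - θ ⟨z, hzA⟩) • v = 0 := by rw [sub_smul, h1, sub_self]
    exact (sub_eq_zero.1 ((smul_eq_zero.1 h2).resolve_right hv0)).symm
  rw [key χ hχ, key ψ hψ, sc χ hχ0, sc ψ hψ0]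

theorem exists_fixed (hcomm : ∀ a ∈ A, ∀ b ∈ A, a * b = b * a) (hcard : (Nat.card A : K) ≠ 0)
    {Z : Subgroup L} (hZ : ∀ z ∈ Z, ∃ c : K, ρ z = c • 1)
    {g : L} (h : Nor A g) (hg : ∀ a ∈ A, ∃ z ∈ Z, ∃ b ∈ A, a = z * (g * b * g⁻¹ * b⁻¹))
    {r : ℕ} (hr : r.Prime) (hgr : ∀ a ∈ A, g ^ r * a = a * g ^ r) :
    ∃ χ₀ : A →* Kˣ, sg K h χ₀ = χ₀ ∧ (∀ χ, sg K h χ = χ → χ ≠ χ₀ → W (rs ρ A) χ = ⊥) ∧
      ∃ k : ℕ, finrank K V = finrank K (W (rs ρ A) χ₀) + r * k := by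
  classical
  have hcomm' : ∀ a b : A, rs ρ A a * rs ρ A b = rs ρ A b * rs ρ A a := by
    intro a b
    change ρ a.1 * ρ b.1 = ρ b.1 * ρ a.1
    rw [← map_mul, hcomm a.1 a.2 b.1 b.2, map_mul]
  have hfin := finite_chars (K := K) A
  have : Fintype (A →* Kˣ) := Fintype.ofFinite _
  have hsum := sum_finrank hcomm' hcard
  have hf : Fact r.Prime := ⟨hr⟩
  have hdvd := dvd_sum_nonfixed r (sg K h) (by rw [← sg_pow h r (h.pow r)]; exact sg_eq_one _ hgr)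
    (fun χ => finrank K (W (rs ρ A) χ)) (fun χ => finrank_sg ρ h χ)
  obtain ⟨k, hk⟩ := hdvd
  rw [← Finset.sum_filter_add_sum_filter_not Finset.univ (fun χ => sg K h χ = χ), hk] at hsum
  by_cases hex : ∃ χ, sg K h χ = χ ∧ W (rs ρ A) χ ≠ ⊥
  · obtain ⟨χ₀, h1, h2⟩ := hex
    have h3 : ∀ χ, sg K h χ = χ → χ ≠ χ₀ → W (rs ρ A) χ = ⊥ := by
      intro χ hχ hne
      by_contra h0
      exact hne (unique_fixed ρ hZ h hg hχ h1 h0 h2)
    refine ⟨χ₀, h1, h3, k, ?_⟩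
    rw [← hsum]
    congr 1
    rw [Finset.sum_eq_single χ₀]
    · intro χ hχ hne
      rw [h3 χ (Finset.mem_filter.1 hχ).2 hne, finrank_bot]
    · intro h0
      exact (h0 (Finset.mem_filter.2 ⟨Finset.mem_univ _, h1⟩)).elim
  · push Not at hex
    refine ⟨1, ?_, fun χ hχ _ => hex χ hχ, k, ?_⟩
    · ext a
      rw [sg_apply]; simp
    · rw [← hsum]
      congr 1
      rw [Finset.sum_eq_zero, hex 1 (by ext a; rw [sg_apply]; simp), finrank_bot]
      intro χ hχ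
      rw [hex χ (Finset.mem_filter.1 hχ).2, finrank_bot]

end perm

end Cfsg.Agent.H906.Wt
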